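/-
Groups generated by two involutions.
-/
import Mathlib

namespace CfsgLib.Chev

theorem nonempty_dihedral {G : Type*} [Group G] [Finite G] {n : ℕ} [NeZero n] (a b : G) (ha : a * a = 1)
    (hb : b * b = 1) (hord : (a * b) ^ n = 1) (hgen : Subgroup.closure {a, b} = ⊤)
    (hcard : Nat.card G = 2 * n) : Nonempty (G ≃* DihedralGroup n) := by
  classical
  set c := a * b with hc
  have hmod : ∀ i, c ^ i = c ^ (i % n) := fun i => by
    conv_lhs => rw [← Nat.mod_add_div i n, pow_add, pow_mul, hord, one_pow, mul_one]
  let f : ZMod n → G := fun i => c ^ i.val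
  have hadd : ∀ i j, f (i + j) = f i * f j := fun i j => by
    show c ^ (i + j).val = _
    rw [ZMod.val_add, ← hmod, pow_add]
  have hf0 : f 0 = 1 := by simp [f]
  have hneg : ∀ i, f (-i) = (f i)⁻¹ := fun i =>
    eq_inv_of_mul_eq_one_left (by rw [← hadd, neg_add_cancel, hf0])
  have hca : a * c * a = c⁻¹ := by
    refine eq_inv_of_mul_eq_one_left ?_
    calc a * c * a * c = a * a * (b * (a * a) * b) := by simp only [hc, mul_assoc]
      _ = 1 := by rw [ha, mul_one, hb, one_mul]
  have hpow : ∀ i : ℕ, a * c ^ i * a = (c ^ i)⁻¹ := fun i => by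
    induction i with
    | zero => simp [ha]
    | succ i ih =>
      calc a * c ^ (i + 1) * a = (a * c * a) * (a * c ^ i * a) := by
            rw [pow_succ']
            calc a * (c * c ^ i) * a = a * c * (1 * c ^ i) * a := by simp [mul_assoc]
              _ = _ := by rw [← ha]; simp only [mul_assoc]
        _ = _ := by rw [hca, ih, pow_succ]; exact (mul_inv_rev _ _).symm
  have hswap : ∀ i, f i * a = a * f (-i) := fun i => by
    rw [hneg, show (f i)⁻¹ = a * f i * a from (hpow i.val).symm, ← mul_assoc, ← mul_assoc, ha, one_mul]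
  let g : DihedralGroup n → G := fun x => match x with
    | .r i => f i
    | .sr i => a * f i
  let φ : DihedralGroup n →* G :=
    { toFun := g
      map_one' := hf0
      map_mul' := by
        rintro (i | i) (j | j)
        · show g (.r i * .r j) = f i * f j
          rw [DihedralGroup.r_mul_r]; exact hadd i j
        · show g (.r i * .sr j) = f i * (a * f j)
          rw [DihedralGroup.r_mul_sr, ← mul_assoc, hswap, mul_assoc, ← hadd, neg_add_eq_sub]
        · show g (.sr i * .r j) = a * f i * f j
          rw [DihedralGroup.sr_mul_r, mul_assoc, ← hadd]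
        · show g (.sr i * .sr j) = a * f i * (a * f j)
          rw [DihedralGroup.sr_mul_sr, mul_assoc, ← mul_assoc (f i), hswap, ← mul_assoc, ← mul_assoc, ha, one_mul,
            ← hadd, neg_add_eq_sub] }
  have hsurj : Function.Surjective φ := by
    rw [← MonoidHom.range_eq_top, eq_top_iff, ← hgen, Subgroup.closure_le]
    have hA : a ∈ φ.range := ⟨.sr 0, by show a * f 0 = a; rw [hf0, mul_one]⟩
    have hC : c ∈ φ.range := by
      rcases Nat.lt_or_ge 1 n with h | h
      · exact ⟨.r 1, by show c ^ (1 : ZMod n).val = c; haveI := Fact.mk h; rw [ZMod.val_one, pow_one]⟩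
      · have : n = 1 := by have := NeZero.ne n; omega
        subst this
        rw [pow_one] at hord
        rw [hord]; exact one_mem _
    rintro x (rfl | rfl)
    · exact hA
    · have e : x = a * c := by rw [hc, ← mul_assoc, ha, one_mul]
      rw [e]; exact mul_mem hA hC
  have hbij : Function.Bijective φ :=
    (Nat.bijective_iff_surjective_and_card φ).mpr ⟨hsurj, by rw [DihedralGroup.nat_card, hcard]⟩
  exact ⟨(MulEquiv.ofBijective φ hbij).symm⟩

end CfsgLib.Chev
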