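/-
Symmetries of a root system and the centralised Weyl group.
-/
import Cfsg.Agent.Lib.Chev.Longest

namespace CfsgLib.Chev

open Cfsg.Lie Matrix

set_option linter.dupNamespace false
set_option linter.unusedSectionVars false

variable {D : ChevalleyDatum}

theorem perm_apply_inv {α : Type*} (π : Equiv.Perm α) (x : α) : π (π⁻¹ x) = x := by
  rw [Equiv.Perm.inv_def, Equiv.apply_symm_apply]

namespace Chev

variable (Φ : Chev D)

theorem exists_V_ne_zero (r : Fin D.nroots) : ∃ j, Φ.V r j ≠ 0 := by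
  by_contra h
  push Not at h
  exact Φ.code_ne_zero r (Finset.sum_eq_zero fun i _ => by rw [h i, zero_mul])

theorem not_pos_of_comb {π : Equiv.Perm (Fin D.nroots)} (hπ : π ∈ Φ.W) {r : Fin D.nroots}
    (hr : Φ.toTables.Pos r) (h : ∀ k, Φ.V r k ≠ 0 → ¬ Φ.toTables.Pos (π (Φ.p k))) :
    ¬ Φ.toTables.Pos (π r) := by
  intro hp
  obtain ⟨j, hj⟩ := Φ.exists_V_ne_zero (π r)
  have h1 := Φ.V_nonneg _ hp j
  have h2 : Φ.V (π r) j ≤ 0 := by
    rw [Φ.W_lin hπ r j]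
    refine Finset.sum_nonpos fun k _ => ?_
    by_cases hk : Φ.V r k = 0
    · simp [hk]
    · exact mul_nonpos_of_nonneg_of_nonpos (Φ.V_nonneg r hr k) (Φ.V_nonpos _ (h k hk) j)
  omega

theorem pos_of_comb {π : Equiv.Perm (Fin D.nroots)} (hπ : π ∈ Φ.W)
    (h : ∀ k, Φ.toTables.Pos (π (Φ.p k))) {r : Fin D.nroots} (hr : Φ.toTables.Pos r) :
    Φ.toTables.Pos (π r) := by
  by_contra hn
  obtain ⟨j, hj⟩ := Φ.exists_V_ne_zero (π r)
  have h1 := Φ.V_nonpos _ hn j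
  have h2 : 0 ≤ Φ.V (π r) j := by
    rw [Φ.W_lin hπ r j]
    exact Finset.sum_nonneg fun k _ => mul_nonneg (Φ.V_nonneg r hr k) (Φ.V_nonneg _ (h k) j)
  omega

theorem Closed.and {S T : Fin D.nroots → Prop} (hS : Φ.Closed S) (hT : Φ.Closed T) :
    Φ.Closed fun r => S r ∧ T r :=
  fun r s hr hs hN => ⟨hS r s hr.1 hs.1 hN, hT r s hr.2 hs.2 hN⟩

/-- A symmetry of the root system, with the orbits of the fundamental roots and their reflections. -/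
structure Sym where
  ρ : Equiv.Perm (Fin D.nroots)
  τ : Equiv.Perm (Fin D.rank)
  m : ℕ
  J : Fin m → Set (Fin D.rank)
  w : Fin m → Equiv.Perm (Fin D.nroots)
  ρ_pos : ∀ r, Φ.toTables.Pos (ρ r) ↔ Φ.toTables.Pos r
  ρ_p : ∀ i, ρ (Φ.p i) = Φ.p (τ i)
  ρ_prev : ∀ i, ρ (Φ.p i).rev = (Φ.p (τ i)).rev
  ρ_refl : ∀ i r, ρ (Φ.refl i r) = Φ.refl (τ i) (ρ r)
  cover : ∀ i, ∃ a, i ∈ J a
  disj : ∀ a b i, i ∈ J a → i ∈ J b → a = b
  stable : ∀ a i, τ i ∈ J a ↔ i ∈ J a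
  trans : ∀ a, ∀ i ∈ J a, ∀ k ∈ J a, ∃ n : ℕ, (τ ^ n) i = k
  nonempty : ∀ a, (J a).Nonempty
  w_mem : ∀ a, w a ∈ Subgroup.closure (Φ.reflPerm '' J a)
  w_comm : ∀ a r, w a (ρ r) = ρ (w a r)
  w_neg : ∀ a r, Φ.toTables.Pos r → Φ.Sub (J a) r → ¬ Φ.toTables.Pos (w a r)

namespace Sym

variable {Φ} (S : Φ.Sym)

/-- The centralised Weyl group. -/
def W1 : Subgroup (Equiv.Perm (Fin D.nroots)) := Φ.W ⊓ Subgroup.centralizer {S.ρ}

theorem mem_W1 {π : Equiv.Perm (Fin D.nroots)} :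
    π ∈ S.W1 ↔ π ∈ Φ.W ∧ ∀ r, π (S.ρ r) = S.ρ (π r) := by
  rw [W1, Subgroup.mem_inf, Subgroup.mem_centralizer_singleton_iff]
  exact and_congr_right fun _ => ⟨fun h r => (Equiv.ext_iff.mp h r : _),
    fun h => Equiv.ext h⟩

theorem conj_mem_W {π : Equiv.Perm (Fin D.nroots)} (h : π ∈ Φ.W) : S.ρ * π * S.ρ⁻¹ ∈ Φ.W := by
  refine Φ.W_induction (Q := fun π => S.ρ * π * S.ρ⁻¹ ∈ Φ.W) (by simp [one_mem]) (fun i π _ ih => ?_) h
  have e : S.ρ * Φ.reflPerm i * S.ρ⁻¹ = Φ.reflPerm (S.τ i) := by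
    refine Equiv.ext fun r => ?_
    simp only [Equiv.Perm.mul_apply, Φ.reflPerm_apply, S.ρ_refl, perm_apply_inv]
  rw [show S.ρ * (Φ.reflPerm i * π) * S.ρ⁻¹ = (S.ρ * Φ.reflPerm i * S.ρ⁻¹) * (S.ρ * π * S.ρ⁻¹) by group, e]
  exact mul_mem (Φ.reflPerm_mem_W _) ih

theorem w_mem_W (a : Fin S.m) : S.w a ∈ Φ.W :=
  Subgroup.closure_mono (Set.image_subset_range _ _) (S.w_mem a)

theorem w_mem_W1 (a : Fin S.m) : S.w a ∈ S.W1 := S.mem_W1.mpr ⟨S.w_mem_W a, S.w_comm a⟩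

theorem out_w {a : Fin S.m} {π : Equiv.Perm (Fin D.nroots)} (h : π ∈ Subgroup.closure (Φ.reflPerm '' S.J a))
    (r : Fin D.nroots) : Φ.Out (S.J a) (π r) ↔ Φ.Out (S.J a) r := by
  induction h using Subgroup.closure_induction generalizing r with
  | mem x hx => obtain ⟨i, hi, rfl⟩ := hx; rw [Φ.reflPerm_apply, Φ.out_refl hi]
  | one => rfl
  | mul x y _ _ hx hy => rw [Equiv.Perm.mul_apply, hx, hy]
  | inv x _ hx =>
    have := hx (x⁻¹ r)
    rw [perm_apply_inv] at this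
    exact this.symm

theorem sub_w {a : Fin S.m} (r : Fin D.nroots) : Φ.Sub (S.J a) (S.w a r) ↔ Φ.Sub (S.J a) r := by
  suffices H : ∀ π ∈ Subgroup.closure (Φ.reflPerm '' S.J a), ∀ s,
      Φ.Sub (S.J a) (π s) ↔ Φ.Sub (S.J a) s from H _ (S.w_mem a) r
  intro π h
  induction h using Subgroup.closure_induction with
  | mem x hx => obtain ⟨i, hi, rfl⟩ := hx; intro s; rw [Φ.reflPerm_apply, Φ.sub_refl hi]
  | one => intro s; rfl
  | mul x y _ _ hx hy => intro s; rw [Equiv.Perm.mul_apply, hx, hy]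
  | inv x _ hx =>
    intro s
    have := hx (x⁻¹ s)
    rw [perm_apply_inv] at this
    exact this.symm

/-- The positive roots of an orbit. -/
def PJ (a : Fin S.m) (r : Fin D.nroots) : Prop := Φ.toTables.Pos r ∧ Φ.Sub (S.J a) r

theorem inv_w (a : Fin S.m) (r : Fin D.nroots) : Φ.Inv (S.w a) r ↔ S.PJ a r := by
  refine ⟨fun h => ⟨h.1, ?_⟩, fun h => ⟨h.1, S.w_neg a r h.1 h.2⟩⟩
  by_contra hs
  exact h.2 (Out.pos Φ ((S.out_w (S.w_mem a) r).mpr (Φ.out_iff_pos_and_not_sub.mpr ⟨h.1, hs⟩)))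

theorem w_w (a : Fin S.m) : S.w a * S.w a = 1 := by
  refine Φ.W_eq_one_of_pos (mul_mem (S.w_mem_W a) (S.w_mem_W a)) fun r hr => ?_
  rw [Equiv.Perm.mul_apply]
  by_cases hs : Φ.Sub (S.J a) r
  · have h1 := S.w_neg a r hr hs
    have hp : Φ.toTables.Pos (S.w a r).rev := (Φ.pos_rev_iff _).mpr h1
    have h2 := S.w_neg a _ hp (by rw [Φ.sub_rev, S.sub_w]; exact hs)
    rw [Φ.W_rev (S.w_mem_W a), Φ.pos_rev_iff, not_not] at h2
    exact h2
  · exact Out.pos Φ ((S.out_w (S.w_mem a) _).mpr ((S.out_w (S.w_mem a) r).mpr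
      (Φ.out_iff_pos_and_not_sub.mpr ⟨hr, hs⟩)))

theorem w_w_apply (a : Fin S.m) (r : Fin D.nroots) : S.w a (S.w a r) = r :=
  Equiv.ext_iff.mp (S.w_w a) r

theorem w_inv (a : Fin S.m) : (S.w a)⁻¹ = S.w a := inv_eq_of_mul_eq_one_right (S.w_w a)

theorem p_mem_PJ {a : Fin S.m} {i : Fin D.rank} (hi : i ∈ S.J a) : S.PJ a (Φ.p i) :=
  ⟨Φ.p_pos i, Φ.sub_p.mpr hi⟩

theorem closed_PJ (a : Fin S.m) : Φ.Closed (S.PJ a) := by
  intro r s hr hs hN
  refine ⟨Φ.closed_pos r s hr.1 hs.1 hN, fun j hj => ?_⟩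
  rw [Φ.V_add r s hN, hr.2 j hj, hs.2 j hj, add_zero]

theorem PJ_ρ {a : Fin S.m} (r : Fin D.nroots) : S.PJ a (S.ρ r) ↔ S.PJ a r := by
  rw [← S.inv_w, ← S.inv_w, Inv, Inv, S.w_comm, S.ρ_pos, S.ρ_pos]

/-- A root set stable under the symmetry. -/
def Stable (T : Fin D.nroots → Prop) : Prop := ∀ r, T (S.ρ r) ↔ T r

theorem stable_pos : S.Stable Φ.toTables.Pos := S.ρ_pos

theorem stable_PJ (a : Fin S.m) : S.Stable (S.PJ a) := S.PJ_ρ

theorem stable_inv {π : Equiv.Perm (Fin D.nroots)} (hπ : π ∈ S.W1) : S.Stable (Φ.Inv π) := fun r => by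
  rw [Inv, Inv, (S.mem_W1.mp hπ).2, S.ρ_pos, S.ρ_pos]

theorem stable_out (a : Fin S.m) : S.Stable (Φ.Out (S.J a)) := fun r => by
  rw [Φ.out_iff_pos_and_not_sub, Φ.out_iff_pos_and_not_sub, S.ρ_pos]
  refine and_congr_right fun hr => not_congr ?_
  have := S.PJ_ρ (a := a) r
  simpa [PJ, S.ρ_pos, hr] using this

theorem stable_and {T U : Fin D.nroots → Prop} (hT : S.Stable T) (hU : S.Stable U) :
    S.Stable fun r => T r ∧ U r := fun r => and_congr (hT r) (hU r)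

theorem pow_ρ_p (n : ℕ) (i : Fin D.rank) : (S.ρ ^ n) (Φ.p i) = Φ.p ((S.τ ^ n) i) := by
  induction n with
  | zero => rfl
  | succ n ih => rw [pow_succ', pow_succ', Equiv.Perm.mul_apply, Equiv.Perm.mul_apply, ih, S.ρ_p]

theorem neg_all_of_neg {π : Equiv.Perm (Fin D.nroots)} (hπ : π ∈ S.W1) {a : Fin S.m} {i : Fin D.rank}
    (hi : i ∈ S.J a) (h : ¬ Φ.toTables.Pos (π (Φ.p i))) {r : Fin D.nroots} (hr : S.PJ a r) :
    ¬ Φ.toTables.Pos (π r) := by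
  refine Φ.not_pos_of_comb (S.mem_W1.mp hπ).1 hr.1 fun k hk => ?_
  have hk' : k ∈ S.J a := by_contra fun e => hk (hr.2 k e)
  obtain ⟨n, rfl⟩ := S.trans a i hi k hk'
  rw [← S.pow_ρ_p]
  clear hk hk'
  induction n with
  | zero => simpa using h
  | succ n ih => rwa [pow_succ', Equiv.Perm.mul_apply, (S.mem_W1.mp hπ).2, S.ρ_pos]

theorem exists_descent {π : Equiv.Perm (Fin D.nroots)} (hπ : π ∈ S.W1) (h : π ≠ 1) :
    ∃ a, ∀ r, S.PJ a r → Φ.Inv π r := by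
  obtain ⟨i, hi⟩ : ∃ i, ¬ Φ.toTables.Pos (π (Φ.p i)) := by
    by_contra hc
    push Not at hc
    exact h (Φ.W_eq_one_of_pos (S.mem_W1.mp hπ).1 fun r hr => Φ.pos_of_comb (S.mem_W1.mp hπ).1 hc hr)
  obtain ⟨a, ha⟩ := S.cover i
  exact ⟨a, fun r hr => ⟨hr.1, S.neg_all_of_neg hπ ha hi hr⟩⟩

theorem inv_mul_w {π : Equiv.Perm (Fin D.nroots)} (hπ : π ∈ Φ.W) {a : Fin S.m}
    (hd : ∀ r, S.PJ a r → Φ.Inv π r) (r : Fin D.nroots) :
    Φ.Inv (π * S.w a) r ↔ Φ.Out (S.J a) r ∧ Φ.Inv π (S.w a r) := by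
  constructor
  · intro h
    have hs : ¬ Φ.Sub (S.J a) r := by
      intro hs
      have h1 := hd (S.w a r).rev ⟨(Φ.pos_rev_iff _).mpr (S.w_neg a r h.1 hs),
        by rw [Φ.sub_rev, S.sub_w]; exact hs⟩
      have h2 := h1.2
      rw [Φ.W_rev hπ, Φ.pos_rev_iff, not_not] at h2
      exact h.2 h2
    have ho := Φ.out_iff_pos_and_not_sub.mpr ⟨h.1, hs⟩
    exact ⟨ho, Out.pos Φ ((S.out_w (S.w_mem a) r).mpr ho), h.2⟩
  · rintro ⟨ho, h1⟩
    exact ⟨Out.pos Φ ho, h1.2⟩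

theorem inv_split {π : Equiv.Perm (Fin D.nroots)} (hπ : π ∈ Φ.W) {a : Fin S.m}
    (hd : ∀ r, S.PJ a r → Φ.Inv π r) (r : Fin D.nroots) :
    Φ.Inv π r ↔ S.PJ a r ∨ Φ.Inv (π * S.w a) (S.w a r) := by
  constructor
  · intro h
    by_cases hs : Φ.Sub (S.J a) r
    · exact Or.inl ⟨h.1, hs⟩
    · refine Or.inr ((S.inv_mul_w hπ hd _).mpr ⟨?_, by rwa [S.w_w_apply]⟩)
      exact (S.out_w (S.w_mem a) r).mpr (Φ.out_iff_pos_and_not_sub.mpr ⟨h.1, hs⟩)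
  · rintro (h | h)
    · exact hd r h
    · have := ((S.inv_mul_w hπ hd _).mp h).2
      rwa [S.w_w_apply] at this

open Classical in
/-- The number of positive roots made negative. -/
noncomputable def len (_S : Φ.Sym) (π : Equiv.Perm (Fin D.nroots)) : ℕ :=
  (Finset.univ.filter fun r => Φ.Inv π r).card

open Classical in
theorem len_split {π : Equiv.Perm (Fin D.nroots)} (hπ : π ∈ Φ.W) {a : Fin S.m}
    (hd : ∀ r, S.PJ a r → Φ.Inv π r) : S.len π = S.len (S.w a) + S.len (π * S.w a) := by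
  have hdis : Disjoint (Finset.univ.filter fun r => Φ.Inv (S.w a) r)
      ((Finset.univ.filter fun r => Φ.Inv (π * S.w a) r).image (S.w a)) := by
    rw [Finset.disjoint_left]
    intro r h1 h2
    simp only [Finset.mem_filter, Finset.mem_univ, true_and, Finset.mem_image] at h1 h2
    obtain ⟨s, hs, rfl⟩ := h2
    have ho := ((S.inv_mul_w hπ hd s).mp hs).1
    exact (Φ.out_iff_pos_and_not_sub.mp ho).2 ((S.sub_w s).mp ((S.inv_w a _).mp h1).2)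
  rw [len, len, len, ← Finset.card_image_of_injective
    (Finset.univ.filter fun r => Φ.Inv (π * S.w a) r) (S.w a).injective, ← Finset.card_union_of_disjoint hdis]
  congr 1
  ext r
  simp only [Finset.mem_filter, Finset.mem_univ, true_and, Finset.mem_union, Finset.mem_image, S.inv_w]
  rw [S.inv_split hπ hd r]
  exact or_congr_right ⟨fun h => ⟨_, h, S.w_w_apply a r⟩, by rintro ⟨s, hs, rfl⟩; rwa [S.w_w_apply]⟩

theorem len_w_pos (a : Fin S.m) : 0 < S.len (S.w a) := by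
  classical
  obtain ⟨i, hi⟩ := S.nonempty a
  refine Finset.card_pos.mpr ⟨Φ.p i, ?_⟩
  simp only [Finset.mem_filter, Finset.mem_univ, true_and, S.inv_w]
  exact S.p_mem_PJ hi

theorem W1_induction {Q : Equiv.Perm (Fin D.nroots) → Prop} (h1 : Q 1)
    (hs : ∀ π ∈ S.W1, ∀ a, (∀ r, S.PJ a r → Φ.Inv π r) → Q (π * S.w a) → Q π)
    {π : Equiv.Perm (Fin D.nroots)} (hπ : π ∈ S.W1) : Q π := by
  induction h : S.len π using Nat.strong_induction_on generalizing π with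
  | _ n ih =>
    by_cases he : π = 1
    · exact he ▸ h1
    obtain ⟨a, ha⟩ := S.exists_descent hπ he
    have := S.len_split (S.mem_W1.mp hπ).1 ha
    have := S.len_w_pos a
    exact hs π hπ a ha (ih _ (by omega) (mul_mem hπ (S.w_mem_W1 a)) rfl)

theorem W1_eq_closure : S.W1 = Subgroup.closure (Set.range S.w) := by
  refine le_antisymm (fun π hπ => ?_) ((Subgroup.closure_le _).mpr (by rintro _ ⟨a, rfl⟩; exact S.w_mem_W1 a))
  refine S.W1_induction (one_mem _) (fun π _ a _ ih => ?_) hπ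
  have := mul_mem ih (Subgroup.subset_closure (Set.mem_range_self (f := S.w) a))
  rwa [mul_assoc, S.w_w, mul_one] at this

theorem exists_longest : ∃ π ∈ S.W1, ∀ r, Φ.Inv π r ↔ Φ.toTables.Pos r := by
  obtain ⟨π, hπ, h⟩ := Φ.exists_longest
  refine ⟨π, S.mem_W1.mpr ⟨hπ, ?_⟩, fun r => ⟨fun h => h.1, fun hr => ⟨hr, fun hc => (h r).mp hc hr⟩⟩⟩
  have e : π⁻¹ * (S.ρ * π * S.ρ⁻¹) = 1 := by
    refine Φ.W_eq_one_of_pos (mul_mem (inv_mem hπ) (S.conj_mem_W hπ)) fun r hr => ?_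
    have h1 : ¬ Φ.toTables.Pos ((S.ρ * π * S.ρ⁻¹) r) := by
      simp only [Equiv.Perm.mul_apply, S.ρ_pos, h, not_not]
      rw [← S.ρ_pos, perm_apply_inv]
      exact hr
    rw [Equiv.Perm.mul_apply]
    by_contra hc
    have h2 := (h (π⁻¹ ((S.ρ * π * S.ρ⁻¹) r))).mpr hc
    rw [perm_apply_inv] at h2
    exact h1 h2
  intro r
  have := Equiv.ext_iff.mp (inv_mul_eq_one.mp e) (S.ρ r)
  simpa using this

end Sym

end Chev

end CfsgLib.Chev
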