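/-
Symmetries from tables, and certificates for the centralised Weyl group.
-/
import Cfsg.Agent.Lib.Chev.Twist.Sym
import Cfsg.Agent.Lib.Chev.Morph

namespace CfsgLib.Chev

open Cfsg.Lie Matrix

set_option linter.dupNamespace false
set_option linter.unusedSectionVars false

variable {D : ChevalleyDatum}

/-- Tables of a symmetry. -/
structure SymData where
  mor : MorData
  tau : List ℕ
  orbits : List (List ℕ)
  words : List (List ℕ)
  refl : List (List ℕ)

namespace SymData

variable (T : SymData)

/-- The image of a fundamental root index. -/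
def t (i : ℕ) : ℕ := T.tau.getD i 0
/-- The reflected root. -/
def R (i r : ℕ) : ℕ := (T.refl.getD i []).getD r 0
/-- The orbit. -/
def orb (a : ℕ) : List ℕ := T.orbits.getD a []
/-- The word of the reflection of an orbit. -/
def word (a : ℕ) : List ℕ := T.words.getD a []
/-- The reflection of an orbit on root indices. -/
def wEval (a r : ℕ) : ℕ := (T.word a).foldr (fun i x => T.R i x) r
/-- The iterated image of a fundamental root index. -/
def titer : ℕ → ℕ → ℕ
  | 0, i => i
  | n + 1, i => T.t (titer n i)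

/-- The test for the positive roots of an orbit. -/
def inPJ (D : ChevalleyDatum) (a r : ℕ) : Bool :=
  Nat.ble D.nroots (2 * r) &&
    (List.range D.rank).all fun i => (T.orb a).contains i || (D.coroot.getD r #[]).getD i 0 == 0

/-- The check on the reflection table. -/
def checkRefl (D : ChevalleyDatum) : Bool :=
  (List.range D.rank).all fun i => (List.range D.nroots).all fun r => Nat.beq (T.R i r) (D.reflectRoot i r)

/-- The check on the fundamental roots. -/
def checkSimple (D : ChevalleyDatum) : Bool :=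
  (List.range D.rank).all fun i =>
    Nat.blt (T.t i) D.rank && ((List.range D.rank).any fun j => Nat.beq (T.t j) i) &&
    Nat.beq (T.mor.ρ (D.simple i)) (D.simple (T.t i)) &&
    Nat.beq (T.mor.ρ (D.neg (D.simple i))) (D.neg (D.simple (T.t i))) &&
    Nat.beq ((List.range T.orbits.length).filter fun a => (T.orb a).contains i).length 1 &&
    (T.mor.e (D.simple i) == 1)

/-- The check on the roots. -/
def checkRoots (D : ChevalleyDatum) : Bool :=
  (List.range D.nroots).all fun r =>
    (Nat.ble D.nroots (2 * T.mor.ρ r) == Nat.ble D.nroots (2 * r)) &&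
    (List.range D.rank).all fun i => Nat.beq (T.mor.ρ (T.R i r)) (T.R (T.t i) (T.mor.ρ r))

/-- The check on the orbits. -/
def checkOrbits (D : ChevalleyDatum) : Bool :=
  (List.range T.orbits.length).all fun a =>
    !(T.orb a).isEmpty && ((T.orb a).all fun i => Nat.blt i D.rank) &&
    ((T.word a).all fun i => (T.orb a).contains i) &&
    ((List.range D.rank).all fun i => (T.orb a).contains (T.t i) == (T.orb a).contains i) &&
    ((T.orb a).all fun i => (T.orb a).all fun k =>
      (List.range (D.rank + 1)).any fun n => Nat.beq (T.titer n i) k) &&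
    (List.range D.nroots).all fun r =>
      Nat.beq (T.wEval a (T.mor.ρ r)) (T.mor.ρ (T.wEval a r)) &&
        (!(T.inPJ D a r) || Nat.blt (2 * T.wEval a r) D.nroots)

/-- All checks. -/
def check (D : ChevalleyDatum) : Bool :=
  T.checkRefl D && T.checkSimple D && T.checkRoots D && T.checkOrbits D

end SymData

namespace Chev

variable (Φ : Chev D)

open SymData

/-- A table of a symmetry with its checks. -/
structure SymOK (T : SymData) (p : ℕ) : Prop where
  mor : T.mor.check D p = true
  refl : T.checkRefl D = true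
  simple : T.checkSimple D = true
  roots : T.checkRoots D = true
  orbits : T.checkOrbits D = true

variable {Φ} {T : SymData} {p : ℕ}

theorem SymOK.R_eq (h : SymOK (D := D) T p) (i : Fin D.rank) (r : Fin D.nroots) :
    T.R i.val r.val = (Φ.refl i r).val := by
  have := h.refl
  simp only [checkRefl, List.all_eq_true, List.mem_range, Nat.beq_eq] at this
  rw [this _ i.isLt _ r.isLt, Φ.reflectRoot_eq]

/-- The permutation of the roots. -/
noncomputable def SymOK.rho (h : SymOK (D := D) T p) : Equiv.Perm (Fin D.nroots) :=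
  Equiv.ofBijective (fun r => ⟨T.mor.ρ r.val, (check_root h.mor r.isLt).1⟩)
    (Finite.surjective_iff_bijective.mp fun r => by
      obtain ⟨s, hs, e⟩ := (check_root h.mor r.isLt).2.2.2.2.2.2.1
      exact ⟨⟨s, hs⟩, Fin.ext e⟩)

theorem SymOK.rho_val (h : SymOK (D := D) T p) (r : Fin D.nroots) : (h.rho r).val = T.mor.ρ r.val := rfl

theorem SymOK.simple' (h : SymOK (D := D) T p) (i : Fin D.rank) :
    T.t i.val < D.rank ∧ (∃ j : Fin D.rank, T.t j.val = i.val) ∧
      T.mor.ρ (D.simple i.val) = D.simple (T.t i.val) ∧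
      T.mor.ρ (D.neg (D.simple i.val)) = D.neg (D.simple (T.t i.val)) ∧
      ((List.range T.orbits.length).filter fun a => (T.orb a).contains i.val).length = 1 ∧
      T.mor.e (D.simple i.val) = 1 := by
  have := h.simple
  simp only [checkSimple, List.all_eq_true, List.mem_range, Bool.and_eq_true, Nat.blt_eq, Nat.beq_eq,
    List.any_eq_true, beq_iff_eq] at this
  obtain ⟨⟨⟨⟨⟨h1, ⟨j, hj, h2⟩⟩, h3⟩, h4⟩, h5⟩, h6⟩ := this _ i.isLt
  exact ⟨h1, ⟨⟨j, hj⟩, h2⟩, h3, h4, h5, h6⟩

/-- The permutation of the fundamental roots. -/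
noncomputable def SymOK.tau (h : SymOK (D := D) T p) : Equiv.Perm (Fin D.rank) :=
  Equiv.ofBijective (fun i => ⟨T.t i.val, (h.simple' i).1⟩)
    (Finite.surjective_iff_bijective.mp fun i => by
      obtain ⟨j, e⟩ := (h.simple' i).2.1
      exact ⟨j, Fin.ext e⟩)

theorem SymOK.tau_val (h : SymOK (D := D) T p) (i : Fin D.rank) : (h.tau i).val = T.t i.val := rfl

theorem SymOK.titer_eq (h : SymOK (D := D) T p) (n : ℕ) (i : Fin D.rank) :
    T.titer n i.val = ((h.tau ^ n) i).val := by
  induction n with
  | zero => rfl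
  | succ n ih => rw [titer, ih, pow_succ', Equiv.Perm.mul_apply, h.tau_val]

variable (Φ) in
/-- The reflection of an orbit. -/
noncomputable def wPerm (T : SymData) (a : ℕ) : Equiv.Perm (Fin D.nroots) :=
  ((T.word a).map fun i => if h : i < D.rank then Φ.reflPerm ⟨i, h⟩ else 1).prod

theorem SymOK.word_lt (h : SymOK (D := D) T p) {a : ℕ} (ha : a < T.orbits.length) {i : ℕ}
    (hi : i ∈ T.word a) : i < D.rank ∧ i ∈ T.orb a := by
  have := h.orbits
  simp only [checkOrbits, List.all_eq_true, List.mem_range, Bool.and_eq_true, Nat.blt_eq] at this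
  obtain ⟨⟨⟨⟨⟨-, h2⟩, h3⟩, -⟩, -⟩, -⟩ := this _ ha
  exact ⟨h2 i (by simpa using h3 i hi), by simpa using h3 i hi⟩

theorem SymOK.wEval_eq (h : SymOK (D := D) T p) {a : ℕ} (ha : a < T.orbits.length) (r : Fin D.nroots) :
    T.wEval a r.val = (Φ.wPerm T a r).val := by
  have hl : ∀ L : List ℕ, (∀ i ∈ L, i < D.rank) → L.foldr (fun i x => T.R i x) r.val =
      ((L.map fun i => if h : i < D.rank then Φ.reflPerm ⟨i, h⟩ else 1).prod r).val := by
    intro L hL
    induction L with
    | nil => rfl
    | cons i L ih =>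
      have hi := hL i List.mem_cons_self
      simp only [List.foldr_cons, List.map_cons, List.prod_cons, Equiv.Perm.mul_apply, dif_pos hi]
      rw [ih fun j hj => hL j (List.mem_cons_of_mem _ hj)]
      exact h.R_eq ⟨i, hi⟩ _
  exact hl _ fun i hi => (h.word_lt ha hi).1

theorem inPJ_iff (Φ : Chev D) (T : SymData) (a : ℕ) (r : Fin D.nroots) :
    T.inPJ D a r.val = true ↔ Φ.toTables.Pos r ∧ Φ.Sub {i | i.val ∈ T.orb a} r := by
  simp only [inPJ, Bool.and_eq_true, Nat.ble_eq, List.all_eq_true, List.mem_range, Bool.or_eq_true,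
    List.contains_iff_mem, beq_iff_eq]
  refine and_congr Iff.rfl ⟨fun h j hj => ?_, fun h i hi => ?_⟩
  · rw [← Φ.C_eq_zero_iff, ← Φ.coroot_eq r j]
    exact (h _ j.isLt).resolve_left hj
  · by_cases hm : i ∈ T.orb a
    · exact Or.inl hm
    · refine Or.inr ?_
      rw [Φ.coroot_eq r ⟨i, hi⟩, Φ.C_eq_zero_iff]
      exact h ⟨i, hi⟩ hm

variable (Φ) in
/-- The symmetry given by tables. -/
noncomputable def SymOK.sym (h : SymOK (D := D) T p) : Φ.Sym where
  ρ := h.rho
  τ := h.tau
  m := T.orbits.length
  J a := {i | i.val ∈ T.orb a.val}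
  w a := Φ.wPerm T a.val
  ρ_pos r := by
    have := h.roots
    simp only [checkRoots, List.all_eq_true, List.mem_range, Bool.and_eq_true, beq_iff_eq] at this
    have e := (this _ r.isLt).1
    show D.nroots ≤ 2 * (h.rho r).val ↔ D.nroots ≤ 2 * r.val
    rw [h.rho_val, ← Nat.ble_eq, e, Nat.ble_eq]
  ρ_p i := Fin.ext (by rw [h.rho_val, ← Φ.simple_val, ← Φ.simple_val, (h.simple' i).2.2.1, h.tau_val])
  ρ_prev i := by
    refine Fin.ext ?_
    rw [h.rho_val, ← Φ.negIdx_eq, ← Φ.negIdx_eq, ← Φ.simple_val, ← Φ.simple_val]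
    exact ((h.simple' i).2.2.2.1).trans (by rw [h.tau_val]; rfl)
  ρ_refl i r := by
    have := h.roots
    simp only [checkRoots, List.all_eq_true, List.mem_range, Bool.and_eq_true, Nat.beq_eq] at this
    have e := (this _ r.isLt).2 _ i.isLt
    refine Fin.ext ?_
    rw [← h.R_eq (Φ := Φ), h.rho_val, h.tau_val, ← h.R_eq (Φ := Φ)]
    exact e
  cover i := by
    obtain ⟨a, ha⟩ := List.length_eq_one_iff.mp (h.simple' i).2.2.2.2.1
    have : a ∈ (List.range T.orbits.length).filter fun a => (T.orb a).contains i.val := by rw [ha]; exact List.mem_cons_self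
    simp only [List.mem_filter, List.mem_range, List.contains_iff_mem] at this
    exact ⟨⟨a, this.1⟩, this.2⟩
  disj a b i ha hb := by
    obtain ⟨c, hc⟩ := List.length_eq_one_iff.mp (h.simple' i).2.2.2.2.1
    have key : ∀ x : Fin T.orbits.length, i.val ∈ T.orb x.val → x.val = c := fun x hx => by
      have : x.val ∈ (List.range T.orbits.length).filter fun a => (T.orb a).contains i.val := by
        simpa using hx
      rw [hc, List.mem_singleton] at this
      exact this
    exact Fin.ext ((key a ha).trans (key b hb).symm)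
  stable a i := by
    have := h.orbits
    simp only [checkOrbits, List.all_eq_true, List.mem_range, Bool.and_eq_true, beq_iff_eq] at this
    have e := (this _ a.isLt).1.1.2 _ i.isLt
    show (h.tau i).val ∈ T.orb a.val ↔ i.val ∈ T.orb a.val
    rw [h.tau_val, ← List.contains_iff_mem, e, List.contains_iff_mem]
  trans a i hi k hk := by
    have := h.orbits
    simp only [checkOrbits, List.all_eq_true, List.mem_range, Bool.and_eq_true, List.any_eq_true,
      Nat.beq_eq] at this
    obtain ⟨n, -, e⟩ := (this _ a.isLt).1.2 _ hi _ hk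
    exact ⟨n, Fin.ext (by rw [← h.titer_eq, e])⟩
  nonempty a := by
    have := h.orbits
    simp only [checkOrbits, List.all_eq_true, List.mem_range, Bool.and_eq_true, Bool.not_eq_true',
      List.isEmpty_eq_false_iff, Nat.blt_eq] at this
    obtain ⟨⟨⟨⟨⟨h1, h2⟩, -⟩, -⟩, -⟩, -⟩ := this _ a.isLt
    obtain ⟨x, hx⟩ := List.exists_mem_of_ne_nil _ h1
    exact ⟨⟨x, h2 x hx⟩, hx⟩
  w_mem a := by
    refine Subgroup.list_prod_mem _ fun g hg => ?_
    obtain ⟨i, hi, rfl⟩ := List.mem_map.mp hg
    obtain ⟨h1, h2⟩ := h.word_lt a.isLt hi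
    rw [dif_pos h1]
    exact Subgroup.subset_closure ⟨⟨i, h1⟩, h2, rfl⟩
  w_comm a r := by
    have := h.orbits
    simp only [checkOrbits, List.all_eq_true, List.mem_range, Bool.and_eq_true, Nat.beq_eq] at this
    have e := ((this _ a.isLt).2 _ r.isLt).1
    refine Fin.ext ?_
    rw [← h.wEval_eq a.isLt, h.rho_val, h.rho_val, ← h.wEval_eq a.isLt]
    exact e
  w_neg a r hr hs := by
    have := h.orbits
    simp only [checkOrbits, List.all_eq_true, List.mem_range, Bool.and_eq_true, Bool.or_eq_true,
      Bool.not_eq_true', Nat.blt_eq] at this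
    have e := ((this _ a.isLt).2 _ r.isLt).2.resolve_left
      (by rw [(inPJ_iff Φ T a.val r).mpr ⟨hr, hs⟩]; simp)
    rw [h.wEval_eq (Φ := Φ) a.isLt] at e
    show ¬ D.nroots ≤ 2 * (Φ.wPerm T a.val r).val
    omega

end Chev

end CfsgLib.Chev
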