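/-
Certificates enumerating the centralised Weyl group.
-/
import Cfsg.Agent.Lib.Chev.Twist.Table

namespace CfsgLib.Chev

open Cfsg.Lie Matrix

set_option linter.dupNamespace false
set_option linter.unusedSectionVars false

variable {D : ChevalleyDatum}

/-- An enumeration: each element has the heights of the images of the fundamental roots, a length, and its
neighbours, in blocks of 32. -/
structure WCert where
  chunks : List (List (List ℤ × ℕ × List ℕ))
  size : ℕ
  d : ℕ

namespace WCert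

variable (C : WCert) (T : SymData)

/-- An entry. -/
def entry (i : ℕ) : List ℤ × ℕ × List ℕ := (C.chunks.getD (i / 32) []).getD (i % 32) ([], 0, [])
/-- The heights. -/
def key (i : ℕ) : List ℤ := (C.entry i).1
/-- The length. -/
def len (i : ℕ) : ℕ := (C.entry i).2.1
/-- A neighbour. -/
def nbr (i a : ℕ) : ℕ := (C.entry i).2.2.getD a 0

/-- The action of a fundamental reflection on heights. -/
def step (D : ChevalleyDatum) (i : ℕ) (c : List ℤ) : List ℤ :=
  (List.range D.rank).map fun j => c.getD j 0 - D.cartan i (D.simple j) * c.getD i 0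

/-- The action of the reflection of an orbit on heights. -/
def stepW (D : ChevalleyDatum) (a : ℕ) (c : List ℤ) : List ℤ := (T.word a).foldl (fun c i => step D i c) c

/-- A code of the heights. -/
def code (c : List ℤ) : ℕ := c.foldl (fun n x => n * 256 + (x + 128).toNat) 0

/-- The number of positive roots of an orbit. -/
def cnt (D : ChevalleyDatum) (a : ℕ) : ℕ := ((List.range D.nroots).filter fun r => T.inPJ D a r).length

/-- The check of one neighbour. -/
def checkNbr (D : ChevalleyDatum) (i a : ℕ) : Bool :=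
  Nat.blt (C.nbr i a) C.size &&
    (C.key (C.nbr i a) == stepW T D a (C.key i)) &&
    Nat.beq (C.nbr (C.nbr i a) a) i &&
    (if (T.orb a).any fun j => decide ((C.key i).getD j 0 < 0)
      then Nat.beq (C.d * C.len (C.nbr i a) + cnt T D a) (C.d * C.len i) else true)

/-- All checks. -/
def check (D : ChevalleyDatum) (start : ℕ) : Bool :=
  Nat.blt start C.size && Nat.blt 0 C.d && (C.key start == List.replicate D.rank 1) && Nat.beq (C.len start) 0 &&
  (List.range C.size).all fun i =>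
    Nat.beq (C.key i).length D.rank &&
    (Nat.beq i start || (List.range T.orbits.length).any fun a =>
      (T.orb a).any fun j => decide ((C.key i).getD j 0 < 0)) &&
    (Nat.beq i 0 || Nat.blt (code (C.key (i - 1))) (code (C.key i))) &&
    (List.range T.orbits.length).all fun a => checkNbr C T D i a

theorem check_spec {D : ChevalleyDatum} {start : ℕ} (h : C.check T D start = true) :
    start < C.size ∧ 0 < C.d ∧ C.key start = List.replicate D.rank 1 ∧ C.len start = 0 ∧
      ∀ i < C.size, (i = start ∨ ∃ a < T.orbits.length, ∃ j ∈ T.orb a, (C.key i).getD j 0 < 0) ∧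
        (∀ a < T.orbits.length, C.nbr i a < C.size ∧ C.key (C.nbr i a) = stepW T D a (C.key i) ∧
          C.nbr (C.nbr i a) a = i ∧
          ((∃ j ∈ T.orb a, (C.key i).getD j 0 < 0) →
            C.d * C.len (C.nbr i a) + cnt T D a = C.d * C.len i)) := by
  simp only [check, checkNbr, Bool.and_eq_true, Nat.blt_eq, beq_iff_eq, Nat.beq_eq, List.all_eq_true,
    List.mem_range, Bool.or_eq_true, List.any_eq_true, decide_eq_true_eq] at h
  obtain ⟨⟨⟨⟨h1, h2⟩, h3⟩, h4⟩, h5⟩ := h
  refine ⟨h1, h2, h3, h4, fun i hi => ?_⟩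
  obtain ⟨⟨⟨-, h6⟩, -⟩, h7⟩ := h5 i hi
  refine ⟨h6, fun a ha => ?_⟩
  obtain ⟨⟨⟨a1, a2⟩, a3⟩, a4⟩ := h7 a ha
  refine ⟨a1, a2, a3, fun hneg => ?_⟩
  rw [if_pos hneg] at a4
  exact Nat.beq_eq.mp a4 |>.trans rfl

theorem check_injective {D : ChevalleyDatum} {start : ℕ} (h : C.check T D start = true) {i j : ℕ}
    (hi : i < C.size) (hj : j < C.size) (e : C.key i = C.key j) : i = j := by
  simp only [check, Bool.and_eq_true, List.all_eq_true, List.mem_range, Bool.or_eq_true, Nat.blt_eq,
    Nat.beq_eq] at h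
  have hs : ∀ k < C.size, k = 0 ∨ code (C.key (k - 1)) < code (C.key k) := fun k hk => (h.2 k hk).1.2
  have hmono : ∀ k m, m + k + 1 < C.size → code (C.key m) < code (C.key (m + k + 1)) := by
    intro k
    induction k with
    | zero => intro m hm; simpa using (hs (m + 1) hm).resolve_left (by omega)
    | succ k ih =>
      intro m hm
      have h1 := ih m (by omega)
      have h2 := (hs (m + (k + 1) + 1) hm).resolve_left (by omega)
      rw [show m + (k + 1) + 1 - 1 = m + k + 1 by omega] at h2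
      omega
  rcases Nat.lt_trichotomy i j with hlt | heq | hlt
  · obtain ⟨k, rfl⟩ : ∃ k, j = i + k + 1 := ⟨j - i - 1, by omega⟩
    exact absurd (congrArg code e) (hmono k i hj).ne
  · exact heq
  · obtain ⟨k, rfl⟩ : ∃ k, i = j + k + 1 := ⟨i - j - 1, by omega⟩
    exact absurd (congrArg code e) (hmono k j hi).ne'

end WCert

namespace Chev

variable {Φ : Chev D}

variable (Φ) in
/-- The heights of the images of the fundamental roots. -/
def hts (π : Equiv.Perm (Fin D.nroots)) : List ℤ := List.ofFn fun j => ∑ k, Φ.V (π (Φ.p j)) k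

theorem hts_getD (π : Equiv.Perm (Fin D.nroots)) (j : Fin D.rank) :
    (Φ.hts π).getD j.val 0 = ∑ k, Φ.V (π (Φ.p j)) k := by
  rw [List.getD_eq_getElem _ _ (by simp [hts])]
  simp [hts]

theorem hts_one : Φ.hts 1 = List.replicate D.rank 1 := by
  rw [hts, ← List.ofFn_const]
  refine congrArg List.ofFn (funext fun j => ?_)
  simp [Φ.V_p]

theorem height_map {π : Equiv.Perm (Fin D.nroots)} (hπ : π ∈ Φ.W) (r : Fin D.nroots) :
    ∑ j, Φ.V (π r) j = ∑ k, Φ.V r k * ∑ j, Φ.V (π (Φ.p k)) j := by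
  simp only [Φ.W_lin hπ r, Finset.mul_sum]
  rw [Finset.sum_comm]

theorem hts_mul_refl {π : Equiv.Perm (Fin D.nroots)} (hπ : π ∈ Φ.W) (i : Fin D.rank) :
    Φ.hts (π * Φ.reflPerm i) = WCert.step D i.val (Φ.hts π) := by
  refine List.ext_getElem (by simp [hts, WCert.step]) fun j h1 h2 => ?_
  have hj : j < D.rank := by simpa [hts] using h1
  simp only [WCert.step, List.getElem_map, List.getElem_range, hts_getD π ⟨j, hj⟩, hts_getD π i]
  rw [show D.cartan i.val (D.simple j) = Φ.A i (Φ.p ⟨j, hj⟩) by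
    rw [show D.simple j = D.simple (⟨j, hj⟩ : Fin D.rank).val from rfl, Φ.simple_val, Φ.cartan_val]]
  simp only [hts, List.getElem_ofFn, Equiv.Perm.mul_apply, Φ.reflPerm_apply]
  rw [height_map hπ (Φ.refl i _)]
  simp only [Φ.V_refl, Φ.V_p, sub_mul, ite_mul, one_mul, zero_mul, Finset.sum_sub_distrib, Finset.sum_ite_eq,
    Finset.sum_ite_eq', Finset.mem_univ, if_true]

theorem pos_iff_height (Φ : Chev D) (r : Fin D.nroots) : Φ.toTables.Pos r ↔ 0 < ∑ j, Φ.V r j := by
  obtain ⟨j, hj⟩ := Φ.exists_V_ne_zero r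
  constructor
  · intro hr
    exact Finset.sum_pos' (fun k _ => Φ.V_nonneg r hr k)
      ⟨j, Finset.mem_univ _, lt_of_le_of_ne (Φ.V_nonneg r hr j) (Ne.symm hj)⟩
  · intro h
    by_contra hr
    have := Finset.sum_nonpos (s := Finset.univ) fun k _ => Φ.V_nonpos r hr k
    omega

theorem hts_injective {π σ : Equiv.Perm (Fin D.nroots)} (hπ : π ∈ Φ.W) (hσ : σ ∈ Φ.W)
    (e : Φ.hts π = Φ.hts σ) : π = σ := by
  have hp : ∀ r, Φ.toTables.Pos (π r) ↔ Φ.toTables.Pos (σ r) := fun r => by
    rw [pos_iff_height, pos_iff_height, height_map hπ, height_map hσ]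
    simp only [← hts_getD, e]
  have := Φ.W_eq_one_of_pos (mul_mem hσ (inv_mem hπ)) fun r hr => by
    rw [Equiv.Perm.mul_apply, ← hp, perm_apply_inv]
    exact hr
  exact (mul_inv_eq_one.mp this).symm

variable {T : SymData} {p : ℕ}

theorem hts_mul_w (h : SymOK (D := D) T p) {π : Equiv.Perm (Fin D.nroots)} (hπ : π ∈ Φ.W)
    {a : ℕ} (ha : a < T.orbits.length) :
    Φ.hts (π * Φ.wPerm T a) = WCert.stepW T D a (Φ.hts π) := by
  have key : ∀ L : List ℕ, (∀ i ∈ L, i < D.rank) → ∀ π ∈ Φ.W,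
      Φ.hts (π * (L.map fun i => if h : i < D.rank then Φ.reflPerm ⟨i, h⟩ else 1).prod) =
        L.foldl (fun c i => WCert.step D i c) (Φ.hts π) := by
    intro L
    induction L with
    | nil => intro _ π _; simp
    | cons i L ih =>
      intro hL π hπ
      have hi := hL i List.mem_cons_self
      rw [List.map_cons, List.prod_cons, dif_pos hi, ← mul_assoc, List.foldl_cons,
        ih (fun j hj => hL j (List.mem_cons_of_mem _ hj)) _ (mul_mem hπ (Φ.reflPerm_mem_W _)),
        hts_mul_refl hπ]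
  exact key _ (fun i hi => (h.word_lt ha hi).1) π hπ

theorem cnt_eq (h : SymOK (D := D) T p) (a : Fin (h.sym Φ).m) :
    (h.sym Φ).len ((h.sym Φ).w a) = WCert.cnt T D a.val := by
  classical
  have e : (Finset.univ.filter fun r => Φ.Inv ((h.sym Φ).w a) r) =
      Finset.univ.filter fun r : Fin D.nroots => T.inPJ D a.val r.val = true :=
    Finset.filter_congr fun r _ => by rw [Sym.inv_w, inPJ_iff Φ]; rfl
  rw [Sym.len, e, WCert.cnt, ← List.toFinset_card_of_nodup (List.nodup_range.filter _),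
    ← Finset.card_map Fin.valEmbedding]
  congr 1
  ext x
  simp only [Finset.mem_map, Finset.mem_filter, Finset.mem_univ, true_and, Fin.valEmbedding_apply,
    List.mem_toFinset, List.mem_filter, List.mem_range]
  exact ⟨by rintro ⟨r, hr, rfl⟩; exact ⟨r.isLt, hr⟩, fun hx => ⟨⟨x, hx.1⟩, hx.2, rfl⟩⟩

theorem hts_neg_iff {π : Equiv.Perm (Fin D.nroots)} (j : Fin D.rank) :
    (Φ.hts π).getD j.val 0 < 0 ↔ ¬ Φ.toTables.Pos (π (Φ.p j)) := by
  rw [hts_getD, pos_iff_height]
  have h0 : ∑ k, Φ.V (π (Φ.p j)) k ≠ 0 := fun e => by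
    by_cases hp : Φ.toTables.Pos (π (Φ.p j))
    · have := (pos_iff_height Φ _).mp hp; omega
    · have := (pos_iff_height Φ _).mp ((Φ.pos_rev_iff _).mpr hp)
      simp only [Φ.V_neg, Finset.sum_neg_distrib] at this
      omega
  omega

/-- The index bijection of a certificate. -/
theorem cert_bijective (h : SymOK (D := D) T p) {C : WCert} {start : ℕ} (hC : C.check T D start = true) :
    ∃ e : Fin C.size ≃ (h.sym Φ).W1, ∀ i, (h.sym Φ).len (e i).1 = C.d * C.len i.val := by
  classical
  set S := h.sym Φ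
  obtain ⟨hs, hd, hkey, hlen, hall⟩ := C.check_spec T hC
  have hneg : ∀ {π : Equiv.Perm (Fin D.nroots)}, π ∈ S.W1 → ∀ a : Fin S.m,
      (∃ j ∈ T.orb a.val, (Φ.hts π).getD j 0 < 0) → ∀ r, S.PJ a r → Φ.Inv π r := by
    rintro π hπ a ⟨j, hj, hneg⟩ r hr
    have hjr : j < D.rank := by
      have := h.orbits
      simp only [SymData.checkOrbits, List.all_eq_true, List.mem_range, Bool.and_eq_true, Nat.blt_eq] at this
      exact (this _ a.isLt).1.1.1.1.2 j hj
    exact ⟨hr.1, S.neg_all_of_neg hπ (i := ⟨j, hjr⟩) hj ((hts_neg_iff ⟨j, hjr⟩).mp hneg) hr⟩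
  have hex : ∀ n i, C.len i = n → i < C.size →
      ∃ π ∈ S.W1, Φ.hts π = C.key i ∧ S.len π = C.d * C.len i := by
    intro n
    induction n using Nat.strong_induction_on with
    | _ n ih =>
      intro i hn hi
      rcases (hall i hi).1 with rfl | ⟨a, ha, hj⟩
      · refine ⟨1, one_mem _, by rw [hts_one, hkey], ?_⟩
        rw [hlen, mul_zero, Sym.len, Finset.card_eq_zero, Finset.filter_eq_empty_iff]
        exact fun r _ hr => hr.2 hr.1
      obtain ⟨b1, b2, b3, b4⟩ := (hall i hi).2 a ha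
      have b5 := b4 hj
      have hcnt : 0 < WCert.cnt T D a := by rw [← cnt_eq h ⟨a, ha⟩]; exact S.len_w_pos _
      have hlt : C.len (C.nbr i a) < n := by
        by_contra hc
        have := Nat.mul_le_mul_left C.d (le_of_not_gt hc)
        rw [← hn] at this
        omega
      obtain ⟨π, hπ, e1, e2⟩ := ih _ hlt _ rfl b1
      have hπ' : π * S.w ⟨a, ha⟩ ∈ S.W1 := mul_mem hπ (S.w_mem_W1 _)
      have e3 : Φ.hts (π * S.w ⟨a, ha⟩) = C.key i := by
        show Φ.hts (π * Φ.wPerm T a) = _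
        rw [hts_mul_w h (S.mem_W1.mp hπ).1 ha, e1]
        have := ((hall _ b1).2 a ha).2.1
        rw [b3] at this
        exact this.symm
      refine ⟨_, hπ', e3, ?_⟩
      have hsplit := S.len_split (S.mem_W1.mp hπ').1 (a := ⟨a, ha⟩)
        (hneg hπ' ⟨a, ha⟩ (by rw [e3]; exact hj))
      rw [cnt_eq h, mul_assoc, S.w_w, mul_one, e2] at hsplit
      rw [hsplit, ← b5, Nat.add_comm]
  choose f hf1 hf2 hf3 using fun i : Fin C.size => hex _ i.val rfl i.isLt
  have hinj : Function.Injective fun i => (⟨f i, hf1 i⟩ : S.W1) := fun i j e => by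
    have e' : f i = f j := congrArg Subtype.val e
    exact Fin.ext (C.check_injective T hC i.isLt j.isLt (by rw [← hf2, ← hf2, e']))
  have hsurj : Function.Surjective fun i => (⟨f i, hf1 i⟩ : S.W1) := by
    rintro ⟨π, hπ⟩
    obtain ⟨i, hi⟩ : ∃ i, i < C.size ∧ Φ.hts π = C.key i := by
      refine S.W1_induction (Q := fun π => ∃ i, i < C.size ∧ Φ.hts π = C.key i)
        ⟨start, hs, by rw [hts_one, hkey]⟩ (fun π hπ a _ ⟨i, hi, e⟩ => ?_) hπ
      obtain ⟨b1, b2, -, -⟩ := (hall i hi).2 a.val a.isLt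
      refine ⟨C.nbr i a.val, b1, ?_⟩
      rw [b2, ← e, ← hts_mul_w h (S.mem_W1.mp (mul_mem hπ (S.w_mem_W1 a))).1 a.isLt]
      show Φ.hts π = Φ.hts (π * S.w a * S.w a)
      rw [mul_assoc, S.w_w, mul_one]
    refine ⟨⟨i, hi.1⟩, Subtype.ext (hts_injective (S.mem_W1.mp (hf1 _)).1 (S.mem_W1.mp hπ).1 ?_)⟩
    exact (hf2 _).trans hi.2.symm
  exact ⟨Equiv.ofBijective _ ⟨hinj, hsurj⟩, hf3⟩

theorem cert_sum (h : SymOK (D := D) T p) {C : WCert} {start : ℕ} (hC : C.check T D start = true)
    [Fintype (h.sym Φ).W1] (f : (h.sym Φ).W1 → ℕ) {q : ℕ}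
    (hf : ∀ π : (h.sym Φ).W1, f π ^ C.d = q ^ (h.sym Φ).len π.1) :
    ∑ π, f π = ∑ i : Fin C.size, q ^ C.len i.val := by
  obtain ⟨e, he⟩ := cert_bijective (Φ := Φ) h hC
  rw [← e.sum_comp]
  refine Finset.sum_congr rfl fun i _ => ?_
  have := hf (e i)
  rw [he, mul_comm, pow_mul] at this
  exact Nat.pow_left_injective (C.check_spec T hC).2.1.ne' this

theorem sum_pow_eq_count {n : ℕ} (g : ℕ → ℕ) {M : ℕ} (q : ℕ) (hM : ∀ i < n, g i < M) :
    ∑ i : Fin n, q ^ g i.val = ∑ k ∈ Finset.range M, (((List.range n).map g).count k) * q ^ k := by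
  classical
  rw [Fin.sum_univ_eq_sum_range (fun i => q ^ g i) n,
    ← Finset.sum_fiberwise_of_maps_to (g := g) (t := Finset.range M) (f := fun i => q ^ g i)
      (fun i hi => Finset.mem_range.mpr (hM i (Finset.mem_range.mp hi)))]
  refine Finset.sum_congr rfl fun k _ => ?_
  rw [Finset.sum_congr rfl (g := fun _ => q ^ k) (fun i hi => by rw [(Finset.mem_filter.mp hi).2]),
    Finset.sum_const, smul_eq_mul]
  congr 1
  rw [List.count_eq_countP, List.countP_map, List.countP_eq_length_filter]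
  rfl

end Chev

end CfsgLib.Chev
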