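/-
Twisted endomorphisms of a Chevalley group and their fixed groups.
-/
import Cfsg.Agent.Lib.Chev.Twist.Sym

namespace CfsgLib.Chev

open Cfsg.Lie Matrix

set_option linter.dupNamespace false
set_option linter.unusedSectionVars false

variable {D : ChevalleyDatum}

namespace Chev

variable {Φ : Chev D}

theorem US_le_group (Φ : Chev D) {F : Type*} [Field F] (T : Fin D.nroots → Prop) :
    Φ.US F T ≤ D.group F := by
  rw [US, Subgroup.closure_le]
  rintro _ ⟨r, t, -, rfl⟩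
  exact Φ.toAlg.xg_mem_group r t

theorem H_le_group (Φ : Chev D) {F : Type*} [Field F] : D.diagonalSubgroup F ≤ D.group F :=
  le_trans H_le_N Φ.N_le_group

theorem US_unique (Φ : Chev D) {F : Type*} [Field F] {T U : Fin D.nroots → Prop}
    (hT : ∀ r, T r → Φ.toTables.Pos r) (hU : ∀ r, U r → Φ.toTables.Pos r) (cT : Φ.Closed T) (cU : Φ.Closed U)
    (hd : ∀ r, T r → ¬ U r) {g : GL D.Idx F} (h1 : g ∈ Φ.US F T) (h2 : g ∈ Φ.US F U) : g = 1 := by
  classical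
  obtain ⟨t, rfl⟩ := (Φ.mem_US_iff hT cT).mp h1
  obtain ⟨u, hu⟩ := (Φ.mem_US_iff hU cU).mp h2
  have key : ∀ (A : Fin D.nroots → Prop) (c : Fin D.nroots → F), (∀ r, A r → Φ.toTables.Pos r) →
      Φ.prodL (rootList Φ.toTables.Pos) (fun r => if A r then c r else 0) = Φ.prodL (rootList A) c := by
    intro A c hA
    have e : rootList A = (rootList Φ.toTables.Pos).filter fun r => decide (A r) := by
      rw [rootList, rootList, List.filter_filter]
      refine List.filter_congr fun r _ => ?_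
      by_cases h : A r <;> simp [h, hA r]
    rw [e]
    generalize rootList Φ.toTables.Pos = L
    induction L with
    | nil => simp [prodL]
    | cons a L ih =>
      by_cases h : A a
      · simp only [prodL, List.map_cons, List.prod_cons, List.filter_cons, h, decide_true, if_true] at ih ⊢
        rw [ih]
      · simp only [prodL, List.map_cons, List.prod_cons, List.filter_cons, h, decide_false, if_false,
          Bool.false_eq_true, Alg.xg_zero, one_mul] at ih ⊢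
        rw [ih]
  rw [← key T t hT, ← key U u hU] at hu
  rw [← key T t hT]
  refine List.prod_eq_one fun x hx => ?_
  obtain ⟨r, hr, rfl⟩ := List.mem_map.mp hx
  have := Φ.prodL_injective (pairwise_rootList _) (fun r hr => mem_rootList.mp hr) hu r hr
  rw [Alg.xg_eq_one_iff]
  show (if T r then t r else 0) = 0
  by_cases h : T r
  · rw [if_pos h, if_neg (hd r h)] at this
    rwa [if_pos h]
  · rw [if_neg h]

theorem US_split_unique (Φ : Chev D) {F : Type*} [Field F] {T U : Fin D.nroots → Prop}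
    (hT : ∀ r, T r → Φ.toTables.Pos r) (hU : ∀ r, U r → Φ.toTables.Pos r) (cT : Φ.Closed T) (cU : Φ.Closed U)
    (hd : ∀ r, T r → ¬ U r) {a a' b b' : GL D.Idx F} (ha : a ∈ Φ.US F T) (ha' : a' ∈ Φ.US F T)
    (hb : b ∈ Φ.US F U) (hb' : b' ∈ Φ.US F U) (e : a * b = a' * b') : a = a' ∧ b = b' := by
  have h1 : a'⁻¹ * a = b' * b⁻¹ := by
    rw [show a = a' * b' * b⁻¹ by rw [← e]; group]; group
  have h2 := Φ.US_unique hT hU cT cU hd (mul_mem (inv_mem ha') ha) (h1 ▸ mul_mem hb' (inv_mem hb))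
  obtain rfl : a' = a := inv_mul_eq_one.mp h2
  exact ⟨rfl, mul_left_cancel e⟩

/-- An endomorphism `x_r(t) ↦ x_{ρ r}(ε_r t ^ k_r)` attached to a symmetry. -/
structure Tw (S : Φ.Sym) (F : Type*) [Field F] where
  k : Fin D.nroots → ℕ
  ε : Fin D.nroots → ℤ
  s : ↥(D.group F) →* ↥(D.group F)
  s_xg : ∀ r t, (s ⟨Φ.toAlg.xg r t, Φ.toAlg.xg_mem_group r t⟩ : GL D.Idx F) =
    Φ.toAlg.xg (S.ρ r) ((ε r : F) * t ^ k r)
  k_prev : ∀ i, k (Φ.p i).rev = k (Φ.p i)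
  ε_p : ∀ i, ε (Φ.p i) = 1
  ε_prev : ∀ i, ε (Φ.p i).rev = 1
  neg_pow : ∀ i (t : F), (-t) ^ k (Φ.p i) = -(t ^ k (Φ.p i))

namespace Tw

variable {S : Φ.Sym} {F : Type*} [Field F] (T : Tw S F)

open Classical in
/-- The endomorphism on matrices. -/
noncomputable def app (g : GL D.Idx F) : GL D.Idx F :=
  if h : g ∈ D.group F then (T.s ⟨g, h⟩ : GL D.Idx F) else 1

theorem app_eq {g : GL D.Idx F} (h : g ∈ D.group F) : T.app g = T.s ⟨g, h⟩ := dif_pos h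

theorem app_one : T.app 1 = 1 := by
  rw [T.app_eq (one_mem _)]
  exact congrArg Subtype.val (map_one T.s)

theorem app_mul {a b : GL D.Idx F} (ha : a ∈ D.group F) (hb : b ∈ D.group F) :
    T.app (a * b) = T.app a * T.app b := by
  rw [T.app_eq ha, T.app_eq hb, T.app_eq (mul_mem ha hb), ← Subgroup.coe_mul, ← map_mul]
  rfl

theorem app_inv {a : GL D.Idx F} (ha : a ∈ D.group F) : T.app a⁻¹ = (T.app a)⁻¹ := by
  rw [T.app_eq ha, T.app_eq (inv_mem ha), ← Subgroup.coe_inv, ← map_inv]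
  rfl

theorem app_mem {a : GL D.Idx F} (ha : a ∈ D.group F) : T.app a ∈ D.group F := by
  rw [T.app_eq ha]; exact SetLike.coe_mem _

theorem app_xg (r : Fin D.nroots) (t : F) :
    T.app (Φ.toAlg.xg r t) = Φ.toAlg.xg (S.ρ r) ((T.ε r : F) * t ^ T.k r) := by
  rw [T.app_eq (Φ.toAlg.xg_mem_group r t), T.s_xg]

theorem app_list_prod : ∀ {L : List (GL D.Idx F)}, (∀ x ∈ L, x ∈ D.group F) →
    T.app L.prod = (L.map T.app).prod
  | [], _ => T.app_one
  | a :: L, h => by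
    have hL : ∀ x ∈ L, x ∈ D.group F := fun x hx => h x (List.mem_cons_of_mem _ hx)
    rw [List.prod_cons, List.map_cons, List.prod_cons, T.app_mul (h a List.mem_cons_self)
      (Subgroup.list_prod_mem _ hL), app_list_prod hL]

/-- The fixed subgroup. -/
def fix : Subgroup (GL D.Idx F) where
  carrier := {g | g ∈ D.group F ∧ T.app g = g}
  one_mem' := ⟨one_mem _, T.app_one⟩
  mul_mem' := fun {a b} ha hb => ⟨mul_mem ha.1 hb.1, by rw [T.app_mul ha.1 hb.1, ha.2, hb.2]⟩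
  inv_mem' := fun {a} ha => ⟨inv_mem ha.1, by rw [T.app_inv ha.1, ha.2]⟩

theorem mem_fix {g : GL D.Idx F} : g ∈ T.fix ↔ g ∈ D.group F ∧ T.app g = g := Iff.rfl

theorem fix_le : T.fix ≤ D.group F := fun _ h => h.1

theorem app_mem_US {U : Fin D.nroots → Prop} (hU : S.Stable U) {g : GL D.Idx F} (hg : g ∈ Φ.US F U) :
    T.app g ∈ Φ.US F U := by
  suffices H : g ∈ D.group F ∧ T.app g ∈ Φ.US F U from H.2
  induction hg using Subgroup.closure_induction with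
  | mem x hx =>
    obtain ⟨r, t, hr, rfl⟩ := hx
    exact ⟨Φ.toAlg.xg_mem_group r t, by rw [T.app_xg]; exact Φ.xg_mem_US ((hU r).mpr hr) _⟩
  | one => exact ⟨one_mem _, by rw [T.app_one]; exact one_mem _⟩
  | mul a b _ _ ha hb => exact ⟨mul_mem ha.1 hb.1, by rw [T.app_mul ha.1 hb.1]; exact mul_mem ha.2 hb.2⟩
  | inv a _ ha => exact ⟨inv_mem ha.1, by rw [T.app_inv ha.1]; exact inv_mem ha.2⟩

theorem app_nw (i : Fin D.rank) (t : Fˣ) :
    T.app (Φ.nw (Φ.p i) t) = Φ.nw (Φ.p (S.τ i)) (t ^ T.k (Φ.p i)) := by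
  have g := fun r (a : F) => Φ.toAlg.xg_mem_group r a
  simp only [nw]
  rw [T.app_mul (mul_mem (g _ _) (g _ _)) (g _ _), T.app_mul (g _ _) (g _ _), T.app_xg, T.app_xg,
    S.ρ_p, S.ρ_prev, T.ε_p, T.ε_prev, T.k_prev, T.neg_pow, Int.cast_one, one_mul, one_mul,
    Units.val_pow_eq_pow_val, inv_pow]

theorem app_hw (i : Fin D.rank) (t : Fˣ) :
    T.app (Φ.hw (Φ.p i) t) = Φ.hw (Φ.p (S.τ i)) (t ^ T.k (Φ.p i)) := by
  have e : ((-1 : Fˣ)) ^ T.k (Φ.p i) = -1 := Units.ext (by simpa using T.neg_pow i 1)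
  rw [hw, T.app_mul (Φ.nw_mem_group _ _) (Φ.nw_mem_group _ _), T.app_nw, T.app_nw, e, hw]

/-- The torus with parameters on the fundamental coroots. -/
noncomputable def tor : (Fin D.rank → Fˣ) →* GL D.Idx F := Φ.toAlg.torus.comp (Φ.coHom F)

theorem tor_mem_H (d : Fin D.rank → Fˣ) : tor (Φ := Φ) d ∈ D.diagonalSubgroup F := by
  rw [Φ.diagonalSubgroup_eq]; exact ⟨d, rfl⟩

theorem tor_eq_prod (d : Fin D.rank → Fˣ) :
    tor (Φ := Φ) d = ((List.finRange D.rank).map fun j => Φ.hw (Φ.p j) (d j)).prod :=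
  Φ.coHom_mem d

/-- The action on torus parameters. -/
def dmap (d : Fin D.rank → Fˣ) : Fin D.rank → Fˣ :=
  fun j => d (S.τ.symm j) ^ T.k (Φ.p (S.τ.symm j))

theorem tor_single (j : Fin D.rank) (t : Fˣ) :
    tor (Φ := Φ) (Pi.mulSingle j t) = Φ.hw (Φ.p j) t := by
  rw [tor, MonoidHom.comp_apply, Φ.coHom_apply, Φ.hw_p]
  congr 1
  rw [Finset.prod_eq_single j (fun k _ hk => ?_) (by simp)]
  · rw [Pi.mulSingle_eq_same]
  · rw [Pi.mulSingle_eq_of_ne hk]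
    funext l
    simp [Alg.cartanChar]

theorem app_tor (d : Fin D.rank → Fˣ) : T.app (tor (Φ := Φ) d) = tor (Φ := Φ) (T.dmap d) := by
  have h2 : T.dmap d = ((List.finRange D.rank).map fun j =>
      Pi.mulSingle (S.τ j) (d j ^ T.k (Φ.p j))).prod := by
    rw [← Fin.prod_univ_def]
    funext l
    rw [Finset.prod_apply, Finset.prod_eq_single (S.τ.symm l)]
    · simp [dmap]
    · intro k _ hk
      exact Pi.mulSingle_eq_of_ne (fun e => hk (by rw [e, Equiv.symm_apply_apply])) _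
    · simp
  rw [h2, map_list_prod, List.map_map, tor_eq_prod, T.app_list_prod, List.map_map]
  · congr 1
    refine List.map_congr_left fun j _ => ?_
    simp only [Function.comp_apply, T.app_hw, tor_single]
  · intro x hx
    obtain ⟨j, -, rfl⟩ := List.mem_map.mp hx
    exact mul_mem (Φ.nw_mem_group _ _) (Φ.nw_mem_group _ _)

theorem app_mem_H {h : GL D.Idx F} (hh : h ∈ D.diagonalSubgroup F) : T.app h ∈ D.diagonalSubgroup F := by
  rw [Φ.diagonalSubgroup_eq] at hh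
  obtain ⟨d, rfl⟩ := hh
  show T.app (tor (Φ := Φ) d) ∈ _
  rw [T.app_tor]
  exact tor_mem_H _

theorem app_mem_B {b : GL D.Idx F} (hb : b ∈ D.borelSubgroup F) : T.app b ∈ D.borelSubgroup F := by
  obtain ⟨u, hu, h, hh, rfl⟩ := Φ.mem_B_iff.mp hb
  rw [Φ.posUnipotent_eq_US] at hu
  rw [T.app_mul (Φ.US_le_group _ hu) (Φ.H_le_group hh)]
  refine mul_mem (Subgroup.mem_sup_left ?_) (Subgroup.mem_sup_right (T.app_mem_H hh))
  rw [Φ.posUnipotent_eq_US]
  exact T.app_mem_US S.stable_pos hu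

theorem app_monomial {n : GL D.Idx F} {π : Equiv.Perm (Fin D.nroots)} (hn : n ∈ D.monomialSubgroup F)
    (hm : Φ.Mono n π) : T.app n ∈ D.monomialSubgroup F ∧ Φ.Mono (T.app n) (S.ρ * π * S.ρ⁻¹) := by
  obtain ⟨σ, hσ, hm', -⟩ := Φ.exists_monoW hn
  obtain rfl := Mono.unique Φ hm hm'
  obtain ⟨g, hg, hgm, hga, hgam⟩ : ∃ g ∈ D.monomialSubgroup F, Φ.Mono g π ∧
      T.app g ∈ D.monomialSubgroup F ∧ Φ.Mono (T.app g) (S.ρ * π * S.ρ⁻¹) := by
    refine Φ.W_induction (Q := fun π => ∃ g ∈ D.monomialSubgroup F, Φ.Mono g π ∧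
      T.app g ∈ D.monomialSubgroup F ∧ Φ.Mono (T.app g) (S.ρ * π * S.ρ⁻¹)) ?_ ?_ hσ
    · exact ⟨1, one_mem _, Mono.one Φ, by rw [T.app_one]; exact one_mem _,
        by rw [T.app_one, mul_one, mul_inv_cancel]; exact Mono.one Φ⟩
    · rintro i π _ ⟨g, hg, hm, hga, hgam⟩
      refine ⟨Φ.nw (Φ.p i) 1 * g, mul_mem (Φ.nw_mem_N _ _) hg, Mono.mul Φ (Φ.nw_one_mono i) hm, ?_, ?_⟩ <;>
        rw [T.app_mul (Φ.nw_mem_group _ _) (Φ.N_le_group hg), T.app_nw, one_pow]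
      · exact mul_mem (Φ.nw_mem_N _ _) hga
      · have e : S.ρ * (Φ.reflPerm i * π) * S.ρ⁻¹ = Φ.reflPerm (S.τ i) * (S.ρ * π * S.ρ⁻¹) := by
          refine Equiv.ext fun r => ?_
          simp only [Equiv.Perm.mul_apply, Φ.reflPerm_apply, S.ρ_refl]
        rw [e]
        exact Mono.mul Φ (Φ.nw_one_mono _) hgam
  have hH : n * g⁻¹ ∈ D.diagonalSubgroup F := by
    obtain ⟨σ', -, h1, h2⟩ := Φ.exists_monoW hg
    obtain rfl := Mono.unique Φ hgm h1
    rw [Φ.mem_H_iff_mono_one (mul_mem hn (inv_mem hg))]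
    have := Mono.mul Φ hm h2
    rwa [mul_inv_cancel] at this
  have e : T.app n = T.app (n * g⁻¹) * T.app g := by
    rw [← T.app_mul (Φ.H_le_group hH) (Φ.N_le_group hg), inv_mul_cancel_right]
  have h1 := T.app_mem_H hH
  refine ⟨by rw [e]; exact mul_mem (H_le_N h1) hga, ?_⟩
  rw [e, show S.ρ * π * S.ρ⁻¹ = 1 * (S.ρ * π * S.ρ⁻¹) from (one_mul _).symm]
  exact Mono.mul Φ ((Φ.mem_H_iff_mono_one (H_le_N h1)).mp h1) hgam

/-- The data showing that a subgroup is the whole fixed group. -/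
structure Gen (G1 : Subgroup (GL D.Idx F)) : Prop where
  le_fix : G1 ≤ T.fix
  root_le : ∀ a, Φ.US F (S.PJ a) ⊓ T.fix ≤ G1
  exists_n : ∀ a, ∃ n ∈ G1, n ∈ D.monomialSubgroup F ∧ Φ.Mono n (S.w a)
  torus_le : ∀ a, ∀ d, T.dmap d = d → (∀ j, j ∉ S.J a → d j = 1) → tor (Φ := Φ) d ∈ G1
  lift : ∀ d, tor (Φ := Φ) (T.dmap d) = tor (Φ := Φ) d →
    ∃ d', T.dmap d' = d' ∧ tor (Φ := Φ) d' = tor (Φ := Φ) d

variable {T} {G1 : Subgroup (GL D.Idx F)}

theorem Gen.exists_nW1 (h : T.Gen G1) {π : Equiv.Perm (Fin D.nroots)} (hπ : π ∈ S.W1) :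
    ∃ n ∈ G1, n ∈ D.monomialSubgroup F ∧ Φ.Mono n π := by
  refine S.W1_induction (Q := fun π => ∃ n ∈ G1, n ∈ D.monomialSubgroup F ∧ Φ.Mono n π)
    ⟨1, one_mem _, one_mem _, Mono.one Φ⟩ (fun π _ a _ ih => ?_) hπ
  obtain ⟨m, hm1, hm2, hm3⟩ := h.exists_n a
  obtain ⟨n, hn1, hn2, hn3⟩ := ih
  refine ⟨n * m, mul_mem hn1 hm1, mul_mem hn2 hm2, ?_⟩
  have := Mono.mul Φ hn3 hm3
  rwa [mul_assoc, S.w_w, mul_one] at this

/-- The fixed part of the unipotent group of an inversion set splits along a descent. -/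
theorem Gen.split (h : T.Gen G1) {π : Equiv.Perm (Fin D.nroots)} (hπ : π ∈ Φ.W) {a : Fin S.m}
    (hd : ∀ r, S.PJ a r → Φ.Inv π r) (hπ1 : π ∈ S.W1) :
    ∃ n ∈ G1, n ∈ D.monomialSubgroup F ∧ Φ.Mono n (S.w a) ∧ Φ.Mono n⁻¹ (S.w a) ∧
    ∀ u ∈ Φ.US F (Φ.Inv π) ⊓ T.fix, ∃ x ∈ Φ.US F (S.PJ a) ⊓ T.fix,
      ∃ y ∈ Φ.US F (Φ.Inv (π * S.w a)) ⊓ T.fix, u = x * (n * y * n⁻¹) := by
  classical
  obtain ⟨n, hn1, hn2, hn3⟩ := h.exists_n a
  obtain ⟨σ, -, hσ, hσ'⟩ := Φ.exists_monoW hn2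
  obtain rfl := Mono.unique Φ hn3 hσ
  rw [S.w_inv] at hσ'
  refine ⟨n, hn1, hn2, hn3, hσ', ?_⟩
  rintro u ⟨hu, huf⟩
  rw [← Φ.US_rootList] at hu
  obtain ⟨P, hP, M, hM, e⟩ := Φ.exists_splitList (A := Φ.Sub (S.J a)) (pairwise_rootList _)
    (fun r hr => (mem_rootList.mp hr).1)
    (fun r s hr hs hN => mem_rootList.mpr (Φ.closed_inv hπ r s (mem_rootList.mp hr) (mem_rootList.mp hs) hN)) hu
  let T2 : Fin D.nroots → Prop := fun r => Φ.Inv π r ∧ Φ.Out (S.J a) r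
  have hP' : P ∈ Φ.US F (S.PJ a) :=
    Φ.US_mono (F := F) (fun r hr => ⟨(mem_rootList.mp hr.1).1, hr.2⟩) hP
  have hM' : M ∈ Φ.US F T2 :=
    Φ.US_mono (F := F) (fun r hr => (⟨mem_rootList.mp hr.1,
      Φ.out_iff_pos_and_not_sub.mpr ⟨(mem_rootList.mp hr.1).1, hr.2⟩⟩ : T2 r)) hM
  have hgP := Φ.US_le_group _ hP'
  have hgM := Φ.US_le_group _ hM'
  obtain ⟨eP, eM⟩ := Φ.US_split_unique (T := S.PJ a) (U := T2) (fun r hr => hr.1) (fun r hr => hr.1.1)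
    (S.closed_PJ a) (Closed.and Φ (Φ.closed_inv hπ) (Φ.closed_out _))
    (fun r hr (hr' : T2 r) => (Φ.out_iff_pos_and_not_sub.mp hr'.2).2 hr.2)
    (T.app_mem_US (S.stable_PJ a) hP') hP' (T.app_mem_US (S.stable_and (S.stable_inv hπ1) (S.stable_out a)) hM')
    hM' (by rw [← T.app_mul hgP hgM, ← e, huf.2])
  refine ⟨P, ⟨hP', hgP, eP⟩, n⁻¹ * M * n, ⟨?_, Subgroup.mul_mem _ (Subgroup.mul_mem _ (Subgroup.inv_mem _ (h.le_fix hn1)) ⟨hgM, eM⟩) (h.le_fix hn1)⟩,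
    by rw [e]; group⟩
  have := Φ.map_US_le hσ' (S := T2) (T := Φ.Inv (π * S.w a)) (fun r hr => by
    rw [S.inv_mul_w hπ hd, S.w_w_apply]
    exact ⟨(S.out_w (S.w_mem a) r).mpr hr.2, hr.1⟩) M hM'
  rwa [inv_inv] at this

theorem Gen.inv_le (h : T.Gen G1) {π : Equiv.Perm (Fin D.nroots)} (hπ : π ∈ S.W1) :
    Φ.US F (Φ.Inv π) ⊓ T.fix ≤ G1 := by
  refine S.W1_induction (Q := fun π => Φ.US F (Φ.Inv π) ⊓ T.fix ≤ G1) ?_ (fun π hπ a hd ih => ?_) hπ
  · have : Φ.US F (Φ.Inv 1) = ⊥ := by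
      rw [US, eq_bot_iff, Subgroup.closure_le]
      rintro _ ⟨r, t, hr, -⟩
      exact absurd hr.1 hr.2
    simp [this]
  · obtain ⟨n, hn1, -, -, -, hsp⟩ := h.split (S.mem_W1.mp hπ).1 hd hπ
    intro u hu
    obtain ⟨x, hx, y, hy, rfl⟩ := hsp u hu
    exact mul_mem (h.root_le a hx) (mul_mem (mul_mem hn1 (ih hy)) (inv_mem hn1))

theorem Gen.U_le (h : T.Gen G1) : D.posUnipotent F ⊓ T.fix ≤ G1 := by
  obtain ⟨π, hπ, hi⟩ := S.exists_longest
  have e : Φ.US F (Φ.Inv π) = D.posUnipotent F := by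
    rw [Φ.posUnipotent_eq_US]
    congr 1
    exact funext fun r => propext (hi r)
  exact e ▸ h.inv_le hπ

theorem Gen.H_le (h : T.Gen G1) : D.diagonalSubgroup F ⊓ T.fix ≤ G1 := by
  classical
  rintro x ⟨hx, hxf⟩
  rw [Φ.diagonalSubgroup_eq] at hx
  obtain ⟨d, rfl⟩ := hx
  obtain ⟨d', hd', e⟩ := h.lift d (by rw [← T.app_tor]; exact hxf.2)
  show tor (Φ := Φ) d ∈ G1
  rw [← e]
  let part : Fin S.m → (Fin D.rank → Fˣ) := fun a j => if j ∈ S.J a then d' j else 1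
  have hd : d' = ∏ a, part a := by
    funext j
    obtain ⟨a, ha⟩ := S.cover j
    rw [Finset.prod_apply, Finset.prod_eq_single a (fun b _ hb => ?_) (by simp)]
    · simp [part, ha]
    · simp [part, show j ∉ S.J b from fun hj => hb (S.disj b a j hj ha)]
  have hmem : ∏ a, part a ∈ G1.comap (tor (Φ := Φ)) := by
    refine Subgroup.prod_mem _ fun a _ => h.torus_le a _ ?_ (fun j hj => by simp [part, hj])
    funext j
    have hj := congrFun hd' j
    simp only [dmap] at hj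
    have hiff : S.τ.symm j ∈ S.J a ↔ j ∈ S.J a := by rw [← S.stable, Equiv.apply_symm_apply]
    by_cases ha : j ∈ S.J a
    · simp only [dmap, part, if_pos ha, if_pos (hiff.mpr ha)]
      exact hj
    · simp only [dmap, part, if_neg ha, if_neg (mt hiff.mp ha), one_pow]
  rw [hd]
  exact hmem

variable (T) in
/-- The fixed part of the unipotent group of an inversion set. -/
def Uinv (π : Equiv.Perm (Fin D.nroots)) : Subgroup (GL D.Idx F) := Φ.US F (Φ.Inv π) ⊓ T.fix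

theorem Gen.bruhat (h : T.Gen G1) {g : GL D.Idx F} (hg : g ∈ T.fix) :
    ∃ π ∈ S.W1, ∀ n ∈ G1, n ∈ D.monomialSubgroup F → Φ.Mono n π →
      ∃ b ∈ D.borelSubgroup F ⊓ T.fix, ∃ u ∈ T.Uinv π, g = b * n * u := by
  obtain ⟨b, hb, n, hn, π, hπ, hm, u, hu, e⟩ := Φ.exists_nf hg.1
  have gB := fun {x} (hx : x ∈ D.borelSubgroup F) => Φ.B_le_group hx
  have gN := fun {x} (hx : x ∈ D.monomialSubgroup F) => Φ.N_le_group hx
  have huB := Φ.inv_le_B π hu
  obtain ⟨han, hanm⟩ := T.app_monomial hn hm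
  have e2 : T.app b * T.app n * T.app u = b * n * u := by
    rw [← T.app_mul (gB hb) (gN hn), ← T.app_mul (mul_mem (gB hb) (gN hn)) (gB huB), ← e, hg.2]
  have hcls := Φ.cls_eq_of_normal_form hn han hb (T.app_mem_B hb) huB (T.app_mem_B huB) e2.symm
  have hπ1 : π ∈ S.W1 := by
    refine S.mem_W1.mpr ⟨hπ, ?_⟩
    have h1 := (Φ.mem_H_iff_mono_one (mul_mem (inv_mem hn) han)).mp hcls
    have h2 := Mono.mul Φ hm h1
    rw [mul_inv_cancel_left, mul_one] at h2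
    have := Mono.unique Φ h2 hanm
    intro r
    have := Equiv.ext_iff.mp this (S.ρ r)
    simpa using this
  refine ⟨π, hπ1, fun m hm1 hm2 hm3 => ?_⟩
  have hH : n * m⁻¹ ∈ D.diagonalSubgroup F := by
    obtain ⟨σ, -, a1, a2⟩ := Φ.exists_monoW hm2
    obtain rfl := Mono.unique Φ hm3 a1
    rw [Φ.mem_H_iff_mono_one (mul_mem hn (inv_mem hm2))]
    have := Mono.mul Φ hm a2
    rwa [mul_inv_cancel] at this
  have hb' : b * (n * m⁻¹) ∈ D.borelSubgroup F := mul_mem hb (Subgroup.mem_sup_right hH)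
  have e' : g = b * (n * m⁻¹) * m * u := by rw [e]; group
  have e3 : T.app (b * (n * m⁻¹)) * m * T.app u = b * (n * m⁻¹) * m * u := by
    conv_lhs => arg 1; arg 2; rw [← (h.le_fix hm1).2]
    rw [← T.app_mul (gB hb') (gN hm2), ← T.app_mul (mul_mem (gB hb') (gN hm2)) (gB huB), ← e', hg.2]
  obtain ⟨eb, eu⟩ := Φ.nf_unique hm3 (T.app_mem_B hb') hb' (T.app_mem_US (S.stable_inv hπ1) hu) hu e3
  exact ⟨_, ⟨hb', gB hb', eb⟩, u, ⟨hu, gB huB, eu⟩, e'⟩

theorem B_mem (T : Tw S F) {b : GL D.Idx F} (hb : b ∈ D.borelSubgroup F) (hf : b ∈ T.fix) :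
    ∃ u ∈ D.posUnipotent F ⊓ T.fix, ∃ x ∈ D.diagonalSubgroup F ⊓ T.fix, b = u * x := by
  obtain ⟨u, hu, x, hx, rfl⟩ := Φ.mem_B_iff.mp hb
  have hu' : u ∈ Φ.US F Φ.toTables.Pos := by rwa [← Φ.posUnipotent_eq_US]
  have gu := Φ.US_le_group _ hu'
  have gx := Φ.H_le_group hx
  have e : T.app u * T.app x = u * x := by rw [← T.app_mul gu gx, hf.2]
  have hau : T.app u ∈ D.posUnipotent F := by
    rw [Φ.posUnipotent_eq_US]; exact T.app_mem_US S.stable_pos hu'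
  have e1 : u⁻¹ * T.app u = x * (T.app x)⁻¹ := by
    rw [show T.app u = u * x * (T.app x)⁻¹ by rw [← e]; group]; group
  have h1 := Φ.eq_one_of_mem_U_of_mem_N (mul_mem (inv_mem hu) hau)
    (e1 ▸ H_le_N (mul_mem hx (inv_mem (T.app_mem_H hx))))
  have eu : T.app u = u := (inv_mul_eq_one.mp h1).symm
  rw [eu] at e
  exact ⟨u, ⟨hu, gu, eu⟩, x, ⟨hx, gx, mul_left_cancel e⟩, rfl⟩

/-- The generated subgroup is the fixed group. -/
theorem Gen.eq_fix (h : T.Gen G1) : G1 = T.fix := by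
  refine le_antisymm h.le_fix fun g hg => ?_
  obtain ⟨π, hπ, hb⟩ := h.bruhat hg
  obtain ⟨n, hn1, hn2, hn3⟩ := h.exists_nW1 hπ
  obtain ⟨b, ⟨hb1, hb2⟩, u, hu, rfl⟩ := hb n hn1 hn2 hn3
  obtain ⟨v, hv, x, hx, rfl⟩ := T.B_mem hb1 hb2
  exact mul_mem (mul_mem (mul_mem (h.U_le hv) (h.H_le hx)) hn1) (h.inv_le hπ hu)

end Tw

end Chev

end CfsgLib.Chev
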