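/-
The (B,N)-pair of a twisted group.
-/
import Cfsg.Agent.Lib.Chev.Twist.Fix

namespace CfsgLib.Chev

open Cfsg.Lie Matrix

set_option linter.dupNamespace false
set_option linter.unusedSectionVars false

variable {D : ChevalleyDatum}

namespace Chev

variable {Φ : Chev D}

theorem pos_of_comb_supp (Φ : Chev D) {π : Equiv.Perm (Fin D.nroots)} (hπ : π ∈ Φ.W) {r : Fin D.nroots}
    (hr : Φ.toTables.Pos r) (h : ∀ k, Φ.V r k ≠ 0 → Φ.toTables.Pos (π (Φ.p k))) :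
    Φ.toTables.Pos (π r) := by
  by_contra hn
  obtain ⟨j, hj⟩ := Φ.exists_V_ne_zero (π r)
  have h1 := Φ.V_nonpos _ hn j
  have h2 : 0 ≤ Φ.V (π r) j := by
    rw [Φ.W_lin hπ r j]
    refine Finset.sum_nonneg fun k _ => ?_
    by_cases hk : Φ.V r k = 0
    · simp [hk]
    · exact mul_nonneg (Φ.V_nonneg r hr k) (Φ.V_nonneg _ (h k hk) j)
  omega

theorem mem_of_xg_mem (Φ : Chev D) {F : Type*} [Field F] {U : Fin D.nroots → Prop}
    (hU : ∀ r, U r → Φ.toTables.Pos r) (cU : Φ.Closed U) {s : Fin D.nroots} {a : F}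
    (h : Φ.toAlg.xg s a ∈ Φ.US F U) (ha : a ≠ 0) : U s := by
  have hp : Φ.toTables.Pos s := by
    by_contra hn
    have hB : Φ.toAlg.xg s a ∈ D.borelSubgroup F := by
      have h0 : Φ.toAlg.xg s a ∈ D.posUnipotent F := by
        rw [Φ.posUnipotent_eq_US]; exact (Φ.US_mono (F := F) hU) h
      exact Subgroup.mem_sup_left h0
    have hV : Φ.toAlg.xg s a ∈ D.negUnipotent F := by
      rw [Φ.negUnipotent_eq_US]; exact Φ.xg_mem_US (S := fun r => ¬ Φ.toTables.Pos r) hn a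
    have h1 : Φ.toAlg.xg s a ∈ D.borelSubgroup F ⊓ D.negUnipotent F := Subgroup.mem_inf.mpr ⟨hB, hV⟩
    rw [Φ.B_inf_V, Subgroup.mem_bot, Alg.xg_eq_one_iff] at h1
    exact ha h1
  by_contra hc
  let P : Fin D.nroots → Prop := fun r => r = s
  have hT : Φ.toAlg.xg s a ∈ Φ.US F P := Φ.xg_mem_US (S := P) rfl a
  have hP : ∀ r, P r → Φ.toTables.Pos r := fun r hr => by rw [show r = s from hr]; exact hp
  have cP : Φ.Closed P := fun r r' hr hr' hN => by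
    rw [show r = s from hr, show r' = s from hr'] at hN; exact absurd (Φ.N_self _) hN
  have hd : ∀ r, U r → ¬ P r := fun r hr e => hc (by rwa [show r = s from e] at hr)
  have := Φ.US_unique (F := F) (T := U) (U := P) hU hP cU cP hd (g := Φ.toAlg.xg s a) h hT
  exact ha (Φ.toAlg.xg_eq_one_iff.mp this)

namespace Tw

variable {S : Φ.Sym} {F : Type*} [Field F] {T : Tw S F} {G1 : Subgroup (GL D.Idx F)}

theorem mono_inv {n : GL D.Idx F} {π : Equiv.Perm (Fin D.nroots)} (hn : n ∈ D.monomialSubgroup F)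
    (hm : Φ.Mono n π) : Φ.Mono n⁻¹ π⁻¹ := by
  obtain ⟨σ, -, a1, a2⟩ := Φ.exists_monoW hn
  rwa [Mono.unique Φ hm a1]

theorem mul_inv_mem_H {n m : GL D.Idx F} {π : Equiv.Perm (Fin D.nroots)} (hn : n ∈ D.monomialSubgroup F)
    (hm : m ∈ D.monomialSubgroup F) (h1 : Φ.Mono n π) (h2 : Φ.Mono m π) :
    n * m⁻¹ ∈ D.diagonalSubgroup F := by
  rw [Φ.mem_H_iff_mono_one (mul_mem hn (Subgroup.inv_mem _ hm))]
  have := Mono.mul Φ h1 (mono_inv hm h2)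
  rwa [mul_inv_cancel] at this

theorem perm_mem_W1 (T : Tw S F) {n : GL D.Idx F} {π : Equiv.Perm (Fin D.nroots)}
    (hn : n ∈ D.monomialSubgroup F) (hf : n ∈ T.fix) (hm : Φ.Mono n π) : π ∈ S.W1 := by
  obtain ⟨σ, hσ, a1, -⟩ := Φ.exists_monoW hn
  obtain rfl := Mono.unique Φ hm a1
  refine S.mem_W1.mpr ⟨hσ, fun r => ?_⟩
  have h1 := (T.app_monomial hn hm).2
  rw [hf.2] at h1
  have := Equiv.ext_iff.mp (Mono.unique Φ hm h1) (S.ρ r)
  simpa using this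

theorem Gen.split_U (h : T.Gen G1) (a : Fin S.m) {v : GL D.Idx F} (hv : v ∈ D.posUnipotent F ⊓ T.fix) :
    ∃ y ∈ Φ.US F (Φ.Out (S.J a)) ⊓ T.fix, ∃ x ∈ Φ.US F (S.PJ a) ⊓ T.fix, v = y * x := by
  obtain ⟨π, hπ, hi⟩ := S.exists_longest
  have hW := (S.mem_W1.mp hπ).1
  have hd : ∀ r, S.PJ a r → Φ.Inv π r := fun r hr => (hi r).mpr hr.1
  obtain ⟨n, hn1, -, hn3, -, hsp⟩ := h.split hW hd hπ
  have hv' : v⁻¹ ∈ Φ.US F (Φ.Inv π) ⊓ T.fix := by
    refine ⟨?_, Subgroup.inv_mem _ hv.2⟩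
    rw [show Φ.Inv π = Φ.toTables.Pos from funext fun r => propext (hi r), ← Φ.posUnipotent_eq_US]
    exact Subgroup.inv_mem _ hv.1
  obtain ⟨x, hx, y, hy, e⟩ := hsp _ hv'
  refine ⟨(n * y * n⁻¹)⁻¹, Subgroup.inv_mem _ ⟨?_, ?_⟩, x⁻¹, Subgroup.inv_mem _ hx, by rw [← _root_.mul_inv_rev, ← e, inv_inv]⟩
  · exact Φ.map_US_le hn3 (T := Φ.Out (S.J a))
      (fun r hr => (S.out_w (S.w_mem a) r).mpr ((S.inv_mul_w hW hd r).mp hr).1) y hy.1
  · exact mul_mem (mul_mem (h.le_fix hn1) hy.2) (Subgroup.inv_mem _ (h.le_fix hn1))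

theorem Gen.mem_B (h : T.Gen G1) {x : GL D.Idx F} (hx : x ∈ D.borelSubgroup F) (hf : x ∈ T.fix) : x ∈ G1 := by
  obtain ⟨v, hv, y, hy, rfl⟩ := T.B_mem hx hf
  exact mul_mem (h.U_le hv) (h.H_le hy)

/-- The representative of the reflection of an orbit. -/
noncomputable def Gen.sn (h : T.Gen G1) (a : Fin S.m) : G1 :=
  ⟨(h.exists_n a).choose, (h.exists_n a).choose_spec.1⟩

theorem Gen.sn_N (h : T.Gen G1) (a : Fin S.m) : (h.sn a : GL D.Idx F) ∈ D.monomialSubgroup F :=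
  (h.exists_n a).choose_spec.2.1

theorem Gen.sn_mono (h : T.Gen G1) (a : Fin S.m) : Φ.Mono (h.sn a : GL D.Idx F) (S.w a) :=
  (h.exists_n a).choose_spec.2.2

theorem Gen.sn_sq (h : T.Gen G1) (a : Fin S.m) :
    (h.sn a : GL D.Idx F) * (h.sn a : GL D.Idx F) ∈ D.diagonalSubgroup F := by
  rw [Φ.mem_H_iff_mono_one (mul_mem (h.sn_N a) (h.sn_N a))]
  have := Mono.mul Φ (h.sn_mono a) (h.sn_mono a)
  rwa [S.w_w] at this

theorem Gen.conj_root_not_mem_B (h : T.Gen G1) (a : Fin S.m) {x : GL D.Idx F} (hx : x ∈ Φ.US F (S.PJ a))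
    (hne : x ≠ 1) :
    (h.sn a : GL D.Idx F) * x * (h.sn a : GL D.Idx F)⁻¹ ∉ D.borelSubgroup F := by
  intro hB
  have hV : (h.sn a : GL D.Idx F) * x * (h.sn a : GL D.Idx F)⁻¹ ∈ D.negUnipotent F := by
    rw [Φ.negUnipotent_eq_US]
    exact Φ.map_US_le (h.sn_mono a) (T := fun r => ¬ Φ.toTables.Pos r) (fun r hr => S.w_neg a r hr.1 hr.2) x hx
  have h1 : (h.sn a : GL D.Idx F) * x * (h.sn a : GL D.Idx F)⁻¹ ∈ D.borelSubgroup F ⊓ D.negUnipotent F :=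
    ⟨hB, hV⟩
  rw [Φ.B_inf_V, Subgroup.mem_bot, mul_inv_eq_one] at h1
  exact hne (mul_eq_left.mp h1)

theorem Gen.rank_one (h : T.Gen G1) (a : Fin S.m) {x : GL D.Idx F} (hx : x ∈ Φ.US F (S.PJ a) ⊓ T.fix)
    (hne : x ≠ 1) :
    ∃ b ∈ D.borelSubgroup F ⊓ T.fix, ∃ u ∈ Φ.US F (S.PJ a) ⊓ T.fix,
      (h.sn a : GL D.Idx F) * x * (h.sn a : GL D.Idx F)⁻¹ = b * (h.sn a : GL D.Idx F) * u := by
  set s := (h.sn a : GL D.Idx F) with hs
  set g := s * x * s⁻¹ with hg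
  have hsf : s ∈ T.fix := h.le_fix (h.sn a).2
  have hgf : g ∈ T.fix := mul_mem (mul_mem hsf hx.2) (Subgroup.inv_mem _ hsf)
  obtain ⟨π, hπ, hb⟩ := h.bruhat hgf
  obtain ⟨n, hn1, hn2, hn3⟩ := h.exists_nW1 hπ
  obtain ⟨b, hb1, u, hu, e⟩ := hb n hn1 hn2 hn3
  set K := Subgroup.normalizer (Φ.US F (Φ.Out (S.J a)) : Set (GL D.Idx F))
  have hU : ∀ y, y ∈ Φ.US F Φ.toTables.Pos → y ∈ K := by
    intro y hy
    induction hy using Subgroup.closure_induction with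
    | mem z hz =>
      obtain ⟨r, t, hr, rfl⟩ := hz
      by_cases hs : Φ.Sub (S.J a) r
      · exact Φ.xg_mem_normalizer_out hs t
      · exact Subgroup.le_normalizer (Φ.xg_mem_US (Φ.out_iff_pos_and_not_sub.mpr ⟨hr, hs⟩) t)
    | one => exact one_mem _
    | mul y z _ _ h1 h2 => exact mul_mem h1 h2
    | inv y _ h1 => exact Subgroup.inv_mem _ h1
  have hBK : ∀ y ∈ D.borelSubgroup F, y ∈ K := by
    intro y hy
    obtain ⟨v, hv, z, hz, rfl⟩ := Φ.mem_B_iff.mp hy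
    rw [Φ.posUnipotent_eq_US] at hv
    exact mul_mem (hU v hv) (Φ.H_le_normalizer_US _ hz)
  have hgK : g ∈ K := by
    have hle : Φ.US F (fun r => Φ.Sub (S.J a) r) ≤ K := by
      rw [US, Subgroup.closure_le]
      rintro _ ⟨r, t, hr, rfl⟩
      exact Φ.xg_mem_normalizer_out hr t
    exact hle (Φ.map_US_le (h.sn_mono a) (fun r hr => (S.sub_w r).mpr hr.2) x hx.1)
  have hnK : n ∈ K := by
    have : n = b⁻¹ * g * u⁻¹ := by rw [e]; group
    rw [this]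
    exact mul_mem (mul_mem (Subgroup.inv_mem _ (hBK b hb1.1)) hgK) (Subgroup.inv_mem _ (hBK u (Φ.inv_le_B π hu.1)))
  have hout : ∀ r, Φ.Out (S.J a) r → Φ.Out (S.J a) (π r) := by
    intro r hr
    obtain ⟨c, hc, h1, -⟩ := hn3.1 r
    have := (Subgroup.mem_normalizer_iff.mp hnK (Φ.toAlg.xg r 1)).mp (Φ.xg_mem_US hr 1)
    rw [h1] at this
    exact Φ.mem_of_xg_mem (fun r hr => Out.pos Φ hr) (Φ.closed_out _) this (by simpa using hc)
  have hinv : ∀ r, Φ.Inv π r → S.PJ a r := fun r hr => ⟨hr.1, by_contra fun hs =>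
    hr.2 (Out.pos Φ (hout r (Φ.out_iff_pos_and_not_sub.mpr ⟨hr.1, hs⟩)))⟩
  have h1 : π ≠ 1 := by
    rintro rfl
    refine h.conj_root_not_mem_B a hx.1 hne ?_
    rw [← hs, ← hg, e]
    exact mul_mem (mul_mem hb1.1 (Subgroup.mem_sup_right ((Φ.mem_H_iff_mono_one hn2).mpr hn3)))
      (Φ.inv_le_B 1 hu.1)
  obtain ⟨a', ha'⟩ := S.exists_descent hπ h1
  obtain ⟨i, hi⟩ := S.nonempty a'
  have hia : i ∈ S.J a := Φ.sub_p.mp (hinv _ (ha' _ (S.p_mem_PJ hi))).2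
  obtain rfl := S.disj a' a i hi hia
  have hπw : π = S.w a' := by
    have h2 : π * S.w a' = 1 := by
      refine Φ.W_eq_one_of_pos (mul_mem (S.mem_W1.mp hπ).1 (S.w_mem_W a')) fun r hr => ?_
      by_contra hc
      have h3 := (S.inv_mul_w (S.mem_W1.mp hπ).1 ha' r).mp ⟨hr, hc⟩
      exact (Φ.out_iff_pos_and_not_sub.mp h3.1).2 ((S.sub_w r).mp (hinv _ h3.2).2)
    rw [mul_eq_one_iff_eq_inv, S.w_inv] at h2
    exact h2
  subst hπw
  obtain ⟨b', hb', u', hu', e'⟩ := hb s (h.sn a').2 (h.sn_N a') (h.sn_mono a')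
  exact ⟨b', hb', u', ⟨Φ.US_mono (F := F) (fun r hr => (S.inv_w a' r).mp hr) hu'.1, hu'.2⟩, e'⟩

variable (G1) in
/-- The Borel subgroup of the twisted group. -/
def B1 : Subgroup G1 := (D.borelSubgroup F ⊓ G1).subgroupOf G1

variable (G1) in
/-- The monomial subgroup of the twisted group. -/
def N1 : Subgroup G1 := (D.monomialSubgroup F ⊓ G1).subgroupOf G1

theorem mem_B1 {x : G1} : x ∈ B1 G1 ↔ (x : GL D.Idx F) ∈ D.borelSubgroup F := by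
  simp [B1, Subgroup.mem_subgroupOf]

theorem mem_N1 {x : G1} : x ∈ N1 G1 ↔ (x : GL D.Idx F) ∈ D.monomialSubgroup F := by
  simp [N1, Subgroup.mem_subgroupOf]

theorem root_conj_mem {x n : G1} {a : Fin S.m} {π : Equiv.Perm (Fin D.nroots)}
    (hn : (n : GL D.Idx F) ∈ D.monomialSubgroup F) (hm : Φ.Mono (n : GL D.Idx F) π)
    (hx : (x : GL D.Idx F) ∈ Φ.US F (S.PJ a)) (hp : ∀ r, S.PJ a r → Φ.toTables.Pos (π⁻¹ r)) :
    n⁻¹ * x * n ∈ B1 G1 := by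
  rw [mem_B1]
  have := Φ.map_US_le (mono_inv hn hm) (T := Φ.toTables.Pos) hp _ hx
  rw [inv_inv, ← Φ.posUnipotent_eq_US] at this
  exact Subgroup.mem_sup_left (by simpa using this)

theorem Gen.cell_step (h : T.Gen G1) (a : Fin S.m) {x n : G1}
    (hn : (n : GL D.Idx F) ∈ D.monomialSubgroup F) (hx : (x : GL D.Idx F) ∈ Φ.US F (S.PJ a)) :
    h.sn a * x * n ∈ DoubleCoset.doubleCoset (h.sn a * n) (B1 G1 : Set G1) (B1 G1) ∪
      DoubleCoset.doubleCoset n (B1 G1 : Set G1) (B1 G1) := by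
  obtain ⟨π, hπW, hm, -⟩ := Φ.exists_monoW hn
  have hπ : π ∈ S.W1 := T.perm_mem_W1 hn (h.le_fix n.2) hm
  by_cases hpos : ∀ r, S.PJ a r → Φ.toTables.Pos (π⁻¹ r)
  · refine Or.inl (DoubleCoset.mem_doubleCoset.mpr ⟨1, one_mem _, _, root_conj_mem hn hm hx hpos, ?_⟩)
    group
  by_cases hne : x = 1
  · exact Or.inl (DoubleCoset.mem_doubleCoset.mpr ⟨1, one_mem _, 1, one_mem _, by simp [hne]⟩)
  obtain ⟨r, hr, hr'⟩ := not_forall.mp hpos |>.imp fun r hr => (Classical.not_imp.mp hr)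
  obtain ⟨i, hi, hi'⟩ : ∃ i ∈ S.J a, ¬ Φ.toTables.Pos (π⁻¹ (Φ.p i)) := by
    by_contra hc
    push Not at hc
    exact hr' (Φ.pos_of_comb_supp (Subgroup.inv_mem _ hπW) hr.1 fun k hk => hc k (by_contra fun e => hk (hr.2 k e)))
  have hpos' : ∀ r, S.PJ a r → Φ.toTables.Pos ((S.w a * π)⁻¹ r) := by
    intro r hr
    rw [_root_.mul_inv_rev, S.w_inv, Equiv.Perm.mul_apply]
    have h1 : S.PJ a (S.w a r).rev :=
      ⟨(Φ.pos_rev_iff _).mpr (S.w_neg a r hr.1 hr.2), by rw [Φ.sub_rev, S.sub_w]; exact hr.2⟩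
    have h2 := S.neg_all_of_neg (Subgroup.inv_mem _ hπ) hi hi' h1
    rw [Φ.W_rev (Subgroup.inv_mem _ hπW), Φ.pos_rev_iff, not_not] at h2
    exact h2
  obtain ⟨b, hb, u, hu, e⟩ := h.rank_one a (x := x) ⟨hx, h.le_fix x.2⟩ (fun e => hne (Subtype.ext e))
  let b' : G1 := ⟨b, h.mem_B hb.1 hb.2⟩
  let u' : G1 := ⟨u, h.root_le a hu⟩
  have hmc := root_conj_mem (x := u') (n := h.sn a * n) (mul_mem (h.sn_N a) hn)
    (Mono.mul Φ (h.sn_mono a) hm) hu.1 hpos'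
  refine Or.inr (DoubleCoset.mem_doubleCoset.mpr ⟨b' * (h.sn a * h.sn a), ?_, _, hmc, ?_⟩)
  · exact mul_mem (mem_B1.mpr hb.1) (mem_B1.mpr (Subgroup.mem_sup_right (h.sn_sq a)))
  · have e' : h.sn a * x * (h.sn a)⁻¹ = b' * h.sn a * u' := Subtype.ext e
    rw [show h.sn a * x * n = h.sn a * x * (h.sn a)⁻¹ * (h.sn a * n) by group, e']
    group

/-- The (B,N)-pair of the twisted group. -/
noncomputable def Gen.bnPair (h : T.Gen G1) (hne : ∀ a, ∃ x ∈ Φ.US F (S.PJ a) ⊓ T.fix, x ≠ 1) :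
    Cfsg.BNPair ↥G1 where
  B := B1 G1
  N := N1 G1
  S := Set.range h.sn
  sup_eq_top := by
    refine eq_top_iff.mpr fun g _ => ?_
    obtain ⟨π, hπ, hb⟩ := h.bruhat (h.le_fix g.2)
    obtain ⟨n, hn1, hn2, hn3⟩ := h.exists_nW1 hπ
    obtain ⟨b, hb1, u, hu, e⟩ := hb n hn1 hn2 hn3
    have huB := Φ.inv_le_B π hu.1
    have : g = ⟨b, h.mem_B hb1.1 hb1.2⟩ * ⟨n, hn1⟩ * ⟨u, h.mem_B huB hu.2⟩ := Subtype.ext e
    rw [this]
    exact mul_mem (mul_mem (Subgroup.mem_sup_left (mem_B1.mpr hb1.1)) (Subgroup.mem_sup_right (mem_N1.mpr hn2)))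
      (Subgroup.mem_sup_left (mem_B1.mpr huB))
  conj_mem := by
    rintro n hn t ⟨ht1, ht2⟩
    have ht : (t : GL D.Idx F) ∈ D.diagonalSubgroup F := by
      rw [← Φ.B_inf_N]; exact ⟨mem_B1.mp ht1, mem_N1.mp ht2⟩
    rw [mem_B1]
    exact Subgroup.mem_sup_right ((Subgroup.mem_normalizer_iff.mp (Φ.N_le_normalizer_H (mem_N1.mp hn)) _).mp ht)
  subset := by rintro _ ⟨a, rfl⟩; exact mem_N1.mpr (h.sn_N a)
  sq_mem := by rintro _ ⟨a, rfl⟩; exact mem_B1.mpr (Subgroup.mem_sup_right (h.sn_sq a))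
  inj := by
    rintro _ ⟨a, rfl⟩ _ ⟨b, rfl⟩ hab
    have hN : (h.sn a : GL D.Idx F)⁻¹ * h.sn b ∈ D.monomialSubgroup F :=
      mul_mem (Subgroup.inv_mem _ (h.sn_N a)) (h.sn_N b)
    have hH : (h.sn a : GL D.Idx F)⁻¹ * h.sn b ∈ D.diagonalSubgroup F := by
      rw [← Φ.B_inf_N]; exact ⟨mem_B1.mp hab, hN⟩
    have h1 := Mono.mul Φ (h.sn_mono a) ((Φ.mem_H_iff_mono_one hN).mp hH)
    rw [mul_inv_cancel_left, mul_one] at h1
    have e := Mono.unique Φ h1 (h.sn_mono b)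
    obtain ⟨i, hi⟩ := S.nonempty a
    have h2 := (S.inv_w a _).mpr (S.p_mem_PJ hi)
    rw [e, S.inv_w] at h2
    rw [S.disj a b i hi (Φ.sub_p.mp h2.2)]
  closure_sup := by
    refine le_antisymm (sup_le ((Subgroup.closure_le _).mpr ?_) inf_le_right) fun g hg => ?_
    · rintro _ ⟨a, rfl⟩; exact mem_N1.mpr (h.sn_N a)
    obtain ⟨π, -, hm, -⟩ := Φ.exists_monoW (mem_N1.mp hg)
    have hπ := T.perm_mem_W1 (mem_N1.mp hg) (h.le_fix g.2) hm
    obtain ⟨m, hm1, hm2⟩ : ∃ m ∈ Subgroup.closure (Set.range h.sn),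
        (m : GL D.Idx F) ∈ D.monomialSubgroup F ∧ Φ.Mono (m : GL D.Idx F) π := by
      refine S.W1_induction (Q := fun π => ∃ m ∈ Subgroup.closure (Set.range h.sn),
        (m : GL D.Idx F) ∈ D.monomialSubgroup F ∧ Φ.Mono (m : GL D.Idx F) π)
        ⟨1, one_mem _, one_mem _, Mono.one Φ⟩ (fun π _ a _ ih => ?_) hπ
      obtain ⟨m, hm1, hm2, hm3⟩ := ih
      refine ⟨m * h.sn a, mul_mem hm1 (Subgroup.subset_closure ⟨a, rfl⟩), mul_mem hm2 (h.sn_N a), ?_⟩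
      have := Mono.mul Φ hm3 (h.sn_mono a)
      rwa [mul_assoc, S.w_w, mul_one] at this
    have hH : g * m⁻¹ ∈ B1 G1 ⊓ N1 G1 := ⟨mem_B1.mpr (Subgroup.mem_sup_right
      (mul_inv_mem_H (mem_N1.mp hg) hm2.1 hm hm2.2)), Subgroup.mul_mem _ hg (Subgroup.inv_mem _ (mem_N1.mpr hm2.1))⟩
    rw [show g = g * m⁻¹ * m by group]
    exact mul_mem (Subgroup.mem_sup_right hH) (Subgroup.mem_sup_left hm1)
  mul_mem_union := by
    rintro _ ⟨a, rfl⟩ n hn b hb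
    have hn' := mem_N1.mp hn
    obtain ⟨v, hv, x₀, hx₀, ev⟩ := T.B_mem (mem_B1.mp hb) (h.le_fix b.2)
    obtain ⟨y, hy, x, hx, rfl⟩ := h.split_U a hv
    have hyB : y ∈ D.borelSubgroup F := by
      refine Subgroup.mem_sup_left ?_
      rw [Φ.posUnipotent_eq_US]; exact Φ.US_mono (fun r hr => Out.pos Φ hr) hy.1
    let y' : G1 := ⟨y, h.mem_B hyB hy.2⟩
    let x' : G1 := ⟨x, h.root_le a hx⟩
    let z : G1 := ⟨x₀, h.H_le hx₀⟩
    have eb : b = y' * x' * z := Subtype.ext ev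
    have hc1 : h.sn a * y' * (h.sn a)⁻¹ ∈ B1 G1 := by
      rw [mem_B1]
      refine Subgroup.mem_sup_left ?_
      rw [Φ.posUnipotent_eq_US]
      exact Φ.map_US_le (h.sn_mono a) (fun r hr => Out.pos Φ ((S.out_w (S.w_mem a) r).mpr hr)) y hy.1
    have hc2 : n⁻¹ * z * n ∈ B1 G1 := by
      rw [mem_B1]
      exact Subgroup.mem_sup_right (by
        simpa using (Subgroup.mem_normalizer_iff.mp (Φ.N_le_normalizer_H (Subgroup.inv_mem _ hn')) _).mp hx₀.1)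
    have key : h.sn a * b * n = (h.sn a * y' * (h.sn a)⁻¹) * (h.sn a * x' * n) * (n⁻¹ * z * n) := by
      rw [eb]; group
    rcases h.cell_step a (x := x') hn' hx.1 with hc | hc <;>
      obtain ⟨b1, hb1, b2, hb2, e⟩ := DoubleCoset.mem_doubleCoset.mp hc
    on_goal 1 => refine Or.inl ?_
    on_goal 2 => refine Or.inr ?_
    all_goals
      exact DoubleCoset.mem_doubleCoset.mpr ⟨_, mul_mem hc1 hb1, _, mul_mem hb2 hc2,
        by rw [key, e]; simp only [mul_assoc]⟩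
  conj_ne := by
    rintro _ ⟨a, rfl⟩ hEq
    obtain ⟨x, hx, hne⟩ := hne a
    have hxB : (⟨x, h.root_le a hx⟩ : G1) ∈ B1 G1 := by
      rw [mem_B1]
      refine Subgroup.mem_sup_left ?_
      rw [Φ.posUnipotent_eq_US]; exact Φ.US_mono (fun r hr => hr.1) hx.1
    have h1 : h.sn a * ⟨x, h.root_le a hx⟩ * h.sn a ∈ B1 G1 := by
      rw [← SetLike.mem_coe, ← hEq]; exact ⟨_, hxB, rfl⟩
    refine h.conj_root_not_mem_B a hx.1 hne ?_
    have h2 := mul_mem (mem_B1.mp h1) (Subgroup.inv_mem _ (Subgroup.mem_sup_right (h.sn_sq a)))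
    convert h2 using 1
    simp only [Subgroup.coe_mul]
    group

end Tw

end Chev

end CfsgLib.Chev
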