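/-
Orders in a twisted group.
-/
import Cfsg.Agent.Lib.Chev.Twist.BN

namespace CfsgLib.Chev

open Cfsg.Lie Matrix

set_option linter.dupNamespace false
set_option linter.unusedSectionVars false

variable {D : ChevalleyDatum}

namespace Chev

variable {Φ : Chev D}

namespace Tw

variable {S : Φ.Sym} {F : Type*} [Field F] [Finite F] {T : Tw S F} {G1 : Subgroup (GL D.Idx F)}

theorem Gen.card_Uinv (h : T.Gen G1) (q d : ℕ)
    (hroot : ∀ a, Nat.card ↥(Φ.US F (S.PJ a) ⊓ T.fix) ^ d = q ^ S.len (S.w a))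
    {π : Equiv.Perm (Fin D.nroots)} (hπ : π ∈ S.W1) : Nat.card (T.Uinv π) ^ d = q ^ S.len π := by
  classical
  refine S.W1_induction (Q := fun π => Nat.card (T.Uinv π) ^ d = q ^ S.len π) ?_ (fun π hπ a hd ih => ?_) hπ
  · have h0 : ∀ r, ¬ Φ.Inv 1 r := fun r hr => hr.2 hr.1
    have hbot : T.Uinv 1 = ⊥ := by
      have : Φ.US F (Φ.Inv 1) = ⊥ := by
        rw [US, eq_bot_iff, Subgroup.closure_le]
        rintro _ ⟨r, t, hr, -⟩
        exact absurd hr (h0 r)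
      rw [Uinv, this, bot_inf_eq]
    have hlen : S.len 1 = 0 := by simp [Sym.len, h0]
    simp [hbot, hlen]
  · have hW := (S.mem_W1.mp hπ).1
    obtain ⟨n, hn1, hn2, hn3, hn4, hsp⟩ := h.split hW hd hπ
    have hnf := h.le_fix hn1
    have hmemx : ∀ x ∈ Φ.US F (S.PJ a) ⊓ T.fix, x ∈ T.Uinv π := fun x hx =>
      Subgroup.mem_inf.mpr ⟨(Φ.US_mono (F := F) (fun r hr => hd r hr)) hx.1, hx.2⟩
    have hmemy : ∀ y ∈ T.Uinv (π * S.w a), n * y * n⁻¹ ∈ T.Uinv π := fun y hy =>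
      Subgroup.mem_inf.mpr ⟨Φ.map_US_le hn3 (T := Φ.Inv π)
        (fun r hr => (S.inv_split hW hd _).mpr (Or.inr (by rwa [S.w_w_apply]))) y hy.1,
        mul_mem (mul_mem hnf hy.2) (Subgroup.inv_mem _ hnf)⟩
    have e : Nat.card (T.Uinv π) =
        Nat.card ↥(Φ.US F (S.PJ a) ⊓ T.fix) * Nat.card (T.Uinv (π * S.w a)) := by
      rw [← Nat.card_prod]
      symm
      refine Nat.card_congr (Equiv.ofBijective
        (fun p : ↥(Φ.US F (S.PJ a) ⊓ T.fix) × T.Uinv (π * S.w a) =>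
          (⟨(p.1 : GL D.Idx F) * (n * p.2 * n⁻¹), mul_mem (hmemx _ p.1.2) (hmemy _ p.2.2)⟩ : T.Uinv π)) ⟨?_, ?_⟩)
      · rintro ⟨⟨x, hx⟩, ⟨y, hy⟩⟩ ⟨⟨x', hx'⟩, ⟨y', hy'⟩⟩ ee
        have e' : x * (n * y * n⁻¹) = x' * (n * y' * n⁻¹) := congrArg Subtype.val ee
        let T2 : Fin D.nroots → Prop := fun r => Φ.Inv π r ∧ Φ.Out (S.J a) r
        have hT2 : ∀ z ∈ T.Uinv (π * S.w a), n * z * n⁻¹ ∈ Φ.US F T2 := fun z hz =>
          Φ.map_US_le hn3 (T := T2) (fun r hr => by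
            have h2 := (S.inv_mul_w hW hd r).mp hr
            exact ⟨h2.2, (S.out_w (S.w_mem a) r).mpr h2.1⟩) z hz.1
        obtain ⟨rfl, e2⟩ := Φ.US_split_unique (T := S.PJ a) (U := T2) (fun r hr => hr.1) (fun r hr => hr.1.1)
          (S.closed_PJ a) (Closed.and Φ (Φ.closed_inv hW) (Φ.closed_out _))
          (fun r hr (hr' : T2 r) => (Φ.out_iff_pos_and_not_sub.mp hr'.2).2 hr.2)
          hx.1 hx'.1 (hT2 y hy) (hT2 y' hy') e'
        obtain rfl : y = y' := mul_left_cancel (mul_right_cancel e2)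
        rfl
      · rintro ⟨u, hu⟩
        obtain ⟨x, hx, y, hy, rfl⟩ := hsp u hu
        exact ⟨⟨⟨x, hx⟩, ⟨y, hy⟩⟩, rfl⟩
    rw [e, mul_pow, hroot, ih, ← pow_add, ← S.len_split hW hd]

theorem Gen.card_U (h : T.Gen G1) (q d : ℕ)
    (hroot : ∀ a, Nat.card ↥(Φ.US F (S.PJ a) ⊓ T.fix) ^ d = q ^ S.len (S.w a)) :
    Nat.card ↥(D.posUnipotent F ⊓ T.fix) ^ d = q ^ (D.nroots / 2) := by
  classical
  obtain ⟨π, hπ, hi⟩ := S.exists_longest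
  have e : Φ.Inv π = Φ.toTables.Pos := funext fun r => propext (hi r)
  have hlen : S.len π = D.nroots / 2 := by
    rw [Sym.len, ← Φ.card_pos, Nat.card_eq_fintype_card, Fintype.card_subtype]
    congr 1
    exact Finset.filter_congr fun r _ => hi r
  have := h.card_Uinv q d hroot hπ
  rwa [Uinv, e, ← Φ.posUnipotent_eq_US, hlen] at this

theorem card_B1 (T : Tw S F) : Nat.card ↥(D.borelSubgroup F ⊓ T.fix) =
    Nat.card ↥(D.posUnipotent F ⊓ T.fix) * Nat.card ↥(D.diagonalSubgroup F ⊓ T.fix) := by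
  rw [← Nat.card_prod]
  symm
  refine Nat.card_congr (Equiv.ofBijective
    (fun p : ↥(D.posUnipotent F ⊓ T.fix) × ↥(D.diagonalSubgroup F ⊓ T.fix) =>
      (⟨(p.1 : GL D.Idx F) * p.2, Subgroup.mem_inf.mpr
        ⟨mul_mem (Subgroup.mem_sup_left p.1.2.1) (Subgroup.mem_sup_right p.2.2.1),
          mul_mem p.1.2.2 p.2.2.2⟩⟩ : ↥(D.borelSubgroup F ⊓ T.fix))) ⟨?_, ?_⟩)
  · rintro ⟨⟨u, hu⟩, ⟨x, hx⟩⟩ ⟨⟨u', hu'⟩, ⟨x', hx'⟩⟩ ee
    have e' : u * x = u' * x' := congrArg Subtype.val ee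
    have h1 : u'⁻¹ * u = x' * x⁻¹ := by
      rw [show u = u' * x' * x⁻¹ by rw [← e']; group]; group
    have h2 := Φ.eq_one_of_mem_U_of_mem_N (mul_mem (Subgroup.inv_mem _ hu'.1) hu.1)
      (h1 ▸ H_le_N (mul_mem hx'.1 (Subgroup.inv_mem _ hx.1)))
    obtain rfl : u' = u := inv_mul_eq_one.mp h2
    obtain rfl : x = x' := mul_left_cancel e'
    rfl
  · rintro ⟨g, hg⟩
    obtain ⟨u, hu, x, hx, rfl⟩ := T.B_mem hg.1 hg.2
    exact ⟨⟨⟨u, hu⟩, ⟨x, hx⟩⟩, rfl⟩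

theorem Gen.card_eq (h : T.Gen G1) [Fintype S.W1] :
    Nat.card G1 = Nat.card ↥(D.borelSubgroup F ⊓ T.fix) * ∑ π : S.W1, Nat.card (T.Uinv π.1) := by
  classical
  choose rep hrep hrepN hrepM using fun π : S.W1 => h.exists_nW1 π.2
  have hbij : Function.Bijective (fun x : Σ π : S.W1, ↥(D.borelSubgroup F ⊓ T.fix) × T.Uinv π.1 =>
      (⟨(x.2.1 : GL D.Idx F) * rep x.1 * x.2.2, mul_mem (mul_mem (h.mem_B x.2.1.2.1 x.2.1.2.2) (hrep x.1))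
        (h.mem_B (Φ.inv_le_B _ x.2.2.2.1) x.2.2.2.2)⟩ : G1)) := by
    constructor
    · rintro ⟨π, ⟨b, hb⟩, ⟨u, hu⟩⟩ ⟨π', ⟨b', hb'⟩, ⟨u', hu'⟩⟩ e
      have e' : b * rep π * u = b' * rep π' * u' := congrArg Subtype.val e
      have hH := Φ.cls_eq_of_normal_form (hrepN π) (hrepN π') hb.1 hb'.1 (Φ.inv_le_B _ hu.1)
        (Φ.inv_le_B _ hu'.1) e'
      have h1 := Mono.mul Φ (hrepM π) ((Φ.mem_H_iff_mono_one (H_le_N hH)).mp hH)
      rw [mul_inv_cancel_left, mul_one] at h1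
      obtain rfl : π = π' := Subtype.ext (Mono.unique Φ h1 (hrepM π'))
      obtain ⟨rfl, rfl⟩ := Φ.nf_unique (hrepM π) hb.1 hb'.1 hu.1 hu'.1 e'
      rfl
    · rintro ⟨g, hg⟩
      obtain ⟨π, hπ, hb⟩ := h.bruhat (h.le_fix hg)
      obtain ⟨b, hb1, u, hu, e⟩ := hb (rep ⟨π, hπ⟩) (hrep _) (hrepN _) (hrepM _)
      exact ⟨⟨⟨π, hπ⟩, ⟨b, hb1⟩, ⟨u, hu⟩⟩, Subtype.ext e.symm⟩
  rw [← Nat.card_congr (Equiv.ofBijective _ hbij), Nat.card_sigma, Finset.mul_sum]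
  exact Finset.sum_congr rfl fun π _ => Nat.card_prod _ _

end Tw

end Chev

end CfsgLib.Chev
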