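/-
Twisted endomorphisms: a map given by tables followed by a field automorphism.
-/
import Cfsg.Agent.Lib.Chev.Twist.Count
import Cfsg.Agent.Lib.Chev.Twist.Cert
import Cfsg.Agent.Lib.Chev.MorphData
import Cfsg.Agent.Lib.Chev.PerfectData

namespace CfsgLib.Chev

open Cfsg.Lie Matrix

set_option linter.dupNamespace false
set_option linter.unusedSectionVars false

variable {D : ChevalleyDatum}

namespace Chev

variable {Φ : Chev D} {F : Type*} [Field F]

theorem map_xg (f : F →+* F) (r : Fin D.nroots) (t : F) :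
    Units.map f.mapMatrix.toMonoidHom (Φ.toAlg.xg r t) = Φ.toAlg.xg r (f t) :=
  Units.ext (Φ.toSys.X_map f r t)

/-- A field endomorphism acting on the Chevalley group. -/
noncomputable def fieldHom (Φ : Chev D) (f : F →+* F) : ↥(D.group F) →* ↥(D.group F) :=
  ((Units.map f.mapMatrix.toMonoidHom).comp (D.group F).subtype).codRestrict (D.group F) fun g => by
    have : ∀ x ∈ D.group F, Units.map f.mapMatrix.toMonoidHom x ∈ D.group F := by
      intro x hx
      rw [Φ.toAlg.group_eq] at hx
      induction hx using Subgroup.closure_induction with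
      | mem y hy =>
        obtain ⟨r, t, rfl⟩ := hy
        rw [map_xg]; exact Φ.toAlg.xg_mem_group _ _
      | one => rw [map_one]; exact one_mem _
      | mul a b _ _ ha hb => rw [map_mul]; exact mul_mem ha hb
      | inv a _ ha => rw [map_inv]; exact inv_mem ha
    exact this _ g.2

/-- The twisted endomorphism of tables and a field endomorphism `t ↦ t ^ n`. -/
noncomputable def SymOK.tw {T : SymData} {p p' : ℕ} (h : SymOK (D := D) T p) (hadj : Φ.Adj)
    (hF : MorOK F p') (hp : T.mor.check D p' = true) (f : F →+* F) (n : ℕ) (hf : ∀ x, f x = x ^ n) :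
    Tw (h.sym Φ) F where
  k r := T.mor.l r.val * n
  ε r := T.mor.e r.val
  s := (fieldHom Φ f).comp (Φ.exists_mor hadj hF hp).choose
  s_xg r t := by
    have h1 := (Φ.exists_mor hadj hF hp).choose_spec.2 r t ⟨_, Φ.toAlg.xg_mem_group r t⟩ rfl
    show Units.map f.mapMatrix.toMonoidHom ((Φ.exists_mor hadj hF hp).choose ⟨_, Φ.toAlg.xg_mem_group r t⟩ :
      GL D.Idx F) = _
    rw [h1, map_xg, map_mul, map_intCast, hf (t ^ _), ← pow_mul]
    rfl
  k_prev i := by
    have e := (check_root hp (Φ.p i).isLt).2.2.2.2.1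
    rw [show D.neg (Φ.p i).val = (Φ.p i).rev.val from Φ.negIdx_eq (Φ.p i)] at e
    rw [e]
  ε_p i := by rw [← Φ.simple_val]; exact (h.simple' i).2.2.2.2.2
  ε_prev i := by
    have e := (check_root hp (Φ.p i).isLt).2.2.2.2.2.1
    rw [show D.neg (Φ.p i).val = (Φ.p i).rev.val from Φ.negIdx_eq (Φ.p i)] at e
    rw [e, ← Φ.simple_val]; exact (h.simple' i).2.2.2.2.2
  neg_pow i t := by
    have e := (lam_facts (F := F) hF hp (Φ.p i).isLt).2.1 t
    rw [pow_mul, pow_mul, e, ← hf, ← hf, map_neg]

end Chev

end CfsgLib.Chev
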