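/-
Orbits whose roots commute, and facts on torus parameters.
-/
import Cfsg.Agent.Lib.Chev.Twist.Field

namespace CfsgLib.Chev

open Cfsg.Lie Matrix

set_option linter.dupNamespace false
set_option linter.unusedSectionVars false

variable {D : ChevalleyDatum}

namespace Chev

variable {Φ : Chev D} {F : Type*} [Field F]

/-- The parameters of a fixed element of an orbit with commuting roots. -/
def Tw.FixParam {S : Φ.Sym} (T : Tw S F) (a : Fin S.m) (t : Fin D.nroots → F) : Prop :=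
  ∀ r, S.PJ a r → t (S.ρ r) = (T.ε r : F) * t r ^ T.k r

variable {S : Φ.Sym} (T : Tw S F)

open Classical in
theorem Tw.app_prodL_comm (a : Fin S.m)
    (hc : ∀ r s, S.PJ a r → S.PJ a s → Φ.N r s = 0) (t : Fin D.nroots → F) :
    T.app (Φ.prodL (rootList (S.PJ a)) t) = Φ.prodL (rootList (S.PJ a))
      (fun r => (T.ε (S.ρ.symm r) : F) * t (S.ρ.symm r) ^ T.k (S.ρ.symm r)) := by
  rw [prodL, T.app_list_prod (fun x hx => by
    obtain ⟨r, -, rfl⟩ := List.mem_map.mp hx; exact Φ.toAlg.xg_mem_group _ _), List.map_map]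
  set L := rootList (S.PJ a)
  have e1 : L.map (T.app ∘ fun r => Φ.toAlg.xg r (t r)) =
      (L.map S.ρ).map fun r => Φ.toAlg.xg r ((T.ε (S.ρ.symm r) : F) * t (S.ρ.symm r) ^ T.k (S.ρ.symm r)) := by
    rw [List.map_map]
    exact List.map_congr_left fun r _ => by simp only [Function.comp_apply, T.app_xg, Equiv.symm_apply_apply]
  have hperm : (L.map S.ρ).Perm L := by
    refine (List.perm_ext_iff_of_nodup ((pairwise_rootList _).nodup.map S.ρ.injective)
      (pairwise_rootList _).nodup).mpr fun x => ?_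
    rw [List.mem_map]
    constructor
    · rintro ⟨r, hr, rfl⟩
      exact mem_rootList.mpr ((S.PJ_ρ r).mpr (mem_rootList.mp hr))
    · intro hx
      refine ⟨S.ρ.symm x, mem_rootList.mpr ?_, S.ρ.apply_symm_apply x⟩
      rw [← S.PJ_ρ, Equiv.apply_symm_apply]
      exact mem_rootList.mp hx
  rw [e1, prodL]
  refine (hperm.map _).prod_eq' ?_
  rw [List.pairwise_map]
  refine (List.pairwise_map.mpr ((pairwise_rootList _).imp_of_mem (fun {r s} hr hs hlt => ?_)))
  have h1 := (S.PJ_ρ r).mpr (mem_rootList.mp hr)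
  have h2 := (S.PJ_ρ s).mpr (mem_rootList.mp hs)
  refine Φ.toAlg.xg_commute (fun e => ?_) (hc _ _ h1 h2) _ _
  have := h2.1
  rw [e, Φ.pos_rev_iff] at this
  exact this h1.1

open Classical in
theorem Tw.mem_root_fix_iff (a : Fin S.m)
    (hc : ∀ r s, S.PJ a r → S.PJ a s → Φ.N r s = 0) {g : GL D.Idx F} :
    g ∈ Φ.US F (S.PJ a) ⊓ T.fix ↔ ∃ t, T.FixParam a t ∧ g = Φ.prodL (rootList (S.PJ a)) t := by
  constructor
  · rintro ⟨hg, -, hf⟩
    obtain ⟨t, rfl⟩ := (Φ.mem_US_iff (fun r hr => hr.1) (S.closed_PJ a)).mp hg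
    refine ⟨t, fun r hr => ?_, rfl⟩
    rw [T.app_prodL_comm a hc] at hf
    have := Φ.prodL_injective (pairwise_rootList _) (fun r hr => (mem_rootList.mp hr).1) hf (S.ρ r)
      (mem_rootList.mpr ((S.PJ_ρ r).mpr hr))
    simpa using this.symm
  · rintro ⟨t, ht, rfl⟩
    have hm : Φ.prodL (rootList (S.PJ a)) t ∈ Φ.US F (S.PJ a) :=
      (Φ.mem_US_iff (fun r hr => hr.1) (S.closed_PJ a)).mpr ⟨t, rfl⟩
    refine Subgroup.mem_inf.mpr ⟨hm, Φ.US_le_group _ hm, ?_⟩
    rw [T.app_prodL_comm a hc, prodL, prodL]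
    congr 1
    refine List.map_congr_left fun r hr => ?_
    have h1 : S.PJ a (S.ρ.symm r) := by
      rw [← S.PJ_ρ, Equiv.apply_symm_apply]; exact mem_rootList.mp hr
    congr 1
    have := ht _ h1
    rw [Equiv.apply_symm_apply] at this
    exact this.symm

/-- A kernel element of the torus map has bounded exponent. -/
theorem pow_det_of_coHom {d : ℕ} (B : Matrix (Fin D.rank) (Fin D.rank) ℤ)
    (hB : ∀ k l, ∑ j, Φ.A k (Φ.p j) * B j l = if k = l then (d : ℤ) else 0)
    {z : Fin D.rank → Fˣ} (hz : Tw.tor (Φ := Φ) z = 1) (l : Fin D.rank) : z l ^ d = 1 := by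
  have h : Φ.coHom F z = 1 := Φ.torus_injective (by rw [map_one]; exact hz)
  have h1 : ∏ j, (∏ k, z k ^ Φ.A k (Φ.p j)) ^ B j l = (1 : Fˣ) := by
    refine Finset.prod_eq_one fun j _ => ?_
    rw [show ∏ k, z k ^ Φ.A k (Φ.p j) = 1 from congrFun h j, _root_.one_zpow]
  simp only [← Finset.prod_zpow, ← _root_.zpow_mul] at h1
  rw [Finset.prod_comm] at h1
  have h2 : ∀ k, ∏ j, z k ^ (Φ.A k (Φ.p j) * B j l) = z k ^ (if k = l then (d : ℤ) else 0) := fun k => by
    rw [← hB k l]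
    induction (Finset.univ : Finset (Fin D.rank)) using Finset.induction_on with
    | empty => simp
    | insert j s hj ih => rw [Finset.prod_insert hj, Finset.sum_insert hj, ih, _root_.zpow_add]
  simp only [h2] at h1
  rw [Finset.prod_eq_single l (fun k _ hk => by simp [hk]) (by simp)] at h1
  simpa using h1

/-- Products of three pairs of commuting factors. -/
theorem mul_three {G : Type*} [Group G] {a b c a' b' c' : G} (h1 : Commute a' b) (h2 : Commute a' c)
    (h3 : Commute b' c) : (a * a') * (b * b') * (c * c') = (a * b * c) * (a' * b' * c') := by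
  simp only [mul_assoc]
  congr 1
  rw [← mul_assoc a' b, h1.eq, mul_assoc]
  congr 1
  rw [← mul_assoc b' c, h3.eq, mul_assoc, ← mul_assoc a' c, h2.eq, mul_assoc]

theorem xg_commute_of (Φ : Chev D) {r s : Fin D.nroots} (h1 : s ≠ r.rev) (h2 : Φ.N r s = 0) (x y : F) :
    Commute (Φ.toAlg.xg r x) (Φ.toAlg.xg s y) :=
  Φ.toAlg.xg_commute h1 h2 x y

/-- Roots with no sum and no difference a root. -/
def Orth (Φ : Chev D) (r s : Fin D.nroots) : Prop :=
  s ≠ r ∧ s ≠ r.rev ∧ Φ.N r s = 0 ∧ Φ.N r s.rev = 0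

theorem nw_pair (Φ : Chev D) {r s : Fin D.nroots} (h : Φ.Orth r s) (t u : Fˣ) :
    (Φ.toAlg.xg r (t : F) * Φ.toAlg.xg s (u : F)) *
        (Φ.toAlg.xg r.rev (-(t : F)⁻¹) * Φ.toAlg.xg s.rev (-(u : F)⁻¹)) *
        (Φ.toAlg.xg r (t : F) * Φ.toAlg.xg s (u : F)) = Φ.nw r t * Φ.nw s u := by
  obtain ⟨h1, h2, h3, h4⟩ := h
  rw [mul_three, nw, nw]
  · refine (Φ.xg_commute_of (r := r.rev) (s := s) (by rwa [Fin.rev_rev]) ?_ _ _).symm
    have := Φ.N_rev r.rev s
    rw [Fin.rev_rev] at this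
    omega
  · exact (Φ.xg_commute_of h2 h3 _ _).symm
  · refine (Φ.xg_commute_of (r := r) (s := s.rev) (fun e => h1 (Fin.rev_injective e)) h4 _ _).symm

end Chev

end CfsgLib.Chev
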