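/-
The kernel of the action on the cosets of B, perfectness and simplicity of twisted groups.
-/
import Cfsg.Agent.Lib.Chev.Twist.Orbit
import Cfsg.Agent.S0319

namespace CfsgLib.Chev

open Cfsg.Lie Matrix
open scoped commutatorElement

set_option linter.dupNamespace false
set_option linter.unusedSectionVars false

variable {D : ChevalleyDatum}

namespace Chev

variable {Φ : Chev D} {S : Φ.Sym} {F : Type*} [Field F] {T : Tw S F} {G1 : Subgroup (GL D.Idx F)}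

open Classical in
/-- Every orbit has a fixed element involving all its fundamental roots. -/
def Tw.Wit (T : Tw S F) : Prop :=
  ∀ a, ∃ t : Fin D.nroots → F, Φ.prodL (rootList (S.PJ a)) t ∈ T.fix ∧ ∀ i ∈ S.J a, t (Φ.p i) ≠ 0

open Classical in
theorem Tw.Wit.ne (hw : T.Wit) (a : Fin S.m) : ∃ x ∈ Φ.US F (S.PJ a) ⊓ T.fix, x ≠ 1 := by
  obtain ⟨t, ht, hne⟩ := hw a
  refine ⟨_, Subgroup.mem_inf.mpr ⟨(Φ.mem_US_iff (fun r hr => hr.1) (S.closed_PJ a)).mpr ⟨t, rfl⟩, ht⟩,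
    fun e => ?_⟩
  obtain ⟨i, hi⟩ := S.nonempty a
  have e0 : Φ.prodL (rootList (S.PJ a)) (fun _ => (0 : F)) = 1 := by
    refine List.prod_eq_one fun x hx => ?_
    obtain ⟨r, -, rfl⟩ := List.mem_map.mp hx
    simp
  exact hne i hi (Φ.prodL_injective (pairwise_rootList _) (fun r hr => (mem_rootList.mp hr).1)
    (e.trans e0.symm) (Φ.p i) (mem_rootList.mpr (S.p_mem_PJ hi)))

theorem Tw.torus_prodL (c : Fin D.rank → Fˣ) (L : List (Fin D.nroots)) (t : Fin D.nroots → F) :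
    Φ.toAlg.torus c * Φ.prodL L t * (Φ.toAlg.torus c)⁻¹ =
      Φ.prodL L fun r => (Φ.toSys.chi c r : F) * t r := by
  rw [prodL, ← MulAut.conj_apply, map_list_prod, List.map_map, prodL]
  congr 1
  refine List.map_congr_left fun r _ => ?_
  rw [Function.comp_apply, MulAut.conj_apply, Φ.toAlg.torus_xg, mul_inv_cancel_right]

theorem Tw.B_inf_conj (h : T.Gen G1) : ∃ n ∈ G1, ∀ x ∈ D.borelSubgroup F,
    n * x * n⁻¹ ∈ D.borelSubgroup F → n * x * n⁻¹ ∈ D.diagonalSubgroup F := by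
  obtain ⟨π, hπ, hi⟩ := S.exists_longest
  obtain ⟨n, hn1, hn2, hn3⟩ := h.exists_nW1 hπ
  refine ⟨n, hn1, fun x hx hc => ?_⟩
  obtain ⟨u, hu, y, hy, rfl⟩ := Φ.mem_B_iff.mp hx
  rw [Φ.posUnipotent_eq_US] at hu
  have h1 : n * u * n⁻¹ ∈ D.negUnipotent F := by
    rw [Φ.negUnipotent_eq_US]
    exact Φ.map_US_le hn3 (T := fun r => ¬ Φ.toTables.Pos r) (fun r hr => ((hi r).mpr hr).2) u hu
  have h2 : n * y * n⁻¹ ∈ D.diagonalSubgroup F :=
    (Subgroup.mem_normalizer_iff.mp (Φ.N_le_normalizer_H hn2) y).mp hy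
  rw [← Φ.B_inf_VH]
  refine Subgroup.mem_inf.mpr ⟨hc, ?_⟩
  rw [show n * (u * y) * n⁻¹ = (n * u * n⁻¹) * (n * y * n⁻¹) by group]
  exact mul_mem (Subgroup.mem_sup_left h1) (Subgroup.mem_sup_right h2)

theorem Tw.normalCore_eq_bot (h : T.Gen G1) (hw : T.Wit) :
    ((D.borelSubgroup F ⊓ G1).subgroupOf G1).normalCore = ⊥ := by
  classical
  set C := ((D.borelSubgroup F ⊓ G1).subgroupOf G1).normalCore with hC
  have hCn : C.Normal := Subgroup.normalCore_normal _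
  have hB : ∀ x ∈ C, (x : GL D.Idx F) ∈ D.borelSubgroup F := fun x hx =>
    (Subgroup.mem_subgroupOf.mp (Subgroup.normalCore_le _ hx)).1
  obtain ⟨n, hn, hnB⟩ := Tw.B_inf_conj h
  have hH : ∀ x ∈ C, (x : GL D.Idx F) ∈ D.diagonalSubgroup F := by
    intro x hx
    have h1 := hCn.conj_mem x hx ⟨n, hn⟩⁻¹
    have h2 := hnB _ (hB _ h1) (by simpa [mul_assoc] using hB x hx)
    simpa [mul_assoc] using h2
  rw [Subgroup.eq_bot_iff_forall]
  intro g hg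
  obtain ⟨c, hc⟩ := Φ.exists_torus_of_mem_H (hH g hg)
  have key : c = 1 := by
    funext i
    obtain ⟨a, hi⟩ := S.cover i
    obtain ⟨t, ht, hne⟩ := hw a
    set x := Φ.prodL (rootList (S.PJ a)) t with hx
    have hxU : x ∈ Φ.US F (S.PJ a) := (Φ.mem_US_iff (fun r hr => hr.1) (S.closed_PJ a)).mpr ⟨t, rfl⟩
    let x' : G1 := ⟨x, h.root_le a (Subgroup.mem_inf.mpr ⟨hxU, ht⟩)⟩
    have hP : ∀ z ∈ Φ.US F (S.PJ a), z ∈ D.posUnipotent F := fun z hz => by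
      rw [Φ.posUnipotent_eq_US]; exact Φ.US_mono (fun r hr => hr.1) hz
    have h1 : (g : GL D.Idx F) * x * (g : GL D.Idx F)⁻¹ ∈ Φ.US F (S.PJ a) :=
      (Subgroup.mem_normalizer_iff.mp (Φ.H_le_normalizer_US _ (hH g hg)) x).mp hxU
    have h2 := hH _ (C.mul_mem hg (hCn.conj_mem _ (C.inv_mem hg) x'))
    simp only [Subgroup.coe_mul, Subgroup.coe_inv, x', ← mul_assoc] at h2
    have h3 := Φ.eq_one_of_mem_U_of_mem_N (mul_mem (hP _ h1) (Subgroup.inv_mem _ (hP _ hxU))) (H_le_N h2)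
    rw [mul_inv_eq_one, hc, hx, Tw.torus_prodL] at h3
    have h4 := Φ.prodL_injective (pairwise_rootList _) (fun r hr => (mem_rootList.mp hr).1) h3 (Φ.p i)
      (mem_rootList.mpr (S.p_mem_PJ hi))
    rw [Φ.toSys.chi_simple] at h4
    exact Units.ext ((mul_eq_right₀ (hne i hi)).mp h4)
  exact Subtype.ext (by rw [hc, key, map_one]; rfl)

open Classical in
theorem Tw.Gen.root_le_comm [Finite F] (h : T.Gen G1) (a : Fin S.m) {c : Fin D.rank → Fˣ}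
    (hx : Φ.toAlg.torus c ∈ G1) (hc : ∀ r, S.PJ a r → Φ.toSys.chi c r ≠ 1) :
    Φ.US F (S.PJ a) ⊓ T.fix ≤ ⁅G1, G1⁆ := by
  set x := Φ.toAlg.torus c with hxd
  have hxH : ∀ u ∈ Φ.US F (S.PJ a) ⊓ T.fix, x * u * x⁻¹ ∈ Φ.US F (S.PJ a) ⊓ T.fix := by
    intro u hu
    refine Subgroup.mem_inf.mpr ⟨?_, mul_mem (mul_mem (h.le_fix hx) hu.2) (Subgroup.inv_mem _ (h.le_fix hx))⟩
    obtain ⟨t, rfl⟩ := (Φ.mem_US_iff (fun r hr => hr.1) (S.closed_PJ a)).mp hu.1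
    rw [hxd, Tw.torus_prodL]
    exact (Φ.mem_US_iff (fun r hr => hr.1) (S.closed_PJ a)).mpr ⟨_, rfl⟩
  have hfree : ∀ u ∈ Φ.US F (S.PJ a) ⊓ T.fix, x * u * x⁻¹ = u → u = 1 := by
    intro u hu e
    obtain ⟨t, rfl⟩ := (Φ.mem_US_iff (fun r hr => hr.1) (S.closed_PJ a)).mp hu.1
    rw [hxd, Tw.torus_prodL] at e
    refine List.prod_eq_one fun y hy => ?_
    obtain ⟨r, hr, rfl⟩ := List.mem_map.mp hy
    have := Φ.prodL_injective (pairwise_rootList _) (fun r hr => (mem_rootList.mp hr).1) e r hr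
    rw [Alg.xg_eq_one_iff]
    by_contra hne
    exact hc r (mem_rootList.mp hr) (Units.ext ((mul_eq_right₀ hne).mp this))
  let f : ↥(Φ.US F (S.PJ a) ⊓ T.fix) → ↥(Φ.US F (S.PJ a) ⊓ T.fix) := fun u =>
    ⟨x * u * x⁻¹ * (u : GL D.Idx F)⁻¹, mul_mem (hxH _ u.2) (Subgroup.inv_mem _ u.2)⟩
  have hinj : Function.Injective f := by
    rintro ⟨u, hu⟩ ⟨v, hv⟩ e
    have e' : x * u * x⁻¹ * u⁻¹ = x * v * x⁻¹ * v⁻¹ := congrArg Subtype.val e
    have h1 := hfree _ (mul_mem (Subgroup.inv_mem _ hv) hu) (by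
      have e2 : x * u * x⁻¹ = x * v * x⁻¹ * v⁻¹ * u := by rw [← e']; group
      rw [show x * (v⁻¹ * u) * x⁻¹ = (x * v * x⁻¹)⁻¹ * (x * u * x⁻¹) by group, e2]
      group)
    exact Subtype.ext (inv_mul_eq_one.mp h1).symm
  intro u hu
  obtain ⟨v, hv⟩ := (Finite.injective_iff_surjective.mp hinj) ⟨u, hu⟩
  have e : x * v * x⁻¹ * (v : GL D.Idx F)⁻¹ = u := congrArg Subtype.val hv
  rw [← e, ← commutatorElement_def]
  exact Subgroup.commutator_mem_commutator hx (h.root_le a v.2)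

theorem Tw.Gen.perfect (h : T.Gen G1) {s : Set (GL D.Idx F)} (hgen : G1 = Subgroup.closure s)
    (hs : ∀ g ∈ s, ∃ a, g ∈ Φ.US F (S.PJ a) ∨ g ∈ Φ.US F (fun r => S.PJ a r.rev))
    (hroot : ∀ a, Φ.US F (S.PJ a) ⊓ T.fix ≤ ⁅G1, G1⁆) : commutator ↥G1 = ⊤ := by
  refine Subgroup.map_injective G1.subtype_injective ?_
  rw [map_commutator_group, ← MonoidHom.range_eq_map, Subgroup.range_subtype]
  have hle : ⁅G1, G1⁆ ≤ G1 := Subgroup.commutator_le.mpr fun g hg k hk => by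
    rw [commutatorElement_def]
    exact mul_mem (mul_mem (mul_mem hg hk) (inv_mem hg)) (inv_mem hk)
  refine le_antisymm hle ?_
  have hconj : ∀ n ∈ G1, ∀ x ∈ ⁅G1, G1⁆, n * x * n⁻¹ ∈ ⁅G1, G1⁆ := by
    intro n hn x hx
    rw [show n * x * n⁻¹ = ⁅n, x⁆ * x by rw [commutatorElement_def]; group]
    exact mul_mem (Subgroup.commutator_mem_commutator hn (hle hx)) hx
  have key : s ⊆ (⁅G1, G1⁆ : Subgroup (GL D.Idx F)) := by
    intro g hg
    have hg1 : g ∈ G1 := hgen ▸ Subgroup.subset_closure hg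
    obtain ⟨a, ha | ha⟩ := hs g hg
    · exact hroot a (Subgroup.mem_inf.mpr ⟨ha, h.le_fix hg1⟩)
    · have hn := (h.sn a).2
      have hm := Tw.mono_inv (h.sn_N a) (h.sn_mono a)
      have h1 := Φ.map_US_le hm (T := S.PJ a) (fun r hr => by
        rw [S.w_inv]
        refine ⟨?_, ?_⟩
        · have h3 := S.w_neg a r.rev hr.1 hr.2
          rwa [Φ.W_rev (S.w_mem_W a), Φ.pos_rev_iff, not_not] at h3
        · rw [S.sub_w, ← Φ.sub_rev]; exact hr.2) g ha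
      rw [inv_inv] at h1
      have h2 := hroot a (Subgroup.mem_inf.mpr ⟨h1,
        mul_mem (mul_mem (Subgroup.inv_mem _ (h.le_fix hn)) (h.le_fix hg1)) (h.le_fix hn)⟩)
      have := hconj _ hn _ h2
      simpa [mul_assoc] using this
  exact hgen.le.trans ((Subgroup.closure_le _).mpr key)

theorem Tw.Gen.B1_solvable (h : T.Gen G1) : Group.IsSolvable ↥(Tw.B1 G1) := by
  haveI := Φ.borel_solvable (F := F)
  let f : ↥(Tw.B1 G1) →* ↥(Φ.bnPair F).B :=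
    { toFun := fun x => ⟨⟨(x : G1), T.fix_le (h.le_fix x.1.2)⟩, Tw.mem_B1.mp x.2⟩
      map_one' := rfl
      map_mul' := fun _ _ => rfl }
  exact solvable_of_solvable_injective (f := f) fun x y e =>
    Subtype.ext (Subtype.ext (congrArg (fun z : ↥(Φ.bnPair F).B => (z.1 : GL D.Idx F)) e))

theorem Tw.Gen.simple (h : T.Gen G1) (hw : T.Wit) (hm : 0 < S.m)
    (hconn : ∀ A : Set (Fin S.m), A.Nonempty → Aᶜ.Nonempty →
      ∃ a ∈ A, ∃ b ∈ Aᶜ, S.w a * S.w b ≠ S.w b * S.w a)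
    (hperf : commutator ↥G1 = ⊤) : IsSimpleGroup ↥G1 ∧ ¬ IsMulCommutative ↥G1 := by
  have hcore : (Tw.B1 G1).normalCore = ⊥ := Tw.normalCore_eq_bot h hw
  have hnc : ¬ IsMulCommutative ↥G1 := by
    intro hc
    obtain ⟨x, hx, hne⟩ := hw.ne ⟨0, hm⟩
    refine h.conj_root_not_mem_B _ hx.1 hne ?_
    have := congrArg Subtype.val (hc.is_comm.comm (h.sn ⟨0, hm⟩) ⟨x, h.root_le _ hx⟩)
    simp only [Subgroup.coe_mul] at this
    rw [this, mul_inv_cancel_right]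
    refine Subgroup.mem_sup_left ?_
    rw [Φ.posUnipotent_eq_US]
    exact Φ.US_mono (fun r hr => hr.1) hx.1
  haveI : Nontrivial ↥G1 := by
    by_contra hn
    rw [not_nontrivial_iff_subsingleton] at hn
    exact hnc ⟨⟨fun a b => Subsingleton.elim _ _⟩⟩
  refine ⟨Cfsg.Agent.S0319.result (h.bnPair hw.ne) ?_ h.B1_solvable hperf hcore, hnc⟩
  intro J hJ hne1 hne2
  let A : Set (Fin S.m) := {a | h.sn a ∈ J}
  obtain ⟨a, ha, b, hb, hab⟩ := hconn A (by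
      obtain ⟨s, hs⟩ := hne1
      obtain ⟨a, rfl⟩ := hJ hs
      exact ⟨a, hs⟩) (by
      obtain ⟨s, ⟨a, rfl⟩, hs⟩ := hne2
      exact ⟨a, hs⟩)
  refine ⟨h.sn a, ha, h.sn b, ⟨⟨b, rfl⟩, hb⟩, fun hB => hab ?_⟩
  have h1 : ((h.sn a * h.sn b * (h.sn a)⁻¹ * (h.sn b)⁻¹ : G1) : GL D.Idx F) ∈ D.borelSubgroup F :=
    Tw.mem_B1.mp hB
  simp only [Subgroup.coe_mul, Subgroup.coe_inv] at h1
  have hN : (h.sn a : GL D.Idx F) * h.sn b * (h.sn a : GL D.Idx F)⁻¹ * (h.sn b : GL D.Idx F)⁻¹ ∈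
      D.monomialSubgroup F :=
    mul_mem (mul_mem (mul_mem (h.sn_N a) (h.sn_N b)) (inv_mem (h.sn_N a))) (inv_mem (h.sn_N b))
  have hH : (h.sn a : GL D.Idx F) * h.sn b * (h.sn a : GL D.Idx F)⁻¹ * (h.sn b : GL D.Idx F)⁻¹ ∈
      D.diagonalSubgroup F := by
    rw [← Φ.B_inf_N]; exact ⟨h1, hN⟩
  have hm' := Mono.mul Φ (Mono.mul Φ (Mono.mul Φ (h.sn_mono a) (h.sn_mono b))
    (Tw.mono_inv (h.sn_N a) (h.sn_mono a))) (Tw.mono_inv (h.sn_N b) (h.sn_mono b))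
  have e := Mono.unique Φ hm' ((Φ.mem_H_iff_mono_one hN).mp hH)
  rwa [mul_inv_eq_one, mul_inv_eq_iff_eq_mul] at e

end Chev

end CfsgLib.Chev
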