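/-
The Weyl group of a twisted group.
-/
import Cfsg.Agent.Lib.Chev.Twist.Simple
import Cfsg.Agent.Lib.BN.Coxeter

namespace CfsgLib.Chev

open Cfsg.Lie Matrix

set_option linter.dupNamespace false
set_option linter.unusedSectionVars false

variable {D : ChevalleyDatum}

namespace Chev

variable {Φ : Chev D} {S : Φ.Sym} {F : Type*} [Field F] {T : Tw S F} {G1 : Subgroup (GL D.Idx F)}

theorem Tw.Gen.coxeter (h : T.Gen G1) (hw : T.Wit) (M : CoxeterMatrix (Fin S.m))
    (hM : ∀ a b, orderOf (S.w a * S.w b) = M a b) :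
    ∃ φ : ↥(D.monomialSubgroup F ⊓ G1) →* M.Group, Function.Surjective φ ∧
      φ.ker = (D.diagonalSubgroup F ⊓ G1).subgroupOf (D.monomialSubgroup F ⊓ G1) := by
  set P := h.bnPair hw.ne
  let e0 : Fin S.m → P.S := fun a => ⟨h.sn a, a, rfl⟩
  have he : Function.Bijective e0 := by
    refine ⟨fun a b e => ?_, fun ⟨s, a, e⟩ => ⟨a, Subtype.ext e⟩⟩
    have e' : (h.sn a : GL D.Idx F) = (h.sn b : GL D.Idx F) := congrArg (fun x : P.S => (x.1 : GL D.Idx F)) e
    have := Mono.unique Φ (h.sn_mono a) (e' ▸ h.sn_mono b)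
    obtain ⟨i, hi⟩ := S.nonempty a
    have h2 := (S.inv_w a _).mpr (S.p_mem_PJ hi)
    rw [this, S.inv_w] at h2
    exact S.disj a b i hi (Φ.sub_p.mp h2.2)
  set e := Equiv.ofBijective e0 he
  let cs := (CfsgLib.BN.coxeterSystem P).reindex e.symm
  have hmat : (CfsgLib.BN.coxMatrix P).reindex e.symm = M := by
    ext a b
    rw [CoxeterMatrix.reindex_apply, Equiv.symm_symm]
    show orderOf (CfsgLib.BN.σ P (e a) * CfsgLib.BN.σ P (e b)) = M a b
    rw [← hM]
    refine orderOf_eq_orderOf_iff.mpr fun k => ?_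
    set x : P.N := ⟨h.sn a, Tw.mem_N1.mpr (h.sn_N a)⟩ * ⟨h.sn b, Tw.mem_N1.mpr (h.sn_N b)⟩
    have hσ : CfsgLib.BN.σ P (e a) * CfsgLib.BN.σ P (e b) = CfsgLib.BN.cls P x := rfl
    rw [hσ, show CfsgLib.BN.cls P x ^ k = CfsgLib.BN.cls P (x ^ k) from
      (map_pow (QuotientGroup.mk' ((P.B ⊓ P.N).subgroupOf P.N)) x k).symm, CfsgLib.BN.cls_eq_one_iff]
    have hmono : ∀ k, Φ.Mono (((x ^ k : P.N) : G1) : GL D.Idx F) ((S.w a * S.w b) ^ k) := by
      intro k
      induction k with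
      | zero => simpa using Mono.one Φ
      | succ k ih =>
        rw [pow_succ, pow_succ]
        exact Mono.mul Φ ih (Mono.mul Φ (h.sn_mono a) (h.sn_mono b))
    have hN : (((x ^ k : P.N) : G1) : GL D.Idx F) ∈ D.monomialSubgroup F := Tw.mem_N1.mp (x ^ k).2
    constructor
    · intro hB
      have hH : (((x ^ k : P.N) : G1) : GL D.Idx F) ∈ D.diagonalSubgroup F := by
        rw [← Φ.B_inf_N]; exact ⟨Tw.mem_B1.mp hB, hN⟩
      exact Mono.unique Φ (hmono k) ((Φ.mem_H_iff_mono_one hN).mp hH)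
    · intro h1
      refine Tw.mem_B1.mpr (Subgroup.mem_sup_right ((Φ.mem_H_iff_mono_one hN).mpr ?_))
      rw [← h1]; exact hmono k
  let ι : ↥(D.monomialSubgroup F ⊓ G1) →* ↥P.N :=
    { toFun := fun x => ⟨⟨x.1, x.2.2⟩, Tw.mem_N1.mpr x.2.1⟩
      map_one' := rfl
      map_mul' := fun _ _ => rfl }
  have hι : Function.Surjective ι := fun y => ⟨⟨y.1.1, Subgroup.mem_inf.mpr ⟨Tw.mem_N1.mp y.2, y.1.2⟩⟩, rfl⟩
  let φ : ↥(D.monomialSubgroup F ⊓ G1) →* ((CfsgLib.BN.coxMatrix P).reindex e.symm).Group :=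
    cs.mulEquiv.toMonoidHom.comp ((QuotientGroup.mk' ((P.B ⊓ P.N).subgroupOf P.N)).comp ι)
  have main : ∃ φ : ↥(D.monomialSubgroup F ⊓ G1) →* ((CfsgLib.BN.coxMatrix P).reindex e.symm).Group,
      Function.Surjective φ ∧
      φ.ker = (D.diagonalSubgroup F ⊓ G1).subgroupOf (D.monomialSubgroup F ⊓ G1) := by
    refine ⟨φ, cs.mulEquiv.surjective.comp ((QuotientGroup.mk'_surjective _).comp hι), ?_⟩
    ext x
    have hx : φ x = 1 ↔ (x : GL D.Idx F) ∈ D.borelSubgroup F := by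
      simp only [φ, MonoidHom.comp_apply, MulEquiv.coe_toMonoidHom, EmbeddingLike.map_eq_one_iff,
        QuotientGroup.mk'_apply, QuotientGroup.eq_one_iff, Subgroup.mem_subgroupOf, Subgroup.mem_inf]
      exact ⟨fun hB => (Tw.mem_B1 (x := (ι x).1)).mp hB.1, fun hB => ⟨(Tw.mem_B1 (x := (ι x).1)).mpr hB, (ι x).2⟩⟩
    rw [MonoidHom.mem_ker, hx, Subgroup.mem_subgroupOf, Subgroup.mem_inf, ← Φ.B_inf_N, Subgroup.mem_inf]
    exact ⟨fun hB => ⟨⟨hB, x.2.1⟩, x.2.2⟩, fun hB => hB.1.1⟩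
  rwa [hmat] at main

/-- Iterate of a product of two orbit reflections on root indices. -/
def pairIter (T : SymData) (a b : ℕ) : ℕ → ℕ → ℕ
  | 0, r => r
  | n + 1, r => T.wEval a (T.wEval b (pairIter T a b n r))

/-- The test on the order of a product of two orbit reflections. -/
def ordCheck (D : ChevalleyDatum) (T : SymData) (a b n : ℕ) : Bool :=
  Nat.blt 0 n && ((List.range D.nroots).all fun r => Nat.beq (pairIter T a b n r) r) &&
    (List.range n).all fun k => Nat.beq k 0 || (List.range D.nroots).any fun r => !(Nat.beq (pairIter T a b k r) r)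

theorem SymOK.orderOf_pair {T' : SymData} {p : ℕ} (h : SymOK (D := D) T' p) (a b : Fin (h.sym Φ).m) {n : ℕ}
    (hc : ordCheck D T' a.val b.val n = true) : orderOf ((h.sym Φ).w a * (h.sym Φ).w b) = n := by
  have hit : ∀ k (r : Fin D.nroots),
      pairIter T' a.val b.val k r.val = ((((h.sym Φ).w a * (h.sym Φ).w b) ^ k) r).val := by
    intro k r
    induction k with
    | zero => rfl
    | succ k ih =>
      rw [pairIter, ih, pow_succ', h.wEval_eq b.isLt, h.wEval_eq a.isLt]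
      rfl
  simp only [ordCheck, Bool.and_eq_true, Nat.blt_eq, List.all_eq_true, List.mem_range, Nat.beq_eq,
    Bool.or_eq_true, List.any_eq_true, Bool.not_eq_true'] at hc
  obtain ⟨⟨h0, h1⟩, h2⟩ := hc
  refine (orderOf_eq_iff h0).mpr ⟨Equiv.ext fun r => Fin.ext ((hit n r).symm.trans (h1 _ r.isLt)),
    fun k hk hk0 e => ?_⟩
  obtain ⟨r, hr, hne⟩ := (h2 k hk).resolve_left hk0.ne'
  have := hit k ⟨r, hr⟩
  rw [e] at this
  simp [this] at hne

end Chev

end CfsgLib.Chev
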