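/-
The order of the torus of a twisted group.
-/
import Cfsg.Agent.Lib.Chev.Twist.Count

namespace CfsgLib.Chev

open Cfsg.Lie Matrix

set_option linter.dupNamespace false
set_option linter.unusedSectionVars false

variable {D : ChevalleyDatum}

namespace Chev

variable {Φ : Chev D} {S : Φ.Sym} {F : Type*} [Field F] {T : Tw S F} {G1 : Subgroup (GL D.Idx F)}

variable (T) in
/-- The fixed torus parameters. -/
def Tw.stableParam : Subgroup (Fin D.rank → Fˣ) where
  carrier := {d | T.dmap d = d}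
  one_mem' := funext fun j => by simp [Tw.dmap]
  mul_mem' := fun {a b} ha hb => funext fun j => by
    have h1 := congrFun ha j
    have h2 := congrFun hb j
    simp only [Tw.dmap, Pi.mul_apply, mul_pow] at h1 h2 ⊢
    rw [h1, h2]
  inv_mem' := fun {a} ha => funext fun j => by
    have h1 := congrFun ha j
    simp only [Tw.dmap, Pi.inv_apply, inv_pow] at h1 ⊢
    rw [h1]

theorem Tw.Gen.card_H_mul (h : T.Gen G1) :
    Nat.card ↥(D.diagonalSubgroup F ⊓ T.fix) *
      Nat.card {d : Fin D.rank → Fˣ // T.dmap d = d ∧ Tw.tor (Φ := Φ) d = 1} =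
      Nat.card {d : Fin D.rank → Fˣ // T.dmap d = d} := by
  set f := (Tw.tor (Φ := Φ) (F := F)).comp T.stableParam.subtype
  have hr : f.range = D.diagonalSubgroup F ⊓ T.fix := by
    ext x
    constructor
    · rintro ⟨⟨d, hd⟩, rfl⟩
      refine Subgroup.mem_inf.mpr ⟨Tw.tor_mem_H d, Φ.H_le_group (Tw.tor_mem_H d), ?_⟩
      show T.app (Tw.tor (Φ := Φ) d) = Tw.tor (Φ := Φ) d
      rw [T.app_tor]
      exact congrArg _ hd
    · rintro ⟨hx, hxf⟩
      rw [Φ.diagonalSubgroup_eq] at hx
      obtain ⟨d, rfl⟩ := hx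
      obtain ⟨d', hd', e⟩ := h.lift d (by rw [← T.app_tor]; exact hxf.2)
      exact ⟨⟨d', hd'⟩, e⟩
  have hk : Nat.card f.ker = Nat.card {d : Fin D.rank → Fˣ // T.dmap d = d ∧ Tw.tor (Φ := Φ) d = 1} :=
    Nat.card_congr
      { toFun := fun x => ⟨x.1.1, x.1.2, x.2⟩
        invFun := fun x => ⟨⟨x.1, x.2.1⟩, x.2.2⟩
        left_inv := fun _ => rfl
        right_inv := fun _ => rfl }
  rw [← hr, ← hk, ← Nat.card_congr (QuotientGroup.quotientKerEquivRange f).toEquiv,
    ← Subgroup.card_eq_card_quotient_mul_card_subgroup]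
  rfl

end Chev

end CfsgLib.Chev
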