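/-
Tables of the twisted type over D4.
-/
import Cfsg.Agent.Lib.Chev.Twist.Cert
import Cfsg.Agent.Lib.Chev.MorphData

namespace CfsgLib.Chev

set_option maxRecDepth 100000
set_option maxHeartbeats 4000000

/-- The symmetry of type D4. -/
def symD4 : SymData where
  mor := morD4a
  tau := [2, 1, 3, 0]
  orbits := [[1], [0, 2, 3]]
  words := [[1], [0, 2, 3]]
  refl := [[0, 6, 7, 8, 9, 18, 1, 2, 3, 4, 10, 11, 12, 13, 19, 20, 21, 22, 5, 14, 15, 16, 17, 23], [1, 0, 2, 3, 5, 4, 6, 10, 11, 14, 7, 8, 15, 16, 9, 12, 13, 17, 19, 18, 20, 21, 23, 22], [0, 3, 4, 1, 2, 5, 8, 9, 6, 7, 13, 11, 12, 10, 16, 17, 14, 15, 18, 21, 22, 19, 20, 23], [0, 2, 1, 4, 3, 5, 7, 6, 9, 8, 10, 12, 11, 13, 15, 14, 17, 16, 18, 20, 19, 22, 21, 23]]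

theorem symOKD4 : Chev.SymOK (D := Cfsg.Lie.chevD4) symD4 0 where
  mor := checkMorD4a
  refl := by decide +kernel
  simple := by decide +kernel
  roots := by decide +kernel
  orbits := by decide +kernel

/-- A block of the enumeration. -/
def blockD40 : List (List ℤ × ℕ × List ℕ) :=
  [([-3, 4, -3, -3], 8, [6, 10]), ([-3, 5, -3, -3], 7, [8, 11]), ([-2, 1, -2, -2], 11, [4, 8]), ([-2, 5, -2, -2], 4, [10, 9]), ([-1, -1, -1, -1], 12, [2, 6]), ([-1, 4, -1, -1], 3, [11, 7]), ([1, -4, 1, 1], 9, [0, 4]), ([1, 1, 1, 1], 0, [9, 5]), ([2, -5, 2, 2], 8, [1, 2]), ([2, -1, 2, 2], 1, [7, 3]), ([3, -5, 3, 3], 5, [3, 0]), ([3, -4, 3, 3], 4, [5, 1])]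

/-- The enumeration of the centralised Weyl group. -/
def certD4 : WCert where
  chunks := [blockD40]
  size := 12
  d := 1

theorem certOKD4 : certD4.check symD4 Cfsg.Lie.chevD4 7 = true := by decide +kernel

theorem certLtD4 : (List.range 12).all (fun i => Nat.blt (certD4.len i) 13) = true := by
  decide +kernel

theorem certHistD4 : (List.range 13).map (fun k => ((List.range 12).map certD4.len).count k) =
    [1, 1, 0, 1, 2, 1, 0, 1, 2, 1, 0, 1, 1] := by decide +kernel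

end CfsgLib.Chev
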