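/-
Orbits of one, two or three orthogonal fundamental roots.
-/
import Cfsg.Agent.Lib.Chev.Twist.Orbit

namespace CfsgLib.Chev

open Cfsg.Lie Matrix

set_option linter.dupNamespace false
set_option linter.unusedSectionVars false

variable {D : ChevalleyDatum}

namespace Chev

variable {Φ : Chev D} {S : Φ.Sym} {F : Type*} [Field F] (T : Tw S F)

namespace Tw

theorem app_p (i : Fin D.rank) (c : F) :
    T.app (Φ.toAlg.xg (Φ.p i) c) = Φ.toAlg.xg (Φ.p (S.τ i)) (c ^ T.k (Φ.p i)) := by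
  rw [T.app_xg, S.ρ_p, T.ε_p, Int.cast_one, one_mul]

theorem app_prev (i : Fin D.rank) (c : F) :
    T.app (Φ.toAlg.xg (Φ.p i).rev c) = Φ.toAlg.xg (Φ.p (S.τ i)).rev (c ^ T.k (Φ.p i)) := by
  rw [T.app_xg, S.ρ_prev, T.ε_prev, T.k_prev, Int.cast_one, one_mul]

theorem fixParam_p {a : Fin S.m} {t : Fin D.nroots → F} (h : T.FixParam a t) {i : Fin D.rank} (hi : i ∈ S.J a) :
    t (Φ.p (S.τ i)) = t (Φ.p i) ^ T.k (Φ.p i) := by
  have := h _ (S.p_mem_PJ hi)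
  rwa [S.ρ_p, T.ε_p, Int.cast_one, one_mul] at this

theorem neg_inv_fix (i : Fin D.rank) (t : Fˣ) :
    (-(t : F)⁻¹) ^ T.k (Φ.p i) = -((t ^ T.k (Φ.p i) : Fˣ) : F)⁻¹ := by
  rw [T.neg_pow, inv_pow, Units.val_pow_eq_pow_val]

theorem mono_nw (Φ : Chev D) (i : Fin D.rank) (t : Fˣ) : Φ.Mono (Φ.nw (Φ.p i) t) (Φ.reflPerm i) := by
  rw [Φ.nw_eq_hw_mul, Φ.hw_p]
  have := Mono.mul Φ (Φ.mono_torus (Φ.toAlg.cartanChar i t)) (Φ.nw_one_mono i)
  rwa [one_mul] at this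

theorem units_neg_one_pow (i : Fin D.rank) : (-1 : Fˣ) ^ T.k (Φ.p i) = -1 :=
  Units.ext (by simpa using T.neg_pow i 1)

/-! ### One root -/

/-- An orbit of one root. -/
structure One (a : Fin S.m) (i : Fin D.rank) : Prop where
  hJ : ∀ k, k ∈ S.J a ↔ k = i
  hPJ : ∀ r, S.PJ a r → r = Φ.p i
  hw : S.w a = Φ.reflPerm i

variable {T} {a : Fin S.m} {i j l : Fin D.rank}

theorem One.mem (h : One (S := S) a i) : i ∈ S.J a := (h.hJ i).mpr rfl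

theorem One.tau (h : One (S := S) a i) : S.τ i = i := (h.hJ _).mp ((S.stable a i).mpr h.mem)

open Classical in
theorem One.list (h : One (S := S) a i) : rootList (S.PJ a) = [Φ.p i] :=
  List.perm_singleton.mp ((List.perm_ext_iff_of_nodup (pairwise_rootList _).nodup (List.nodup_singleton _)).mpr
    fun r => by
      rw [mem_rootList, List.mem_singleton]
      exact ⟨h.hPJ r, fun e => e ▸ S.p_mem_PJ h.mem⟩)

theorem One.app (h : One (S := S) a i) {c : F} (hc : c ^ T.k (Φ.p i) = c) :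
    Φ.toAlg.xg (Φ.p i) c ∈ T.fix ∧ Φ.toAlg.xg (Φ.p i).rev c ∈ T.fix :=
  ⟨⟨Φ.toAlg.xg_mem_group _ _, by rw [T.app_p, h.tau, hc]⟩,
    ⟨Φ.toAlg.xg_mem_group _ _, by rw [T.app_prev, h.tau, hc]⟩⟩

open Classical in
theorem One.fix_iff (h : One (S := S) a i) {g : GL D.Idx F} :
    g ∈ Φ.US F (S.PJ a) ⊓ T.fix ↔ ∃ c, c ^ T.k (Φ.p i) = c ∧ g = Φ.toAlg.xg (Φ.p i) c := by
  constructor
  · intro hg
    obtain ⟨t, ht, rfl⟩ := (T.mem_root_fix_iff a (fun r s hr hs => by rw [h.hPJ r hr, h.hPJ s hs, Φ.N_self])).mp hg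
    have := T.fixParam_p ht h.mem
    rw [h.tau] at this
    exact ⟨_, this.symm, by simp [prodL, h.list]⟩
  · rintro ⟨c, hc, rfl⟩
    exact Subgroup.mem_inf.mpr ⟨Φ.xg_mem_US (S.p_mem_PJ h.mem) c, (h.app hc).1⟩

variable {G1 : Subgroup (GL D.Idx F)}

theorem One.facts (h : One (S := S) a i)
    (hp : ∀ c : F, c ^ T.k (Φ.p i) = c → Φ.toAlg.xg (Φ.p i) c ∈ G1 ∧ Φ.toAlg.xg (Φ.p i).rev c ∈ G1) :
    (Φ.US F (S.PJ a) ⊓ T.fix ≤ G1) ∧
    (∃ n ∈ G1, n ∈ D.monomialSubgroup F ∧ Φ.Mono n (S.w a)) ∧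
    (∀ d, T.dmap d = d → (∀ k, k ∉ S.J a → d k = 1) → tor (Φ := Φ) d ∈ G1) := by
  have hn : ∀ t : Fˣ, t ^ T.k (Φ.p i) = t → Φ.nw (Φ.p i) t ∈ G1 := by
    intro t ht
    have h1 : (t : F) ^ T.k (Φ.p i) = t := by rw [← Units.val_pow_eq_pow_val, ht]
    have h2 := T.neg_inv_fix i t
    rw [ht] at h2
    exact mul_mem (mul_mem (hp _ h1).1 (hp _ h2).2) (hp _ h1).1
  refine ⟨fun g hg => ?_, ⟨_, hn 1 (one_pow _), Φ.nw_mem_N _ _, ?_⟩, fun d hd hs => ?_⟩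
  · obtain ⟨c, hc, rfl⟩ := h.fix_iff.mp hg
    exact (hp c hc).1
  · rw [h.hw]; exact mono_nw Φ i 1
  · have e : d = Pi.mulSingle i (d i) := funext fun k => by
      by_cases hk : k = i
      · subst hk; rw [Pi.mulSingle_eq_same]
      · rw [Pi.mulSingle_eq_of_ne hk, hs k (mt (h.hJ k).mp hk)]
    have hd' : d i ^ T.k (Φ.p i) = d i := by
      have := congrFun hd i
      simp only [dmap, S.τ.symm_apply_eq.mpr h.tau.symm] at this
      exact this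
    rw [e, tor_single]
    exact mul_mem (hn _ hd') (hn _ (T.units_neg_one_pow i))

open Classical in
theorem One.card (h : One (S := S) a i) :
    Nat.card ↥(Φ.US F (S.PJ a) ⊓ T.fix) = Nat.card {c : F // c ^ T.k (Φ.p i) = c} := by
  symm
  refine Nat.card_congr (Equiv.ofBijective
    (fun c => (⟨_, h.fix_iff.mpr ⟨c.1, c.2, rfl⟩⟩ : ↥(Φ.US F (S.PJ a) ⊓ T.fix))) ⟨?_, ?_⟩)
  · intro c d e
    exact Subtype.ext (Φ.toAlg.xg_injective _ (congrArg Subtype.val e))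
  · rintro ⟨g, hg⟩
    obtain ⟨c, hc, rfl⟩ := h.fix_iff.mp hg
    exact ⟨⟨c, hc⟩, rfl⟩

open Classical in
theorem One.wit (h : One (S := S) a i) :
    ∃ t : Fin D.nroots → F, Φ.prodL (rootList (S.PJ a)) t ∈ T.fix ∧ ∀ k ∈ S.J a, t (Φ.p k) ≠ 0 :=
  ⟨fun _ => 1, by simpa [prodL, h.list] using (h.app (one_pow _)).1, fun _ _ => one_ne_zero⟩

/-! ### Two roots -/

theorem comm_three {G : Type*} [Group G] {a b c x y z : G} (h1 : Commute a x) (h2 : Commute a y)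
    (h3 : Commute a z) (h4 : Commute b x) (h5 : Commute b y) (h6 : Commute b z) (h7 : Commute c x)
    (h8 : Commute c y) (h9 : Commute c z) : Commute (a * b * c) (x * y * z) :=
  (((h1.mul_right h2).mul_right h3).mul_left ((h4.mul_right h5).mul_right h6)).mul_left
    ((h7.mul_right h8).mul_right h9)

/-- An orbit of two orthogonal roots. -/
structure Two (a : Fin S.m) (i j : Fin D.rank) : Prop where
  hJ : ∀ k, k ∈ S.J a ↔ k = i ∨ k = j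
  hPJ : ∀ r, S.PJ a r → r = Φ.p i ∨ r = Φ.p j
  hne : Φ.p j ≠ Φ.p i
  hij : S.τ i = j
  hji : S.τ j = i
  orth : Φ.Orth (Φ.p i) (Φ.p j)
  hw : S.w a = Φ.reflPerm i * Φ.reflPerm j

theorem Two.mem (h : Two (S := S) a i j) : i ∈ S.J a ∧ j ∈ S.J a :=
  ⟨(h.hJ i).mpr (Or.inl rfl), (h.hJ j).mpr (Or.inr rfl)⟩

/-- The product of the root elements of two roots. -/
def X2 (Φ : Chev D) (r s : Fin D.nroots) (x y : F) : GL D.Idx F := Φ.toAlg.xg r x * Φ.toAlg.xg s y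

theorem Two.comm (h : Two (S := S) a i j) (x y : F) :
    Commute (Φ.toAlg.xg (Φ.p i) x) (Φ.toAlg.xg (Φ.p j) y) :=
  Φ.xg_commute_of h.orth.2.1 h.orth.2.2.1 x y

theorem Two.comm_rev (h : Two (S := S) a i j) (x y : F) :
    Commute (Φ.toAlg.xg (Φ.p i).rev x) (Φ.toAlg.xg (Φ.p j).rev y) :=
  Φ.xg_commute_of (fun e => h.orth.2.1 (Fin.rev_injective e)) (by rw [Φ.N_rev, h.orth.2.2.1, neg_zero]) x y

theorem Two.app (h : Two (S := S) a i j) {x y : F} (h1 : x ^ T.k (Φ.p i) = y) (h2 : y ^ T.k (Φ.p j) = x) :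
    X2 Φ (Φ.p i) (Φ.p j) x y ∈ T.fix ∧ X2 Φ (Φ.p i).rev (Φ.p j).rev x y ∈ T.fix := by
  constructor
  · refine ⟨mul_mem (Φ.toAlg.xg_mem_group _ _) (Φ.toAlg.xg_mem_group _ _), ?_⟩
    rw [X2, T.app_mul (Φ.toAlg.xg_mem_group _ _) (Φ.toAlg.xg_mem_group _ _), T.app_p, T.app_p, h.hij, h.hji,
      h1, h2, (h.comm x y).eq]
  · refine ⟨mul_mem (Φ.toAlg.xg_mem_group _ _) (Φ.toAlg.xg_mem_group _ _), ?_⟩
    rw [X2, T.app_mul (Φ.toAlg.xg_mem_group _ _) (Φ.toAlg.xg_mem_group _ _), T.app_prev, T.app_prev, h.hij,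
      h.hji, h1, h2, (h.comm_rev x y).eq]

theorem Two.hN (h : Two (S := S) a i j) (r s : Fin D.nroots) (hr : S.PJ a r) (hs : S.PJ a s) : Φ.N r s = 0 := by
  rcases h.hPJ r hr with rfl | rfl <;> rcases h.hPJ s hs with rfl | rfl
  · exact Φ.N_self _
  · exact h.orth.2.2.1
  · rw [Φ.N_anti, h.orth.2.2.1, neg_zero]
  · exact Φ.N_self _

open Classical in
theorem Two.prod_eq (h : Two (S := S) a i j) (t : Fin D.nroots → F) :
    Φ.prodL (rootList (S.PJ a)) t = X2 Φ (Φ.p i) (Φ.p j) (t (Φ.p i)) (t (Φ.p j)) := by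
  have hp : ([Φ.p i, Φ.p j] : List _).Perm (rootList (S.PJ a)) := by
    refine (List.perm_ext_iff_of_nodup (by simp [Ne.symm h.hne]) (pairwise_rootList _).nodup).mpr fun r => ?_
    rw [mem_rootList]
    simp only [List.mem_cons, List.not_mem_nil, or_false]
    exact ⟨fun e => e.elim (fun e => e ▸ S.p_mem_PJ h.mem.1) (fun e => e ▸ S.p_mem_PJ h.mem.2), h.hPJ r⟩
  rw [prodL, ← (hp.map _).prod_eq' (by simpa using h.comm _ _)]
  simp [X2]

open Classical in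
theorem Two.fix_iff (h : Two (S := S) a i j) {g : GL D.Idx F} :
    g ∈ Φ.US F (S.PJ a) ⊓ T.fix ↔
      ∃ x y, x ^ T.k (Φ.p i) = y ∧ y ^ T.k (Φ.p j) = x ∧ g = X2 Φ (Φ.p i) (Φ.p j) x y := by
  constructor
  · intro hg
    obtain ⟨t, ht, rfl⟩ := (T.mem_root_fix_iff a h.hN).mp hg
    have h1 := T.fixParam_p ht h.mem.1
    have h2 := T.fixParam_p ht h.mem.2
    rw [h.hij] at h1
    rw [h.hji] at h2
    exact ⟨_, _, h1.symm, h2.symm, h.prod_eq t⟩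
  · rintro ⟨x, y, h1, h2, rfl⟩
    exact Subgroup.mem_inf.mpr
      ⟨mul_mem (Φ.xg_mem_US (S.p_mem_PJ h.mem.1) _) (Φ.xg_mem_US (S.p_mem_PJ h.mem.2) _), (h.app h1 h2).1⟩

theorem Two.facts (h : Two (S := S) a i j)
    (hp : ∀ x y : F, x ^ T.k (Φ.p i) = y → y ^ T.k (Φ.p j) = x →
      X2 Φ (Φ.p i) (Φ.p j) x y ∈ G1 ∧ X2 Φ (Φ.p i).rev (Φ.p j).rev x y ∈ G1) :
    (Φ.US F (S.PJ a) ⊓ T.fix ≤ G1) ∧
    (∃ n ∈ G1, n ∈ D.monomialSubgroup F ∧ Φ.Mono n (S.w a)) ∧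
    (∀ d, T.dmap d = d → (∀ k, k ∉ S.J a → d k = 1) → tor (Φ := Φ) d ∈ G1) := by
  have hn : ∀ t u : Fˣ, t ^ T.k (Φ.p i) = u → u ^ T.k (Φ.p j) = t → Φ.nw (Φ.p i) t * Φ.nw (Φ.p j) u ∈ G1 := by
    intro t u ht hu
    have h1 : (t : F) ^ T.k (Φ.p i) = u := by rw [← Units.val_pow_eq_pow_val, ht]
    have h1' : (u : F) ^ T.k (Φ.p j) = t := by rw [← Units.val_pow_eq_pow_val, hu]
    have h2 := T.neg_inv_fix i t
    have h2' := T.neg_inv_fix j u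
    rw [ht] at h2
    rw [hu] at h2'
    rw [← Φ.nw_pair h.orth]
    exact mul_mem (mul_mem (hp _ _ h1 h1').1 (hp _ _ h2 h2').2) (hp _ _ h1 h1').1
  refine ⟨fun g hg => ?_, ⟨_, hn 1 1 (one_pow _) (one_pow _), mul_mem (Φ.nw_mem_N _ _) (Φ.nw_mem_N _ _), ?_⟩,
    fun d hd hs => ?_⟩
  · obtain ⟨x, y, h1, h2, rfl⟩ := h.fix_iff.mp hg
    exact (hp x y h1 h2).1
  · rw [h.hw]; exact Mono.mul Φ (mono_nw Φ i 1) (mono_nw Φ j 1)
  · have hij : i ≠ j := fun e => h.hne (by rw [e])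
    have e : d = Pi.mulSingle i (d i) * Pi.mulSingle j (d j) := funext fun k => by
      by_cases hk : k = i
      · subst hk; simp [Pi.mulSingle_eq_of_ne hij]
      by_cases hk' : k = j
      · subst hk'; simp [Pi.mulSingle_eq_of_ne hk]
      · simp [Pi.mulSingle_eq_of_ne hk, Pi.mulSingle_eq_of_ne hk',
          hs k (fun e => ((h.hJ k).mp e).elim hk hk')]
    have h1 : d i ^ T.k (Φ.p i) = d j := by
      have := congrFun hd j
      simp only [dmap, S.τ.symm_apply_eq.mpr h.hij.symm] at this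
      exact this
    have h2 : d j ^ T.k (Φ.p j) = d i := by
      have := congrFun hd i
      simp only [dmap, S.τ.symm_apply_eq.mpr h.hji.symm] at this
      exact this
    have hc : Commute (Φ.nw (Φ.p i) (-1 : Fˣ)) (Φ.nw (Φ.p j) (d j)) := by
      have hc' : ∀ x y : F, Commute (Φ.toAlg.xg (Φ.p i).rev x) (Φ.toAlg.xg (Φ.p j) y) := fun x y => by
        refine Φ.xg_commute_of ?_ ?_ x y
        · rw [Fin.rev_rev]; exact h.hne
        · have := Φ.N_rev (Φ.p i).rev (Φ.p j)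
          rw [Fin.rev_rev] at this
          have := h.orth.2.2.2
          omega
      have hc'' : ∀ x y : F, Commute (Φ.toAlg.xg (Φ.p i) x) (Φ.toAlg.xg (Φ.p j).rev y) :=
        fun x y => Φ.xg_commute_of (fun e => h.hne (Fin.rev_injective e)) h.orth.2.2.2 x y
      exact comm_three (h.comm _ _) (hc'' _ _) (h.comm _ _) (hc' _ _) (h.comm_rev _ _) (hc' _ _)
        (h.comm _ _) (hc'' _ _) (h.comm _ _)
    rw [e, map_mul, tor_single, tor_single, Chev.hw, Chev.hw,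
      show Φ.nw (Φ.p i) (d i) * Φ.nw (Φ.p i) (-1) * (Φ.nw (Φ.p j) (d j) * Φ.nw (Φ.p j) (-1)) =
        Φ.nw (Φ.p i) (d i) * Φ.nw (Φ.p j) (d j) * (Φ.nw (Φ.p i) (-1) * Φ.nw (Φ.p j) (-1)) by
        simp only [mul_assoc]; rw [← mul_assoc (Φ.nw (Φ.p i) (-1)) (Φ.nw (Φ.p j) (d j)), hc.eq, mul_assoc]]
    exact mul_mem (hn _ _ h1 h2) (hn _ _ (T.units_neg_one_pow i) (T.units_neg_one_pow j))

open Classical in
theorem Two.card (h : Two (S := S) a i j) :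
    Nat.card ↥(Φ.US F (S.PJ a) ⊓ T.fix) = Nat.card {c : F // (c ^ T.k (Φ.p i)) ^ T.k (Φ.p j) = c} := by
  symm
  refine Nat.card_congr (Equiv.ofBijective
    (fun c => (⟨_, h.fix_iff.mpr ⟨c.1, _, rfl, c.2, rfl⟩⟩ : ↥(Φ.US F (S.PJ a) ⊓ T.fix))) ⟨?_, ?_⟩)
  · intro c d e
    let tc : F → F → Fin D.nroots → F := fun x y r => if r = Φ.p i then x else y
    have e' : Φ.prodL (rootList (S.PJ a)) (tc c.1 (c.1 ^ T.k (Φ.p i))) =
        Φ.prodL (rootList (S.PJ a)) (tc d.1 (d.1 ^ T.k (Φ.p i))) := by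
      rw [h.prod_eq, h.prod_eq]
      simp only [tc, if_pos, if_neg h.hne]
      exact congrArg Subtype.val e
    have := Φ.prodL_injective (pairwise_rootList _) (fun r hr => (mem_rootList.mp hr).1) e' (Φ.p i)
      (mem_rootList.mpr (S.p_mem_PJ h.mem.1))
    exact Subtype.ext (by simpa [tc] using this)
  · rintro ⟨g, hg⟩
    obtain ⟨x, y, h1, h2, rfl⟩ := h.fix_iff.mp hg
    subst h1
    exact ⟨⟨x, h2⟩, rfl⟩

open Classical in
theorem Two.wit (h : Two (S := S) a i j) :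
    ∃ t : Fin D.nroots → F, Φ.prodL (rootList (S.PJ a)) t ∈ T.fix ∧ ∀ k ∈ S.J a, t (Φ.p k) ≠ 0 :=
  ⟨fun _ => 1, by rw [h.prod_eq]; exact (h.app (one_pow _) (one_pow _)).1, fun _ _ => one_ne_zero⟩

end Tw

end Chev

end CfsgLib.Chev
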