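/-
Facts on finite fields and helpers for the tabulated twisted types.
-/
import Cfsg.Agent.Lib.Chev.Twist.Small

namespace CfsgLib.Chev

open Cfsg.Lie Matrix

set_option linter.dupNamespace false
set_option linter.unusedSectionVars false

/-- The ground field of a twisted type. -/
theorem exists_frob {K : Type*} [Field K] [Fintype K] {q m : ℕ} (hq : IsPrimePow q) (hK : Fintype.card K = q ^ m)
    : ∃ f : K →+* K, ∀ x, f x = x ^ q := by
  obtain ⟨p, n, hp, hn, rfl⟩ := hq
  have hp' : p.Prime := Nat.prime_iff.mpr hp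
  haveI := Fact.mk hp'
  haveI : CharP K p := charP_of_card_eq_prime_pow (f := n * m) (by rw [hK, ← pow_mul])
  exact ⟨iterateFrobenius K p n, fun x => iterateFrobenius_def p n x⟩

theorem card_units_pow_eq_self {K : Type*} [Field K] [Fintype K] {q m : ℕ} (hq : 1 < q)
    (hK : Fintype.card K = q ^ m) : Nat.card {u : Kˣ // u ^ q = u} = q - 1 := by
  have := IsCyclic.card_powMonoidHom_ker (G := Kˣ) (q - 1)
  rw [Nat.card_units, Nat.card_eq_fintype_card (α := K), hK,
    Nat.gcd_eq_right (by simpa using Nat.sub_dvd_pow_sub_pow q 1 m)] at this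
  rw [← this]
  obtain ⟨r, rfl⟩ : ∃ r, q = r + 1 := ⟨q - 1, by omega⟩
  refine Nat.card_congr (Equiv.subtypeEquivRight fun u => ?_)
  rw [MonoidHom.mem_ker, powMonoidHom_apply, pow_succ, Nat.add_sub_cancel]
  exact mul_eq_right

theorem card_pow_eq_self {K : Type*} [Field K] [Fintype K] {q m : ℕ} (hq : 1 < q)
    (hK : Fintype.card K = q ^ m) : Nat.card {c : K // c ^ q = c} = q := by
  classical
  have e : {c : K // c ^ q = c} ≃ Option {u : Kˣ // u ^ q = u} :=
    { toFun := fun c => if h : c.1 = 0 then none else some ⟨Units.mk0 c.1 h, Units.ext (by simpa using c.2)⟩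
      invFun := fun o => match o with
        | none => ⟨0, zero_pow (by omega)⟩
        | some u => ⟨u.1, by rw [← Units.val_pow_eq_pow_val, u.2]⟩
      left_inv := fun c => by
        by_cases h : c.1 = 0
        · simp [h]; exact Subtype.ext h.symm
        · simp [h]
      right_inv := fun o => by
        match o with
        | none => simp
        | some u => simp [Units.ne_zero] }
  rw [Nat.card_congr e, Finite.card_option, card_units_pow_eq_self hq hK]
  omega

variable {D : ChevalleyDatum} {Φ : Chev D} {T : SymData} {p : ℕ}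

namespace Chev

theorem xg_of_word_one (Φ : Chev D) {F : Type*} [Field F] {r : ℕ} (hr : r < D.nroots) {t : F}
    {g : GL D.Idx F} (hg : (g : Matrix D.Idx D.Idx F) = D.wordMat F [(r, t)]) :
    g = Φ.toAlg.xg ⟨r, hr⟩ t := by
  refine (Φ.toAlg.eq_xg_iff (r := ⟨r, hr⟩)).mp ?_
  rw [hg]
  simp [ChevalleyDatum.wordMat]

theorem N_eq_zero_of_check (Φ : Chev D) {r s : Fin D.nroots} (h : (D.chainEntry r.val s.val).isEmpty = true) :
    Φ.N r s = 0 := by
  by_contra hne
  rw [show D.chainEntry r.val s.val = _ from Φ.toSys.chainEntry_eq r s] at h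
  rw [Tables.entry, if_neg (by rw [Φ.toSys.ch_one_snd]; exact hne)] at h
  simp at h

theorem p_val (Φ : Chev D) (i : Fin D.rank) : (Φ.p i).val = D.simple i.val := (Φ.simple_val i).symm

theorem p_rev_val (Φ : Chev D) (i : Fin D.rank) : (Φ.p i).rev.val = D.neg (D.simple i.val) := by
  rw [← p_val Φ]; exact (Φ.negIdx_eq _).symm

/-- The test that two fundamental roots are orthogonal. -/
def orthCheck (D : ChevalleyDatum) (i j : ℕ) : Bool :=
  (D.chainEntry (D.simple i) (D.simple j)).isEmpty &&
    (D.chainEntry (D.simple i) (D.neg (D.simple j))).isEmpty &&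
    !(Nat.beq (D.simple j) (D.simple i)) && !(Nat.beq (D.simple j) (D.neg (D.simple i)))

theorem orth_of_check (Φ : Chev D) {i j : Fin D.rank} (h : orthCheck D i.val j.val = true) :
    Φ.Orth (Φ.p i) (Φ.p j) := by
  simp only [orthCheck, Bool.and_eq_true, Bool.not_eq_true'] at h
  obtain ⟨⟨⟨h1, h2⟩, h3⟩, h4⟩ := h
  refine ⟨fun e => ?_, fun e => ?_, Φ.N_eq_zero_of_check (by rw [p_val, p_val]; exact h1),
    Φ.N_eq_zero_of_check (by rw [p_val, p_rev_val]; exact h2)⟩
  · rw [← p_val Φ j, ← p_val Φ i, e] at h3; simp at h3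
  · rw [← p_val Φ j, ← p_rev_val Φ i, e] at h4; simp at h4

/-- The test that an orbit contains no other positive roots. -/
def onlySimple (D : ChevalleyDatum) (T : SymData) (a : ℕ) : Bool :=
  (List.range D.nroots).all fun r => !(T.inPJ D a r) || (T.orb a).any fun i => Nat.beq (D.simple i) r

theorem SymOK.only_simple (h : SymOK (D := D) T p) (a : Fin (h.sym Φ).m) (hc : onlySimple D T a.val = true)
    (r : Fin D.nroots) (hr : (h.sym Φ).PJ a r) : ∃ i : Fin D.rank, i.val ∈ T.orb a.val ∧ r = Φ.p i := by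
  have h1 := (inPJ_iff Φ T a.val r).mpr hr
  simp only [onlySimple, List.all_eq_true, List.mem_range, Bool.or_eq_true, Bool.not_eq_true',
    List.any_eq_true, Nat.beq_eq] at hc
  obtain ⟨i, hi, e⟩ := (hc r.val r.isLt).resolve_left (by simp [h1])
  have hlt : i < D.rank := by
    have := h.orbits
    simp only [SymData.checkOrbits, List.all_eq_true, List.mem_range, Bool.and_eq_true, Nat.blt_eq] at this
    exact (this _ a.isLt).1.1.1.1.2 i hi
  exact ⟨⟨i, hlt⟩, hi, Fin.ext (by rw [p_val]; exact e.symm)⟩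

end Chev

end CfsgLib.Chev
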