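/-
Orbits of three orthogonal fundamental roots, and a commutator relation in characteristic two.
-/
import Cfsg.Agent.Lib.Chev.Twist.Small

namespace CfsgLib.Chev

open Cfsg.Lie Matrix

set_option linter.dupNamespace false
set_option linter.unusedSectionVars false

variable {D : ChevalleyDatum}

namespace Chev

variable {Φ : Chev D} {S : Φ.Sym} {F : Type*} [Field F] {T : Tw S F}

theorem swap_rel_two (Φ : Chev D) (hc2 : (2 : F) = 0) {r s t : ℕ} (hr : r < D.nroots) (hs : s < D.nroots)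
    (ht : t < D.nroots) (hne : s ≠ r) (hneg : s ≠ D.neg r) (c : ℤ) (hc : c = 1 ∨ c = -1)
    (h : D.commTerms r s = [(t, c, 1, 1)]) (x y : F) :
    Φ.toAlg.xg ⟨s, hs⟩ y * Φ.toAlg.xg ⟨r, hr⟩ x =
      Φ.toAlg.xg ⟨r, hr⟩ x * Φ.toAlg.xg ⟨s, hs⟩ y * Φ.toAlg.xg ⟨t, ht⟩ (x * y) := by
  have hn : ∀ z : F, -z = z := fun z => by rw [neg_eq_iff_add_eq_zero, ← two_mul, hc2, zero_mul]
  have hcK : (c : F) = 1 := by rcases hc with rfl | rfl <;> simp [hn]
  refine Units.ext ?_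
  have := Φ.commutator_formula (r := ⟨r, hr⟩) (s := ⟨s, hs⟩) (R := F)
    (fun e => hne (congrArg Fin.val e)) (fun e => hneg ((congrArg Fin.val e).trans (Φ.negIdx_eq _).symm)) x y
  simp only [Units.val_mul, Alg.xg_val]
  rw [this, h]
  simp [Sys.termProd, Sys.XN, ht, hcK, hn]

namespace Tw

/-- An orbit of three pairwise orthogonal roots. -/
structure Three (a : Fin S.m) (i j l : Fin D.rank) : Prop where
  hJ : ∀ k, k ∈ S.J a ↔ k = i ∨ k = j ∨ k = l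
  hPJ : ∀ r, S.PJ a r → r = Φ.p i ∨ r = Φ.p j ∨ r = Φ.p l
  hij : S.τ i = j
  hjl : S.τ j = l
  hli : S.τ l = i
  oij : Φ.Orth (Φ.p i) (Φ.p j)
  oil : Φ.Orth (Φ.p i) (Φ.p l)
  ojl : Φ.Orth (Φ.p j) (Φ.p l)
  hw : S.w a = Φ.reflPerm i * Φ.reflPerm j * Φ.reflPerm l

variable {a : Fin S.m} {i j l : Fin D.rank}

theorem Three.mem (h : Three (S := S) a i j l) : i ∈ S.J a ∧ j ∈ S.J a ∧ l ∈ S.J a :=
  ⟨(h.hJ i).mpr (Or.inl rfl), (h.hJ j).mpr (Or.inr (Or.inl rfl)), (h.hJ l).mpr (Or.inr (Or.inr rfl))⟩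

theorem orth_comms {r s : Fin D.nroots} (h : Φ.Orth r s) (x y : F) :
    Commute (Φ.toAlg.xg r x) (Φ.toAlg.xg s y) ∧ Commute (Φ.toAlg.xg r.rev x) (Φ.toAlg.xg s.rev y) ∧
      Commute (Φ.toAlg.xg r.rev x) (Φ.toAlg.xg s y) ∧ Commute (Φ.toAlg.xg r x) (Φ.toAlg.xg s.rev y) := by
  obtain ⟨h1, h2, h3, h4⟩ := h
  refine ⟨Φ.xg_commute_of h2 h3 x y,
    Φ.xg_commute_of (fun e => h2 (Fin.rev_injective e)) (by rw [Φ.N_rev, h3, neg_zero]) x y,
    Φ.xg_commute_of (by rw [Fin.rev_rev]; exact h1) ?_ x y,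
    Φ.xg_commute_of (fun e => h1 (Fin.rev_injective e)) h4 x y⟩
  have := Φ.N_rev r.rev s
  rw [Fin.rev_rev] at this
  omega

theorem orth_nw {r s : Fin D.nroots} (h : Φ.Orth r s) (t u : Fˣ) : Commute (Φ.nw r t) (Φ.nw s u) :=
  comm_three (orth_comms h _ _).1 (orth_comms h _ _).2.2.2 (orth_comms h _ _).1 (orth_comms h _ _).2.2.1
    (orth_comms h _ _).2.1 (orth_comms h _ _).2.2.1 (orth_comms h _ _).1 (orth_comms h _ _).2.2.2
    (orth_comms h _ _).1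

/-- The product of the root elements of three roots. -/
def X3 (Φ : Chev D) (r s t : Fin D.nroots) (x y z : F) : GL D.Idx F :=
  Φ.toAlg.xg r x * Φ.toAlg.xg s y * Φ.toAlg.xg t z

theorem Three.app (h : Three (S := S) a i j l) {x y z : F} (h1 : x ^ T.k (Φ.p i) = y) (h2 : y ^ T.k (Φ.p j) = z)
    (h3 : z ^ T.k (Φ.p l) = x) :
    X3 Φ (Φ.p i) (Φ.p j) (Φ.p l) x y z ∈ T.fix ∧ X3 Φ (Φ.p i).rev (Φ.p j).rev (Φ.p l).rev x y z ∈ T.fix := by
  have g := fun r (c : F) => Φ.toAlg.xg_mem_group r c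
  constructor
  · refine ⟨mul_mem (mul_mem (g _ _) (g _ _)) (g _ _), ?_⟩
    rw [X3, T.app_mul (mul_mem (g _ _) (g _ _)) (g _ _), T.app_mul (g _ _) (g _ _), T.app_p, T.app_p, T.app_p,
      h.hij, h.hjl, h.hli, h1, h2, h3, ((orth_comms h.oij x y).1.symm.mul_left (orth_comms h.oil x z).1.symm).eq,
      mul_assoc]
  · refine ⟨mul_mem (mul_mem (g _ _) (g _ _)) (g _ _), ?_⟩
    rw [X3, T.app_mul (mul_mem (g _ _) (g _ _)) (g _ _), T.app_mul (g _ _) (g _ _), T.app_prev, T.app_prev,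
      T.app_prev, h.hij, h.hjl, h.hli, h1, h2, h3,
      ((orth_comms h.oij x y).2.1.symm.mul_left (orth_comms h.oil x z).2.1.symm).eq, mul_assoc]

theorem Three.hN (h : Three (S := S) a i j l) (r s : Fin D.nroots) (hr : S.PJ a r) (hs : S.PJ a s) :
    Φ.N r s = 0 := by
  rcases h.hPJ r hr with rfl | rfl | rfl <;> rcases h.hPJ s hs with rfl | rfl | rfl <;>
    first
      | exact Φ.N_self _
      | exact h.oij.2.2.1
      | exact h.oil.2.2.1
      | exact h.ojl.2.2.1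
      | (rw [Φ.N_anti, h.oij.2.2.1, neg_zero])
      | (rw [Φ.N_anti, h.oil.2.2.1, neg_zero])
      | (rw [Φ.N_anti, h.ojl.2.2.1, neg_zero])

open Classical in
theorem Three.prod_eq (h : Three (S := S) a i j l) (t : Fin D.nroots → F) :
    Φ.prodL (rootList (S.PJ a)) t = X3 Φ (Φ.p i) (Φ.p j) (Φ.p l) (t (Φ.p i)) (t (Φ.p j)) (t (Φ.p l)) := by
  have hp : ([Φ.p i, Φ.p j, Φ.p l] : List _).Perm (rootList (S.PJ a)) := by
    refine (List.perm_ext_iff_of_nodup (by simp [Ne.symm h.oij.1, Ne.symm h.oil.1, Ne.symm h.ojl.1])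
      (pairwise_rootList _).nodup).mpr fun r => ?_
    rw [mem_rootList]
    simp only [List.mem_cons, List.not_mem_nil, or_false]
    exact ⟨by rintro (e | e | e) <;> subst e <;> first
        | exact S.p_mem_PJ h.mem.1 | exact S.p_mem_PJ h.mem.2.1 | exact S.p_mem_PJ h.mem.2.2, h.hPJ r⟩
  rw [prodL, ← (hp.map _).prod_eq' (by
    simp [List.pairwise_cons, (orth_comms h.oij _ _).1, (orth_comms h.oil _ _).1, (orth_comms h.ojl _ _).1])]
  simp [X3, mul_assoc]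

open Classical in
theorem Three.fix_iff (h : Three (S := S) a i j l) {g : GL D.Idx F} :
    g ∈ Φ.US F (S.PJ a) ⊓ T.fix ↔ ∃ x y z, x ^ T.k (Φ.p i) = y ∧ y ^ T.k (Φ.p j) = z ∧ z ^ T.k (Φ.p l) = x ∧
      g = X3 Φ (Φ.p i) (Φ.p j) (Φ.p l) x y z := by
  constructor
  · intro hg
    obtain ⟨t, ht, rfl⟩ := (T.mem_root_fix_iff a h.hN).mp hg
    have h1 := T.fixParam_p ht h.mem.1
    have h2 := T.fixParam_p ht h.mem.2.1
    have h3 := T.fixParam_p ht h.mem.2.2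
    rw [h.hij] at h1
    rw [h.hjl] at h2
    rw [h.hli] at h3
    exact ⟨_, _, _, h1.symm, h2.symm, h3.symm, h.prod_eq t⟩
  · rintro ⟨x, y, z, h1, h2, h3, rfl⟩
    exact Subgroup.mem_inf.mpr
      ⟨mul_mem (mul_mem (Φ.xg_mem_US (S.p_mem_PJ h.mem.1) _) (Φ.xg_mem_US (S.p_mem_PJ h.mem.2.1) _))
        (Φ.xg_mem_US (S.p_mem_PJ h.mem.2.2) _), (h.app h1 h2 h3).1⟩

variable {G1 : Subgroup (GL D.Idx F)}

theorem Three.facts (h : Three (S := S) a i j l)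
    (hp : ∀ x y z : F, x ^ T.k (Φ.p i) = y → y ^ T.k (Φ.p j) = z → z ^ T.k (Φ.p l) = x →
      X3 Φ (Φ.p i) (Φ.p j) (Φ.p l) x y z ∈ G1 ∧ X3 Φ (Φ.p i).rev (Φ.p j).rev (Φ.p l).rev x y z ∈ G1) :
    (Φ.US F (S.PJ a) ⊓ T.fix ≤ G1) ∧
    (∃ n ∈ G1, n ∈ D.monomialSubgroup F ∧ Φ.Mono n (S.w a)) ∧
    (∀ d, T.dmap d = d → (∀ k, k ∉ S.J a → d k = 1) → tor (Φ := Φ) d ∈ G1) := by
  have hn : ∀ t u v : Fˣ, t ^ T.k (Φ.p i) = u → u ^ T.k (Φ.p j) = v → v ^ T.k (Φ.p l) = t →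
      Φ.nw (Φ.p i) t * Φ.nw (Φ.p j) u * Φ.nw (Φ.p l) v ∈ G1 := by
    intro t u v ht hu hv
    have e1 : (t : F) ^ T.k (Φ.p i) = u := by rw [← Units.val_pow_eq_pow_val, ht]
    have e2 : (u : F) ^ T.k (Φ.p j) = v := by rw [← Units.val_pow_eq_pow_val, hu]
    have e3 : (v : F) ^ T.k (Φ.p l) = t := by rw [← Units.val_pow_eq_pow_val, hv]
    have f1 := T.neg_inv_fix i t
    have f2 := T.neg_inv_fix j u
    have f3 := T.neg_inv_fix l v
    rw [ht] at f1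
    rw [hu] at f2
    rw [hv] at f3
    have hm := mul_mem (mul_mem (hp _ _ _ e1 e2 e3).1 (hp _ _ _ f1 f2 f3).2) (hp _ _ _ e1 e2 e3).1
    have key : Φ.nw (Φ.p i) t * Φ.nw (Φ.p j) u * Φ.nw (Φ.p l) v =
        X3 Φ (Φ.p i) (Φ.p j) (Φ.p l) (t : F) (u : F) (v : F) *
          X3 Φ (Φ.p i).rev (Φ.p j).rev (Φ.p l).rev (-(t : F)⁻¹) (-(u : F)⁻¹) (-(v : F)⁻¹) *
          X3 Φ (Φ.p i) (Φ.p j) (Φ.p l) (t : F) (u : F) (v : F) := by
      rw [← Φ.nw_pair h.oij]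
      simp only [X3, Chev.nw]
      exact (mul_three
        ((orth_comms h.oil _ _).2.2.1.symm.mul_right (orth_comms h.ojl _ _).2.2.1.symm)
        ((orth_comms h.oil _ _).1.symm.mul_right (orth_comms h.ojl _ _).1.symm)
        ((orth_comms h.oil _ _).2.2.2.symm.mul_right (orth_comms h.ojl _ _).2.2.2.symm)).symm
    rw [key]; exact hm
  refine ⟨fun g hg => ?_, ⟨_, hn 1 1 1 (one_pow _) (one_pow _) (one_pow _),
    mul_mem (mul_mem (Φ.nw_mem_N _ _) (Φ.nw_mem_N _ _)) (Φ.nw_mem_N _ _), ?_⟩, fun d hd hs => ?_⟩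
  · obtain ⟨x, y, z, h1, h2, h3, rfl⟩ := h.fix_iff.mp hg
    exact (hp x y z h1 h2 h3).1
  · rw [h.hw]; exact Mono.mul Φ (Mono.mul Φ (mono_nw Φ i 1) (mono_nw Φ j 1)) (mono_nw Φ l 1)
  · have hij : i ≠ j := fun e => h.oij.1 (by rw [e])
    have hil : i ≠ l := fun e => h.oil.1 (by rw [e])
    have hjl : j ≠ l := fun e => h.ojl.1 (by rw [e])
    have e : d = Pi.mulSingle i (d i) * Pi.mulSingle j (d j) * Pi.mulSingle l (d l) := funext fun k => by
      by_cases hk : k = i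
      · subst hk; simp [Pi.mulSingle_eq_of_ne hij, Pi.mulSingle_eq_of_ne hil]
      by_cases hk' : k = j
      · subst hk'; simp [Pi.mulSingle_eq_of_ne hk, Pi.mulSingle_eq_of_ne hjl]
      by_cases hk'' : k = l
      · subst hk''; simp [Pi.mulSingle_eq_of_ne hk, Pi.mulSingle_eq_of_ne hk']
      · simp [Pi.mulSingle_eq_of_ne hk, Pi.mulSingle_eq_of_ne hk', Pi.mulSingle_eq_of_ne hk'',
          hs k (fun e => ((h.hJ k).mp e).elim hk (fun e => e.elim hk' hk''))]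
    have step : ∀ {x y : Fin D.rank}, S.τ x = y → d x ^ T.k (Φ.p x) = d y := fun {x y} hxy => by
      have := congrFun hd y
      simp only [dmap, S.τ.symm_apply_eq.mpr hxy.symm] at this
      exact this
    have m1 := hn _ _ _ (step h.hij) (step h.hjl) (step h.hli)
    have m2 := hn _ _ _ (T.units_neg_one_pow i) (T.units_neg_one_pow j) (T.units_neg_one_pow l)
    rw [e, map_mul, map_mul, tor_single, tor_single, tor_single, Chev.hw, Chev.hw, Chev.hw,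
      mul_three (orth_nw h.oij _ _) (orth_nw h.oil _ _) (orth_nw h.ojl _ _)]
    exact mul_mem m1 m2

open Classical in
theorem Three.card (h : Three (S := S) a i j l) :
    Nat.card ↥(Φ.US F (S.PJ a) ⊓ T.fix) =
      Nat.card {c : F // ((c ^ T.k (Φ.p i)) ^ T.k (Φ.p j)) ^ T.k (Φ.p l) = c} := by
  symm
  refine Nat.card_congr (Equiv.ofBijective
    (fun c => (⟨_, h.fix_iff.mpr ⟨c.1, _, _, rfl, rfl, c.2, rfl⟩⟩ : ↥(Φ.US F (S.PJ a) ⊓ T.fix))) ⟨?_, ?_⟩)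
  · intro c d e
    let tc : F → F → F → Fin D.nroots → F := fun x y z r => if r = Φ.p i then x else if r = Φ.p j then y else z
    have e' : ∀ x y z : F, Φ.prodL (rootList (S.PJ a)) (tc x y z) = X3 Φ (Φ.p i) (Φ.p j) (Φ.p l) x y z :=
      fun x y z => by
        rw [h.prod_eq]
        simp [tc, h.oij.1, h.oil.1, h.ojl.1]
    have e'' := congrArg Subtype.val e
    simp only at e''
    rw [← e', ← e'] at e''
    have := Φ.prodL_injective (pairwise_rootList _) (fun r hr => (mem_rootList.mp hr).1) e'' (Φ.p i)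
      (mem_rootList.mpr (S.p_mem_PJ h.mem.1))
    exact Subtype.ext (by simpa [tc] using this)
  · rintro ⟨g, hg⟩
    obtain ⟨x, y, z, h1, h2, h3, rfl⟩ := h.fix_iff.mp hg
    subst h1 h2
    exact ⟨⟨x, h3⟩, rfl⟩

open Classical in
theorem Three.wit (h : Three (S := S) a i j l) :
    ∃ t : Fin D.nroots → F, Φ.prodL (rootList (S.PJ a)) t ∈ T.fix ∧ ∀ k ∈ S.J a, t (Φ.p k) ≠ 0 :=
  ⟨fun _ => 1, by rw [h.prod_eq]; exact (h.app (one_pow _) (one_pow _) (one_pow _)).1, fun _ _ => one_ne_zero⟩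

end Tw

end Chev

end CfsgLib.Chev
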