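/-
The twisted groups of type ³D₄ as fixed groups.
-/
import Cfsg.Agent.Lib.Chev.Twist.Finite
import Cfsg.Agent.Lib.Chev.Twist.Three
import Cfsg.Agent.Lib.Chev.Twist.DataD4
import Cfsg.Agent.Lib.Chev.Twist.Simple
import Cfsg.Agent.Lib.Chev.SteinbergData
import Cfsg.Prelude.Def_LieTwisted

namespace CfsgLib.Chev.T3D4

open Cfsg.Lie Matrix Chev

set_option linter.dupNamespace false
set_option linter.unusedSectionVars false
set_option maxRecDepth 100000

/-- The symmetry. -/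
noncomputable abbrev S : CfsgLib.Chev.chevD4.Sym := symOKD4.sym CfsgLib.Chev.chevD4

variable {K : Type*} [Field K] [Fintype K] {q : ℕ}

/-- The twisted endomorphism. -/
noncomputable def tw (hq : IsPrimePow q) (hK : Fintype.card K = q ^ 3) : Tw S K :=
  symOKD4.tw (CfsgLib.Chev.chevD4.adj_of_check adjD4) (morOK_zero K) checkMorD4a (exists_frob hq hK).choose q
    (exists_frob hq hK).choose_spec

variable (hq : IsPrimePow q) (hK : Fintype.card K = q ^ 3)

theorem k_p (i : Fin Cfsg.Lie.chevD4.rank) : (tw hq hK).k (CfsgLib.Chev.chevD4.p i) = q := by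
  show morD4a.l (CfsgLib.Chev.chevD4.p i).val * q = q
  have : ∀ i : Fin Cfsg.Lie.chevD4.rank, morD4a.l (Cfsg.Lie.chevD4.simple i.val) = 1 := by decide +kernel
  rw [p_val, this, one_mul]

/-- The index of a fundamental root. -/
abbrev ix (n : ℕ) (h : n < Cfsg.Lie.chevD4.rank := by decide) : Fin Cfsg.Lie.chevD4.rank := ⟨n, h⟩

/-- An orbit index. -/
abbrev ox (n : ℕ) (h : n < 2 := by decide) : Fin S.m := ⟨n, h⟩

theorem tau_cases :
    S.τ (ix 0) = ix 2 ∧ S.τ (ix 1) = ix 1 ∧ S.τ (ix 2) = ix 3 ∧ S.τ (ix 3) = ix 0 :=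
  ⟨Fin.ext rfl, Fin.ext rfl, Fin.ext rfl, Fin.ext rfl⟩

theorem orb0 : Tw.One (S := S) (ox 0) (ix 1) where
  hJ k := by show k.val ∈ symD4.orb 0 ↔ k = ix 1; simp [symD4, SymData.orb, Fin.ext_iff]
  hPJ r hr := by
    obtain ⟨j, hj, rfl⟩ := symOKD4.only_simple (ox 0) (by decide +kernel) r hr
    simp [symD4, SymData.orb] at hj
    rw [show j = ix 1 from Fin.ext hj]
  hw := by show wPerm _ symD4 0 = _; simp [wPerm, symD4, SymData.word]; rfl

theorem orb1 : Tw.Three (S := S) (ox 1) (ix 0) (ix 2) (ix 3) where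
  hJ k := by show k.val ∈ symD4.orb 1 ↔ _; simp [symD4, SymData.orb, Fin.ext_iff]
  hPJ r hr := by
    obtain ⟨j, hj, rfl⟩ := symOKD4.only_simple (ox 1) (by decide +kernel) r hr
    simp [symD4, SymData.orb] at hj
    rcases hj with e | e | e
    · rw [show j = ix 0 from Fin.ext e]; exact Or.inl rfl
    · rw [show j = ix 2 from Fin.ext e]; exact Or.inr (Or.inl rfl)
    · rw [show j = ix 3 from Fin.ext e]; exact Or.inr (Or.inr rfl)
  hij := tau_cases.1
  hjl := tau_cases.2.2.1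
  hli := tau_cases.2.2.2
  oij := orth_of_check _ (by decide +kernel)
  oil := orth_of_check _ (by decide +kernel)
  ojl := orth_of_check _ (by decide +kernel)
  hw := by show wPerm _ symD4 1 = _; simp [wPerm, symD4, SymData.word, mul_assoc]; rfl

theorem p_eq {n : ℕ} (h : n < Cfsg.Lie.chevD4.nroots) (i : Fin Cfsg.Lie.chevD4.rank) (e : Cfsg.Lie.chevD4.simple i.val = n) :
    (⟨n, h⟩ : Fin Cfsg.Lie.chevD4.nroots) = CfsgLib.Chev.chevD4.p i := Fin.ext (by rw [p_val, e])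

theorem prev_eq {n : ℕ} (h : n < Cfsg.Lie.chevD4.nroots) (i : Fin Cfsg.Lie.chevD4.rank)
    (e : Cfsg.Lie.chevD4.neg (Cfsg.Lie.chevD4.simple i.val) = n) :
    (⟨n, h⟩ : Fin Cfsg.Lie.chevD4.nroots) = (CfsgLib.Chev.chevD4.p i).rev := Fin.ext (by rw [p_rev_val, e])

theorem word_three {r s u : ℕ} (hr : r < Cfsg.Lie.chevD4.nroots) (hs : s < Cfsg.Lie.chevD4.nroots)
    (hu : u < Cfsg.Lie.chevD4.nroots) {x y z : K} {g : GL Cfsg.Lie.chevD4.Idx K}
    (hg : (g : Matrix Cfsg.Lie.chevD4.Idx Cfsg.Lie.chevD4.Idx K) = Cfsg.Lie.chevD4.wordMat K [(r, x), (s, y), (u, z)]) :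
    g = Tw.X3 CfsgLib.Chev.chevD4 ⟨r, hr⟩ ⟨s, hs⟩ ⟨u, hu⟩ x y z := by
  refine Units.ext ?_
  rw [hg, Tw.X3, Units.val_mul, Units.val_mul, ← Alg.x_val, ← Alg.x_val, ← Alg.x_val]
  simp [ChevalleyDatum.wordMat, Matrix.mul_assoc]

/-- The generators. -/
def gens (K : Type*) [Field K] (q : ℕ) : Set (GL Cfsg.Lie.chevD4.Idx K) :=
  {g | ∃ w ∈ d4Words K q, (g : Matrix Cfsg.Lie.chevD4.Idx Cfsg.Lie.chevD4.Idx K) = Cfsg.Lie.chevD4.wordMat K w}

theorem twisted_eq : twistedD4 K q = Subgroup.closure (gens K q) := rfl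

theorem one_gen {c : K} (hc : c ^ q = c) :
    CfsgLib.Chev.chevD4.toAlg.xg (CfsgLib.Chev.chevD4.p (ix 1)) c ∈ twistedD4 K q ∧
      CfsgLib.Chev.chevD4.toAlg.xg (CfsgLib.Chev.chevD4.p (ix 1)).rev c ∈ twistedD4 K q := by
  have key : ∀ r ∈ [d4p2, d4m2], ∀ hr : r < Cfsg.Lie.chevD4.nroots,
      CfsgLib.Chev.chevD4.toAlg.xg ⟨r, hr⟩ c ∈ twistedD4 K q := fun r hr hlt =>
    Subgroup.subset_closure ⟨_, Or.inl ⟨c, hc, r, hr, rfl⟩, by
      rw [← Alg.x_val]; simp [ChevalleyDatum.wordMat]⟩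
  rw [← prev_eq (n := d4m2) (by decide) (ix 1) (by decide +kernel),
    ← p_eq (n := d4p2) (by decide) (ix 1) (by decide +kernel)]
  exact ⟨key _ (by simp) _, key _ (by simp) _⟩

theorem three_gen (c : K) :
    Tw.X3 CfsgLib.Chev.chevD4 (CfsgLib.Chev.chevD4.p (ix 0)) (CfsgLib.Chev.chevD4.p (ix 2))
        (CfsgLib.Chev.chevD4.p (ix 3)) c (c ^ q) (c ^ q ^ 2) ∈ twistedD4 K q ∧
      Tw.X3 CfsgLib.Chev.chevD4 (CfsgLib.Chev.chevD4.p (ix 0)).rev (CfsgLib.Chev.chevD4.p (ix 2)).rev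
        (CfsgLib.Chev.chevD4.p (ix 3)).rev c (c ^ q) (c ^ q ^ 2) ∈ twistedD4 K q := by
  have key : ∀ rs ∈ [(d4p1, d4p3, d4p4), (d4m1, d4m3, d4m4)],
      ∀ (hr : rs.1 < Cfsg.Lie.chevD4.nroots) (hs : rs.2.1 < Cfsg.Lie.chevD4.nroots)
        (hu : rs.2.2 < Cfsg.Lie.chevD4.nroots),
      Tw.X3 CfsgLib.Chev.chevD4 ⟨rs.1, hr⟩ ⟨rs.2.1, hs⟩ ⟨rs.2.2, hu⟩ c (c ^ q) (c ^ q ^ 2) ∈ twistedD4 K q :=
    fun rs hrs hr hs hu => Subgroup.subset_closure ⟨_, Or.inr ⟨c, rs, hrs, rfl⟩, by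
      rw [Tw.X3, Units.val_mul, Units.val_mul, ← Alg.x_val, ← Alg.x_val, ← Alg.x_val]
      simp [ChevalleyDatum.wordMat, Matrix.mul_assoc]⟩
  rw [← prev_eq (n := d4m1) (by decide) (ix 0) (by decide +kernel),
    ← prev_eq (n := d4m3) (by decide) (ix 2) (by decide +kernel),
    ← prev_eq (n := d4m4) (by decide) (ix 3) (by decide +kernel),
    ← p_eq (n := d4p1) (by decide) (ix 0) (by decide +kernel),
    ← p_eq (n := d4p3) (by decide) (ix 2) (by decide +kernel),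
    ← p_eq (n := d4p4) (by decide) (ix 3) (by decide +kernel)]
  exact ⟨key (d4p1, d4p3, d4p4) (by simp) _ _ _, key (d4m1, d4m3, d4m4) (by simp) _ _ _⟩

include hK in
theorem pow_q3 (c : K) : ((c ^ q) ^ q) ^ q = c := by
  rw [← pow_mul, ← pow_mul, show q * (q * q) = q ^ 3 by ring, ← hK, FiniteField.pow_card]

theorem gens_fix {g : GL Cfsg.Lie.chevD4.Idx K} (hg : g ∈ gens K q) :
    g ∈ (tw hq hK).fix ∧ ∃ a, g ∈ CfsgLib.Chev.chevD4.US K (S.PJ a) ∨
      g ∈ CfsgLib.Chev.chevD4.US K (fun r => S.PJ a r.rev) := by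
  obtain ⟨w, (⟨t, ht, r, hr, rfl⟩ | ⟨t, rs, hrs, rfl⟩), hg⟩ := hg
  · have hk : t ^ (tw hq hK).k (CfsgLib.Chev.chevD4.p (ix 1)) = t := by rw [k_p]; exact ht
    simp only [List.mem_cons, List.not_mem_nil, or_false] at hr
    rcases hr with rfl | rfl
    · rw [xg_of_word_one CfsgLib.Chev.chevD4 (by decide) hg, p_eq _ (ix 1) (by decide +kernel)]
      exact ⟨(orb0.app hk).1, ox 0, Or.inl (xg_mem_US _ (S.p_mem_PJ orb0.mem) t)⟩
    · rw [xg_of_word_one CfsgLib.Chev.chevD4 (by decide) hg, prev_eq _ (ix 1) (by decide +kernel)]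
      exact ⟨(orb0.app hk).2, ox 0, Or.inr (xg_mem_US _
        (S := fun r => S.PJ (ox 0) r.rev) (by rw [Fin.rev_rev]; exact S.p_mem_PJ orb0.mem) t)⟩
  · have h1 : t ^ (tw hq hK).k (CfsgLib.Chev.chevD4.p (ix 0)) = t ^ q := by rw [k_p]
    have h2 : (t ^ q) ^ (tw hq hK).k (CfsgLib.Chev.chevD4.p (ix 2)) = t ^ q ^ 2 := by rw [k_p, ← pow_mul, sq]
    have h3 : (t ^ q ^ 2) ^ (tw hq hK).k (CfsgLib.Chev.chevD4.p (ix 3)) = t := by
      rw [k_p, sq, pow_mul]; exact pow_q3 hK t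
    simp only [List.mem_cons, List.not_mem_nil, or_false] at hrs
    rcases hrs with rfl | rfl
    · rw [word_three (by decide) (by decide) (by decide) hg, p_eq _ (ix 0) (by decide +kernel),
        p_eq _ (ix 2) (by decide +kernel), p_eq _ (ix 3) (by decide +kernel)]
      exact ⟨(orb1.app h1 h2 h3).1, ox 1, Or.inl (mul_mem (mul_mem (xg_mem_US _ (S.p_mem_PJ orb1.mem.1) _)
          (xg_mem_US _ (S.p_mem_PJ orb1.mem.2.1) _)) (xg_mem_US _ (S.p_mem_PJ orb1.mem.2.2) _))⟩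
    · rw [word_three (by decide) (by decide) (by decide) hg, prev_eq _ (ix 0) (by decide +kernel),
        prev_eq _ (ix 2) (by decide +kernel), prev_eq _ (ix 3) (by decide +kernel)]
      exact ⟨(orb1.app h1 h2 h3).2, ox 1, Or.inr (mul_mem (mul_mem
          (xg_mem_US _ (S := fun r => S.PJ (ox 1) r.rev) (by rw [Fin.rev_rev]; exact S.p_mem_PJ orb1.mem.1) _)
          (xg_mem_US _ (S := fun r => S.PJ (ox 1) r.rev) (by rw [Fin.rev_rev]; exact S.p_mem_PJ orb1.mem.2.1) _))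
          (xg_mem_US _ (S := fun r => S.PJ (ox 1) r.rev) (by rw [Fin.rev_rev]; exact S.p_mem_PJ orb1.mem.2.2) _))⟩

/-- Twice an inverse of the Cartan matrix. -/
def adjA : Matrix (Fin Cfsg.Lie.chevD4.rank) (Fin Cfsg.Lie.chevD4.rank) ℤ :=
  Matrix.of fun a b => ([[2, 2, 1, 1], [2, 4, 2, 2], [1, 2, 2, 1], [1, 2, 1, 2]].getD a.val []).getD b.val 0

theorem A_val (k j : Fin Cfsg.Lie.chevD4.rank) :
    CfsgLib.Chev.chevD4.A k (CfsgLib.Chev.chevD4.p j) = Cfsg.Lie.chevD4.cartan k.val (Cfsg.Lie.chevD4.simple j.val) := by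
  rw [← cartan_val, ← p_val]

theorem ker_sq {z : Fin Cfsg.Lie.chevD4.rank → Kˣ} (hz : Tw.tor (Φ := CfsgLib.Chev.chevD4) z = 1)
    (l : Fin Cfsg.Lie.chevD4.rank) : z l ^ 2 = 1 := by
  refine pow_det_of_coHom adjA (fun k l => ?_) hz l
  have : ∀ k l : Fin Cfsg.Lie.chevD4.rank, ∑ j : Fin Cfsg.Lie.chevD4.rank,
      Cfsg.Lie.chevD4.cartan k.val (Cfsg.Lie.chevD4.simple j.val) * adjA j l =
      if k = l then (2 : ℤ) else 0 := by decide +kernel
  refine Eq.trans ?_ (this k l)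
  exact Finset.sum_congr rfl fun j _ => by rw [A_val]

theorem tau3 (i : Fin Cfsg.Lie.chevD4.rank) : S.τ (S.τ (S.τ i)) = i := by
  have : ∀ i : Fin Cfsg.Lie.chevD4.rank, symD4.t (symD4.t (symD4.t i.val)) = i.val := by decide +kernel
  exact Fin.ext (this i)

theorem tau_symm (i : Fin Cfsg.Lie.chevD4.rank) : S.τ.symm i = S.τ (S.τ i) := by
  rw [Equiv.symm_apply_eq, tau3]

theorem dmap_apply (d : Fin Cfsg.Lie.chevD4.rank → Kˣ) (j : Fin Cfsg.Lie.chevD4.rank) :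
    (tw hq hK).dmap d j = d (S.τ (S.τ j)) ^ q := by
  simp only [Tw.dmap, k_p, tau_symm]

theorem dmap3 (d : Fin Cfsg.Lie.chevD4.rank → Kˣ) :
    (tw hq hK).dmap ((tw hq hK).dmap ((tw hq hK).dmap d)) = d := funext fun j => by
  rw [dmap_apply, dmap_apply, dmap_apply, tau3, tau3]
  exact Units.ext (by
    rw [Units.val_pow_eq_pow_val, Units.val_pow_eq_pow_val, Units.val_pow_eq_pow_val]; exact pow_q3 hK _)

theorem gen : (tw hq hK).Gen (twistedD4 K q) where
  le_fix := by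
    rw [twisted_eq, Subgroup.closure_le]
    exact fun g hg => (gens_fix hq hK hg).1
  root_le a := by
    match a with
    | ⟨0, _⟩ => exact (orb0.facts (T := tw hq hK) fun c hc => one_gen (by rwa [k_p] at hc)).1
    | ⟨1, _⟩ => exact (orb1.facts (T := tw hq hK) fun x y z hx hy _ => by
        rw [k_p] at hx hy
        subst hx
        rw [← hy, ← pow_mul, ← sq]
        exact three_gen x).1
  exists_n a := by
    match a with
    | ⟨0, _⟩ => exact (orb0.facts (T := tw hq hK) fun c hc => one_gen (by rwa [k_p] at hc)).2.1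
    | ⟨1, _⟩ => exact (orb1.facts (T := tw hq hK) fun x y z hx hy _ => by
        rw [k_p] at hx hy
        subst hx
        rw [← hy, ← pow_mul, ← sq]
        exact three_gen x).2.1
  torus_le a := by
    match a with
    | ⟨0, _⟩ => exact (orb0.facts (T := tw hq hK) fun c hc => one_gen (by rwa [k_p] at hc)).2.2
    | ⟨1, _⟩ => exact (orb1.facts (T := tw hq hK) fun x y z hx hy _ => by
        rw [k_p] at hx hy
        subst hx
        rw [← hy, ← pow_mul, ← sq]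
        exact three_gen x).2.2
  lift d hd := by
    have hmul : ∀ x y : Fin Cfsg.Lie.chevD4.rank → Kˣ,
        (tw hq hK).dmap (x * y) = (tw hq hK).dmap x * (tw hq hK).dmap y :=
      fun x y => funext fun j => by simp [dmap_apply, mul_pow]
    have hdiv : ∀ x y : Fin Cfsg.Lie.chevD4.rank → Kˣ,
        (tw hq hK).dmap (x / y) = (tw hq hK).dmap x / (tw hq hK).dmap y :=
      fun x y => funext fun j => by simp [dmap_apply, div_pow]
    set A := (tw hq hK).dmap d with hA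
    set B := (tw hq hK).dmap A with hB
    have hw : Tw.tor (Φ := CfsgLib.Chev.chevD4) (B / A) = 1 := by
      rw [map_div, hB, ← Tw.app_tor, hA, hd, Tw.app_tor, ← hA, hd, div_self']
    refine ⟨d * (B / A), ?_, by rw [map_mul, hw, mul_one]⟩
    rw [hmul, hdiv, ← hB, hB, dmap3, ← hB]
    funext j
    have h2 := ker_sq hw j
    rw [Pi.div_apply, div_pow, div_eq_one] at h2
    simp only [Pi.mul_apply, Pi.div_apply, ← hA]
    rw [mul_div, mul_div, div_eq_div_iff_mul_eq_mul]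
    calc A j * d j * A j = d j * A j ^ 2 := by rw [sq]; ac_rfl
      _ = d j * B j ^ 2 := by rw [h2]
      _ = d j * B j * B j := by rw [sq, mul_assoc]

theorem eq_fix : twistedD4 K q = (tw hq hK).fix := (gen hq hK).eq_fix

theorem wit : (tw hq hK).Wit := fun a => by
  match a with
  | ⟨0, _⟩ => exact orb0.wit
  | ⟨1, _⟩ => exact orb1.wit

theorem card_root (a : Fin S.m) :
    Nat.card ↥(CfsgLib.Chev.chevD4.US K (S.PJ a) ⊓ (tw hq hK).fix) ^ 1 = q ^ S.len (S.w a) := by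
  rw [cnt_eq symOKD4, pow_one]
  match a with
  | ⟨0, _⟩ =>
    rw [show WCert.cnt symD4 Cfsg.Lie.chevD4 0 = 1 by decide +kernel, pow_one]
    refine (Tw.One.card (T := tw hq hK) orb0).trans ?_
    rw [k_p, card_pow_eq_self hq.one_lt hK]
  | ⟨1, _⟩ =>
    rw [show WCert.cnt symD4 Cfsg.Lie.chevD4 1 = 3 by decide +kernel]
    refine (Tw.Three.card (T := tw hq hK) orb1).trans ?_
    rw [k_p, k_p, k_p, ← hK, ← Nat.card_eq_fintype_card]
    exact Nat.card_congr (Equiv.subtypeUnivEquiv fun c => pow_q3 hK c)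

include hq hK in
theorem card_U : Nat.card ↥(Cfsg.Lie.chevD4.posUnipotent K ⊓ twistedD4 K q) = q ^ 12 := by
  have := (gen hq hK).card_U q 1 (card_root hq hK)
  rw [pow_one, show Cfsg.Lie.chevD4.nroots / 2 = 12 by decide +kernel] at this
  rw [eq_fix hq hK]
  exact this

end CfsgLib.Chev.T3D4
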