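/-
The orders of the torus and of the whole group ³D₄, and its Weyl group.
-/
import Cfsg.Agent.Lib.Chev.Twist.TypeD4
import Cfsg.Agent.Lib.Chev.Twist.Torus
import Cfsg.Agent.Lib.Chev.Twist.Coxeter

namespace CfsgLib.Chev.T3D4

open Cfsg.Lie Matrix Chev

set_option linter.dupNamespace false
set_option linter.unusedSectionVars false
set_option maxRecDepth 100000
set_option maxHeartbeats 1000000

variable {K : Type*} [Field K] [Fintype K] {q : ℕ} (hq : IsPrimePow q) (hK : Fintype.card K = q ^ 3)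

theorem forall_ix {P : Fin Cfsg.Lie.chevD4.rank → Prop} :
    (∀ j, P j) ↔ P (ix 0) ∧ P (ix 1) ∧ P (ix 2) ∧ P (ix 3) := by
  refine ⟨fun h => ⟨h _, h _, h _, h _⟩, fun ⟨a, b, c, d⟩ j => ?_⟩
  match j with
  | ⟨0, _⟩ => exact a
  | ⟨1, _⟩ => exact b
  | ⟨2, _⟩ => exact c
  | ⟨3, _⟩ => exact d

theorem stable_iff (d : Fin Cfsg.Lie.chevD4.rank → Kˣ) :
    (tw hq hK).dmap d = d ↔ d (ix 1) ^ q = d (ix 1) ∧
      d (ix 2) = d (ix 0) ^ q ∧ d (ix 3) = (d (ix 0) ^ q) ^ q := by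
  obtain ⟨t0, t1, t2, t3⟩ := tau_cases
  have hqq : ∀ u : Kˣ, ((u ^ q) ^ q) ^ q = u := fun u => Units.ext (by
    rw [Units.val_pow_eq_pow_val, Units.val_pow_eq_pow_val, Units.val_pow_eq_pow_val]; exact pow_q3 hK _)
  rw [funext_iff, forall_ix, dmap_apply, dmap_apply, dmap_apply, dmap_apply, t0, t2, t1, t1, t3, t0]
  refine ⟨fun ⟨h0, h1, h2, h3⟩ => ⟨h1, h2.symm, by rw [h2, h3]⟩,
    fun ⟨h1, h2, h3⟩ => ⟨by rw [h3, hqq], h1, h2.symm, by rw [h2, h3]⟩⟩

/-- The four parameters. -/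
def vec4 (a b c e : Kˣ) : Fin Cfsg.Lie.chevD4.rank → Kˣ := fun j => [a, b, c, e].getD j.val 1

theorem card_stable : Nat.card {d : Fin Cfsg.Lie.chevD4.rank → Kˣ // (tw hq hK).dmap d = d} =
    (q - 1) * (q ^ 3 - 1) := by
  have e : {d : Fin Cfsg.Lie.chevD4.rank → Kˣ // (tw hq hK).dmap d = d} ≃ {u : Kˣ // u ^ q = u} × Kˣ :=
    { toFun := fun d => (⟨d.1 (ix 1), ((stable_iff hq hK _).mp d.2).1⟩, d.1 (ix 0))
      invFun := fun x => ⟨vec4 x.2 x.1.1 (x.2 ^ q) ((x.2 ^ q) ^ q),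
        (stable_iff hq hK _).mpr ⟨x.1.2, rfl, rfl⟩⟩
      left_inv := fun d => by
        obtain ⟨-, h2, h3⟩ := (stable_iff hq hK _).mp d.2
        exact Subtype.ext (funext (forall_ix.mpr ⟨rfl, rfl, h2.symm, h3.symm⟩))
      right_inv := fun _ => rfl }
  rw [Nat.card_congr e, Nat.card_prod, card_units_pow_eq_self hq.one_lt hK, Nat.card_units,
    Nat.card_eq_fintype_card, hK]

theorem chi_p (d : Fin Cfsg.Lie.chevD4.rank → Kˣ) (j : Fin Cfsg.Lie.chevD4.rank) :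
    CfsgLib.Chev.chevD4.toSys.chi (CfsgLib.Chev.chevD4.coHom K d) (CfsgLib.Chev.chevD4.p j) =
      ∏ k, d k ^ Cfsg.Lie.chevD4.cartan k.val (Cfsg.Lie.chevD4.simple j.val) := by
  rw [CfsgLib.Chev.chevD4.toSys.chi_simple]
  show ∏ k, d k ^ CfsgLib.Chev.chevD4.A k (CfsgLib.Chev.chevD4.p j) = _
  simp only [A_val]

theorem card_ker : Nat.card {d : Fin Cfsg.Lie.chevD4.rank → Kˣ //
    (tw hq hK).dmap d = d ∧ Tw.tor (Φ := CfsgLib.Chev.chevD4) d = 1} = 1 := by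
  haveI : Subsingleton {d : Fin Cfsg.Lie.chevD4.rank → Kˣ //
      (tw hq hK).dmap d = d ∧ Tw.tor (Φ := CfsgLib.Chev.chevD4) d = 1} := by
    suffices ∀ d : Fin Cfsg.Lie.chevD4.rank → Kˣ,
        (tw hq hK).dmap d = d → Tw.tor (Φ := CfsgLib.Chev.chevD4) d = 1 → d = 1 by
      exact ⟨fun x y => Subtype.ext ((this _ x.2.1 x.2.2).trans (this _ y.2.1 y.2.2).symm)⟩
    intro d hd hz
    have h2 := ker_sq hz
    obtain ⟨-, e2, e3⟩ := (stable_iff hq hK d).mp hd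
    have hA : ∀ k j : Fin Cfsg.Lie.chevD4.rank, CfsgLib.Chev.chevD4.A k (CfsgLib.Chev.chevD4.p j) =
        ([[2, -1, 0, 0], [-1, 2, -1, -1], [0, -1, 2, 0], [0, -1, 0, 2]].getD j.val []).getD k.val 0 := by
      intro k j
      rw [A_val]
      revert k j
      decide +kernel
    rw [Tw.tor, MonoidHom.comp_apply, ← map_one CfsgLib.Chev.chevD4.toAlg.torus,
      (CfsgLib.Chev.chevD4.torus_injective).eq_iff] at hz
    have hs : ∀ j, CfsgLib.Chev.chevD4.coHom K d j = ∏ k : Fin 4, d k ^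
        ([[2, -1, 0, 0], [-1, 2, -1, -1], [0, -1, 2, 0], [0, -1, 0, 2]].getD j.val []).getD k.val (0 : ℤ) := by
      intro j
      show ∏ k, d k ^ CfsgLib.Chev.chevD4.A k (CfsgLib.Chev.chevD4.p j) = _
      simp only [hA]
      rfl
    have z0 := (hs (ix 0)).symm.trans (congrFun hz (ix 0))
    have z1 := (hs (ix 1)).symm.trans (congrFun hz (ix 1))
    simp only [Fin.prod_univ_four, List.getD_cons_zero, List.getD_cons_succ, _root_.zpow_zero, mul_one,
      Pi.one_apply, _root_.zpow_neg, _root_.zpow_one, Fin.val_zero, Fin.val_one, Fin.val_two,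
      show ((3 : Fin 4) : ℕ) = 3 from rfl, show (2 : ℤ) = ((2 : ℕ) : ℤ) from rfl, _root_.zpow_natCast] at z0 z1
    change d (ix 0) ^ 2 * (d (ix 1))⁻¹ = 1 at z0
    change (d (ix 0))⁻¹ * d (ix 1) ^ 2 * (d (ix 2))⁻¹ * (d (ix 3))⁻¹ = 1 at z1
    rw [h2, one_mul, inv_eq_one] at z0
    rw [h2, mul_one, ← mul_inv, ← mul_inv, inv_eq_one, e2, e3, ← pow_mul] at z1
    rw [show d (ix 0) * d (ix 0) ^ q * d (ix 0) ^ (q * q) = d (ix 0) ^ (1 + q + q * q) by
      rw [pow_add, pow_add, pow_one]] at z1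
    obtain ⟨k, hk⟩ : ∃ k, 1 + q + q * q = 2 * k + 1 := by
      rcases Nat.even_mul_succ_self q with ⟨k, hk⟩
      exact ⟨k, by rw [Nat.mul_succ] at hk; omega⟩
    rw [hk, pow_succ, pow_mul, h2, one_pow, one_mul] at z1
    refine funext (forall_ix.mpr ⟨z1, z0, ?_, ?_⟩)
    · rw [e2, z1, one_pow]; rfl
    · rw [e3, z1, one_pow, one_pow]; rfl
  haveI : Nonempty {d : Fin Cfsg.Lie.chevD4.rank → Kˣ //
      (tw hq hK).dmap d = d ∧ Tw.tor (Φ := CfsgLib.Chev.chevD4) d = 1} :=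
    ⟨⟨1, funext fun j => by rw [dmap_apply, Pi.one_apply, one_pow]; rfl, map_one _⟩⟩
  exact Nat.card_unique

include hq hK in
theorem card_H : Nat.card ↥(Cfsg.Lie.chevD4.diagonalSubgroup K ⊓ twistedD4 K q) =
    (q - 1) ^ 2 * (q ^ 2 + q + 1) := by
  have := (gen hq hK).card_H_mul
  rw [card_ker, mul_one, card_stable, ← eq_fix hq hK] at this
  rw [this]
  have h0 : 1 ≤ q := hq.one_lt.le
  have h3 : 1 ≤ q ^ 3 := Nat.one_le_pow _ _ h0
  zify [h0, h3]
  ring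

theorem sum_poly :
    ∑ i : Fin certD4.size, q ^ certD4.len i.val =
      ∑ k ∈ Finset.range 13, ([1, 1, 0, 1, 2, 1, 0, 1, 2, 1, 0, 1, 1] : List ℕ).getD k 0 * q ^ k := by
  have hlt : ∀ i < certD4.size, certD4.len i < 13 := fun i hi => by
    have := certLtD4
    simp only [List.all_eq_true, List.mem_range, Nat.blt_eq] at this
    exact this i hi
  rw [sum_pow_eq_count certD4.len q hlt, ← certHistD4]
  refine Finset.sum_congr rfl fun k hk => ?_
  rw [List.getD_eq_getElem _ _ (by simpa using Finset.mem_range.mp hk)]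
  simp only [List.getElem_map, List.getElem_range]
  rfl

include hq hK in
theorem card_G : Nat.card ↥(twistedD4 K q) =
    q ^ 12 * (q ^ 2 - 1) * (q ^ 6 - 1) * (q ^ 8 + q ^ 4 + 1) := by
  classical
  haveI : Fintype S.W1 := Fintype.ofFinite _
  have h := gen hq hK
  have hsum := cert_sum (Φ := CfsgLib.Chev.chevD4) symOKD4 certOKD4
    (fun π : S.W1 => Nat.card ((tw hq hK).Uinv π.1)) (q := q)
    fun π => h.card_Uinv q 1 (card_root hq hK) π.2
  rw [h.card_eq, hsum, (tw hq hK).card_B1, sum_poly, ← eq_fix hq hK, card_U hq hK, card_H hq hK]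
  simp only [Finset.sum_range_succ, Finset.sum_range_zero, List.getD_cons_zero, List.getD_cons_succ]
  have h0 : 1 ≤ q := hq.one_lt.le
  have h2 : 1 ≤ q ^ 2 := Nat.one_le_pow _ _ h0
  have h6 : 1 ≤ q ^ 6 := Nat.one_le_pow _ _ h0
  zify [h0, h2, h6]
  ring

theorem coxG2 (a b : Fin S.m) : orderOf (S.w a * S.w b) = CoxeterMatrix.G₂ a b := by
  refine symOKD4.orderOf_pair a b ?_
  have : ∀ a b : Fin 2, ordCheck Cfsg.Lie.chevD4 symD4 a.val b.val (CoxeterMatrix.G₂.M a b) = true := by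
    decide +kernel
  exact this a b

include hq hK in
theorem coxeter :
    ∃ φ : ↥(Cfsg.Lie.chevD4.monomialSubgroup K ⊓ twistedD4 K q) →* (CoxeterMatrix.G₂).Group,
      Function.Surjective φ ∧ φ.ker = (Cfsg.Lie.chevD4.diagonalSubgroup K ⊓ twistedD4 K q).subgroupOf
        (Cfsg.Lie.chevD4.monomialSubgroup K ⊓ twistedD4 K q) :=
  (gen hq hK).coxeter (wit hq hK) CoxeterMatrix.G₂ coxG2

end CfsgLib.Chev.T3D4
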