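import Cfsg.Agent.Lib.Chev.Twist.OrderF4
import Cfsg.Agent.Lib.AltSection.AutomBound

/-!
Fusion in the torus of ²F₄ is that of the Weyl group of order sixteen; the alternating group of degree seven
is no section.
-/

set_option autoImplicit false
set_option linter.unusedSectionVars false
set_option linter.dupNamespace false
set_option linter.style.haveILetI false
set_option maxRecDepth 100000

namespace CfsgLib.Chev

open Cfsg.Lie Matrix Chev

universe u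

variable {D : ChevalleyDatum} {Φ : Chev D} {S : Φ.Sym} {F : Type u} [Field F] {T : Chev.Tw S F}
  {G1 : Subgroup (GL D.Idx F)}

theorem H_comm_elem (Φ : Chev D) {x y : GL D.Idx F} (hx : x ∈ D.diagonalSubgroup F) (hy : y ∈ D.diagonalSubgroup F) :
    x * y = y * x := by
  obtain ⟨c, rfl⟩ := Φ.exists_torus_of_mem_H hx
  obtain ⟨c', rfl⟩ := Φ.exists_torus_of_mem_H hy
  rw [← map_mul, ← map_mul, mul_comm]

/-- An element acts on the torus elements it keeps in the torus as one monomial element. -/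
theorem torus_fusion (h : T.Gen G1) {g : GL D.Idx F} (hg : g ∈ G1) :
    ∃ n ∈ G1, n ∈ D.monomialSubgroup F ∧ ∃ π ∈ S.W1, Φ.Mono n π ∧
      ∀ x ∈ D.diagonalSubgroup F, g * x * g⁻¹ ∈ D.diagonalSubgroup F → g * x * g⁻¹ = n * x * n⁻¹ := by
  obtain ⟨π, hπ, hb⟩ := h.bruhat (h.le_fix hg)
  obtain ⟨n, hn1, hn2, hn3⟩ := h.exists_nW1 hπ
  obtain ⟨b, hbB, u, hu, rfl⟩ := hb n hn1 hn2 hn3
  refine ⟨n, hn1, hn2, π, hπ, hn3, fun x hx hy => ?_⟩
  set y := b * n * u * x * (b * n * u)⁻¹ with hy'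
  set t := n * x * n⁻¹ with ht
  have htH : t ∈ D.diagonalSubgroup F := Φ.H_conj_mem hn2 hx
  have hux : x⁻¹ * u * x ∈ Φ.US F (Φ.Inv π) := by
    have := (Subgroup.mem_normalizer_iff.mp (Φ.H_le_normalizer_US _ (inv_mem hx)) u).mp hu.1
    rwa [inv_inv] at this
  have e : y * b * n * u = b * t * n * (x⁻¹ * u * x) := by rw [hy', ht]; group
  obtain ⟨eb, -⟩ := Φ.nf_unique hn3 (mul_mem (H_le_B hy) hbB.1) (mul_mem hbB.1 (H_le_B htH)) hu.1 hux e
  obtain ⟨v, hv, z, hz, rfl⟩ := Φ.mem_B_iff.mp hbB.1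
  have hvy : y * v * y⁻¹ ∈ D.posUnipotent F :=
    (Subgroup.mem_normalizer_iff.mp (Φ.H_le_normalizer_U hy) v).mp hv
  have e2 : v⁻¹ * (y * v * y⁻¹) = z * t * (y * z)⁻¹ := by
    calc v⁻¹ * (y * v * y⁻¹) = v⁻¹ * (y * (v * z)) * (y * z)⁻¹ := by group
      _ = v⁻¹ * (v * z * t) * (y * z)⁻¹ := by rw [eb]
      _ = _ := by group
  have h1 := Φ.eq_one_of_mem_U_of_mem_N (mul_mem (inv_mem hv) hvy)
    (e2 ▸ H_le_N (mul_mem (mul_mem hz htH) (inv_mem (mul_mem hy hz))))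
  rw [e2, mul_inv_eq_one, H_comm_elem Φ hz htH] at h1
  exact (mul_right_cancel h1).symm

namespace T2F4

theorem index_ne : ∀ y : ZMod 7, (y = 1 ∨ y = 2 ∨ y = 4) → ¬ y ^ 12 * (y ^ 3 + 1) * (y ^ 3 + y ^ 2 + y + 1) * (y ^ 6 + 1) = 0 := by
  decide

variable {K : Type u} [Field K] [Fintype K] {m : ℕ} (hK : Fintype.card K = 2 ^ (2 * m + 1))

include hK in
theorem no_section_twentyone {M : Type*} [Group M] (H : Subgroup ↥(twistedF4 K (2 ^ m))) (π : ↥H →* M)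
    (hπ : Function.Surjective π) {c s : M} (hc7 : c ^ 7 = 1) (hc1 : c ≠ 1) (hs : s * c * s⁻¹ = c ^ 2) : False := by
  classical
  haveI := Fact.mk (show (7 : ℕ).Prime by norm_num)
  haveI : Finite ↥(twistedF4 K (2 ^ m)) := Subgroup.instFiniteSubtypeMem _
  set T' := (Cfsg.Lie.chevF4.diagonalSubgroup K ⊓ (twistedF4 K (2 ^ m))).subgroupOf (twistedF4 K (2 ^ m)) with hT'
  have hcT : Nat.card T' = (2 ^ (2 * m + 1) - 1) ^ 2 := by
    rw [hT', Nat.card_congr (Subgroup.subgroupOfEquivOfLe inf_le_right).toEquiv, card_H hK]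
  have hidx : ¬ 7 ∣ T'.index := by
    have h := T'.card_mul_index
    rw [hcT, show Nat.card ↥(twistedF4 K (2 ^ m)) = _ from card_G hK] at h
    have hq : 2 ^ (2 * m + 1) % 7 = 1 ∨ 2 ^ (2 * m + 1) % 7 = 2 ∨ 2 ^ (2 * m + 1) % 7 = 4 := by
      generalize 2 * m + 1 = n
      induction n with
      | zero => simp
      | succ n ih => rw [pow_succ, Nat.mul_mod]; rcases ih with e | e | e <;> simp [e]
    have h2 : 2 ≤ 2 ^ (2 * m + 1) := Nat.le_self_pow (Nat.succ_ne_zero _) 2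
    generalize 2 ^ (2 * m + 1) = q at h hq h2
    obtain ⟨r, rfl⟩ : ∃ r, q = r + 1 := ⟨q - 1, by omega⟩
    have e4 : (r + 1) ^ 4 - 1 = r * ((r + 1) ^ 3 + (r + 1) ^ 2 + (r + 1) + 1) :=
      Nat.sub_eq_of_eq_add (by ring)
    rw [Nat.add_sub_cancel, e4] at h
    have hidx : T'.index = (r + 1) ^ 12 * ((r + 1) ^ 3 + 1) * ((r + 1) ^ 3 + (r + 1) ^ 2 + (r + 1) + 1) *
        ((r + 1) ^ 6 + 1) := by
      have hr0 : 0 < r := by omega
      have hr2 : 0 < r ^ 2 := by positivity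
      refine Nat.eq_of_mul_eq_mul_left hr2 (h.trans ?_)
      ring
    rw [hidx]
    rw [← ZMod.natCast_eq_zero_iff]
    push_cast
    have hx : ((r : ZMod 7) + 1) = (((r + 1) % 7 : ℕ) : ZMod 7) := by
      rw [ZMod.natCast_mod]; push_cast; rfl
    rw [hx]
    rcases hq with e | e | e <;> rw [e] <;> exact index_ne _ (by norm_num)
  obtain ⟨S₀⟩ : Nonempty (Sylow 7 ↥T') := inferInstance
  have hS : ¬ 7 ∣ ((S₀ : Subgroup ↥T').map T'.subtype).index := by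
    rw [Subgroup.index_map_subtype]
    exact Nat.Prime.not_dvd_mul (by norm_num) S₀.not_dvd_index hidx
  refine AltSection.no_frobenius_twentyone H π hπ hc7 hc1 hs fun Q hQ g hg q hq => ?_
  obtain ⟨R, hR⟩ := hQ.exists_le_sylow
  obtain ⟨x, hx⟩ := MulAction.exists_smul_eq ↥(twistedF4 K (2 ^ m)) R ((S₀.isPGroup'.map T'.subtype).toSylow hS)
  have hin : ∀ p ∈ Q, ((x * p * x⁻¹ : ↥(twistedF4 K (2 ^ m))) : GL Cfsg.Lie.chevF4.Idx K) ∈ Cfsg.Lie.chevF4.diagonalSubgroup K := by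
    intro p hp
    have h1 : MulAut.conj x p ∈ ((x • R : Sylow 7 ↥(twistedF4 K (2 ^ m))) : Subgroup ↥(twistedF4 K (2 ^ m))) := by
      rw [Sylow.coe_subgroup_smul]
      exact Subgroup.smul_mem_pointwise_smul p (MulAut.conj x) _ (hR hp)
    rw [hx] at h1
    obtain ⟨⟨y, hy⟩, -, e⟩ := h1
    have e' : x * p * x⁻¹ = y := e.symm
    rw [e']
    exact (Subgroup.mem_inf.mp (Subgroup.mem_subgroupOf.mp hy)).1
  obtain ⟨n, -, hnN, w, hw, hnm, hfus⟩ := torus_fusion (gen hK) (g := ((x * g * x⁻¹ : ↥(twistedF4 K (2 ^ m))) : GL Cfsg.Lie.chevF4.Idx K))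
    (x * g * x⁻¹ : ↥(twistedF4 K (2 ^ m))).2
  have key : ∀ k : ℕ, g ^ k * q * (g ^ k)⁻¹ ∈ Q ∧
      ((x * (g ^ k * q * (g ^ k)⁻¹) * x⁻¹ : ↥(twistedF4 K (2 ^ m))) : GL Cfsg.Lie.chevF4.Idx K) =
        n ^ k * ((x * q * x⁻¹ : ↥(twistedF4 K (2 ^ m))) : GL Cfsg.Lie.chevF4.Idx K) * (n ^ k)⁻¹ := by
    intro k
    induction k with
    | zero => simp [hq]
    | succ k ih =>
      obtain ⟨ih1, ih2⟩ := ih
      have e : g ^ (k + 1) * q * (g ^ (k + 1))⁻¹ = g * (g ^ k * q * (g ^ k)⁻¹) * g⁻¹ := by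
        rw [pow_succ']; group
      rw [e]
      refine ⟨hg _ ih1, ?_⟩
      set p := g ^ k * q * (g ^ k)⁻¹ with hp
      have e1 : x * (g * p * g⁻¹) * x⁻¹ = (x * g * x⁻¹) * (x * p * x⁻¹) * (x * g * x⁻¹)⁻¹ := by group
      have h2 := hin _ (hg _ ih1)
      rw [e1, Subgroup.coe_mul, Subgroup.coe_mul, Subgroup.coe_inv] at h2 ⊢
      rw [hfus _ (hin p ih1) h2, ih2, pow_succ']
      group
  have hn16 : n ^ 16 ∈ Cfsg.Lie.chevF4.diagonalSubgroup K := by
    rw [CfsgLib.Chev.chevF4.mem_H_iff_mono_one (pow_mem hnN 16)]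
    haveI : Finite S.W1 := Nat.finite_of_card_ne_zero (by rw [card_W1]; norm_num)
    have hp : ∀ k, CfsgLib.Chev.chevF4.Mono (n ^ k) (w ^ k) := by
      intro k
      induction k with
      | zero => rw [pow_zero, pow_zero]; exact Mono.one _
      | succ k ih => rw [pow_succ, pow_succ]; exact Mono.mul _ ih hnm
    have h16 : w ^ 16 = 1 := by
      have h := congrArg Subtype.val (pow_card_eq_one' (G := ↥S.W1) (x := (⟨w, hw⟩ : ↥S.W1)))
      rw [card_W1] at h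
      exact h
    exact h16 ▸ hp 16
  have hfin : (x * (g ^ 16 * q * (g ^ 16)⁻¹) * x⁻¹ : ↥(twistedF4 K (2 ^ m))) = x * q * x⁻¹ := by
    refine Subtype.ext ((key 16).2.trans ?_)
    rw [H_comm_elem CfsgLib.Chev.chevF4 hn16 (hin q hq), mul_inv_cancel_right]
  exact mul_left_cancel (mul_right_cancel hfin)

end T2F4

end CfsgLib.Chev
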