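/-
Automorphisms of a twisted group: normalisation of the unipotent subgroups and of the root subgroups.
-/
import Cfsg.Agent.Lib.Chev.Twist.Simple
import Cfsg.Agent.Lib.Chev.Aut.Roots
import Cfsg.Agent.Lib.Chev.CoverCoprime

namespace CfsgLib.Chev

open Cfsg.Lie Matrix

set_option linter.dupNamespace false
set_option linter.unusedSectionVars false

variable {D : ChevalleyDatum}

namespace Chev

namespace Tw

variable {Φ : Chev D} {S : Φ.Sym} {F : Type*} [Field F] {T : Tw S F} {G1 : Subgroup (GL D.Idx F)}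

/-- The element lies in the positive root subgroup of an orbit. -/
def rootP (S : Φ.Sym) (a : Fin S.m) (x : G1) : Prop := (x : GL D.Idx F) ∈ Φ.US F (S.PJ a)

/-- The element lies in the negative root subgroup of an orbit. -/
def rootN (S : Φ.Sym) (a : Fin S.m) (x : G1) : Prop := (x : GL D.Idx F) ∈ Φ.US F (fun r => S.PJ a r.rev)

theorem rootP_U {a : Fin S.m} {x : G1} (hx : rootP S a x) : (x : GL D.Idx F) ∈ D.posUnipotent F := by
  rw [Φ.posUnipotent_eq_US]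
  exact Φ.US_mono (fun r hr => hr.1) hx

theorem rootN_V {a : Fin S.m} {x : G1} (hx : rootN S a x) : (x : GL D.Idx F) ∈ D.negUnipotent F := by
  rw [Φ.negUnipotent_eq_US]
  exact Φ.US_mono (fun r hr => fun h => (Φ.pos_rev_iff r).mp hr.1 h) hx

include Φ in
theorem eq_one_of_B_V' {x : GL D.Idx F} (h1 : x ∈ D.borelSubgroup F) (h2 : x ∈ D.negUnipotent F) : x = 1 := by
  have h : x ∈ D.borelSubgroup F ⊓ D.negUnipotent F := ⟨h1, h2⟩
  rwa [Φ.B_inf_V, Subgroup.mem_bot] at h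

theorem map_w_pos {n : GL D.Idx F} {a : Fin S.m} (hm : Φ.Mono n (S.w a)) {x : GL D.Idx F}
    (hx : x ∈ Φ.US F (S.PJ a)) : n * x * n⁻¹ ∈ Φ.US F (fun r => S.PJ a r.rev) :=
  Φ.map_US_le hm (fun r hr => ⟨(Φ.pos_rev_iff _).mpr (S.w_neg a r hr.1 hr.2),
    by rw [Φ.sub_rev, S.sub_w]; exact hr.2⟩) x hx

theorem map_w_neg {n : GL D.Idx F} {a : Fin S.m} (hm : Φ.Mono n (S.w a)) {x : GL D.Idx F}
    (hx : x ∈ Φ.US F (fun r => S.PJ a r.rev)) : n * x * n⁻¹ ∈ Φ.US F (S.PJ a) :=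
  Φ.map_US_le hm (fun r hr => by
    have h1 := S.w_neg a r.rev hr.1 hr.2
    rw [Φ.W_rev (S.w_mem_W a), Φ.pos_rev_iff, not_not] at h1
    have h2 := hr.2
    rw [Φ.sub_rev] at h2
    exact ⟨h1, (S.sub_w r).mpr h2⟩) x hx

theorem map_w_inv {n : GL D.Idx F} {a : Fin S.m} (hn : n ∈ D.monomialSubgroup F) (hm : Φ.Mono n (S.w a)) :
    Φ.Mono n⁻¹ (S.w a) := by
  have := mono_inv hn hm
  rwa [S.w_inv] at this

theorem exists_simple_pos {π : Equiv.Perm (Fin D.nroots)} (hπ : π ∈ S.W1)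
    (h : ¬ ∀ r, Φ.toTables.Pos r → ¬ Φ.toTables.Pos (π r)) :
    ∃ a, ∀ r, S.PJ a r → Φ.toTables.Pos (π r) := by
  have hW := (S.mem_W1.mp hπ).1
  obtain ⟨i, hi⟩ : ∃ i, Φ.toTables.Pos (π (Φ.p i)) := by
    by_contra hc
    push Not at hc
    exact h fun r hr => Φ.not_pos_of_comb hW hr fun k _ => hc k
  obtain ⟨a, ha⟩ := S.cover i
  refine ⟨a, fun r hr => Φ.pos_of_comb_supp hW hr.1 fun k hk => ?_⟩
  have hk' : k ∈ S.J a := by_contra fun e => hk (hr.2 k e)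
  by_contra hneg
  exact S.neg_all_of_neg hπ hk' hneg (S.p_mem_PJ ha) hi

theorem Gen.mem_B_of_normalizes1 (h : T.Gen G1) (hne : T.Wit) {g : G1}
    (hg : ∀ x : G1, (x : GL D.Idx F) ∈ D.posUnipotent F →
      ((g * x * g⁻¹ : G1) : GL D.Idx F) ∈ D.posUnipotent F) :
    (g : GL D.Idx F) ∈ D.borelSubgroup F := by
  obtain ⟨π, hπ, hb⟩ := h.bruhat (h.le_fix g.2)
  obtain ⟨n, hn1, hn2, hn3⟩ := h.exists_nW1 hπ
  obtain ⟨b, ⟨hb1, hb2⟩, w, hw, e⟩ := hb n hn1 hn2 hn3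
  have hwB := Φ.inv_le_B π hw.1
  by_cases h1 : π = 1
  · subst h1
    rw [e]
    exact mul_mem (mul_mem hb1 (Subgroup.mem_sup_right ((Φ.mem_H_iff_mono_one hn2).mpr hn3))) hwB
  exfalso
  obtain ⟨a, ha⟩ := S.exists_descent hπ h1
  obtain ⟨x, hx, hx1⟩ := Wit.ne hne a
  have hwU : w ∈ D.posUnipotent F := by
    rw [Φ.posUnipotent_eq_US]; exact Φ.US_mono (fun r hr => hr.1) hw.1
  have hxU : x ∈ D.posUnipotent F := by
    rw [Φ.posUnipotent_eq_US]; exact Φ.US_mono (fun r hr => hr.1) hx.1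
  let w' : G1 := ⟨w, h.mem_B hwB hw.2⟩
  let x' : G1 := ⟨x, h.root_le a hx⟩
  have h2 := hg (w'⁻¹ * x' * w') (mul_mem (mul_mem (inv_mem hwU) hxU) hwU)
  simp only [Subgroup.coe_mul, Subgroup.coe_inv, w', x', e] at h2
  rw [show b * n * w * (w⁻¹ * x * w) * (b * n * w)⁻¹ = b * (n * x * n⁻¹) * b⁻¹ by group] at h2
  have h3 := Φ.B_conj_U (inv_mem hb1) h2
  rw [inv_inv, show b⁻¹ * (b * (n * x * n⁻¹) * b⁻¹) * b = n * x * n⁻¹ by group] at h3
  have h4 : n * x * n⁻¹ ∈ D.negUnipotent F := by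
    rw [Φ.negUnipotent_eq_US]
    exact Φ.map_US_le hn3 (T := fun r => ¬ Φ.toTables.Pos r) (fun r hr => (ha r hr).2) x hx.1
  have h5 := eq_one_of_B_V' (Φ := Φ) (U_le_B h3) h4
  exact hx1 (mul_eq_left.mp (mul_inv_eq_one.mp h5))

theorem Gen.exists_swap1 (h : T.Gen G1) : ∃ (n : G1) (π : Equiv.Perm (Fin D.nroots)),
    π ∈ S.W1 ∧ (n : GL D.Idx F) ∈ D.monomialSubgroup F ∧ Φ.Mono (n : GL D.Idx F) π ∧
    (∀ r, Φ.toTables.Pos r ↔ ¬ Φ.toTables.Pos (π r)) ∧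
    (∀ x, x ∈ D.posUnipotent F ↔ (n : GL D.Idx F) * x * (n : GL D.Idx F)⁻¹ ∈ D.negUnipotent F) ∧
    (∀ x, x ∈ D.negUnipotent F ↔ (n : GL D.Idx F) * x * (n : GL D.Idx F)⁻¹ ∈ D.posUnipotent F) := by
  obtain ⟨π, hπ, hi⟩ := S.exists_longest
  obtain ⟨n, hn1, hn2, hn3⟩ := h.exists_nW1 hπ
  have hW := (S.mem_W1.mp hπ).1
  have hflip : ∀ r, Φ.toTables.Pos r ↔ ¬ Φ.toTables.Pos (π r) :=
    Φ.pos_flip (Φ.W_le_WL hW) fun r hr => ((hi r).mpr hr).2
  refine ⟨⟨n, hn1⟩, π, hπ, hn2, hn3, hflip, fun x => ?_, fun x => ?_⟩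
  · rw [Φ.posUnipotent_eq_US, Φ.negUnipotent_eq_US]
    exact Φ.conj_US_iff hn2 hn3 hflip x
  · rw [Φ.posUnipotent_eq_US, Φ.negUnipotent_eq_US]
    exact Φ.conj_US_iff hn2 hn3 (fun r => by rw [hflip r, not_not]) x

theorem Gen.mem_H_of_normalizes1 (h : T.Gen G1) (hne : T.Wit) {g : G1}
    (hU : ∀ x : G1, (x : GL D.Idx F) ∈ D.posUnipotent F →
      ((g * x * g⁻¹ : G1) : GL D.Idx F) ∈ D.posUnipotent F)
    (hV : ∀ x : G1, (x : GL D.Idx F) ∈ D.negUnipotent F →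
      ((g * x * g⁻¹ : G1) : GL D.Idx F) ∈ D.negUnipotent F) :
    (g : GL D.Idx F) ∈ D.diagonalSubgroup F := by
  obtain ⟨n, π, -, hnN, -, -, hUV, hVU⟩ := h.exists_swap1
  have hB := h.mem_B_of_normalizes1 hne (g := n⁻¹ * g * n) fun x hx => by
    have := hV (n * x * n⁻¹) ((hUV _).mp hx)
    rw [hUV]
    simp only [Subgroup.coe_mul, Subgroup.coe_inv] at this ⊢
    convert this using 1
    group
  simp only [Subgroup.coe_mul, Subgroup.coe_inv] at hB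
  obtain ⟨u, hu, y, hy, e⟩ := Φ.mem_B_iff.mp hB
  rw [← Φ.B_inf_VH]
  refine ⟨h.mem_B_of_normalizes1 hne hU, ?_⟩
  rw [show (g : GL D.Idx F) = ((n : GL D.Idx F) * u * (n : GL D.Idx F)⁻¹) * ((n : GL D.Idx F) * y * (n : GL D.Idx F)⁻¹) by
    rw [show (g : GL D.Idx F) = (n : GL D.Idx F) * ((n : GL D.Idx F)⁻¹ * g * n) * (n : GL D.Idx F)⁻¹ by group, e]
    group]
  exact mul_mem (Subgroup.mem_sup_left ((hUV u).mp hu)) (Subgroup.mem_sup_right (Φ.H_conj_mem hnN hy))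

theorem Gen.opposite1 (h : T.Gen G1) (hne : T.Wit) {g : G1}
    (hg : ∀ x : G1, (x : GL D.Idx F) ∈ D.posUnipotent F →
      ((g⁻¹ * x * g : G1) : GL D.Idx F) ∈ D.posUnipotent F → x = 1) :
    ∃ u : G1, (u : GL D.Idx F) ∈ D.posUnipotent F ∧ ∀ x : G1,
      ((g⁻¹ * x * g : G1) : GL D.Idx F) ∈ D.posUnipotent F ↔
        ((u⁻¹ * x * u : G1) : GL D.Idx F) ∈ D.negUnipotent F := by
  obtain ⟨π, hπ, hb⟩ := h.bruhat (h.le_fix g.2)
  obtain ⟨n, hn1, hn2, hn3⟩ := h.exists_nW1 hπ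
  obtain ⟨b, ⟨hb1, hb2⟩, w, hw, e⟩ := hb n hn1 hn2 hn3
  have hwU : w ∈ D.posUnipotent F := by
    rw [Φ.posUnipotent_eq_US]; exact Φ.US_mono (fun r hr => hr.1) hw.1
  let w' : G1 := ⟨w, h.mem_B (U_le_B hwU) hw.2⟩
  obtain ⟨u0, hu0, y0, hy0, rfl⟩ := T.B_mem hb1 hb2
  let u' : G1 := ⟨u0, h.mem_B (U_le_B hu0.1) hu0.2⟩
  let y' : G1 := ⟨y0, h.H_le hy0⟩
  let b' : G1 := u' * y'
  let n' : G1 := ⟨n, hn1⟩
  obtain rfl : g = b' * n' * w' := Subtype.ext e
  have hall : ∀ r, Φ.toTables.Pos r → ¬ Φ.toTables.Pos (π r) := by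
    by_contra hc
    obtain ⟨a, ha⟩ := exists_simple_pos hπ hc
    obtain ⟨x, hx, hx1⟩ := Wit.ne hne a
    have hxU : x ∈ D.posUnipotent F := by
      rw [Φ.posUnipotent_eq_US]; exact Φ.US_mono (fun r hr => hr.1) hx.1
    let x' : G1 := ⟨x, h.root_le a hx⟩
    have h1 : (n : GL D.Idx F) * x * n⁻¹ ∈ D.posUnipotent F := by
      rw [Φ.posUnipotent_eq_US]; exact Φ.map_US_le hn3 ha x hx.1
    have h2 := hg (b' * (n' * x' * n'⁻¹) * b'⁻¹) (Φ.B_conj_U hb1 h1) (by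
      rw [show (b' * n' * w')⁻¹ * (b' * (n' * x' * n'⁻¹) * b'⁻¹) * (b' * n' * w') = w'⁻¹ * x' * w' by group]
      exact mul_mem (mul_mem (inv_mem hwU) hxU) hwU)
    apply hx1
    have h3 : x' = 1 := by
      rw [show x' = n'⁻¹ * (b'⁻¹ * (b' * (n' * x' * n'⁻¹) * b'⁻¹) * b') * n' by group, h2]
      group
    exact congrArg Subtype.val h3
  refine ⟨u', hu0.1, fun x => ?_⟩
  have hH : ∀ z : GL D.Idx F, y0⁻¹ * z * y0 ∈ D.negUnipotent F ↔ z ∈ D.negUnipotent F := fun z => by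
    rw [Φ.negUnipotent_eq_US, Subgroup.mem_normalizer_iff.mp (Φ.H_le_normalizer_US _ (inv_mem hy0.1)) z, inv_inv]
  have hflip := Φ.pos_flip (Φ.W_le_WL (S.mem_W1.mp hπ).1) hall
  simp only [Subgroup.coe_mul, Subgroup.coe_inv, u', y', n', w', b']
  rw [← hH (u0⁻¹ * (x : GL D.Idx F) * u0)]
  have key : ∀ z, z ∈ D.posUnipotent F ↔ n * z * n⁻¹ ∈ D.negUnipotent F := fun z => by
    rw [Φ.posUnipotent_eq_US, Φ.negUnipotent_eq_US]
    exact Φ.conj_US_iff hn2 hn3 hflip z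
  constructor
  · intro hx
    have := (key _).mp (mul_mem (mul_mem hwU hx) (inv_mem hwU))
    convert this using 1
    group
  · intro hx
    have h1 : n⁻¹ * (y0⁻¹ * (u0⁻¹ * (x : GL D.Idx F) * u0) * y0) * n ∈ D.posUnipotent F :=
      (key _).mpr (by convert hx using 1; group)
    rw [show (u0 * y0 * n * w)⁻¹ * (x : GL D.Idx F) * (u0 * y0 * n * w) =
      w⁻¹ * (n⁻¹ * (y0⁻¹ * (u0⁻¹ * (x : GL D.Idx F) * u0) * y0) * n) * w by group]
    exact mul_mem (mul_mem (inv_mem hwU) h1) hwU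

/-- `θ` fixes the two opposite unipotent subgroups of the twisted group. -/
structure AFix (θ : MulAut ↥G1) : Prop where
  u : ∀ g : G1, (θ g : GL D.Idx F) ∈ D.posUnipotent F ↔ (g : GL D.Idx F) ∈ D.posUnipotent F
  v : ∀ g : G1, (θ g : GL D.Idx F) ∈ D.negUnipotent F ↔ (g : GL D.Idx F) ∈ D.negUnipotent F

variable {θ : MulAut ↥G1}

theorem AFix.mul {θ' : MulAut ↥G1} (h1 : AFix θ) (h2 : AFix θ') : AFix (θ * θ') :=
  ⟨fun g => (h1.u (θ' g)).trans (h2.u g), fun g => (h1.v (θ' g)).trans (h2.v g)⟩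

theorem AFix.inv (h1 : AFix θ) : AFix θ⁻¹ :=
  ⟨fun g => by rw [← h1.u, MulAut.apply_inv_self], fun g => by rw [← h1.v, MulAut.apply_inv_self]⟩

theorem Gen.exists_fix1 (h : T.Gen G1) (hne : T.Wit) [Finite F] {p : ℕ} [Fact p.Prime]
    (hp : IsPGroup p ↥((D.posUnipotent F).subgroupOf G1))
    (hidx : ¬ p ∣ ((D.posUnipotent F).subgroupOf G1).index) (θ : MulAut ↥G1) :
    ∃ x : G1, AFix (MulAut.conj x * θ) := by
  classical
  haveI : Finite G1 := Subgroup.instFiniteSubtypeMem _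
  set U : Subgroup G1 := (D.posUnipotent F).subgroupOf G1 with hUdef
  let P : Sylow p G1 := hp.toSylow hidx
  obtain ⟨x₁, hx₁⟩ := MulAction.exists_smul_eq G1 (P.mapSurjective (f := θ.toMonoidHom) θ.surjective) P
  have h1 : ∀ g : G1,
      (g : GL D.Idx F) ∈ D.posUnipotent F ↔ ((x₁ * θ g * x₁⁻¹ : G1) : GL D.Idx F) ∈ D.posUnipotent F := by
    intro g
    show g ∈ U ↔ (x₁ * θ g * x₁⁻¹) ∈ (P : Subgroup G1)
    rw [← hx₁, Sylow.smul_def, Sylow.pointwise_smul_def]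
    rw [show x₁ * θ g * x₁⁻¹ = MulAut.conj x₁ • θ g from rfl, Subgroup.smul_mem_pointwise_smul_iff]
    show g ∈ U ↔ θ g ∈ U.map θ.toMonoidHom
    exact ((Subgroup.mem_map_equiv (f := θ) (K := U) (x := θ g)).trans (by rw [MulEquiv.symm_apply_apply])).symm
  obtain ⟨n, π, -, -, -, -, hUV, hVU⟩ := h.exists_swap1
  set G0 : G1 := x₁ * θ n * x₁⁻¹ with hG0
  have key : ∀ g : G1, (g : GL D.Idx F) ∈ D.negUnipotent F ↔
      ((G0⁻¹ * (x₁ * θ g * x₁⁻¹) * G0 : G1) : GL D.Idx F) ∈ D.posUnipotent F := by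
    intro g
    have h2 := h1 (n⁻¹ * g * n)
    rw [show x₁ * θ (n⁻¹ * g * n) * x₁⁻¹ = G0⁻¹ * (x₁ * θ g * x₁⁻¹) * G0 by
      simp only [map_mul, map_inv, hG0]; group] at h2
    rw [← h2, hUV, Subgroup.coe_mul, Subgroup.coe_mul, Subgroup.coe_inv,
      show (n : GL D.Idx F) * ((n : GL D.Idx F)⁻¹ * g * n) * (n : GL D.Idx F)⁻¹ = g by group]
  obtain ⟨u, hu, hopp⟩ := h.opposite1 hne (g := G0) (fun x hx hx' => by
    obtain ⟨y, hy⟩ := θ.surjective (x₁⁻¹ * x * x₁)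
    have e : x₁ * θ y * x₁⁻¹ = x := by rw [hy]; group
    have hyU : (y : GL D.Idx F) ∈ D.posUnipotent F := (h1 y).mpr (by rw [e]; exact hx)
    have hyV : (y : GL D.Idx F) ∈ D.negUnipotent F := (key y).mpr (by rw [e]; exact hx')
    have hy1 : y = 1 := Subtype.ext (eq_one_of_B_V' (Φ := Φ) (U_le_B hyU) hyV)
    rw [hy1, map_one, mul_one, mul_inv_cancel] at e
    exact e.symm)
  refine ⟨u⁻¹ * x₁, fun g => ?_, fun g => ?_⟩
  · rw [h1 g, MulAut.mul_apply, MulAut.conj_apply]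
    simp only [Subgroup.coe_mul, Subgroup.coe_inv]
    constructor
    · intro hx
      have := Φ.B_conj_U (U_le_B hu) hx
      convert this using 1
      group
    · intro hx
      have := Φ.B_conj_U (inv_mem (U_le_B hu)) hx
      convert this using 1
      group
  · rw [key g, hopp, MulAut.mul_apply, MulAut.conj_apply]
    simp only [Subgroup.coe_mul, Subgroup.coe_inv]
    rw [show ((u : GL D.Idx F))⁻¹ * (x₁ : GL D.Idx F) * (θ g : GL D.Idx F) * ((u : GL D.Idx F)⁻¹ * (x₁ : GL D.Idx F))⁻¹ =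
      ((u : GL D.Idx F))⁻¹ * ((x₁ : GL D.Idx F) * (θ g : GL D.Idx F) * (x₁ : GL D.Idx F)⁻¹) * u by group]

theorem AFix.mem_B1_imp (hθ : AFix θ) (h : T.Gen G1) (hne : T.Wit) {g : G1}
    (hg : (g : GL D.Idx F) ∈ D.borelSubgroup F) : (θ g : GL D.Idx F) ∈ D.borelSubgroup F := by
  refine h.mem_B_of_normalizes1 hne fun x hx => ?_
  obtain ⟨y, rfl⟩ := θ.surjective x
  rw [← map_inv, ← map_mul, ← map_mul, hθ.u]
  simp only [Subgroup.coe_mul, Subgroup.coe_inv]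
  exact Φ.B_conj_U hg ((hθ.u y).mp hx)

/-- A negative root element normalising a positive one into the positive root group is trivial. -/
theorem Gen.conj_pos_trivial (h : T.Gen G1) {a : Fin S.m} {d v v' : G1} (hd : rootN S a d) (hv : rootP S a v)
    (hv1 : v ≠ 1) (hv' : rootP S a v') (e : d * v * d⁻¹ = v') : d = 1 := by
  by_contra hne
  have hs := h.sn_mono a
  have hsinv := map_w_inv (h.sn_N a) hs
  set c : GL D.Idx F := (h.sn a : GL D.Idx F)⁻¹ * (d : GL D.Idx F) * (h.sn a : GL D.Idx F) with hc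
  have hcU : c ∈ Φ.US F (S.PJ a) := by
    have := map_w_neg hsinv hd
    rwa [inv_inv] at this
  have hcf : c ∈ T.fix := mul_mem (mul_mem (inv_mem (h.le_fix (h.sn a).2)) (h.le_fix d.2)) (h.le_fix (h.sn a).2)
  have hc1 : c ≠ 1 := fun e1 => hne (Subtype.ext (by
    calc (d : GL D.Idx F) = (h.sn a : GL D.Idx F) * c * (h.sn a : GL D.Idx F)⁻¹ := by rw [hc]; group
      _ = 1 := by rw [e1]; group))
  obtain ⟨b, hb, u, hu, e2⟩ := h.rank_one a ⟨hcU, hcf⟩ hc1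
  rw [show (h.sn a : GL D.Idx F) * c * (h.sn a : GL D.Idx F)⁻¹ = (d : GL D.Idx F) by rw [hc]; group] at e2
  have e3 : (d : GL D.Idx F) * v = v' * d := by
    have := congrArg Subtype.val (mul_inv_eq_iff_eq_mul.mp e)
    exact this
  rw [e2] at e3
  have hinv : ∀ z ∈ Φ.US F (S.PJ a), z ∈ Φ.US F (Φ.Inv (S.w a)) :=
    fun z hz => Φ.US_mono (F := F) (fun r hr => (S.inv_w a r).mpr hr) hz
  obtain ⟨-, e4⟩ := Φ.nf_unique hs hb.1 (mul_mem (U_le_B (rootP_U hv')) hb.1) (hinv _ (mul_mem hu.1 hv))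
    (hinv _ hu.1) (show b * (h.sn a : GL D.Idx F) * (u * v) = (v' * b) * (h.sn a : GL D.Idx F) * u by
      rw [← mul_assoc (b * (h.sn a : GL D.Idx F)), e3]; group)
  exact hv1 (Subtype.ext (mul_eq_left.mp e4))

/-- Two products `x y x` carrying the positive root group to the negative one have the same middle. -/
theorem Gen.neg_unique (h : T.Gen G1) {a : Fin S.m} {x y1 y2 v : G1} (hx : rootP S a x) (hy1 : rootN S a y1)
    (hy2 : rootN S a y2) (hn : ((x * y2 * x : G1) : GL D.Idx F) ∈ D.monomialSubgroup F)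
    (hm : Φ.Mono ((x * y2 * x : G1) : GL D.Idx F) (S.w a)) (hv : rootP S a v) (hv1 : v ≠ 1)
    (hw : rootN S a (x * y1 * x * v * (x * y1 * x)⁻¹)) : y1 = y2 := by
  set w := x * y1 * x * v * (x * y1 * x)⁻¹ with hw'
  have h1 : rootP S a ((x * y2 * x)⁻¹ * w * (x * y2 * x)) := by
    have := map_w_neg (map_w_inv hn hm) hw
    rw [inv_inv] at this
    exact this
  have hd : rootN S a (y2⁻¹ * y1) := by
    show _ ∈ Φ.US F _
    simp only [Subgroup.coe_mul, Subgroup.coe_inv]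
    exact mul_mem (inv_mem hy2) hy1
  have hxv : rootP S a (x * v * x⁻¹) := by
    show _ ∈ Φ.US F _
    simp only [Subgroup.coe_mul, Subgroup.coe_inv]
    exact mul_mem (mul_mem hx hv) (inv_mem hx)
  have hv2 : rootP S a (x * ((x * y2 * x)⁻¹ * w * (x * y2 * x)) * x⁻¹) := by
    show _ ∈ Φ.US F _
    have h1' : ((((x * y2 * x)⁻¹ * w * (x * y2 * x)) : G1) : GL D.Idx F) ∈ Φ.US F (S.PJ a) := h1
    simp only [Subgroup.coe_mul, Subgroup.coe_inv] at h1' ⊢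
    exact mul_mem (mul_mem hx h1') (inv_mem hx)
  have := h.conj_pos_trivial hd hxv (fun e1 => hv1 (by
    calc v = x⁻¹ * (x * v * x⁻¹) * x := by group
      _ = 1 := by rw [e1]; group)) hv2 (by rw [hw']; group)
  exact (inv_mul_eq_one.mp this).symm

theorem Gen.mem_V_parabolic (h : T.Gen G1) (hne : ∀ a, ∃ x ∈ Φ.US F (S.PJ a) ⊓ T.fix, x ≠ 1) (a : Fin S.m)
    {g : G1} (hg : g ∈ (h.bnPair hne).parabolic {h.sn a}) (hV : (g : GL D.Idx F) ∈ D.negUnipotent F) :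
    rootN S a g := by
  have hJ : ({h.sn a} : Set G1) ⊆ (h.bnPair hne).S := Set.singleton_subset_iff.mpr ⟨a, rfl⟩
  obtain ⟨q, hq, hcell⟩ := (CfsgLib.BN.mem_parabolic_iff _ hJ).1 hg
  let s : (h.bnPair hne).S := ⟨h.sn a, a, rfl⟩
  have hq' : q = 1 ∨ q = CfsgLib.BN.σ (h.bnPair hne) s := by
    obtain ⟨l, hl, rfl⟩ := hq
    clear hcell hg
    induction l with
    | nil => exact Or.inl rfl
    | cons b l ih =>
      have hb := hl b (List.mem_cons_self ..)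
      have : b = s := Subtype.ext hb
      subst this
      rcases ih (fun x hx => hl x (List.mem_cons_of_mem _ hx)) with h | h <;>
        simp only [CfsgLib.BN.wd, List.map_cons, List.prod_cons] at h ⊢ <;> rw [h]
      · right; rw [mul_one]
      · left; exact CfsgLib.BN.σ_mul_self _ _
  rcases hq' with rfl | rfl
  · rw [CfsgLib.BN.cell_one] at hcell
    have h2 : g = 1 := Subtype.ext (eq_one_of_B_V' (Φ := Φ) (mem_B1.mp hcell) hV)
    show (g : GL D.Idx F) ∈ _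
    rw [h2]
    exact one_mem _
  · obtain ⟨c, hc, b, hb, rfl⟩ := (CfsgLib.BN.mem_cell_cls (h.bnPair hne)).1 hcell
    obtain ⟨v, hv, z, hz, eb⟩ := T.B_mem (mem_B1.mp hb) (h.le_fix b.2)
    obtain ⟨y, hy, x, hx, rfl⟩ := h.split_U a hv
    set s0 : GL D.Idx F := (h.sn a : GL D.Idx F) with hs0
    have hsm : Φ.Mono s0 (S.w a) := h.sn_mono a
    have hV' : z * ((c : GL D.Idx F) * s0 * (b : GL D.Idx F)) * z⁻¹ ∈ D.negUnipotent F := by
      have hV2 : (c : GL D.Idx F) * s0 * (b : GL D.Idx F) ∈ D.negUnipotent F := hV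
      rw [Φ.negUnipotent_eq_US] at hV2 ⊢
      exact (Subgroup.mem_normalizer_iff.mp (Φ.H_le_normalizer_US _ hz.1) _).mp hV2
    set b0 := z * (c : GL D.Idx F) * (s0 * y * s0⁻¹) with hb0
    have hyB : s0 * y * s0⁻¹ ∈ D.borelSubgroup F := by
      refine Subgroup.mem_sup_left ?_
      rw [Φ.posUnipotent_eq_US]
      exact Φ.map_US_le hsm (fun r hr => Out.pos Φ ((S.out_w (S.w_mem a) r).mpr hr)) y hy.1
    have hb0B : b0 ∈ D.borelSubgroup F :=
      mul_mem (mul_mem (Subgroup.mem_sup_right hz.1) (mem_B1.mp hc)) hyB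
    rw [show z * ((c : GL D.Idx F) * s0 * (b : GL D.Idx F)) * z⁻¹ = b0 * s0 * x by
      rw [hb0, eb]; group] at hV'
    by_cases hx1 : x = 1
    · exfalso
      rw [hx1, mul_one] at hV'
      obtain ⟨n0, π, hπ, hn0, hm0, -, -, hVU⟩ := h.exists_swap1
      have h1 : (n0 : GL D.Idx F) * (b0 * s0) * (n0 : GL D.Idx F)⁻¹ ∈ D.posUnipotent F := (hVU _).mp hV'
      have h2 := Φ.bnb_unique hb0B (one_mem _) (one_mem _) (U_le_B h1)
        (mul_mem (h.sn_N a) (inv_mem hn0)) (inv_mem hn0)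
        (show b0 * (s0 * (n0 : GL D.Idx F)⁻¹) * 1 =
          1 * (n0 : GL D.Idx F)⁻¹ * ((n0 : GL D.Idx F) * (b0 * s0) * (n0 : GL D.Idx F)⁻¹) by group)
      have h3 : s0 ∈ D.diagonalSubgroup F := by
        have := Φ.H_conj_mem (inv_mem hn0) h2
        rw [show (n0 : GL D.Idx F)⁻¹ * ((s0 * (n0 : GL D.Idx F)⁻¹)⁻¹ * (n0 : GL D.Idx F)⁻¹) * ((n0 : GL D.Idx F)⁻¹)⁻¹ =
          s0⁻¹ by group] at this
        exact inv_mem_iff.mp this
      obtain ⟨i, hi⟩ := S.nonempty a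
      have h4 := (S.inv_w a _).mpr (S.p_mem_PJ hi)
      rw [Mono.unique Φ hsm ((Φ.mem_H_iff_mono_one (h.sn_N a)).mp h3)] at h4
      exact h4.2 (by simpa using h4.1)
    · have hy0 : s0 * x * s0⁻¹ ≠ 1 := fun e => hx1 (mul_eq_left.mp (mul_inv_eq_one.mp e))
      obtain ⟨b1, hb1, u, hu, e1⟩ := h.rank_one a hx hx1
      rw [← hs0] at e1
      set y' := s0 * u * s0⁻¹
      have hy' : y' ∈ Φ.US F (fun r => S.PJ a r.rev) := map_w_pos hsm hu.1
      have hss : s0 * s0 ∈ D.diagonalSubgroup F := h.sn_sq a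
      set y'' := (s0 * s0)⁻¹ * y' * (s0 * s0) with hy''
      have hy''m : y'' ∈ Φ.US F (fun r => S.PJ a r.rev) := by
        have := (Subgroup.mem_normalizer_iff.mp (Φ.H_le_normalizer_US (fun r => S.PJ a r.rev) (inv_mem hss)) y').mp hy'
        rwa [inv_inv] at this
      have e2 : b0 * s0 * x = b0 * b1 * (s0 * s0) * y'' := by
        rw [hy'', show b0 * s0 * x = b0 * (s0 * x * s0⁻¹) * s0 by group, e1]
        simp only [y']
        group
      have hy''V : y'' ∈ D.negUnipotent F := by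
        rw [Φ.negUnipotent_eq_US]
        exact Φ.US_mono (fun r hr => fun h => (Φ.pos_rev_iff r).mp hr.1 h) hy''m
      rw [e2] at hV'
      have h5 := eq_one_of_B_V' (Φ := Φ) (mul_mem (mul_mem hb0B hb1.1) (Subgroup.mem_sup_right hss))
        (by
          have := mul_mem hV' (inv_mem hy''V)
          rwa [mul_inv_cancel_right] at this)
      show (c : GL D.Idx F) * s0 * (b : GL D.Idx F) ∈ _
      rw [show (c : GL D.Idx F) * s0 * (b : GL D.Idx F) = z⁻¹ * (b0 * s0 * x) * (z⁻¹)⁻¹ by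
        rw [hb0, eb]; group, e2, h5, one_mul]
      exact (Subgroup.mem_normalizer_iff.mp (Φ.H_le_normalizer_US _ (inv_mem hz.1)) y'').mp hy''m

theorem Gen.rootN_mem_parabolic (h : T.Gen G1) (hne : ∀ a, ∃ x ∈ Φ.US F (S.PJ a) ⊓ T.fix, x ≠ 1) (a : Fin S.m)
    {g : G1} (hg : rootN S a g) : g ∈ (h.bnPair hne).parabolic {h.sn a} := by
  have hn : h.sn a ∈ (h.bnPair hne).parabolic {h.sn a} :=
    Subgroup.mem_sup_right (Subgroup.subset_closure rfl)
  have hx : (h.sn a)⁻¹ * g * h.sn a ∈ (h.bnPair hne).parabolic {h.sn a} := by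
    refine Subgroup.mem_sup_left ?_
    show _ ∈ B1 G1
    rw [mem_B1]
    refine U_le_B (rootP_U (S := S) (a := a) ?_)
    have := map_w_neg (map_w_inv (h.sn_N a) (h.sn_mono a)) hg
    rw [inv_inv] at this
    exact this
  have := mul_mem (mul_mem hn hx) (inv_mem hn)
  rwa [show h.sn a * ((h.sn a)⁻¹ * g * h.sn a) * (h.sn a)⁻¹ = g by group] at this

theorem Gen.sn_injective (h : T.Gen G1) (hne : ∀ a, ∃ x ∈ Φ.US F (S.PJ a) ⊓ T.fix, x ≠ 1) :
    Function.Injective h.sn := fun a b e => by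
  have h1 := h.sn_mono a
  rw [e] at h1
  have e1 := Mono.unique Φ h1 (h.sn_mono b)
  obtain ⟨i, hi⟩ := S.nonempty a
  have h2 := (S.inv_w a _).mpr (S.p_mem_PJ hi)
  rw [e1, S.inv_w] at h2
  exact S.disj a b i hi (Φ.sub_p.mp h2.2)

theorem AFix.exists_neg1 (hθ : AFix θ) (h : T.Gen G1) (hne : T.Wit) (a : Fin S.m) :
    ∃ b, ∀ x, rootN S a x ↔ rootN S b (θ x) := by
  have hne' := Wit.ne hne
  set P := h.bnPair hne' with hP
  let Pa : Fin S.m → Subgroup G1 := fun c => P.parabolic {h.sn c}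
  have key : ∀ {φ : MulAut ↥G1}, AFix φ → ∀ i : Fin S.m, ∃ k, Pa k ≤ (Pa i).map φ.toMonoidHom := by
    intro φ hφ i
    have hB : P.B ≤ (Pa i).map φ.toMonoidHom := fun g hg =>
      ⟨φ.symm g, Subgroup.mem_sup_left (show φ.symm g ∈ B1 G1 from mem_B1.mpr (hφ.inv.mem_B1_imp h hne (mem_B1.mp hg))),
        φ.apply_symm_apply g⟩
    have hM := CfsgLib.BN.eq_parabolic P hB
    by_cases hn : ∃ s ∈ P.S, s ∈ (Pa i).map φ.toMonoidHom
    · obtain ⟨s, ⟨k, rfl⟩, hs⟩ := hn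
      refine ⟨k, sup_le hB ((Subgroup.closure_le _).2 ?_)⟩
      rintro _ rfl
      exact hs
    · exfalso
      push Not at hn
      have hnS : h.sn i ∈ P.S := ⟨i, rfl⟩
      apply CfsgLib.BN.notMem_B P hnS
      have hmem : φ (h.sn i) ∈ (Pa i).map φ.toMonoidHom :=
        ⟨_, Subgroup.mem_sup_right (Subgroup.subset_closure rfl), rfl⟩
      rw [hM, show P.S ∩ ((Pa i).map φ.toMonoidHom : Set ↥G1) = ∅ from
        Set.eq_empty_iff_forall_notMem.2 fun s hs => hn s hs.1 hs.2,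
        Cfsg.BNPair.parabolic, Subgroup.closure_empty, sup_bot_eq] at hmem
      have h1 := hφ.inv.mem_B1_imp h hne (mem_B1.mp hmem)
      rw [MulAut.inv_apply_self] at h1
      exact mem_B1.mpr h1
  obtain ⟨k, hk⟩ := key hθ a
  obtain ⟨l, hl⟩ := key hθ.inv k
  have hle : Pa l ≤ Pa a := fun g hg => by
    obtain ⟨g', hg', rfl⟩ := hl hg
    obtain ⟨g'', hg'', rfl⟩ := hk hg'
    show θ⁻¹ (θ g'') ∈ Pa a
    rwa [MulAut.inv_apply_self]
  have hla : l = a := by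
    have e := (CfsgLib.BN.mem_parabolic_iff_mem P (J := {h.sn a}) (Set.singleton_subset_iff.mpr ⟨a, rfl⟩)
      (s := h.sn l) ⟨l, rfl⟩).1 (hle (Subgroup.mem_sup_right (Subgroup.subset_closure rfl)))
    exact h.sn_injective hne' e
  subst hla
  refine ⟨k, fun x => ⟨fun hx => ?_, fun hx => ?_⟩⟩
  · refine h.mem_V_parabolic hne' k ?_ ((hθ.v x).mpr (rootN_V hx))
    obtain ⟨g', hg', e⟩ := hl (h.rootN_mem_parabolic hne' l hx)
    rw [show θ x = g' by rw [← e]; exact θ.apply_symm_apply g']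
    exact hg'
  · refine h.mem_V_parabolic hne' l ?_ ((hθ.v x).mp (rootN_V hx))
    obtain ⟨g', hg', e⟩ := hk (h.rootN_mem_parabolic hne' k hx)
    rw [show x = g' from θ.injective e.symm]
    exact hg'

/-- The longest element carries each orbit to an orbit. -/
theorem exists_flip_orbit {π : Equiv.Perm (Fin D.nroots)} (hπ : π ∈ S.W1)
    (hflip : ∀ r, Φ.toTables.Pos r ↔ ¬ Φ.toTables.Pos (π r)) (a : Fin S.m) :
    ∃ b, ∀ r, S.PJ a r ↔ S.PJ b (π r).rev := by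
  obtain ⟨hW, hcomm⟩ := S.mem_W1.mp hπ
  obtain ⟨c, hc⟩ := Φ.long_simple (Φ.W_le_WL hW) hflip
  have hp : ∀ i, π (Φ.p i) = (Φ.p (c.symm i)).rev := fun i => by
    have e := hc (c.symm i)
    rw [Equiv.apply_symm_apply, Φ.W_rev hW] at e
    rw [← e, Fin.rev_rev]
  have hV : ∀ r j, Φ.V (π r).rev j = Φ.V r (c j) := fun r j => by
    rw [Φ.V_neg, Φ.W_lin hW r j, Finset.sum_eq_single (c j)]
    · rw [hp, Φ.V_neg, Equiv.symm_apply_apply, Φ.V_p, if_pos rfl, mul_neg, mul_one, neg_neg]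
    · intro k _ hk
      rw [hp, Φ.V_neg, Φ.V_p, if_neg, neg_zero, mul_zero]
      intro e
      exact hk ((Equiv.symm_apply_eq c).mp e)
    · simp
  have p_inj : ∀ {i j : Fin D.rank}, Φ.p i = Φ.p j → i = j := fun {i j} e => by
    by_contra hne
    have h1 := Φ.V_p i i
    rw [e, Φ.V_p, if_neg (Ne.symm hne)] at h1
    rw [if_pos rfl] at h1
    exact zero_ne_one h1
  have hτ : ∀ i, c.symm (S.τ i) = S.τ (c.symm i) := fun i => p_inj (by
    apply Fin.rev_injective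
    rw [← hp, ← S.ρ_prev, ← hp, ← hcomm, S.ρ_p])
  have hτn : ∀ (n : ℕ) i, c.symm ((S.τ ^ n) i) = (S.τ ^ n) (c.symm i) := fun n i => by
    induction n with
    | zero => rfl
    | succ n ih => rw [pow_succ', Equiv.Perm.mul_apply, Equiv.Perm.mul_apply, hτ, ih]
  have hst : ∀ (b : Fin S.m) (n : ℕ) i, (S.τ ^ n) i ∈ S.J b ↔ i ∈ S.J b := fun b n i => by
    induction n with
    | zero => rfl
    | succ n ih => rw [pow_succ', Equiv.Perm.mul_apply, S.stable, ih]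
  obtain ⟨i, hi⟩ := S.nonempty a
  obtain ⟨b, hb⟩ := S.cover (c.symm i)
  have hJ : ∀ j, j ∈ S.J b ↔ c j ∈ S.J a := fun j => by
    constructor
    · intro hj
      obtain ⟨n, e⟩ := S.trans b _ hb j hj
      have : c j = (S.τ ^ n) i := by rw [← e, ← hτn, Equiv.apply_symm_apply]
      rw [this, hst]
      exact hi
    · intro hj
      obtain ⟨n, e⟩ := S.trans a i hi _ hj
      have : j = (S.τ ^ n) (c.symm i) := by rw [← hτn, e, Equiv.symm_apply_apply]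
      rw [this, hst]
      exact hb
  refine ⟨b, fun r => and_congr ?_ ⟨fun h j hj => ?_, fun h j hj => ?_⟩⟩
  · rw [Φ.pos_rev_iff, ← hflip]
  · rw [hV]; exact h _ fun e => hj ((hJ j).mpr e)
  · have := h (c.symm j) fun e => hj (by simpa using (hJ _).mp e)
    rwa [hV, Equiv.apply_symm_apply] at this

theorem AFix.exists_pos1 (hθ : AFix θ) (h : T.Gen G1) (hne : T.Wit) (a : Fin S.m) :
    ∃ b, ∀ x, rootP S a x ↔ rootP S b (θ x) := by
  obtain ⟨n, π, hπ, hn, hm, hflip, hUV, hVU⟩ := h.exists_swap1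
  have hconj : ∀ (c : Fin S.m), ∃ c', ∀ x : G1, rootP S c x ↔ rootN S c' (n * x * n⁻¹) := fun c => by
    obtain ⟨c', hc'⟩ := exists_flip_orbit hπ hflip c
    exact ⟨c', fun x => Φ.conj_US_iff hn hm hc' _⟩
  let φ : MulAut ↥G1 := MulAut.conj n * θ * (MulAut.conj n)⁻¹
  have happ : ∀ g, φ g = n * θ (n⁻¹ * g * n) * n⁻¹ := fun g => by
    simp [φ, MulAut.mul_apply, ← map_inv]
  have hφ : AFix φ := by
    refine ⟨fun g => ?_, fun g => ?_⟩
    · rw [happ, Subgroup.coe_mul, Subgroup.coe_mul, Subgroup.coe_inv, ← hVU, hθ.v, hVU,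
        show (n : GL D.Idx F) * ((n⁻¹ * g * n : G1) : GL D.Idx F) * (n : GL D.Idx F)⁻¹ = g by
          simp only [Subgroup.coe_mul, Subgroup.coe_inv]; group]
    · rw [happ, Subgroup.coe_mul, Subgroup.coe_mul, Subgroup.coe_inv, ← hUV, hθ.u, hUV,
        show (n : GL D.Idx F) * ((n⁻¹ * g * n : G1) : GL D.Idx F) * (n : GL D.Idx F)⁻¹ = g by
          simp only [Subgroup.coe_mul, Subgroup.coe_inv]; group]
  choose flip hf using hconj
  have hinj : Function.Injective flip := by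
    intro c c' e
    obtain ⟨x, hx, hx1⟩ := Wit.ne hne c
    let x' : G1 := ⟨x, h.root_le c hx⟩
    have h1 : rootP S c x' := hx.1
    have h2 : rootP S c' x' := (hf c' x').mpr (e ▸ (hf c x').mp h1)
    by_contra hcc
    refine hx1 (Φ.US_unique (T := S.PJ c) (U := S.PJ c') (fun r hr => hr.1) (fun r hr => hr.1)
      (S.closed_PJ c) (S.closed_PJ c') (fun r hr hr' => hcc ?_) hx.1 h2)
    obtain ⟨k, hk⟩ := Φ.exists_V_ne_zero r
    exact S.disj c c' k (by_contra fun e => hk (hr.2 k e)) (by_contra fun e => hk (hr'.2 k e))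
  obtain ⟨k, hk⟩ := hφ.exists_neg1 h hne (flip a)
  obtain ⟨b, rfl⟩ := (Finite.injective_iff_surjective.mp hinj) k
  refine ⟨b, fun x => ?_⟩
  rw [hf a, hk, hf b, happ, show n⁻¹ * (n * x * n⁻¹) * n = x by group]

end Tw

end Chev

end CfsgLib.Chev
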