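/-
The action of a normalised automorphism of a twisted group on a pair of opposite root subgroups.
-/
import Cfsg.Agent.Lib.Chev.Twist.AutGen
import Cfsg.Agent.Lib.Chev.Twist.Three
import Cfsg.Agent.Lib.Chev.Aut.RankOne

namespace CfsgLib.Chev

open Cfsg.Lie Matrix

set_option linter.dupNamespace false
set_option linter.unusedSectionVars false

variable {D : ChevalleyDatum}

namespace Chev

namespace Tw

variable {Φ : Chev D} {S : Φ.Sym} {F : Type*} [Field F] {T : Tw S F} {G1 : Subgroup (GL D.Idx F)}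

/-- Coordinates from a field on a pair of opposite root subgroups. -/
structure Coord (S : Φ.Sym) (a : Fin S.m) (R : Type*) [Field R] (X Y : R → G1) : Prop where
  memX : ∀ x, rootP S a x ↔ ∃ t, x = X t
  memY : ∀ x, rootN S a x ↔ ∃ t, x = Y t
  addX : ∀ s t, X (s + t) = X s * X t
  addY : ∀ s t, Y (s + t) = Y s * Y t
  injX : Function.Injective X
  injY : Function.Injective Y
  mono : ∀ t, t ≠ 0 → ((X t * Y (-t⁻¹) * X t : G1) : GL D.Idx F) ∈ D.monomialSubgroup F ∧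
    Φ.Mono ((X t * Y (-t⁻¹) * X t : G1) : GL D.Idx F) (S.w a)
  conj : ∀ t v, t ≠ 0 →
    X t * Y (-t⁻¹) * X t * X v * (X t * Y (-t⁻¹) * X t)⁻¹ = Y (-(t⁻¹ ^ 2 * v))

variable {a : Fin S.m} {R : Type*} [Field R] {X Y : R → G1}

theorem Coord.zeroX (C : Coord S a R X Y) : X 0 = 1 := by
  have := C.addX 0 0
  rwa [add_zero, left_eq_mul] at this

theorem Coord.zeroY (C : Coord S a R X Y) : Y 0 = 1 := by
  have := C.addY 0 0
  rwa [add_zero, left_eq_mul] at this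

/-- A normalised automorphism is a constant times a field automorphism in such coordinates. -/
theorem Coord.exists_tau [Finite R] (C : Coord S a R X Y) (h : T.Gen G1) {θ : MulAut ↥G1}
    (hP : ∀ x, rootP S a x ↔ rootP S a (θ x)) (hN : ∀ x, rootN S a x ↔ rootN S a (θ x)) :
    ∃ (c : Rˣ) (τ : R ≃+* R), ∀ t,
      θ (X t) = X ((c : R) * τ t) ∧ θ (Y t) = Y (((c⁻¹ : Rˣ) : R) * τ t) := by
  have hexX : ∀ t, ∃ s, θ (X t) = X s := fun t => (C.memX _).mp ((hP _).mp ((C.memX _).mpr ⟨t, rfl⟩))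
  have hexY : ∀ t, ∃ s, θ (Y t) = Y s := fun t => (C.memY _).mp ((hN _).mp ((C.memY _).mpr ⟨t, rfl⟩))
  choose f hf using hexX
  choose g hg using hexY
  have fadd : ∀ s t, f (s + t) = f s + f t := fun s t => C.injX (by
    rw [← hf, C.addX, map_mul, hf, hf, ← C.addX])
  have gadd : ∀ s t, g (s + t) = g s + g t := fun s t => C.injY (by
    rw [← hg, C.addY, map_mul, hg, hg, ← C.addY])
  have finj : Function.Injective f := fun s t e => C.injX (θ.injective (by rw [hf, hf, e]))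
  have fne : ∀ t, t ≠ 0 → f t ≠ 0 := fun t ht e => ht (finj (by
    have h0 := fadd 0 0
    rw [add_zero, left_eq_add] at h0
    rw [e, h0]))
  have hinv : ∀ t, t ≠ 0 → g (-t⁻¹) = -(f t)⁻¹ := by
    intro t ht
    have e := congrArg θ (C.conj t 1 ht)
    simp only [map_mul, map_inv, hf, hg] at e
    have h1 : X (f 1) ≠ 1 := fun e1 => fne 1 one_ne_zero (C.injX (e1.trans C.zeroX.symm))
    exact C.injY (h.neg_unique (a := a) ((C.memX _).mpr ⟨_, rfl⟩) ((C.memY _).mpr ⟨_, rfl⟩)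
      ((C.memY _).mpr ⟨_, rfl⟩) (C.mono _ (fne t ht)).1 (C.mono _ (fne t ht)).2
      ((C.memX _).mpr ⟨_, rfl⟩) h1 ((C.memY _).mpr ⟨_, e⟩))
  have hsq : ∀ t u, t ≠ 0 → g (-(t⁻¹ ^ 2 * u)) = -((f t)⁻¹ ^ 2 * f u) := by
    intro t u ht
    have e := congrArg θ (C.conj t u ht)
    simp only [map_mul, map_inv, hf, hg, hinv t ht] at e
    rw [C.conj _ _ (fne t ht)] at e
    exact (C.injY e).symm
  set c : Rˣ := Units.mk0 (f 1) (fne 1 one_ne_zero) with hc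
  have hc0 : (c : R) ≠ 0 := c.ne_zero
  obtain ⟨τ, hτ⟩ := ringEquiv_of_pair (f := fun t => f t / (c : R)) (g := fun t => g t * (c : R))
    (fun s t => by simp [fadd, add_div]) (fun s t => by simp [gadd, add_mul])
    (fun s t e => finj (by simpa [div_left_inj' hc0] using e)) (div_self hc0)
    (fun t ht => by
      show g (-t⁻¹) * (c : R) = -(f t / (c : R))⁻¹
      rw [hinv t ht, inv_div]; field_simp)
    (fun t u ht => by
      show g (-(t⁻¹ ^ 2 * u)) * (c : R) = -((f t / (c : R))⁻¹ ^ 2 * (f u / (c : R)))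
      rw [hsq t u ht]; field_simp)
  refine ⟨c, τ, fun t => ⟨?_, ?_⟩⟩
  · rw [hf, ← (hτ t).1, mul_div_cancel₀ _ hc0]
  · rw [hg, ← (hτ t).2, Units.val_inv_eq_inv_val, mul_comm (g t), inv_mul_cancel_left₀ hc0]

/-- The negative root subgroup is the conjugate of the positive one. -/
theorem rootN_iff_conj {n : G1} (hn : (n : GL D.Idx F) ∈ D.monomialSubgroup F)
    (hm : Φ.Mono (n : GL D.Idx F) (S.w a)) (y : G1) : rootN S a y ↔ rootP S a (n⁻¹ * y * n) := by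
  constructor
  · intro hy
    show _ ∈ Φ.US F _
    have := map_w_neg (map_w_inv hn hm) hy
    rw [inv_inv] at this
    simpa only [Subgroup.coe_mul, Subgroup.coe_inv] using this
  · intro hy
    have hy' : ((n : GL D.Idx F))⁻¹ * (y : GL D.Idx F) * n ∈ Φ.US F (S.PJ a) := by
      simpa only [rootP, Subgroup.coe_mul, Subgroup.coe_inv] using hy
    have := map_w_pos hm hy'
    rwa [show (n : GL D.Idx F) * (((n : GL D.Idx F))⁻¹ * (y : GL D.Idx F) * n) * (n : GL D.Idx F)⁻¹ = y by group]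
      at this

theorem commute_nw_orth {r s : Fin D.nroots} (h : Φ.Orth r s) (t : Fˣ) (u : F) :
    Commute (Φ.nw r t) (Φ.toAlg.xg s u) ∧ Commute (Φ.nw r t) (Φ.toAlg.xg s.rev u) ∧
      Commute (Φ.nw s t) (Φ.toAlg.xg r u) ∧ Commute (Φ.nw s t) (Φ.toAlg.xg r.rev u) :=
  ⟨((orth_comms h _ _).1.mul_left (orth_comms h _ _).2.2.1).mul_left (orth_comms h _ _).1,
    ((orth_comms h _ _).2.2.2.mul_left (orth_comms h _ _).2.1).mul_left (orth_comms h _ _).2.2.2,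
    ((orth_comms h _ _).1.symm.mul_left (orth_comms h _ _).2.2.2.symm).mul_left (orth_comms h _ _).1.symm,
    ((orth_comms h _ _).2.2.1.symm.mul_left (orth_comms h _ _).2.1.symm).mul_left (orth_comms h _ _).2.2.1.symm⟩

theorem conj_three {G : Type*} [Group G] {A B C a b c : G} (h1 : Commute B a) (h2 : Commute C a)
    (h3 : Commute C b) (h4 : Commute A (B * b * B⁻¹)) (h5 : Commute A (C * c * C⁻¹))
    (h6 : Commute B (C * c * C⁻¹)) :
    A * B * C * (a * b * c) * (A * B * C)⁻¹ = (A * a * A⁻¹) * (B * b * B⁻¹) * (C * c * C⁻¹) := by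
  calc A * B * C * (a * b * c) * (A * B * C)⁻¹
      = A * B * (C * a) * b * c * C⁻¹ * B⁻¹ * A⁻¹ := by group
    _ = A * B * a * (C * b) * c * C⁻¹ * B⁻¹ * A⁻¹ := by rw [h2.eq]; group
    _ = A * (B * a) * b * (C * c * C⁻¹) * B⁻¹ * A⁻¹ := by rw [h3.eq]; group
    _ = A * a * (B * b * B⁻¹) * (B * (C * c * C⁻¹)) * B⁻¹ * A⁻¹ := by rw [h1.eq]; group
    _ = A * a * (B * b * B⁻¹) * (C * c * C⁻¹) * A⁻¹ := by rw [h6.eq]; group
    _ = A * a * ((B * b * B⁻¹) * (C * c * C⁻¹)) * A⁻¹ := by group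
    _ = A * a * (A⁻¹ * ((B * b * B⁻¹) * (C * c * C⁻¹))) := by
        rw [(h4.mul_right h5).inv_left.eq]; group
    _ = _ := by group

theorem nw3_eq {i j l : Fin D.rank} {a : Fin S.m} (h : Three (S := S) a i j l) (t u v : Fˣ) :
    X3 Φ (Φ.p i) (Φ.p j) (Φ.p l) (t : F) (u : F) (v : F) *
        X3 Φ (Φ.p i).rev (Φ.p j).rev (Φ.p l).rev (-(t : F)⁻¹) (-(u : F)⁻¹) (-(v : F)⁻¹) *
        X3 Φ (Φ.p i) (Φ.p j) (Φ.p l) (t : F) (u : F) (v : F) =
      Φ.nw (Φ.p i) t * Φ.nw (Φ.p j) u * Φ.nw (Φ.p l) v := by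
  rw [← Φ.nw_pair h.oij]
  simp only [X3, Chev.nw]
  exact (mul_three
    ((orth_comms h.oil _ _).2.2.1.symm.mul_right (orth_comms h.ojl _ _).2.2.1.symm)
    ((orth_comms h.oil _ _).1.symm.mul_right (orth_comms h.ojl _ _).1.symm)
    ((orth_comms h.oil _ _).2.2.2.symm.mul_right (orth_comms h.ojl _ _).2.2.2.symm))

theorem nw3_conj {i j l : Fin D.rank} {a : Fin S.m} (h : Three (S := S) a i j l) (t u v : Fˣ) (x y z : F) :
    Φ.nw (Φ.p i) t * Φ.nw (Φ.p j) u * Φ.nw (Φ.p l) v * X3 Φ (Φ.p i) (Φ.p j) (Φ.p l) x y z *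
        (Φ.nw (Φ.p i) t * Φ.nw (Φ.p j) u * Φ.nw (Φ.p l) v)⁻¹ =
      X3 Φ (Φ.p i).rev (Φ.p j).rev (Φ.p l).rev (-((t : F)⁻¹ ^ 2 * x)) (-((u : F)⁻¹ ^ 2 * y))
        (-((v : F)⁻¹ ^ 2 * z)) := by
  rw [X3, conj_three (commute_nw_orth h.oij _ _).2.2.1 (commute_nw_orth h.oil _ _).2.2.1
    (commute_nw_orth h.ojl _ _).2.2.1 (by rw [Φ.nw_xg_val]; exact (commute_nw_orth h.oij _ _).2.1)
    (by rw [Φ.nw_xg_val]; exact (commute_nw_orth h.oil _ _).2.1)
    (by rw [Φ.nw_xg_val]; exact (commute_nw_orth h.ojl _ _).2.1), Φ.nw_xg_val, Φ.nw_xg_val, Φ.nw_xg_val]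
  rfl

theorem X3_add {i j l : Fin D.rank} {a : Fin S.m} (h : Three (S := S) a i j l) (x y z x' y' z' : F) :
    X3 Φ (Φ.p i) (Φ.p j) (Φ.p l) (x + x') (y + y') (z + z') =
        X3 Φ (Φ.p i) (Φ.p j) (Φ.p l) x y z * X3 Φ (Φ.p i) (Φ.p j) (Φ.p l) x' y' z' ∧
      X3 Φ (Φ.p i).rev (Φ.p j).rev (Φ.p l).rev (x + x') (y + y') (z + z') =
        X3 Φ (Φ.p i).rev (Φ.p j).rev (Φ.p l).rev x y z * X3 Φ (Φ.p i).rev (Φ.p j).rev (Φ.p l).rev x' y' z' := by
  constructor <;> simp only [X3, Φ.toAlg.xg_add]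
  · exact mul_three (orth_comms h.oij _ _).1 (orth_comms h.oil _ _).1 (orth_comms h.ojl _ _).1
  · exact mul_three (orth_comms h.oij _ _).2.1 (orth_comms h.oil _ _).2.1 (orth_comms h.ojl _ _).2.1

theorem X3_inj {i j l : Fin D.rank} {a : Fin S.m} (h : Three (S := S) a i j l) {x y z x' y' z' : F}
    (e : X3 Φ (Φ.p i) (Φ.p j) (Φ.p l) x y z = X3 Φ (Φ.p i) (Φ.p j) (Φ.p l) x' y' z') :
    x = x' ∧ y = y' ∧ z = z' := by
  classical
  let tc : F → F → F → Fin D.nroots → F := fun x y z r => if r = Φ.p i then x else if r = Φ.p j then y else z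
  have e' : ∀ x y z : F, Φ.prodL (rootList (S.PJ a)) (tc x y z) = X3 Φ (Φ.p i) (Φ.p j) (Φ.p l) x y z :=
    fun x y z => by
      rw [h.prod_eq]
      simp [tc, h.oij.1, h.oil.1, h.ojl.1]
  rw [← e', ← e'] at e
  have k := fun r hr => Φ.prodL_injective (pairwise_rootList _) (fun r hr => (mem_rootList.mp hr).1) e r hr
  exact ⟨by simpa [tc] using k (Φ.p i) (mem_rootList.mpr (S.p_mem_PJ h.mem.1)),
    by simpa [tc, h.oij.1] using k (Φ.p j) (mem_rootList.mpr (S.p_mem_PJ h.mem.2.1)),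
    by simpa [tc, h.oil.1, h.ojl.1] using k (Φ.p l) (mem_rootList.mpr (S.p_mem_PJ h.mem.2.2))⟩

/-- The coordinates of an orbit of one root. -/
theorem One.coord {i : Fin D.rank} (h : T.Gen G1) (o : One (S := S) a i) (σ : F →+* F)
    (hσ : ∀ c, σ c = c ^ T.k (Φ.p i))
    (X Y : RingHom.eqLocusField σ (RingHom.id F) → G1)
    (hX : ∀ t, (X t : GL D.Idx F) = Φ.toAlg.xg (Φ.p i) (t : F))
    (hY : ∀ t, (Y t : GL D.Idx F) = Φ.toAlg.xg (Φ.p i).rev (t : F)) :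
    Coord S a (RingHom.eqLocusField σ (RingHom.id F)) X Y := by
  have hn : ∀ t : RingHom.eqLocusField σ (RingHom.id F), t ≠ 0 → ∃ u : Fˣ, (u : F) = t ∧
      ((X t * Y (-t⁻¹) * X t : G1) : GL D.Idx F) = Φ.nw (Φ.p i) u := fun t ht => by
    refine ⟨Units.mk0 (t : F) (fun e => ht (Subtype.ext e)), rfl, ?_⟩
    simp only [Subgroup.coe_mul, hX, hY, Chev.nw, Units.val_mk0]
    rfl
  have hmono : ∀ u : Fˣ, Φ.Mono (Φ.nw (Φ.p i) u) (S.w a) := fun u => by rw [o.hw]; exact mono_nw Φ i u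
  have hmX : ∀ x, rootP S a x ↔ ∃ t, x = X t := fun x => by
    constructor
    · intro hx
      obtain ⟨c, hc, e⟩ := o.fix_iff.mp ⟨hx, h.le_fix x.2⟩
      exact ⟨⟨c, (hσ c).trans hc⟩, Subtype.ext (by rw [hX]; exact e)⟩
    · rintro ⟨t, rfl⟩
      show _ ∈ Φ.US F _
      rw [hX]; exact Φ.xg_mem_US (S.p_mem_PJ o.mem) _
  have hconj : ∀ t v, t ≠ 0 →
      X t * Y (-t⁻¹) * X t * X v * (X t * Y (-t⁻¹) * X t)⁻¹ = Y (-(t⁻¹ ^ 2 * v)) := fun t v ht => by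
    obtain ⟨u, hu, e⟩ := hn t ht
    refine Subtype.ext ?_
    rw [Subgroup.coe_mul, Subgroup.coe_mul, Subgroup.coe_inv, e, hX, Φ.nw_xg_val, hY, hu]
    rfl
  refine ⟨hmX, fun y => ?_, fun s t => Subtype.ext ?_, fun s t => Subtype.ext ?_,
    fun s t e => Subtype.ext (Φ.toAlg.xg_injective (Φ.p i) (by rw [← hX, ← hX, e])),
    fun s t e => Subtype.ext (Φ.toAlg.xg_injective (Φ.p i).rev (by rw [← hY, ← hY, e])), fun t ht => ?_, hconj⟩
  · obtain ⟨u, hu, e⟩ := hn 1 one_ne_zero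
    set n := X 1 * Y (-(1 : RingHom.eqLocusField σ (RingHom.id F))⁻¹) * X 1
    rw [rootN_iff_conj (n := n) (by rw [e]; exact Φ.nw_mem_N _ _) (by rw [e]; exact hmono u) y, hmX]
    constructor
    · rintro ⟨v, hv⟩
      exact ⟨-((1 : RingHom.eqLocusField σ (RingHom.id F))⁻¹ ^ 2 * v), by
        rw [← hconj 1 v one_ne_zero]; show y = n * X v * n⁻¹; rw [← hv]; group⟩
    · rintro ⟨v, rfl⟩
      exact ⟨-v, by rw [show Y v = n * X (-v) * n⁻¹ by rw [hconj 1 (-v) one_ne_zero]; simp]; group⟩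
  · rw [Subgroup.coe_mul, hX, hX, hX, ← Φ.toAlg.xg_add]; rfl
  · rw [Subgroup.coe_mul, hY, hY, hY, ← Φ.toAlg.xg_add]; rfl
  · obtain ⟨u, hu, e⟩ := hn t ht
    exact ⟨e ▸ Φ.nw_mem_N _ _, e ▸ hmono u⟩

theorem conj_two {G : Type*} [Group G] {A B a b : G} (h1 : Commute B a) (h2 : Commute A (B * b * B⁻¹)) :
    A * B * (a * b) * (A * B)⁻¹ = (A * a * A⁻¹) * (B * b * B⁻¹) := by
  calc A * B * (a * b) * (A * B)⁻¹ = A * (B * a) * b * B⁻¹ * A⁻¹ := by group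
    _ = A * a * (B * b * B⁻¹) * A⁻¹ := by rw [h1.eq]; group
    _ = A * a * (A⁻¹ * (B * b * B⁻¹)) := by rw [h2.inv_left.eq]; group
    _ = _ := by group

theorem nw2_conj {i j : Fin D.rank} {a : Fin S.m} (h : Two (S := S) a i j) (t u : Fˣ) (x y : F) :
    Φ.nw (Φ.p i) t * Φ.nw (Φ.p j) u * X2 Φ (Φ.p i) (Φ.p j) x y * (Φ.nw (Φ.p i) t * Φ.nw (Φ.p j) u)⁻¹ =
      X2 Φ (Φ.p i).rev (Φ.p j).rev (-((t : F)⁻¹ ^ 2 * x)) (-((u : F)⁻¹ ^ 2 * y)) := by
  rw [X2, conj_two (commute_nw_orth h.orth _ _).2.2.1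
    (by rw [Φ.nw_xg_val]; exact (commute_nw_orth h.orth _ _).2.1), Φ.nw_xg_val, Φ.nw_xg_val]
  rfl

theorem X2_inj {i j : Fin D.rank} {a : Fin S.m} (h : Two (S := S) a i j) {x y x' y' : F}
    (e : X2 Φ (Φ.p i) (Φ.p j) x y = X2 Φ (Φ.p i) (Φ.p j) x' y') : x = x' ∧ y = y' := by
  classical
  let tc : F → F → Fin D.nroots → F := fun x y r => if r = Φ.p i then x else y
  have e' : ∀ x y : F, Φ.prodL (rootList (S.PJ a)) (tc x y) = X2 Φ (Φ.p i) (Φ.p j) x y :=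
    fun x y => by
      rw [h.prod_eq]
      simp [tc, h.hne]
  rw [← e', ← e'] at e
  have k := fun r hr => Φ.prodL_injective (pairwise_rootList _) (fun r hr => (mem_rootList.mp hr).1) e r hr
  exact ⟨by simpa [tc] using k (Φ.p i) (mem_rootList.mpr (S.p_mem_PJ h.mem.1)),
    by simpa [tc, h.hne] using k (Φ.p j) (mem_rootList.mpr (S.p_mem_PJ h.mem.2))⟩

/-- The coordinates of an orbit of two orthogonal roots. -/
theorem Two.coord {i j : Fin D.rank} (h : T.Gen G1) (o : Two (S := S) a i j) (σ : F →+* F)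
    (hσ : ∀ c, σ c = c ^ T.k (Φ.p i)) (X Y : F → G1)
    (hX : ∀ t, (X t : GL D.Idx F) = X2 Φ (Φ.p i) (Φ.p j) t (σ t))
    (hY : ∀ t, (Y t : GL D.Idx F) = X2 Φ (Φ.p i).rev (Φ.p j).rev t (σ t)) :
    Coord S a F X Y := by
  have hn : ∀ t : F, t ≠ 0 → ∃ u w : Fˣ, (u : F) = t ∧ (w : F) = σ t ∧
      ((X t * Y (-t⁻¹) * X t : G1) : GL D.Idx F) = Φ.nw (Φ.p i) u * Φ.nw (Φ.p j) w := fun t ht => by
    refine ⟨Units.mk0 t ht, Units.mk0 (σ t) (by simpa using ht), rfl, rfl, ?_⟩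
    rw [Subgroup.coe_mul, Subgroup.coe_mul, hX, hY, map_neg, map_inv₀, ← Φ.nw_pair o.orth]
    rfl
  have hmono : ∀ u w : Fˣ, Φ.Mono (Φ.nw (Φ.p i) u * Φ.nw (Φ.p j) w) (S.w a) := fun u w => by
    rw [o.hw]; exact Mono.mul Φ (mono_nw Φ i u) (mono_nw Φ j w)
  have hmX : ∀ x, rootP S a x ↔ ∃ t, x = X t := fun x => by
    constructor
    · intro hx
      obtain ⟨c, c', hc, -, e⟩ := o.fix_iff.mp ⟨hx, h.le_fix x.2⟩
      subst hc
      exact ⟨c, Subtype.ext (by rw [hX, hσ]; exact e)⟩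
    · rintro ⟨t, rfl⟩
      show _ ∈ Φ.US F _
      rw [hX]
      exact mul_mem (Φ.xg_mem_US (S.p_mem_PJ o.mem.1) _) (Φ.xg_mem_US (S.p_mem_PJ o.mem.2) _)
  have hconj : ∀ t v, t ≠ 0 →
      X t * Y (-t⁻¹) * X t * X v * (X t * Y (-t⁻¹) * X t)⁻¹ = Y (-(t⁻¹ ^ 2 * v)) := fun t v ht => by
    obtain ⟨u, w, hu, hw, e⟩ := hn t ht
    refine Subtype.ext ?_
    rw [Subgroup.coe_mul, Subgroup.coe_mul, Subgroup.coe_inv, e, hX, nw2_conj o, hY, hu, hw, map_neg, map_mul,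
      map_pow, map_inv₀]
  have hinj : Function.Injective X := fun s t e => (X2_inj o (by rw [← hX, ← hX, e])).1
  refine ⟨hmX, fun y => ?_, fun s t => Subtype.ext ?_, fun s t => Subtype.ext ?_, hinj,
    fun s t e => ?_, fun t ht => ?_, hconj⟩
  · obtain ⟨u, w, hu, hw, e⟩ := hn 1 one_ne_zero
    set n := X 1 * Y (-(1 : F)⁻¹) * X 1
    rw [rootN_iff_conj (n := n) (by rw [e]; exact mul_mem (Φ.nw_mem_N _ _) (Φ.nw_mem_N _ _))
      (by rw [e]; exact hmono u w) y, hmX]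
    constructor
    · rintro ⟨v, hv⟩
      exact ⟨-((1 : F)⁻¹ ^ 2 * v), by
        rw [← hconj 1 v one_ne_zero]; show y = n * X v * n⁻¹; rw [← hv]; group⟩
    · rintro ⟨v, rfl⟩
      exact ⟨-v, by rw [show Y v = n * X (-v) * n⁻¹ by rw [hconj 1 (-v) one_ne_zero]; simp]; group⟩
  · rw [Subgroup.coe_mul, hX, hX, hX, map_add]
    simp only [X2, Φ.toAlg.xg_add]
    exact (o.comm _ _).mul_mul_mul_comm _ _
  · rw [Subgroup.coe_mul, hY, hY, hY, map_add]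
    simp only [X2, Φ.toAlg.xg_add]
    exact (o.comm_rev _ _).mul_mul_mul_comm _ _
  · have h1 := hconj 1 (-s) one_ne_zero
    have h2 := hconj 1 (-t) one_ne_zero
    simp only [_root_.inv_one, one_pow, one_mul, neg_neg] at h1 h2
    rw [← h1, ← h2] at e
    exact neg_injective (hinj (mul_left_cancel (mul_right_cancel e)))
  · obtain ⟨u, w, -, -, e⟩ := hn t ht
    exact ⟨e ▸ mul_mem (Φ.nw_mem_N _ _) (Φ.nw_mem_N _ _), e ▸ hmono u w⟩


end Tw

end Chev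

end CfsgLib.Chev
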