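/-
Tables of the twisted type over E6.
-/
import Cfsg.Agent.Lib.Chev.Twist.Cert
import Cfsg.Agent.Lib.Chev.MorphData

namespace CfsgLib.Chev

set_option maxRecDepth 100000
set_option maxHeartbeats 4000000

/-- The symmetry of type E6. -/
def symE6 : SymData where
  mor := morE6
  tau := [5, 1, 4, 3, 2, 0]
  orbits := [[1], [3], [2, 4], [0, 5]]
  words := [[1], [3], [2, 4], [0, 5]]
  refl := [[0, 1, 2, 3, 4, 16, 17, 18, 19, 20, 21, 26, 27, 28, 29, 56, 5, 6, 7, 8, 9, 10, 22, 23, 24, 25, 11, 12, 13, 14, 30, 31, 32, 33, 34, 35, 36, 37, 38, 39, 40, 41, 57, 58, 59, 60, 46, 47, 48, 49, 61, 62, 63, 64, 65, 66, 15, 42, 43, 44, 45, 50, 51, 52, 53, 54, 55, 67, 68, 69, 70, 71], [1, 0, 2, 3, 4, 5, 6, 7, 11, 12, 13, 8, 9, 10, 14, 15, 16, 17, 18, 26, 27, 28, 30, 31, 32, 46, 19, 20, 21, 29, 22, 23, 24, 33, 34, 35, 36, 37, 38, 47, 48, 49, 42, 50, 51, 52, 25, 39, 40, 41, 43,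 44, 45, 53, 54, 55, 56, 57, 61, 62, 63, 58, 59, 60, 64, 65, 66, 67, 68, 69, 71, 70], [0, 1, 5, 6, 7, 2, 3, 4, 8, 9, 10, 11, 12, 13, 15, 14, 16, 17, 18, 22, 23, 24, 19, 20, 21, 25, 30, 31, 32, 42, 26, 27, 28, 33, 34, 35, 36, 37, 38, 43, 44, 45, 29, 39, 40, 41, 46, 50, 51, 52, 47, 48, 49, 53, 54, 55, 57, 56, 58, 59, 60, 61, 62, 63, 67, 68, 69, 64, 65, 66, 70, 71], [0, 2, 1, 3, 4, 5, 8, 9, 6, 7, 10, 11, 12, 14, 13, 15, 16, 19, 20, 17, 18, 21, 22, 23, 25, 24, 26, 27, 29, 28, 33, 34, 39, 30, 31, 35, 36, 40, 41, 32, 37, 38, 43, 42, 44, 45, 47, 46, 48, 49, 50, 53, 54, 51, 52, 55, 56, 58, 57, 59, 60, 61, 64, 65, 62, 63, 66, 67, 68, 70, 69, 71], [0, 1, 3, 2, 4, 6, 5, 7, 8, 10, 9, 11, 13, 12, 14, 15, 17, 16, 18, 19, 21, 20, 22, 24, 23, 25, 26, 28, 27, 29, 30, 32, 31, 35, 37, 33, 38, 34, 36, 40, 39, 41, 42, 44, 43, 45, 46, 48, 47, 49, 51, 50, 52, 53, 55, 54, 56, 57,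 59, 58, 60, 62, 61, 63, 64, 66, 65, 67, 69, 68, 70, 71], [0, 1, 2, 4, 3, 5, 7, 6, 9, 8, 10, 12, 11, 13, 14, 15, 16, 18, 17, 20, 19, 21, 23, 22, 24, 25, 27, 26, 28, 29, 31, 30, 32, 34, 33, 36, 35, 38, 37, 39, 41, 40, 42, 43, 45, 44, 46, 47, 49, 48, 50, 52, 51, 54, 53, 55, 56, 57, 58, 60, 59, 61, 63, 62, 65, 64, 66, 68, 67, 69, 70, 71]]

theorem symOKE6 : Chev.SymOK (D := Cfsg.Lie.chevE6) symE6 0 where
  mor := checkMorE6
  refl := by decide +kernel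
  simple := by decide +kernel
  roots := by decide +kernel
  orbits := by decide +kernel

/-- A block of the enumeration. -/
def blockE60 : List (List ℤ × ℕ × List ℕ) :=
  [([-8, -5, 3, 4, 3, -8], 19, [44, 22, 152, 1104]), ([-8, -5, 4, 2, 4, -8], 21, [45, 11, 212, 1105]), ([-8, -5, 4, 3, 4, -8], 18, [46, 15, 213, 1106]), ([-8, -5, 5, 1, 5, -8], 20, [47, 7, 316, 1107]), ([-8, -4, 2, 5, 2, -8], 18, [40, 30, 108, 1108]), ([-8, -4, 4, 1, 4, -8], 22, [41, 10, 224, 1109]), ([-8, -4, 4, 3, 4, -8], 17, [42, 23, 225, 1110]), ([-8, -4, 6, -1, 6, -8], 21, [43, 3, 412, 1111]), ([-8, -3, 2, 5, 2, -8], 17, [36, 35, 112, 1112]), ([-8, -3, 3, 4, 3, -8], 16, [37, 31, 160, 1113]), ([-8, -3, 5, -1, 5, -8], 23, [38, 5, 320, 1114]), ([-8, -3, 6, -2, 6, -8], 22, [39, 1, 420, 1115]), ([-8, -2, 1, 5, 1, -8], 20, [32, 39, 60, 1116]), ([-8, -2, 3, 1, 3, -8], 24, [33, 19, 164, 1117]),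 ([-8, -2, 5, 1, 5, -8], 15, [34, 21, 328, 1118]), ([-8, -2, 7, -3, 7, -8], 19, [35, 2, 512, 1119]), ([-8, -1, 1, 4, 1, -8], 21, [24, 38, 64, 1120]), ([-8, -1, 1, 5, 1, -8], 19, [25, 43, 65, 1121]), ([-8, -1, 2, 2, 2, -8], 23, [26, 27, 116, 1122]), ([-8, -1, 4, -1, 4, -8], 25, [27, 13, 232, 1123]), ([-8, -1, 4, 2, 4, -8], 14, [28, 29, 233, 1124]), ([-8, -1, 6, -1, 6, -8], 16, [29, 14, 428, 1125]), ([-8, -1, 7, -4, 7, -8], 20, [30, 0, 516, 1126]), ([-8, -1, 7, -3, 7, -8], 18, [31, 6, 517, 1127]), ([-8, 1, 1, 3, 1, -8], 20, [16, 41, 72, 1128]), ([-8, 1, 1, 4, 1, -8], 18, [17, 47, 73, 1129]), ([-8, 1, 2, 1, 2, -8], 22, [18, 33, 120, 1130]), ([-8, 1, 4, -2, 4, -8], 24, [19, 18, 240, 1131]), ([-8, 1, 4, 1, 4, -8], 13, [20, 34, 241, 1132]), ([-8, 1, 6, -2, 6, -8], 15, [21, 20, 432, 1133]), ([-8, 1, 7, -5, 7, -8], 19, [22, 4, 528, 1134]), ([-8, 1, 7, -4, 7, -8], 17,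 [23, 9, 529, 1135])]

/-- A block of the enumeration. -/
def blockE61 : List (List ℤ × ℕ × List ℕ) :=
  [([-8, 2, 1, 3, 1, -8], 19, [12, 45, 80, 1136]), ([-8, 2, 3, -1, 3, -8], 23, [13, 26, 168, 1137]), ([-8, 2, 5, -1, 5, -8], 14, [14, 28, 340, 1138]), ([-8, 2, 7, -5, 7, -8], 18, [15, 8, 540, 1139]), ([-8, 3, 2, 2, 2, -8], 16, [8, 46, 124, 1140]), ([-8, 3, 3, 1, 3, -8], 15, [9, 42, 172, 1141]), ([-8, 3, 5, -4, 5, -8], 22, [10, 16, 344, 1142]), ([-8, 3, 6, -5, 6, -8], 21, [11, 12, 440, 1143]), ([-8, 4, 2, 1, 2, -8], 17, [4, 44, 128, 1144]), ([-8, 4, 4, -3, 4, -8], 21, [5, 24, 248, 1145]), ([-8, 4, 4, -1, 4, -8], 16, [6, 37, 249, 1146]), ([-8, 4, 6, -5, 6, -8], 20, [7, 17, 444, 1147]), ([-8, 5, 3, -1, 3, -8], 18, [0, 40, 176, 1148]), ([-8, 5, 4, -3, 4, -8], 20, [1, 32, 256, 1149]), ([-8, 5, 4, -2, 4, -8], 17, [2, 36, 257, 1150]), ([-8, 5, 5, -4, 5, -8], 19,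 [3, 25, 352, 1151]), ([-7, -7, 2, 6, 2, -7], 17, [92, 70, 148, 1056]), ([-7, -7, 3, 5, 3, -7], 16, [93, 63, 204, 1057]), ([-7, -7, 4, 2, 4, -7], 23, [94, 59, 304, 1058]), ([-7, -7, 5, 1, 5, -7], 22, [95, 55, 400, 1059]), ([-7, -6, 1, 7, 1, -7], 16, [88, 78, 100, 1060]), ([-7, -6, 3, 5, 3, -7], 15, [89, 71, 208, 1061]), ([-7, -6, 4, 1, 4, -7], 24, [90, 58, 308, 1062]), ([-7, -6, 6, -1, 6, -7], 23, [91, 51, 500, 1063]), ([-7, -5, 1, 7, 1, -7], 15, [84, 83, 104, 1064]), ([-7, -5, 2, 6, 2, -7], 14, [85, 79, 153, 1065]), ([-7, -5, 5, -1, 5, -7], 25, [86, 54, 408, 1066]), ([-7, -5, 6, -2, 6, -7], 24, [87, 50, 504, 1067]), ([-7, -2, -1, 7, -1, -7], 22, [80, 87, 12, 1068]), ([-7, -2, 2, 1, 2, -7], 26, [81, 67, 165, 1069]), ([-7, -2, 5, 1, 5, -7], 13, [82, 69, 424, 1070]), ([-7, -2, 8, -5, 8, -7], 17, [83, 49, 608, 1071])]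

/-- A block of the enumeration. -/
def blockE62 : List (List ℤ × ℕ × List ℕ) :=
  [([-7, -1, -1, 6, -1, -7], 23, [72, 86, 16, 1072]), ([-7, -1, -1, 7, -1, -7], 21, [73, 91, 17, 1073]), ([-7, -1, 1, 2, 1, -7], 25, [74, 75, 117, 1074]), ([-7, -1, 3, -1, 3, -7], 27, [75, 61, 234, 1075]), ([-7, -1, 4, 2, 4, -7], 12, [76, 77, 332, 1076]), ([-7, -1, 6, -1, 6, -7], 14, [77, 62, 518, 1077]), ([-7, -1, 8, -6, 8, -7], 18, [78, 48, 612, 1078]), ([-7, -1, 8, -5, 8, -7], 16, [79, 53, 613, 1079]), ([-7, 1, -1, 5, -1, -7], 22, [64, 90, 24, 1080]), ([-7, 1, -1, 6, -1, -7], 20, [65, 95, 25, 1081]), ([-7, 1, 1, 1, 1, -7], 24, [66, 81, 121, 1082]), ([-7, 1, 3, -2, 3, -7], 26, [67, 66, 242, 1083]), ([-7, 1, 4, 1, 4, -7], 11, [68, 82, 336, 1084]), ([-7, 1, 6, -2, 6, -7], 13, [69, 68, 530, 1085]), ([-7, 1, 8, -7, 8, -7], 17, [70, 52, 624, 1086]), ([-7, 1, 8, -6, 8, -7], 15, [71,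 57, 625, 1087]), ([-7, 2, -1, 5, -1, -7], 21, [60, 94, 32, 1088]), ([-7, 2, 2, -1, 2, -7], 25, [61, 74, 169, 1089]), ([-7, 2, 5, -1, 5, -7], 12, [62, 76, 436, 1090]), ([-7, 2, 8, -7, 8, -7], 16, [63, 56, 636, 1091]), ([-7, 5, 1, 2, 1, -7], 14, [56, 93, 132, 1092]), ([-7, 5, 2, 1, 2, -7], 13, [57, 89, 177, 1093]), ([-7, 5, 5, -6, 5, -7], 24, [58, 64, 452, 1094]), ([-7, 5, 6, -7, 6, -7], 23, [59, 60, 544, 1095]), ([-7, 6, 1, 1, 1, -7], 15, [52, 92, 136, 1096]), ([-7, 6, 3, -1, 3, -7], 14, [53, 85, 268, 1097]), ([-7, 6, 4, -5, 4, -7], 23, [54, 72, 356, 1098]), ([-7, 6, 6, -7, 6, -7], 22, [55, 65, 552, 1099]), ([-7, 7, 2, -1, 2, -7], 16, [48, 88, 184, 1100]), ([-7, 7, 3, -2, 3, -7], 15, [49, 84, 272, 1101]), ([-7, 7, 4, -5, 4, -7], 22, [50, 80, 364, 1102]), ([-7, 7, 5, -6, 5, -7], 21, [51, 73, 456, 1103])]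

/-- A block of the enumeration. -/
def blockE63 : List (List ℤ × ℕ × List ℕ) :=
  [([-6, -9, 2, 6, 2, -6], 19, [140, 115, 200, 1008]), ([-6, -9, 3, 4, 3, -6], 21, [141, 107, 296, 1009]), ([-6, -9, 3, 5, 3, -6], 18, [142, 111, 297, 1010]), ([-6, -9, 4, 3, 4, -6], 20, [143, 103, 396, 1011]), ([-6, -6, -1, 9, -1, -6], 18, [136, 127, 52, 1012]), ([-6, -6, 3, 1, 3, -6], 26, [137, 106, 309, 1013]), ([-6, -6, 3, 5, 3, -6], 13, [138, 119, 310, 1014]), ([-6, -6, 7, -3, 7, -6], 21, [139, 99, 596, 1015]), ([-6, -5, -1, 9, -1, -6], 17, [132, 131, 56, 1016]), ([-6, -5, 2, 6, 2, -6], 12, [133, 123, 214, 1017]), ([-6, -5, 4, -1, 4, -6], 27, [134, 101, 409, 1018]), ([-6, -5, 7, -4, 7, -6], 22, [135, 97, 600, 1019]), ([-6, -4, -2, 9, -2, -6], 20, [128, 135, 4, 1020]), ([-6, -4, 2, 1, 2, -6], 28, [129, 113, 226, 1021]), ([-6, -4, 4, 3, 4, -6], 11, [130, 118, 413, 1022]), ([-6,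 -4, 8, -5, 8, -6], 19, [131, 98, 700, 1023]), ([-6, -3, -2, 9, -2, -6], 19, [124, 139, 8, 1024]), ([-6, -3, 3, -1, 3, -6], 29, [125, 109, 321, 1025]), ([-6, -3, 3, 4, 3, -6], 10, [126, 122, 322, 1026]), ([-6, -3, 8, -6, 8, -6], 20, [127, 96, 708, 1027]), ([-6, -1, -2, 6, -2, -6], 25, [120, 134, 18, 1028]), ([-6, -1, -1, 4, -1, -6], 27, [121, 125, 66, 1029]), ([-6, -1, 7, -3, 7, -6], 12, [122, 110, 614, 1030]), ([-6, -1, 8, -5, 8, -6], 14, [123, 102, 716, 1031]), ([-6, 1, -2, 5, -2, -6], 24, [116, 137, 26, 1032]), ([-6, 1, -1, 3, -1, -6], 26, [117, 129, 74, 1033]), ([-6, 1, 7, -4, 7, -6], 11, [118, 114, 626, 1034]), ([-6, 1, 8, -6, 8, -6], 13, [119, 105, 720, 1035]), ([-6, 3, -2, 6, -2, -6], 18, [112, 143, 36, 1036]), ([-6, 3, 3, -4, 3, -6], 28, [113, 117, 345, 1037]), ([-6, 3, 3, 1, 3, -6], 9, [114, 130, 346, 1038]), ([-6, 3, 8, -9, 8, -6], 19, [115, 100,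 728, 1039])]

/-- A block of the enumeration. -/
def blockE64 : List (List ℤ × ℕ × List ℕ) :=
  [([-6, 4, -2, 5, -2, -6], 19, [108, 141, 40, 1040]), ([-6, 4, 2, -3, 2, -6], 27, [109, 121, 250, 1041]), ([-6, 4, 4, -1, 4, -6], 10, [110, 126, 445, 1042]), ([-6, 4, 8, -9, 8, -6], 18, [111, 104, 732, 1043]), ([-6, 5, -1, 4, -1, -6], 16, [104, 142, 84, 1044]), ([-6, 5, 2, 1, 2, -6], 11, [105, 138, 258, 1045]), ([-6, 5, 4, -6, 4, -6], 26, [106, 116, 453, 1046]), ([-6, 5, 7, -9, 7, -6], 21, [107, 108, 640, 1047]), ([-6, 6, -1, 3, -1, -6], 17, [100, 140, 88, 1048]), ([-6, 6, 3, -5, 3, -6], 25, [101, 120, 357, 1049]), ([-6, 6, 3, -1, 3, -6], 12, [102, 133, 358, 1050]), ([-6, 6, 7, -9, 7, -6], 20, [103, 112, 648, 1051]), ([-6, 9, 2, -3, 2, -6], 18, [96, 136, 276, 1052]), ([-6, 9, 3, -5, 3, -6], 20, [97, 128, 368, 1053]), ([-6, 9, 3, -4, 3, -6], 17, [98, 132, 369, 1054]),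 ([-6, 9, 4, -6, 4, -6], 19, [99, 124, 464, 1055]), ([-5, -10, 1, 7, 1, -5], 20, [188, 163, 196, 960]), ([-5, -10, 2, 5, 2, -5], 22, [189, 158, 292, 961]), ([-5, -10, 3, 5, 3, -5], 17, [190, 159, 392, 962]), ([-5, -10, 4, 3, 4, -5], 19, [191, 151, 488, 963]), ([-5, -7, -2, 10, -2, -5], 19, [184, 175, 48, 964]), ([-5, -7, 2, 2, 2, -5], 27, [185, 156, 305, 965]), ([-5, -7, 3, 5, 3, -5], 12, [186, 167, 401, 966]), ([-5, -7, 7, -3, 7, -5], 20, [187, 147, 688, 967]), ([-5, -5, -3, 10, -3, -5], 21, [176, 182, 0, 968]), ([-5, -5, -2, 10, -2, -5], 16, [177, 183, 57, 969]), ([-5, -5, 1, 2, 1, -5], 29, [178, 162, 215, 970]), ([-5, -5, 1, 7, 1, -5], 11, [179, 171, 216, 971]), ([-5, -5, 4, -2, 4, -5], 28, [180, 149, 505, 972]), ([-5, -5, 4, 3, 4, -5], 10, [181, 166, 506, 973]), ([-5, -5, 7, -5, 7, -5], 23, [182, 145, 696, 974]), ([-5, -5, 8, -5, 8, -5], 18, [183, 146,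 796, 975])]

/-- A block of the enumeration. -/
def blockE65 : List (List ℤ × ℕ × List ℕ) :=
  [([-5, -3, -3, 10, -3, -5], 18, [172, 187, 9, 976]), ([-5, -3, 2, 5, 2, -5], 9, [173, 170, 323, 977]), ([-5, -3, 3, -2, 3, -5], 30, [174, 154, 421, 978]), ([-5, -3, 8, -7, 8, -5], 21, [175, 144, 800, 979]), ([-5, -2, -3, 7, -3, -5], 26, [168, 180, 13, 980]), ([-5, -2, -2, 5, -2, -5], 28, [169, 174, 61, 981]), ([-5, -2, 7, -3, 7, -5], 11, [170, 157, 712, 982]), ([-5, -2, 8, -5, 8, -5], 13, [171, 150, 808, 983]), ([-5, 2, -3, 5, -3, -5], 25, [164, 185, 33, 984]), ([-5, 2, -2, 3, -2, -5], 27, [165, 178, 81, 985]), ([-5, 2, 7, -5, 7, -5], 10, [166, 161, 724, 986]), ([-5, 2, 8, -7, 8, -5], 12, [167, 155, 820, 987]), ([-5, 3, -3, 7, -3, -5], 17, [160, 191, 37, 988]), ([-5, 3, 2, 2, 2, -5], 8, [161, 181, 347, 989]), ([-5, 3, 3, -5, 3, -5], 29, [162, 165, 441, 990]), ([-5,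 3, 8, -10, 8, -5], 20, [163, 148, 824, 991]), ([-5, 5, -3, 5, -3, -5], 20, [152, 189, 44, 992]), ([-5, 5, -2, 5, -2, -5], 15, [153, 190, 85, 993]), ([-5, 5, 1, -3, 1, -5], 28, [154, 169, 259, 994]), ([-5, 5, 1, 2, 1, -5], 10, [155, 186, 260, 995]), ([-5, 5, 4, -7, 4, -5], 27, [156, 164, 545, 996]), ([-5, 5, 4, -2, 4, -5], 9, [157, 173, 546, 997]), ([-5, 5, 7, -10, 7, -5], 22, [158, 152, 740, 998]), ([-5, 5, 8, -10, 8, -5], 17, [159, 153, 832, 999]), ([-5, 7, -2, 3, -2, -5], 18, [148, 188, 92, 1000]), ([-5, 7, 2, -5, 2, -5], 26, [149, 168, 365, 1001]), ([-5, 7, 3, -2, 3, -5], 11, [150, 179, 457, 1002]), ([-5, 7, 7, -10, 7, -5], 19, [151, 160, 744, 1003]), ([-5, 10, 1, -3, 1, -5], 19, [144, 184, 280, 1004]), ([-5, 10, 2, -5, 2, -5], 21, [145, 176, 376, 1005]), ([-5, 10, 3, -5, 3, -5], 16, [146, 177, 468, 1006]), ([-5, 10, 4, -7, 4, -5], 18, [147, 172, 560, 1007])]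

/-- A block of the enumeration. -/
def blockE66 : List (List ℤ × ℕ × List ℕ) :=
  [([-4, -11, 1, 7, 1, -4], 19, [284, 230, 288, 864]), ([-4, -11, 2, 5, 2, -4], 21, [285, 211, 384, 865]), ([-4, -11, 2, 6, 2, -4], 18, [286, 222, 385, 866]), ([-4, -11, 3, 4, 3, -4], 20, [287, 207, 480, 867]), ([-4, -10, -1, 9, -1, -4], 22, [280, 238, 144, 868]), ([-4, -10, 1, 5, 1, -4], 24, [281, 221, 293, 869]), ([-4, -10, 3, 5, 3, -4], 15, [282, 223, 489, 870]), ([-4, -10, 5, 1, 5, -4], 17, [283, 203, 584, 871]), ([-4, -9, -2, 10, -2, -4], 21, [276, 246, 96, 872]), ([-4, -9, 1, 4, 1, -4], 25, [277, 219, 298, 873]), ([-4, -9, 3, 5, 3, -4], 14, [278, 231, 496, 874]), ([-4, -9, 6, -1, 6, -4], 18, [279, 199, 684, 875]), ([-4, -7, -3, 11, -3, -4], 18, [272, 254, 49, 876]), ([-4, -7, 2, 1, 2, -4], 28, [273, 210, 402, 877]), ([-4, -7, 2, 6, 2, -4], 11, [274, 239, 403, 878]), ([-4,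 -7, 7, -4, 7, -4], 21, [275, 195, 784, 879]), ([-4, -6, -3, 11, -3, -4], 17, [268, 266, 53, 880]), ([-4, -6, 1, 7, 1, -4], 10, [269, 247, 311, 881]), ([-4, -6, 3, -1, 3, -4], 29, [270, 205, 501, 882]), ([-4, -6, 7, -5, 7, -4], 22, [271, 193, 788, 883]), ([-4, -5, -4, 10, -4, -4], 23, [256, 265, 1, 884]), ([-4, -5, -4, 11, -4, -4], 20, [257, 271, 2, 885]), ([-4, -5, -2, 10, -2, -4], 14, [258, 267, 105, 886]), ([-4, -5, -1, 4, -1, -4], 31, [259, 236, 154, 887]), ([-4, -5, -1, 9, -1, -4], 13, [260, 255, 155, 888]), ([-4, -5, 1, 1, 1, -4], 30, [261, 227, 317, 889]), ([-4, -5, 3, 4, 3, -4], 9, [262, 237, 507, 890]), ([-4, -5, 5, -4, 5, -4], 26, [263, 201, 601, 891]), ([-4, -5, 5, 1, 5, -4], 8, [264, 229, 602, 892]), ([-4, -5, 6, -5, 6, -4], 25, [265, 197, 697, 893]), ([-4, -5, 8, -6, 8, -4], 19, [266, 194, 884, 894]), ([-4, -5, 8, -5, 8, -4], 16, [267, 198, 885,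 895])]

/-- A block of the enumeration. -/
def blockE67 : List (List ℤ × ℕ × List ℕ) :=
  [([-4, -4, -4, 9, -4, -4], 24, [248, 263, 5, 896]), ([-4, -4, -4, 11, -4, -4], 19, [249, 275, 6, 897]), ([-4, -4, -2, 5, -2, -4], 30, [250, 244, 109, 898]), ([-4, -4, 2, -1, 2, -4], 31, [251, 217, 414, 899]), ([-4, -4, 2, 5, 2, -4], 8, [252, 245, 415, 900]), ([-4, -4, 6, -1, 6, -4], 9, [253, 220, 701, 901]), ([-4, -4, 8, -7, 8, -4], 20, [254, 192, 896, 902]), ([-4, -4, 8, -5, 8, -4], 15, [255, 202, 897, 903]), ([-4, -1, -4, 7, -4, -4], 27, [240, 270, 19, 904]), ([-4, -1, -4, 10, -4, -4], 16, [241, 279, 20, 905]), ([-4, -1, -3, 5, -3, -4], 29, [242, 251, 67, 906]), ([-4, -1, 1, 5, 1, -4], 7, [243, 253, 333, 907]), ([-4, -1, 3, -4, 3, -4], 32, [244, 215, 519, 908]), ([-4, -1, 7, -4, 7, -4], 10, [245, 218, 812, 909]), ([-4, -1, 8, -9, 8, -4], 23, [246, 196, 904, 910]), ([-4,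 -1, 8, -6, 8, -4], 12, [247, 206, 905, 911]), ([-4, 1, -4, 6, -4, -4], 26, [232, 273, 27, 912]), ([-4, 1, -4, 9, -4, -4], 15, [233, 283, 28, 913]), ([-4, 1, -3, 4, -3, -4], 28, [234, 261, 75, 914]), ([-4, 1, 1, 4, 1, -4], 6, [235, 264, 337, 915]), ([-4, 1, 3, -5, 3, -4], 31, [236, 226, 531, 916]), ([-4, 1, 7, -5, 7, -4], 9, [237, 228, 816, 917]), ([-4, 1, 8, -10, 8, -4], 22, [238, 200, 912, 918]), ([-4, 1, 8, -7, 8, -4], 11, [239, 209, 913, 919]), ([-4, 4, -4, 5, -4, -4], 23, [224, 277, 41, 920]), ([-4, 4, -4, 7, -4, -4], 18, [225, 287, 42, 921]), ([-4, 4, -2, 1, -2, -4], 29, [226, 259, 129, 922]), ([-4, 4, 2, -5, 2, -4], 30, [227, 234, 446, 923]), ([-4, 4, 2, 1, 2, -4], 7, [228, 262, 447, 924]), ([-4, 4, 6, -5, 6, -4], 8, [229, 235, 733, 925]), ([-4, 4, 8, -11, 8, -4], 19, [230, 204, 920, 926]), ([-4, 4, 8, -9, 8, -4], 14, [231, 216, 921, 927])]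

/-- A block of the enumeration. -/
def blockE68 : List (List ℤ × ℕ × List ℕ) :=
  [([-4, 5, -4, 5, -4, -4], 22, [212, 281, 45, 928]), ([-4, 5, -4, 6, -4, -4], 19, [213, 285, 46, 929]), ([-4, 5, -2, 5, -2, -4], 13, [214, 282, 133, 930]), ([-4, 5, -1, -1, -1, -4], 30, [215, 250, 178, 931]), ([-4, 5, -1, 4, -1, -4], 12, [216, 278, 179, 932]), ([-4, 5, 1, -4, 1, -4], 29, [217, 242, 353, 933]), ([-4, 5, 3, -1, 3, -4], 8, [218, 252, 547, 934]), ([-4, 5, 5, -9, 5, -4], 25, [219, 224, 641, 935]), ([-4, 5, 5, -4, 5, -4], 7, [220, 243, 642, 936]), ([-4, 5, 6, -10, 6, -4], 24, [221, 212, 741, 937]), ([-4, 5, 8, -11, 8, -4], 18, [222, 208, 928, 938]), ([-4, 5, 8, -10, 8, -4], 15, [223, 214, 929, 939]), ([-4, 6, -3, 5, -3, -4], 16, [208, 286, 89, 940]), ([-4, 6, 1, 1, 1, -4], 9, [209, 274, 359, 941]), ([-4, 6, 3, -7, 3, -4], 28, [210, 232, 553, 942]), ([-4, 6, 7, -11,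 7, -4], 21, [211, 213, 836, 943]), ([-4, 7, -3, 4, -3, -4], 17, [204, 284, 93, 944]), ([-4, 7, 2, -6, 2, -4], 27, [205, 240, 458, 945]), ([-4, 7, 2, -1, 2, -4], 10, [206, 269, 459, 946]), ([-4, 7, 7, -11, 7, -4], 20, [207, 225, 844, 947]), ([-4, 9, -2, 1, -2, -4], 20, [200, 280, 140, 948]), ([-4, 9, 1, -5, 1, -4], 24, [201, 248, 370, 949]), ([-4, 9, 3, -4, 3, -4], 13, [202, 260, 556, 950]), ([-4, 9, 6, -10, 6, -4], 17, [203, 233, 752, 951]), ([-4, 10, -1, -1, -1, -4], 21, [196, 276, 188, 952]), ([-4, 10, 1, -5, 1, -4], 23, [197, 256, 377, 953]), ([-4, 10, 3, -5, 3, -4], 14, [198, 258, 561, 954]), ([-4, 10, 5, -9, 5, -4], 16, [199, 241, 656, 955]), ([-4, 11, 1, -4, 1, -4], 18, [192, 272, 380, 956]), ([-4, 11, 2, -6, 2, -4], 20, [193, 257, 472, 957]), ([-4, 11, 2, -5, 2, -4], 17, [194, 268, 473, 958]), ([-4, 11, 3, -7, 3, -4], 19, [195, 249, 568, 959])]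

/-- A block of the enumeration. -/
def blockE69 : List (List ℤ × ℕ × List ℕ) :=
  [([-3, -11, -1, 9, -1, -3], 21, [380, 331, 192, 768]), ([-3, -11, 1, 5, 1, -3], 23, [381, 313, 386, 769]), ([-3, -11, 2, 6, 2, -3], 16, [382, 319, 481, 770]), ([-3, -11, 4, 2, 4, -3], 18, [383, 302, 576, 771]), ([-3, -10, -2, 9, -2, -3], 24, [376, 335, 145, 772]), ([-3, -10, -1, 7, -1, -3], 26, [377, 325, 197, 773]), ([-3, -10, 4, 3, 4, -3], 13, [378, 307, 585, 774]), ([-3, -10, 5, 1, 5, -3], 15, [379, 303, 680, 775]), ([-3, -9, -3, 10, -3, -3], 23, [368, 339, 97, 776]), ([-3, -9, -3, 11, -3, -3], 20, [369, 343, 98, 777]), ([-3, -9, -1, 6, -1, -3], 27, [370, 324, 201, 778]), ([-3, -9, 1, 3, 1, -3], 26, [371, 312, 397, 779]), ([-3, -9, 2, 6, 2, -3], 13, [372, 327, 497, 780]), ([-3, -9, 4, 3, 4, -3], 12, [373, 315, 592, 781]), ([-3, -9, 6, -2, 6, -3], 19, [374, 291, 776, 782]),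 ([-3, -9, 6, -1, 6, -3], 16, [375, 295, 777, 783]), ([-3, -7, -4, 10, -4, -3], 25, [364, 349, 50, 784]), ([-3, -7, -2, 6, -2, -3], 29, [365, 334, 149, 785]), ([-3, -7, 5, 1, 5, -3], 10, [366, 314, 689, 786]), ([-3, -7, 7, -3, 7, -3], 14, [367, 294, 876, 787]), ([-3, -6, -4, 9, -4, -3], 26, [356, 348, 54, 788]), ([-3, -6, -3, 7, -3, -3], 28, [357, 338, 101, 789]), ([-3, -6, -3, 11, -3, -3], 15, [358, 355, 102, 790]), ([-3, -6, -1, 9, -1, -3], 12, [359, 351, 209, 791]), ([-3, -6, 4, -3, 4, -3], 27, [360, 299, 597, 792]), ([-3, -6, 6, -5, 6, -3], 24, [361, 289, 789, 793]), ([-3, -6, 6, -1, 6, -3], 11, [362, 306, 790, 794]), ([-3, -6, 7, -3, 7, -3], 13, [363, 301, 880, 795]), ([-3, -5, -5, 11, -5, -3], 22, [352, 361, 3, 796]), ([-3, -5, -1, 3, -1, -3], 32, [353, 330, 217, 797]), ([-3, -5, 4, 2, 4, -3], 7, [354, 326, 603, 798]), ([-3, -5, 8, -6, 8, -3], 17, [355,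 290, 968, 799])]

/-- A block of the enumeration. -/
def blockE610 : List (List ℤ × ℕ × List ℕ) :=
  [([-3, -3, -5, 9, -5, -3], 25, [344, 360, 10, 800]), ([-3, -3, -3, 5, -3, -3], 31, [345, 342, 113, 801]), ([-3, -3, -3, 10, -3, -3], 12, [346, 367, 114, 802]), ([-3, -3, -2, 9, -2, -3], 11, [347, 363, 161, 803]), ([-3, -3, 5, -6, 5, -3], 28, [348, 298, 709, 804]), ([-3, -3, 6, -7, 6, -3], 27, [349, 293, 801, 805]), ([-3, -3, 6, -2, 6, -3], 8, [350, 318, 802, 806]), ([-3, -3, 8, -6, 8, -3], 14, [351, 300, 976, 807]), ([-3, -2, -5, 11, -5, -3], 17, [340, 374, 14, 808]), ([-3, -2, 1, 5, 1, -3], 6, [341, 350, 425, 809]), ([-3, -2, 2, -3, 2, -3], 33, [342, 317, 513, 810]), ([-3, -2, 8, -9, 8, -3], 22, [343, 288, 980, 811]), ([-3, -1, -4, 10, -4, -3], 14, [336, 375, 68, 812]), ([-3, -1, -1, 7, -1, -3], 9, [337, 362, 235, 813]), ([-3, -1, 4, -6, 4, -3], 30, [338,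 305, 615, 814]), ([-3, -1, 7, -9, 7, -3], 25, [339, 292, 906, 815]), ([-3, 1, -4, 9, -4, -3], 13, [332, 379, 76, 816]), ([-3, 1, -1, 6, -1, -3], 8, [333, 366, 243, 817]), ([-3, 1, 4, -7, 4, -3], 29, [334, 309, 627, 818]), ([-3, 1, 7, -10, 7, -3], 24, [335, 296, 914, 819]), ([-3, 2, -5, 9, -5, -3], 16, [328, 383, 34, 820]), ([-3, 2, 1, 3, 1, -3], 5, [329, 354, 437, 821]), ([-3, 2, 2, -5, 2, -3], 32, [330, 321, 541, 822]), ([-3, 2, 8, -11, 8, -3], 21, [331, 297, 984, 823]), ([-3, 3, -5, 6, -5, -3], 24, [320, 371, 38, 824]), ([-3, 3, -3, 2, -3, -3], 30, [321, 353, 125, 825]), ([-3, 3, -3, 7, -3, -3], 11, [322, 378, 126, 826]), ([-3, 3, -2, 6, -2, -3], 10, [323, 373, 173, 827]), ([-3, 3, 5, -9, 5, -3], 27, [324, 308, 729, 828]), ([-3, 3, 6, -10, 6, -3], 26, [325, 304, 825, 829]), ([-3, 3, 6, -5, 6, -3], 7, [326, 329, 826, 830]), ([-3, 3, 8, -9, 8, -3], 13, [327,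 311, 988, 831])]

/-- A block of the enumeration. -/
def blockE611 : List (List ℤ × ℕ × List ℕ) :=
  [([-3, 5, -5, 6, -5, -3], 21, [316, 381, 47, 832]), ([-3, 5, -1, -2, -1, -3], 31, [317, 345, 261, 833]), ([-3, 5, 4, -3, 4, -3], 6, [318, 341, 643, 834]), ([-3, 5, 8, -11, 8, -3], 16, [319, 310, 992, 835]), ([-3, 6, -4, 3, -4, -3], 25, [308, 370, 90, 836]), ([-3, 6, -3, 1, -3, -3], 27, [309, 365, 137, 837]), ([-3, 6, -3, 5, -3, -3], 14, [310, 382, 138, 838]), ([-3, 6, -1, 3, -1, -3], 11, [311, 372, 269, 839]), ([-3, 6, 4, -9, 4, -3], 26, [312, 320, 649, 840]), ([-3, 6, 6, -11, 6, -3], 23, [313, 316, 837, 841]), ([-3, 6, 6, -7, 6, -3], 10, [314, 333, 838, 842]), ([-3, 6, 7, -9, 7, -3], 12, [315, 323, 940, 843]), ([-3, 7, -4, 3, -4, -3], 24, [304, 377, 94, 844]), ([-3, 7, -2, -1, -2, -3], 28, [305, 357, 185, 845]), ([-3, 7, 5, -6, 5, -3], 9, [306, 337, 745, 846]),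 ([-3, 7, 7, -10, 7, -3], 13, [307, 322, 944, 847]), ([-3, 9, -3, 1, -3, -3], 22, [296, 376, 141, 848]), ([-3, 9, -3, 2, -3, -3], 19, [297, 380, 142, 849]), ([-3, 9, -1, -3, -1, -3], 26, [298, 356, 277, 850]), ([-3, 9, 1, -6, 1, -3], 25, [299, 344, 465, 851]), ([-3, 9, 2, -3, 2, -3], 12, [300, 359, 557, 852]), ([-3, 9, 4, -6, 4, -3], 11, [301, 347, 652, 853]), ([-3, 9, 6, -11, 6, -3], 18, [302, 328, 848, 854]), ([-3, 9, 6, -10, 6, -3], 15, [303, 332, 849, 855]), ([-3, 10, -2, -1, -2, -3], 23, [292, 368, 189, 856]), ([-3, 10, -1, -3, -1, -3], 25, [293, 364, 281, 857]), ([-3, 10, 4, -7, 4, -3], 12, [294, 346, 657, 858]), ([-3, 10, 5, -9, 5, -3], 14, [295, 336, 756, 859]), ([-3, 11, -1, -2, -1, -3], 20, [288, 369, 284, 860]), ([-3, 11, 1, -6, 1, -3], 22, [289, 352, 474, 861]), ([-3, 11, 2, -5, 2, -3], 15, [290, 358, 569, 862]), ([-3, 11, 4, -9, 4, -3], 17, [291,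 340, 664, 863])]

/-- A block of the enumeration. -/
def blockE612 : List (List ℤ × ℕ × List ℕ) :=
  [([-2, -11, -2, 9, -2, -2], 23, [472, 427, 193, 672]), ([-2, -11, -2, 10, -2, -2], 20, [473, 431, 194, 673]), ([-2, -11, -1, 7, -1, -2], 25, [474, 418, 289, 674]), ([-2, -11, 1, 4, 1, -2], 24, [475, 406, 482, 675]), ([-2, -11, 1, 7, 1, -2], 15, [476, 419, 483, 676]), ([-2, -11, 3, 4, 3, -2], 14, [477, 407, 577, 677]), ([-2, -11, 4, 1, 4, -2], 19, [478, 395, 672, 678]), ([-2, -11, 4, 2, 4, -2], 16, [479, 399, 673, 679]), ([-2, -10, -3, 11, -3, -2], 19, [468, 435, 146, 680]), ([-2, -10, 1, 3, 1, -2], 25, [469, 404, 490, 681]), ([-2, -10, 1, 7, 1, -2], 14, [470, 423, 491, 682]), ([-2, -10, 5, -1, 5, -2], 20, [471, 390, 772, 683]), ([-2, -9, -4, 11, -4, -2], 22, [464, 439, 99, 684]), ([-2, -9, -1, 5, -1, -2], 28, [465, 416, 299, 685]), ([-2, -9, 3, 4, 3, -2], 11,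 [466, 411, 593, 686]), ([-2, -9, 6, -2, 6, -2], 17, [467, 391, 872, 687]), ([-2, -7, -5, 11, -5, -2], 24, [456, 450, 51, 688]), ([-2, -7, -3, 11, -3, -2], 14, [457, 451, 150, 689]), ([-2, -7, -2, 5, -2, -2], 30, [458, 426, 205, 690]), ([-2, -7, -2, 10, -2, -2], 13, [459, 443, 206, 691]), ([-2, -7, 4, -3, 4, -2], 26, [460, 393, 690, 692]), ([-2, -7, 4, 2, 4, -2], 9, [461, 410, 691, 693]), ([-2, -7, 5, -4, 5, -2], 25, [462, 387, 785, 694]), ([-2, -7, 7, -4, 7, -2], 15, [463, 389, 964, 695]), ([-2, -5, -5, 9, -5, -2], 27, [452, 448, 58, 696]), ([-2, -5, -4, 7, -4, -2], 29, [453, 438, 106, 697]), ([-2, -5, 6, -2, 6, -2], 10, [454, 405, 886, 698]), ([-2, -5, 7, -4, 7, -2], 12, [455, 398, 969, 699]), ([-2, -4, -6, 11, -6, -2], 23, [444, 462, 7, 700]), ([-2, -4, -4, 11, -4, -2], 13, [445, 463, 110, 701]), ([-2, -4, -2, 3, -2, -2], 33, [446, 429, 227, 702]), ([-2,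 -4, -2, 9, -2, -2], 10, [447, 455, 228, 703])]

/-- A block of the enumeration. -/
def blockE613 : List (List ℤ × ℕ × List ℕ) :=
  [([-2, -4, 4, -5, 4, -2], 29, [448, 397, 702, 704]), ([-2, -4, 4, 1, 4, -2], 6, [449, 422, 703, 705]), ([-2, -4, 6, -7, 6, -2], 26, [450, 386, 898, 706]), ([-2, -4, 8, -7, 8, -2], 16, [451, 388, 1020, 707]), ([-2, -3, -6, 10, -6, -2], 24, [440, 460, 11, 708]), ([-2, -3, -3, 4, -3, -2], 32, [441, 433, 162, 709]), ([-2, -3, 5, -1, 5, -2], 7, [442, 417, 803, 710]), ([-2, -3, 8, -7, 8, -2], 15, [443, 394, 1024, 711]), ([-2, -2, -5, 11, -5, -2], 15, [436, 467, 62, 712]), ([-2, -2, -1, 7, -1, -2], 8, [437, 454, 329, 713]), ([-2, -2, 3, -5, 3, -2], 31, [438, 402, 609, 714]), ([-2, -2, 7, -9, 7, -2], 24, [439, 384, 981, 715]), ([-2, -1, -6, 11, -6, -2], 18, [432, 471, 21, 716]), ([-2, -1, 1, -3, 1, -2], 34, [433, 414, 520, 717]), ([-2,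 -1, 1, 4, 1, -2], 5, [434, 442, 521, 718]), ([-2, -1, 8, -10, 8, -2], 21, [435, 385, 1028, 719]), ([-2, 1, -6, 10, -6, -2], 17, [428, 478, 29, 720]), ([-2, 1, 1, -4, 1, -2], 33, [429, 421, 532, 721]), ([-2, 1, 1, 3, 1, -2], 4, [430, 449, 533, 722]), ([-2, 1, 8, -11, 8, -2], 20, [431, 392, 1032, 723]), ([-2, 2, -5, 9, -5, -2], 14, [424, 479, 82, 724]), ([-2, 2, -1, 5, -1, -2], 7, [425, 461, 341, 725]), ([-2, 2, 3, -7, 3, -2], 30, [426, 409, 637, 726]), ([-2, 2, 7, -11, 7, -2], 23, [427, 396, 985, 727]), ([-2, 3, -6, 7, -6, -2], 23, [420, 469, 39, 728]), ([-2, 3, -3, 1, -3, -2], 31, [421, 446, 174, 729]), ([-2, 3, 5, -4, 5, -2], 6, [422, 430, 827, 730]), ([-2, 3, 8, -10, 8, -2], 14, [423, 403, 1036, 731]), ([-2, 4, -6, 7, -6, -2], 22, [412, 475, 43, 732]), ([-2, 4, -4, 7, -4, -2], 12, [413, 477, 130, 733]), ([-2, 4, -2, -1, -2, -2], 32, [414, 441, 251, 734]),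 ([-2, 4, -2, 5, -2, -2], 9, [415, 466, 252, 735])]

/-- A block of the enumeration. -/
def blockE614 : List (List ℤ × ℕ × List ℕ) :=
  [([-2, 4, 4, -9, 4, -2], 28, [416, 408, 734, 736]), ([-2, 4, 4, -3, 4, -2], 5, [417, 434, 735, 737]), ([-2, 4, 6, -11, 6, -2], 25, [418, 400, 922, 738]), ([-2, 4, 8, -11, 8, -2], 15, [419, 401, 1040, 739]), ([-2, 5, -5, 4, -5, -2], 26, [408, 465, 86, 740]), ([-2, 5, -4, 2, -4, -2], 28, [409, 458, 134, 741]), ([-2, 5, 6, -7, 6, -2], 9, [410, 425, 930, 742]), ([-2, 5, 7, -9, 7, -2], 11, [411, 415, 993, 743]), ([-2, 7, -5, 4, -5, -2], 23, [400, 474, 95, 744]), ([-2, 7, -3, 4, -3, -2], 13, [401, 476, 186, 745]), ([-2, 7, -2, -2, -2, -2], 29, [402, 453, 273, 746]), ([-2, 7, -2, 3, -2, -2], 12, [403, 470, 274, 747]), ([-2, 7, 4, -10, 4, -2], 25, [404, 420, 746, 748]), ([-2, 7, 4, -5, 4, -2], 8, [405, 437, 747, 749]), ([-2, 7, 5,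 -11, 5, -2], 24, [406, 412, 845, 750]), ([-2, 7, 7, -11, 7, -2], 14, [407, 413, 1000, 751]), ([-2, 9, -4, 2, -4, -2], 21, [396, 472, 143, 752]), ([-2, 9, -1, -4, -1, -2], 27, [397, 452, 371, 753]), ([-2, 9, 3, -5, 3, -2], 10, [398, 447, 653, 754]), ([-2, 9, 6, -11, 6, -2], 16, [399, 424, 948, 755]), ([-2, 10, -3, 1, -3, -2], 18, [392, 473, 190, 756]), ([-2, 10, 1, -7, 1, -2], 24, [393, 440, 562, 757]), ([-2, 10, 1, -3, 1, -2], 13, [394, 459, 563, 758]), ([-2, 10, 5, -11, 5, -2], 19, [395, 428, 856, 759]), ([-2, 11, -2, -2, -2, -2], 22, [384, 464, 285, 760]), ([-2, 11, -2, -1, -2, -2], 19, [385, 468, 286, 761]), ([-2, 11, -1, -4, -1, -2], 24, [386, 456, 381, 762]), ([-2, 11, 1, -7, 1, -2], 23, [387, 444, 570, 763]), ([-2, 11, 1, -4, 1, -2], 14, [388, 457, 571, 764]), ([-2, 11, 3, -7, 3, -2], 13, [389, 445, 665, 765]), ([-2, 11, 4, -10, 4, -2], 18, [390, 432,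 760, 766]), ([-2, 11, 4, -9, 4, -2], 15, [391, 436, 761, 767])]

/-- A block of the enumeration. -/
def blockE615 : List (List ℤ × ℕ × List ℕ) :=
  [([-1, -11, -3, 10, -3, -1], 22, [568, 525, 195, 576]), ([-1, -11, -2, 10, -2, -1], 18, [569, 526, 290, 577]), ([-1, -11, -1, 6, -1, -1], 26, [570, 509, 387, 578]), ([-1, -11, -1, 9, -1, -1], 17, [571, 515, 388, 579]), ([-1, -11, 2, 2, 2, -1], 22, [572, 499, 578, 580]), ([-1, -11, 2, 5, 2, -1], 13, [573, 503, 579, 581]), ([-1, -11, 3, 1, 3, -1], 21, [574, 494, 674, 582]), ([-1, -11, 4, 1, 4, -1], 17, [575, 495, 768, 583]), ([-1, -10, -4, 11, -4, -1], 21, [560, 537, 147, 584]), ([-1, -10, -3, 11, -3, -1], 17, [561, 538, 198, 585]), ([-1, -10, -1, 5, -1, -1], 27, [562, 508, 393, 586]), ([-1, -10, -1, 9, -1, -1], 16, [563, 527, 394, 587]), ([-1, -10, 2, 1, 2, -1], 23, [564, 498, 586, 588]), ([-1, -10, 2, 5, 2, -1],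 12, [565, 511, 587, 589]), ([-1, -10, 4, -1, 4, -1], 22, [566, 486, 773, 590]), ([-1, -10, 5, -1, 5, -1], 18, [567, 487, 868, 591]), ([-1, -9, -3, 11, -3, -1], 16, [556, 543, 202, 592]), ([-1, -9, -2, 10, -2, -1], 15, [557, 539, 300, 593]), ([-1, -9, 3, -1, 3, -1], 24, [558, 492, 685, 594]), ([-1, -9, 4, -2, 4, -1], 23, [559, 484, 778, 595]), ([-1, -6, -6, 11, -6, -1], 25, [552, 549, 55, 596]), ([-1, -6, -3, 5, -3, -1], 31, [553, 522, 210, 597]), ([-1, -6, 4, 1, 4, -1], 8, [554, 510, 791, 598]), ([-1, -6, 7, -5, 7, -1], 14, [555, 485, 1012, 599]), ([-1, -5, -6, 10, -6, -1], 26, [544, 548, 59, 600]), ([-1, -5, -4, 6, -4, -1], 30, [545, 534, 156, 601]), ([-1, -5, -4, 11, -4, -1], 12, [546, 555, 157, 602]), ([-1, -5, -3, 10, -3, -1], 11, [547, 551, 218, 603]), ([-1, -5, 4, -5, 4, -1], 28, [548, 490, 797, 604]), ([-1, -5, 5, -6, 5, -1], 27, [549, 482, 887, 605]),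 ([-1, -5, 5, -1, 5, -1], 9, [550, 502, 888, 606]), ([-1, -5, 7, -5, 7, -1], 13, [551, 493, 1016, 607])]

/-- A block of the enumeration. -/
def blockE616 : List (List ℤ × ℕ × List ℕ) :=
  [([-1, -2, -7, 11, -7, -1], 21, [540, 559, 15, 608]), ([-1, -2, -2, 1, -2, -1], 35, [541, 520, 330, 609]), ([-1, -2, 3, 1, 3, -1], 4, [542, 524, 713, 610]), ([-1, -2, 8, -9, 8, -1], 18, [543, 483, 1068, 611]), ([-1, -1, -7, 10, -7, -1], 22, [528, 558, 22, 612]), ([-1, -1, -7, 11, -7, -1], 20, [529, 566, 23, 613]), ([-1, -1, -6, 11, -6, -1], 16, [530, 567, 69, 614]), ([-1, -1, -3, 2, -3, -1], 34, [531, 532, 236, 615]), ([-1, -1, -1, -1, -1, -1], 36, [532, 513, 429, 616]), ([-1, -1, -1, 6, -1, -1], 7, [533, 550, 430, 617]), ([-1, -1, 2, -5, 2, -1], 32, [534, 501, 616, 618]), ([-1, -1, 2, 2, 2, -1], 3, [535, 536, 617, 619]), ([-1, -1, 4, -1, 4, -1], 5, [536, 514, 813, 620]),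 ([-1, -1, 7, -10, 7, -1], 23, [537, 480, 1029, 621]), ([-1, -1, 8, -10, 8, -1], 19, [538, 481, 1072, 622]), ([-1, -1, 8, -9, 8, -1], 17, [539, 491, 1073, 623]), ([-1, 1, -7, 9, -7, -1], 21, [516, 564, 30, 624]), ([-1, 1, -7, 10, -7, -1], 19, [517, 574, 31, 625]), ([-1, 1, -6, 10, -6, -1], 15, [518, 575, 77, 626]), ([-1, 1, -3, 1, -3, -1], 33, [519, 541, 244, 627]), ([-1, 1, -1, -2, -1, -1], 35, [520, 519, 433, 628]), ([-1, 1, -1, 5, -1, -1], 6, [521, 554, 434, 629]), ([-1, 1, 2, -6, 2, -1], 31, [522, 505, 628, 630]), ([-1, 1, 2, 1, 2, -1], 2, [523, 542, 629, 631]), ([-1, 1, 4, -2, 4, -1], 4, [524, 523, 817, 632]), ([-1, 1, 7, -11, 7, -1], 22, [525, 488, 1033, 633]), ([-1, 1, 8, -11, 8, -1], 18, [526, 489, 1080, 634]), ([-1, 1, 8, -10, 8, -1], 16, [527, 497, 1081, 635]), ([-1, 2, -7, 9, -7, -1], 20, [512, 572, 35, 636]), ([-1, 2, -2, -1, -2, -1], 34, [513,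 531, 342, 637]), ([-1, 2, 3, -1, 3, -1], 3, [514, 535, 725, 638]), ([-1, 2, 8, -11, 8, -1], 17, [515, 496, 1088, 639])]

/-- A block of the enumeration. -/
def blockE617 : List (List ℤ × ℕ × List ℕ) :=
  [([-1, 5, -6, 5, -6, -1], 25, [504, 562, 87, 640]), ([-1, 5, -4, 1, -4, -1], 29, [505, 553, 180, 641]), ([-1, 5, -4, 6, -4, -1], 11, [506, 573, 181, 642]), ([-1, 5, -3, 5, -3, -1], 10, [507, 565, 262, 643]), ([-1, 5, 4, -10, 4, -1], 27, [508, 504, 833, 644]), ([-1, 5, 5, -11, 5, -1], 26, [509, 500, 931, 645]), ([-1, 5, 5, -6, 5, -1], 8, [510, 521, 932, 646]), ([-1, 5, 7, -10, 7, -1], 12, [511, 507, 1044, 647]), ([-1, 6, -6, 5, -6, -1], 24, [500, 570, 91, 648]), ([-1, 6, -3, -1, -3, -1], 30, [501, 545, 270, 649]), ([-1, 6, 4, -5, 4, -1], 7, [502, 533, 839, 650]), ([-1, 6, 7, -11, 7, -1], 13, [503, 506, 1048, 651]), ([-1, 9, -3, 2, -3, -1], 15, [496, 571, 278,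 652]), ([-1, 9, -2, 1, -2, -1], 14, [497, 563, 372, 653]), ([-1, 9, 3, -10, 3, -1], 23, [498, 516, 753, 654]), ([-1, 9, 4, -11, 4, -1], 22, [499, 512, 850, 655]), ([-1, 10, -4, 1, -4, -1], 20, [488, 568, 191, 656]), ([-1, 10, -3, 1, -3, -1], 16, [489, 569, 282, 657]), ([-1, 10, -1, -5, -1, -1], 26, [490, 544, 469, 658]), ([-1, 10, -1, -1, -1, -1], 15, [491, 557, 470, 659]), ([-1, 10, 2, -9, 2, -1], 22, [492, 528, 658, 660]), ([-1, 10, 2, -5, 2, -1], 11, [493, 547, 659, 661]), ([-1, 10, 4, -11, 4, -1], 21, [494, 517, 857, 662]), ([-1, 10, 5, -11, 5, -1], 17, [495, 518, 952, 663]), ([-1, 11, -3, -1, -3, -1], 21, [480, 560, 287, 664]), ([-1, 11, -2, -1, -2, -1], 17, [481, 561, 382, 665]), ([-1, 11, -1, -5, -1, -1], 25, [482, 552, 475, 666]), ([-1, 11, -1, -2, -1, -1], 16, [483, 556, 476, 667]), ([-1, 11, 2, -9, 2, -1], 21, [484, 540, 666, 668]), ([-1, 11, 2,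 -6, 2, -1], 12, [485, 546, 667, 669]), ([-1, 11, 3, -10, 3, -1], 20, [486, 529, 762, 670]), ([-1, 11, 4, -10, 4, -1], 16, [487, 530, 860, 671])]

/-- A block of the enumeration. -/
def blockE618 : List (List ℤ × ℕ × List ℕ) :=
  [([1, -11, -4, 10, -4, 1], 20, [664, 621, 291, 480]), ([1, -11, -3, 10, -3, 1], 16, [665, 622, 389, 481]), ([1, -11, -2, 6, -2, 1], 24, [666, 605, 484, 482]), ([1, -11, -2, 9, -2, 1], 15, [667, 611, 485, 483]), ([1, -11, 1, 2, 1, 1], 20, [668, 595, 675, 484]), ([1, -11, 1, 5, 1, 1], 11, [669, 599, 676, 485]), ([1, -11, 2, 1, 2, 1], 19, [670, 590, 769, 486]), ([1, -11, 3, 1, 3, 1], 15, [671, 591, 864, 487]), ([1, -10, -5, 11, -5, 1], 19, [656, 633, 199, 488]), ([1, -10, -4, 11, -4, 1], 15, [657, 634, 294, 489]), ([1, -10, -2, 5, -2, 1], 25, [658, 604, 492, 490]), ([1, -10, -2, 9, -2, 1], 14, [659, 623, 493, 491]), ([1, -10, 1, 1, 1,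 1], 21, [660, 594, 681, 492]), ([1, -10, 1, 5, 1, 1], 10, [661, 607, 682, 493]), ([1, -10, 3, -1, 3, 1], 20, [662, 582, 869, 494]), ([1, -10, 4, -1, 4, 1], 16, [663, 583, 960, 495]), ([1, -9, -4, 11, -4, 1], 14, [652, 639, 301, 496]), ([1, -9, -3, 10, -3, 1], 13, [653, 635, 398, 497]), ([1, -9, 2, -1, 2, 1], 22, [654, 588, 779, 498]), ([1, -9, 3, -2, 3, 1], 21, [655, 580, 873, 499]), ([1, -6, -7, 11, -7, 1], 23, [648, 645, 103, 500]), ([1, -6, -4, 5, -4, 1], 29, [649, 618, 312, 501]), ([1, -6, 3, 1, 3, 1], 6, [650, 606, 881, 502]), ([1, -6, 6, -5, 6, 1], 12, [651, 581, 1060, 503]), ([1, -5, -7, 10, -7, 1], 24, [640, 644, 107, 504]), ([1, -5, -5, 6, -5, 1], 28, [641, 630, 219, 505]), ([1, -5, -5, 11, -5, 1], 10, [642, 651, 220, 506]), ([1, -5, -4, 10, -4, 1], 9, [643, 647, 318, 507]), ([1, -5, 3, -5, 3, 1], 26, [644, 586, 889, 508]), ([1, -5, 4, -6, 4, 1],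 25, [645, 578, 970, 509]), ([1, -5, 4, -1, 4, 1], 7, [646, 598, 971, 510]), ([1, -5, 6, -5, 6, 1], 11, [647, 589, 1064, 511])]

/-- A block of the enumeration. -/
def blockE619 : List (List ℤ × ℕ × List ℕ) :=
  [([1, -2, -8, 11, -8, 1], 19, [636, 655, 63, 512]), ([1, -2, -3, 1, -3, 1], 33, [637, 616, 426, 513]), ([1, -2, 2, 1, 2, 1], 2, [638, 620, 809, 514]), ([1, -2, 7, -9, 7, 1], 16, [639, 579, 1116, 515]), ([1, -1, -8, 10, -8, 1], 20, [624, 654, 70, 516]), ([1, -1, -8, 11, -8, 1], 18, [625, 662, 71, 517]), ([1, -1, -7, 11, -7, 1], 14, [626, 663, 118, 518]), ([1, -1, -4, 2, -4, 1], 32, [627, 628, 334, 519]), ([1, -1, -2, -1, -2, 1], 34, [628, 609, 522, 520]), ([1, -1, -2, 6, -2, 1], 5, [629, 646, 523, 521]), ([1, -1, 1, -5, 1, 1], 30, [630, 597, 717, 522]), ([1, -1, 1, 2, 1, 1], 1, [631, 632, 718, 523]), ([1, -1, 3, -1, 3, 1], 3, [632, 610, 907, 524]), ([1,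 -1, 6, -10, 6, 1], 21, [633, 576, 1074, 525]), ([1, -1, 7, -10, 7, 1], 17, [634, 577, 1120, 526]), ([1, -1, 7, -9, 7, 1], 15, [635, 587, 1121, 527]), ([1, 1, -8, 9, -8, 1], 19, [612, 660, 78, 528]), ([1, 1, -8, 10, -8, 1], 17, [613, 670, 79, 529]), ([1, 1, -7, 10, -7, 1], 13, [614, 671, 122, 530]), ([1, 1, -4, 1, -4, 1], 31, [615, 637, 338, 531]), ([1, 1, -2, -2, -2, 1], 33, [616, 615, 534, 532]), ([1, 1, -2, 5, -2, 1], 4, [617, 650, 535, 533]), ([1, 1, 1, -6, 1, 1], 29, [618, 601, 721, 534]), ([1, 1, 1, 1, 1, 1], 0, [619, 638, 722, 535]), ([1, 1, 3, -2, 3, 1], 2, [620, 619, 915, 536]), ([1, 1, 6, -11, 6, 1], 20, [621, 584, 1082, 537]), ([1, 1, 7, -11, 7, 1], 16, [622, 585, 1128, 538]), ([1, 1, 7, -10, 7, 1], 14, [623, 593, 1129, 539]), ([1, 2, -8, 9, -8, 1], 18, [608, 668, 83, 540]), ([1, 2, -3, -1, -3, 1], 32, [609, 627, 438, 541]), ([1, 2, 2, -1, 2, 1],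 1, [610, 631, 821, 542]), ([1, 2, 7, -11, 7, 1], 15, [611, 592, 1136, 543])]

/-- A block of the enumeration. -/
def blockE620 : List (List ℤ × ℕ × List ℕ) :=
  [([1, 5, -7, 5, -7, 1], 23, [600, 658, 135, 544]), ([1, 5, -5, 1, -5, 1], 27, [601, 649, 263, 545]), ([1, 5, -5, 6, -5, 1], 9, [602, 669, 264, 546]), ([1, 5, -4, 5, -4, 1], 8, [603, 661, 354, 547]), ([1, 5, 3, -10, 3, 1], 25, [604, 600, 933, 548]), ([1, 5, 4, -11, 4, 1], 24, [605, 596, 994, 549]), ([1, 5, 4, -6, 4, 1], 6, [606, 617, 995, 550]), ([1, 5, 6, -10, 6, 1], 10, [607, 603, 1092, 551]), ([1, 6, -7, 5, -7, 1], 22, [596, 666, 139, 552]), ([1, 6, -4, -1, -4, 1], 28, [597, 641, 360, 553]), ([1, 6, 3, -5, 3, 1], 5, [598, 629, 941, 554]), ([1, 6, 6, -11, 6, 1], 11, [599, 602, 1096, 555]), ([1, 9, -4, 2, -4, 1], 13, [592, 667, 373, 556]), ([1, 9, -3, 1, -3, 1], 12, [593, 659, 466, 557]), ([1, 9, 2,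 -10, 2, 1], 21, [594, 612, 851, 558]), ([1, 9, 3, -11, 3, 1], 20, [595, 608, 949, 559]), ([1, 10, -5, 1, -5, 1], 18, [584, 664, 283, 560]), ([1, 10, -4, 1, -4, 1], 14, [585, 665, 378, 561]), ([1, 10, -2, -5, -2, 1], 24, [586, 640, 564, 562]), ([1, 10, -2, -1, -2, 1], 13, [587, 653, 565, 563]), ([1, 10, 1, -9, 1, 1], 20, [588, 624, 757, 564]), ([1, 10, 1, -5, 1, 1], 9, [589, 643, 758, 565]), ([1, 10, 3, -11, 3, 1], 19, [590, 613, 953, 566]), ([1, 10, 4, -11, 4, 1], 15, [591, 614, 1004, 567]), ([1, 11, -4, -1, -4, 1], 19, [576, 656, 383, 568]), ([1, 11, -3, -1, -3, 1], 15, [577, 657, 477, 569]), ([1, 11, -2, -5, -2, 1], 23, [578, 648, 572, 570]), ([1, 11, -2, -2, -2, 1], 14, [579, 652, 573, 571]), ([1, 11, 1, -9, 1, 1], 19, [580, 636, 763, 572]), ([1, 11, 1, -6, 1, 1], 10, [581, 642, 764, 573]), ([1, 11, 2, -10, 2, 1], 18, [582, 625, 861, 574]), ([1, 11, 3,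 -10, 3, 1], 14, [583, 626, 956, 575])]

/-- A block of the enumeration. -/
def blockE621 : List (List ℤ × ℕ × List ℕ) :=
  [([2, -11, -4, 9, -4, 2], 21, [760, 715, 390, 384]), ([2, -11, -4, 10, -4, 2], 18, [761, 719, 391, 385]), ([2, -11, -3, 7, -3, 2], 23, [762, 706, 486, 386]), ([2, -11, -1, 4, -1, 2], 22, [763, 694, 580, 387]), ([2, -11, -1, 7, -1, 2], 13, [764, 707, 581, 388]), ([2, -11, 1, 4, 1, 2], 12, [765, 695, 770, 389]), ([2, -11, 2, 1, 2, 2], 17, [766, 683, 865, 390]), ([2, -11, 2, 2, 2, 2], 14, [767, 687, 866, 391]), ([2, -10, -5, 11, -5, 2], 17, [756, 723, 295, 392]), ([2, -10, -1, 3, -1, 2], 23, [757, 692, 588, 393]), ([2, -10, -1, 7, -1, 2], 12, [758, 711, 589, 394]), ([2, -10, 3, -1, 3, 2], 18, [759, 678, 961, 395]), ([2, -9, -6, 11, -6, 2], 20, [752, 727, 203, 396]), ([2, -9, -3, 5, -3, 2], 26, [753, 704, 498, 397]), ([2, -9, 1, 4, 1, 2],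 9, [754, 699, 780, 398]), ([2, -9, 4, -2, 4, 2], 15, [755, 679, 1008, 399]), ([2, -7, -7, 11, -7, 2], 22, [744, 738, 151, 400]), ([2, -7, -5, 11, -5, 2], 12, [745, 739, 306, 401]), ([2, -7, -4, 5, -4, 2], 28, [746, 714, 404, 402]), ([2, -7, -4, 10, -4, 2], 11, [747, 731, 405, 403]), ([2, -7, 2, -3, 2, 2], 24, [748, 681, 877, 404]), ([2, -7, 2, 2, 2, 2], 7, [749, 698, 878, 405]), ([2, -7, 3, -4, 3, 2], 23, [750, 675, 965, 406]), ([2, -7, 5, -4, 5, 2], 13, [751, 677, 1056, 407]), ([2, -5, -7, 9, -7, 2], 25, [740, 736, 158, 408]), ([2, -5, -6, 7, -6, 2], 27, [741, 726, 221, 409]), ([2, -5, 4, -2, 4, 2], 8, [742, 693, 1017, 410]), ([2, -5, 5, -4, 5, 2], 10, [743, 686, 1065, 411]), ([2, -4, -8, 11, -8, 2], 21, [732, 750, 111, 412]), ([2, -4, -6, 11, -6, 2], 11, [733, 751, 229, 413]), ([2, -4, -4, 3, -4, 2], 31, [734, 717, 416, 414]), ([2, -4, -4, 9, -4, 2], 8,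 [735, 743, 417, 415])]

/-- A block of the enumeration. -/
def blockE622 : List (List ℤ × ℕ × List ℕ) :=
  [([2, -4, 2, -5, 2, 2], 27, [736, 685, 899, 416]), ([2, -4, 2, 1, 2, 2], 4, [737, 710, 900, 417]), ([2, -4, 4, -7, 4, 2], 24, [738, 674, 1021, 418]), ([2, -4, 6, -7, 6, 2], 14, [739, 676, 1108, 419]), ([2, -3, -8, 10, -8, 2], 22, [728, 748, 115, 420]), ([2, -3, -5, 4, -5, 2], 30, [729, 721, 324, 421]), ([2, -3, 3, -1, 3, 2], 5, [730, 705, 977, 422]), ([2, -3, 6, -7, 6, 2], 13, [731, 682, 1112, 423]), ([2, -2, -7, 11, -7, 2], 13, [724, 755, 166, 424]), ([2, -2, -3, 7, -3, 2], 6, [725, 742, 514, 425]), ([2, -2, 1, -5, 1, 2], 29, [726, 690, 810, 426]), ([2, -2, 5, -9, 5, 2], 22, [727, 672, 1069, 427]), ([2, -1, -8, 11, -8, 2], 16, [720, 759, 119, 428]), ([2, -1, -1, -3, -1, 2], 32, [721, 702, 618, 429]), ([2, -1, -1, 4, -1, 2], 3, [722, 730, 619, 430]),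 ([2, -1, 6, -10, 6, 2], 19, [723, 673, 1122, 431]), ([2, 1, -8, 10, -8, 2], 15, [716, 766, 123, 432]), ([2, 1, -1, -4, -1, 2], 31, [717, 709, 630, 433]), ([2, 1, -1, 3, -1, 2], 2, [718, 737, 631, 434]), ([2, 1, 6, -11, 6, 2], 18, [719, 680, 1130, 435]), ([2, 2, -7, 9, -7, 2], 12, [712, 767, 170, 436]), ([2, 2, -3, 5, -3, 2], 5, [713, 749, 542, 437]), ([2, 2, 1, -7, 1, 2], 28, [714, 697, 822, 438]), ([2, 2, 5, -11, 5, 2], 21, [715, 684, 1089, 439]), ([2, 3, -8, 7, -8, 2], 21, [708, 757, 127, 440]), ([2, 3, -5, 1, -5, 2], 29, [709, 734, 348, 441]), ([2, 3, 3, -4, 3, 2], 4, [710, 718, 989, 442]), ([2, 3, 6, -10, 6, 2], 12, [711, 691, 1140, 443]), ([2, 4, -8, 7, -8, 2], 20, [700, 763, 131, 444]), ([2, 4, -6, 7, -6, 2], 10, [701, 765, 253, 445]), ([2, 4, -4, -1, -4, 2], 30, [702, 729, 448, 446]), ([2, 4, -4, 5, -4, 2], 7, [703, 754, 449, 447])]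

/-- A block of the enumeration. -/
def blockE623 : List (List ℤ × ℕ × List ℕ) :=
  [([2, 4, 2, -9, 2, 2], 26, [704, 696, 923, 448]), ([2, 4, 2, -3, 2, 2], 3, [705, 722, 924, 449]), ([2, 4, 4, -11, 4, 2], 23, [706, 688, 1041, 450]), ([2, 4, 6, -11, 6, 2], 13, [707, 689, 1144, 451]), ([2, 5, -7, 4, -7, 2], 24, [696, 753, 182, 452]), ([2, 5, -6, 2, -6, 2], 26, [697, 746, 265, 453]), ([2, 5, 4, -7, 4, 2], 7, [698, 713, 1045, 454]), ([2, 5, 5, -9, 5, 2], 9, [699, 703, 1093, 455]), ([2, 7, -7, 4, -7, 2], 21, [688, 762, 187, 456]), ([2, 7, -5, 4, -5, 2], 11, [689, 764, 366, 457]), ([2, 7, -4, -2, -4, 2], 27, [690, 741, 460, 458]), ([2, 7, -4, 3, -4, 2], 10, [691, 758, 461, 459]), ([2, 7, 2, -10, 2, 2], 23, [692, 708, 945, 460]), ([2, 7, 2, -5, 2, 2], 6, [693, 725, 946, 461]), ([2, 7, 3, -11, 3, 2], 22, [694, 700, 1001, 462]), ([2, 7, 5, -11, 5, 2], 12, [695, 701,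 1100, 463]), ([2, 9, -6, 2, -6, 2], 19, [684, 760, 279, 464]), ([2, 9, -3, -4, -3, 2], 25, [685, 740, 558, 465]), ([2, 9, 1, -5, 1, 2], 8, [686, 735, 852, 466]), ([2, 9, 4, -11, 4, 2], 14, [687, 712, 1052, 467]), ([2, 10, -5, 1, -5, 2], 16, [680, 761, 379, 468]), ([2, 10, -1, -7, -1, 2], 22, [681, 728, 660, 469]), ([2, 10, -1, -3, -1, 2], 11, [682, 747, 661, 470]), ([2, 10, 3, -11, 3, 2], 17, [683, 716, 1005, 471]), ([2, 11, -4, -2, -4, 2], 20, [672, 752, 478, 472]), ([2, 11, -4, -1, -4, 2], 17, [673, 756, 479, 473]), ([2, 11, -3, -4, -3, 2], 22, [674, 744, 574, 474]), ([2, 11, -1, -7, -1, 2], 21, [675, 732, 668, 475]), ([2, 11, -1, -4, -1, 2], 12, [676, 745, 669, 476]), ([2, 11, 1, -7, 1, 2], 11, [677, 733, 862, 477]), ([2, 11, 2, -10, 2, 2], 16, [678, 720, 957, 478]), ([2, 11, 2, -9, 2, 2], 13, [679, 724, 958, 479])]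

/-- A block of the enumeration. -/
def blockE624 : List (List ℤ × ℕ × List ℕ) :=
  [([3, -11, -4, 9, -4, 3], 19, [860, 811, 487, 288]), ([3, -11, -2, 5, -2, 3], 21, [861, 793, 582, 289]), ([3, -11, -1, 6, -1, 3], 14, [862, 799, 677, 290]), ([3, -11, 1, 2, 1, 3], 16, [863, 782, 867, 291]), ([3, -10, -5, 9, -5, 3], 22, [856, 815, 395, 292]), ([3, -10, -4, 7, -4, 3], 24, [857, 805, 494, 293]), ([3, -10, 1, 3, 1, 3], 11, [858, 787, 870, 294]), ([3, -10, 2, 1, 2, 3], 13, [859, 783, 962, 295]), ([3, -9, -6, 10, -6, 3], 21, [848, 819, 302, 296]), ([3, -9, -6, 11, -6, 3], 18, [849, 823, 303, 297]), ([3, -9, -4, 6, -4, 3], 25, [850, 804, 499, 298]), ([3, -9, -2, 3, -2, 3], 24, [851, 792, 594, 299]), ([3, -9, -1, 6, -1, 3], 11, [852, 807, 686, 300]), ([3, -9, 1, 3, 1, 3], 10, [853, 795, 874, 301]), ([3, -9, 3, -2, 3, 3], 17, [854, 771, 1009, 302]), ([3, -9, 3, -1,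 3, 3], 14, [855, 775, 1010, 303]), ([3, -7, -7, 10, -7, 3], 23, [844, 829, 207, 304]), ([3, -7, -5, 6, -5, 3], 27, [845, 814, 406, 305]), ([3, -7, 2, 1, 2, 3], 8, [846, 794, 966, 306]), ([3, -7, 4, -3, 4, 3], 12, [847, 774, 1057, 307]), ([3, -6, -7, 9, -7, 3], 24, [836, 828, 211, 308]), ([3, -6, -6, 7, -6, 3], 26, [837, 818, 313, 309]), ([3, -6, -6, 11, -6, 3], 13, [838, 835, 314, 310]), ([3, -6, -4, 9, -4, 3], 10, [839, 831, 502, 311]), ([3, -6, 1, -3, 1, 3], 25, [840, 779, 882, 312]), ([3, -6, 3, -5, 3, 3], 22, [841, 769, 1013, 313]), ([3, -6, 3, -1, 3, 3], 9, [842, 786, 1014, 314]), ([3, -6, 4, -3, 4, 3], 11, [843, 781, 1061, 315]), ([3, -5, -8, 11, -8, 3], 20, [832, 841, 159, 316]), ([3, -5, -4, 3, -4, 3], 30, [833, 810, 508, 317]), ([3, -5, 1, 2, 1, 3], 5, [834, 806, 890, 318]), ([3, -5, 5, -6, 5, 3], 15, [835, 770, 1104, 319])]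

/-- A block of the enumeration. -/
def blockE625 : List (List ℤ × ℕ × List ℕ) :=
  [([3, -3, -8, 9, -8, 3], 23, [824, 840, 163, 320]), ([3, -3, -6, 5, -6, 3], 29, [825, 822, 325, 321]), ([3, -3, -6, 10, -6, 3], 10, [826, 847, 326, 322]), ([3, -3, -5, 9, -5, 3], 9, [827, 843, 422, 323]), ([3, -3, 2, -6, 2, 3], 26, [828, 778, 978, 324]), ([3, -3, 3, -7, 3, 3], 25, [829, 773, 1025, 325]), ([3, -3, 3, -2, 3, 3], 6, [830, 798, 1026, 326]), ([3, -3, 5, -6, 5, 3], 12, [831, 780, 1113, 327]), ([3, -2, -8, 11, -8, 3], 15, [820, 854, 167, 328]), ([3, -2, -2, 5, -2, 3], 4, [821, 830, 610, 329]), ([3, -2, -1, -3, -1, 3], 31, [822, 797, 714, 330]), ([3, -2, 5, -9, 5, 3], 20, [823, 768, 1117, 331]), ([3, -1, -7, 10, -7, 3], 12, [816, 855, 237, 332]), ([3, -1, -4, 7, -4, 3], 7, [817, 842, 524, 333]), ([3, -1, 1, -6, 1, 3], 28, [818, 785, 908, 334]), ([3, -1, 4, -9, 4, 3],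 23, [819, 772, 1075, 335]), ([3, 1, -7, 9, -7, 3], 11, [812, 859, 245, 336]), ([3, 1, -4, 6, -4, 3], 6, [813, 846, 536, 337]), ([3, 1, 1, -7, 1, 3], 27, [814, 789, 916, 338]), ([3, 1, 4, -10, 4, 3], 22, [815, 776, 1083, 339]), ([3, 2, -8, 9, -8, 3], 14, [808, 863, 171, 340]), ([3, 2, -2, 3, -2, 3], 3, [809, 834, 638, 341]), ([3, 2, -1, -5, -1, 3], 30, [810, 801, 726, 342]), ([3, 2, 5, -11, 5, 3], 19, [811, 777, 1137, 343]), ([3, 3, -8, 6, -8, 3], 22, [800, 851, 175, 344]), ([3, 3, -6, 2, -6, 3], 28, [801, 833, 349, 345]), ([3, 3, -6, 7, -6, 3], 9, [802, 858, 350, 346]), ([3, 3, -5, 6, -5, 3], 8, [803, 853, 442, 347]), ([3, 3, 2, -9, 2, 3], 25, [804, 788, 990, 348]), ([3, 3, 3, -10, 3, 3], 24, [805, 784, 1037, 349]), ([3, 3, 3, -5, 3, 3], 5, [806, 809, 1038, 350]), ([3, 3, 5, -9, 5, 3], 11, [807, 791, 1141, 351])]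

/-- A block of the enumeration. -/
def blockE626 : List (List ℤ × ℕ × List ℕ) :=
  [([3, 5, -8, 6, -8, 3], 19, [796, 861, 183, 352]), ([3, 5, -4, -2, -4, 3], 29, [797, 825, 548, 353]), ([3, 5, 1, -3, 1, 3], 4, [798, 821, 934, 354]), ([3, 5, 5, -11, 5, 3], 14, [799, 790, 1148, 355]), ([3, 6, -7, 3, -7, 3], 23, [788, 850, 271, 356]), ([3, 6, -6, 1, -6, 3], 25, [789, 845, 361, 357]), ([3, 6, -6, 5, -6, 3], 12, [790, 862, 362, 358]), ([3, 6, -4, 3, -4, 3], 9, [791, 852, 554, 359]), ([3, 6, 1, -9, 1, 3], 24, [792, 800, 942, 360]), ([3, 6, 3, -11, 3, 3], 21, [793, 796, 1049, 361]), ([3, 6, 3, -7, 3, 3], 8, [794, 813, 1050, 362]), ([3, 6, 4, -9, 4, 3], 10, [795, 803, 1097, 363]), ([3, 7, -7, 3, -7, 3], 22, [784, 857, 275, 364]), ([3, 7, -5, -1, -5, 3], 26, [785, 837, 462, 365]), ([3, 7, 2, -6, 2, 3], 7, [786, 817, 1002, 366]), ([3, 7, 4, -10, 4, 3], 11, [787, 802,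 1101, 367]), ([3, 9, -6, 1, -6, 3], 20, [776, 856, 374, 368]), ([3, 9, -6, 2, -6, 3], 17, [777, 860, 375, 369]), ([3, 9, -4, -3, -4, 3], 24, [778, 836, 559, 370]), ([3, 9, -2, -6, -2, 3], 23, [779, 824, 654, 371]), ([3, 9, -1, -3, -1, 3], 10, [780, 839, 754, 372]), ([3, 9, 1, -6, 1, 3], 9, [781, 827, 950, 373]), ([3, 9, 3, -11, 3, 3], 16, [782, 808, 1053, 374]), ([3, 9, 3, -10, 3, 3], 13, [783, 812, 1054, 375]), ([3, 10, -5, -1, -5, 3], 21, [772, 848, 471, 376]), ([3, 10, -4, -3, -4, 3], 23, [773, 844, 566, 377]), ([3, 10, 1, -7, 1, 3], 10, [774, 826, 954, 378]), ([3, 10, 2, -9, 2, 3], 12, [775, 816, 1006, 379]), ([3, 11, -4, -2, -4, 3], 18, [768, 849, 575, 380]), ([3, 11, -2, -6, -2, 3], 20, [769, 832, 670, 381]), ([3, 11, -1, -5, -1, 3], 13, [770, 838, 765, 382]), ([3, 11, 1, -9, 1, 3], 15, [771, 820, 959, 383])]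

/-- A block of the enumeration. -/
def blockE627 : List (List ℤ × ℕ × List ℕ) :=
  [([4, -11, -3, 7, -3, 4], 17, [956, 902, 583, 192]), ([4, -11, -2, 5, -2, 4], 19, [957, 883, 678, 193]), ([4, -11, -2, 6, -2, 4], 16, [958, 894, 679, 194]), ([4, -11, -1, 4, -1, 4], 18, [959, 879, 771, 195]), ([4, -10, -5, 9, -5, 4], 20, [952, 910, 495, 196]), ([4, -10, -3, 5, -3, 4], 22, [953, 893, 590, 197]), ([4, -10, -1, 5, -1, 4], 13, [954, 895, 774, 198]), ([4, -10, 1, 1, 1, 4], 15, [955, 875, 963, 199]), ([4, -9, -6, 10, -6, 4], 19, [948, 918, 399, 200]), ([4, -9, -3, 4, -3, 4], 23, [949, 891, 595, 201]), ([4, -9, -1, 5, -1, 4], 12, [950, 903, 781, 202]), ([4, -9, 2, -1, 2, 4], 16, [951, 871, 1011, 203]), ([4, -7, -7, 11, -7, 4], 16, [944, 926, 307, 204]), ([4, -7, -2, 1, -2, 4], 26, [945, 882, 692, 205]), ([4, -7, -2, 6, -2, 4], 9, [946, 911, 693, 206]), ([4, -7, 3,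 -4, 3, 4], 19, [947, 867, 1058, 207]), ([4, -6, -7, 11, -7, 4], 15, [940, 938, 315, 208]), ([4, -6, -3, 7, -3, 4], 8, [941, 919, 598, 209]), ([4, -6, -1, -1, -1, 4], 27, [942, 877, 792, 210]), ([4, -6, 3, -5, 3, 4], 20, [943, 865, 1062, 211]), ([4, -5, -8, 10, -8, 4], 21, [928, 937, 222, 212]), ([4, -5, -8, 11, -8, 4], 18, [929, 943, 223, 213]), ([4, -5, -6, 10, -6, 4], 12, [930, 939, 410, 214]), ([4, -5, -5, 4, -5, 4], 29, [931, 908, 509, 215]), ([4, -5, -5, 9, -5, 4], 11, [932, 927, 510, 216]), ([4, -5, -3, 1, -3, 4], 28, [933, 899, 604, 217]), ([4, -5, -1, 4, -1, 4], 7, [934, 909, 798, 218]), ([4, -5, 1, -4, 1, 4], 24, [935, 873, 972, 219]), ([4, -5, 1, 1, 1, 4], 6, [936, 901, 973, 220]), ([4, -5, 2, -5, 2, 4], 23, [937, 869, 1018, 221]), ([4, -5, 4, -6, 4, 4], 17, [938, 866, 1105, 222]), ([4, -5, 4, -5, 4, 4], 14, [939, 870, 1106, 223])]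

/-- A block of the enumeration. -/
def blockE628 : List (List ℤ × ℕ × List ℕ) :=
  [([4, -4, -8, 9, -8, 4], 22, [920, 935, 230, 224]), ([4, -4, -8, 11, -8, 4], 17, [921, 947, 231, 225]), ([4, -4, -6, 5, -6, 4], 28, [922, 916, 418, 226]), ([4, -4, -2, -1, -2, 4], 29, [923, 889, 704, 227]), ([4, -4, -2, 5, -2, 4], 6, [924, 917, 705, 228]), ([4, -4, 2, -1, 2, 4], 7, [925, 892, 1022, 229]), ([4, -4, 4, -7, 4, 4], 18, [926, 864, 1109, 230]), ([4, -4, 4, -5, 4, 4], 13, [927, 874, 1110, 231]), ([4, -1, -8, 7, -8, 4], 25, [912, 942, 238, 232]), ([4, -1, -8, 10, -8, 4], 14, [913, 951, 239, 233]), ([4, -1, -7, 5, -7, 4], 27, [914, 923, 335, 234]), ([4, -1, -3, 5, -3, 4], 5, [915, 925, 620, 235]), ([4, -1, -1, -4, -1, 4], 30, [916, 887, 814, 236]), ([4, -1, 3, -4, 3, 4], 8, [917, 890, 1076, 237]), ([4, -1, 4, -9, 4, 4], 21, [918, 868, 1123, 238]), ([4, -1, 4, -6, 4,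 4], 10, [919, 878, 1124, 239]), ([4, 1, -8, 6, -8, 4], 24, [904, 945, 246, 240]), ([4, 1, -8, 9, -8, 4], 13, [905, 955, 247, 241]), ([4, 1, -7, 4, -7, 4], 26, [906, 933, 339, 242]), ([4, 1, -3, 4, -3, 4], 4, [907, 936, 632, 243]), ([4, 1, -1, -5, -1, 4], 29, [908, 898, 818, 244]), ([4, 1, 3, -5, 3, 4], 7, [909, 900, 1084, 245]), ([4, 1, 4, -10, 4, 4], 20, [910, 872, 1131, 246]), ([4, 1, 4, -7, 4, 4], 9, [911, 881, 1132, 247]), ([4, 4, -8, 5, -8, 4], 21, [896, 949, 254, 248]), ([4, 4, -8, 7, -8, 4], 16, [897, 959, 255, 249]), ([4, 4, -6, 1, -6, 4], 27, [898, 931, 450, 250]), ([4, 4, -2, -5, -2, 4], 28, [899, 906, 736, 251]), ([4, 4, -2, 1, -2, 4], 5, [900, 934, 737, 252]), ([4, 4, 2, -5, 2, 4], 6, [901, 907, 1042, 253]), ([4, 4, 4, -11, 4, 4], 17, [902, 876, 1145, 254]), ([4, 4, 4, -9, 4, 4], 12, [903, 888, 1146, 255])]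

/-- A block of the enumeration. -/
def blockE629 : List (List ℤ × ℕ × List ℕ) :=
  [([4, 5, -8, 5, -8, 4], 20, [884, 953, 266, 256]), ([4, 5, -8, 6, -8, 4], 17, [885, 957, 267, 257]), ([4, 5, -6, 5, -6, 4], 11, [886, 954, 454, 258]), ([4, 5, -5, -1, -5, 4], 28, [887, 922, 549, 259]), ([4, 5, -5, 4, -5, 4], 10, [888, 950, 550, 260]), ([4, 5, -3, -4, -3, 4], 27, [889, 914, 644, 261]), ([4, 5, -1, -1, -1, 4], 6, [890, 924, 834, 262]), ([4, 5, 1, -9, 1, 4], 23, [891, 896, 996, 263]), ([4, 5, 1, -4, 1, 4], 5, [892, 915, 997, 264]), ([4, 5, 2, -10, 2, 4], 22, [893, 884, 1046, 265]), ([4, 5, 4, -11, 4, 4], 16, [894, 880, 1149, 266]), ([4, 5, 4, -10, 4, 4], 13, [895, 886, 1150, 267]), ([4, 6, -7, 5, -7, 4], 14, [880, 958, 363, 268]), ([4, 6, -3, 1, -3, 4], 7, [881, 946, 650, 269]), ([4, 6, -1, -7, -1, 4], 26, [882, 904, 840, 270]), ([4, 6, 3, -11, 3, 4], 19, [883,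 885, 1098, 271]), ([4, 7, -7, 4, -7, 4], 15, [876, 956, 367, 272]), ([4, 7, -2, -6, -2, 4], 25, [877, 912, 748, 273]), ([4, 7, -2, -1, -2, 4], 8, [878, 941, 749, 274]), ([4, 7, 3, -11, 3, 4], 18, [879, 897, 1102, 275]), ([4, 9, -6, 1, -6, 4], 18, [872, 952, 467, 276]), ([4, 9, -3, -5, -3, 4], 22, [873, 920, 655, 277]), ([4, 9, -1, -4, -1, 4], 11, [874, 932, 853, 278]), ([4, 9, 2, -10, 2, 4], 15, [875, 905, 1055, 279]), ([4, 10, -5, -1, -5, 4], 19, [868, 948, 567, 280]), ([4, 10, -3, -5, -3, 4], 21, [869, 928, 662, 281]), ([4, 10, -1, -5, -1, 4], 12, [870, 930, 858, 282]), ([4, 10, 1, -9, 1, 4], 14, [871, 913, 1007, 283]), ([4, 11, -3, -4, -3, 4], 16, [864, 944, 671, 284]), ([4, 11, -2, -6, -2, 4], 18, [865, 929, 766, 285]), ([4, 11, -2, -5, -2, 4], 15, [866, 940, 767, 286]), ([4, 11, -1, -7, -1, 4], 17, [867, 921, 863, 287])]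

/-- A block of the enumeration. -/
def blockE630 : List (List ℤ × ℕ × List ℕ) :=
  [([5, -10, -4, 7, -4, 5], 18, [1004, 979, 591, 144]), ([5, -10, -3, 5, -3, 5], 20, [1005, 974, 683, 145]), ([5, -10, -2, 5, -2, 5], 15, [1006, 975, 775, 146]), ([5, -10, -1, 3, -1, 5], 17, [1007, 967, 871, 147]), ([5, -7, -7, 10, -7, 5], 17, [1000, 991, 407, 148]), ([5, -7, -3, 2, -3, 5], 25, [1001, 972, 694, 149]), ([5, -7, -2, 5, -2, 5], 10, [1002, 983, 786, 150]), ([5, -7, 2, -3, 2, 5], 18, [1003, 963, 1059, 151]), ([5, -5, -8, 10, -8, 5], 19, [992, 998, 319, 152]), ([5, -5, -7, 10, -7, 5], 14, [993, 999, 411, 153]), ([5, -5, -4, 2, -4, 5], 27, [994, 978, 605, 154]), ([5, -5, -4, 7, -4, 5], 9, [995, 987, 606, 155]), ([5, -5, -1, -2, -1, 5], 26, [996, 965, 891, 156]), ([5, -5, -1, 3, -1, 5], 8, [997, 982, 892, 157]), ([5, -5, 2, -5, 2, 5], 21, [998, 961, 1066, 158]), ([5,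 -5, 3, -5, 3, 5], 16, [999, 962, 1107, 159]), ([5, -3, -8, 10, -8, 5], 16, [988, 1003, 327, 160]), ([5, -3, -3, 5, -3, 5], 7, [989, 986, 710, 161]), ([5, -3, -2, -2, -2, 5], 28, [990, 970, 804, 162]), ([5, -3, 3, -7, 3, 5], 19, [991, 960, 1114, 163]), ([5, -2, -8, 7, -8, 5], 24, [984, 996, 331, 164]), ([5, -2, -7, 5, -7, 5], 26, [985, 990, 427, 165]), ([5, -2, 2, -3, 2, 5], 9, [986, 973, 1070, 166]), ([5, -2, 3, -5, 3, 5], 11, [987, 966, 1118, 167]), ([5, 2, -8, 5, -8, 5], 23, [980, 1001, 343, 168]), ([5, 2, -7, 3, -7, 5], 25, [981, 994, 439, 169]), ([5, 2, 2, -5, 2, 5], 8, [982, 977, 1090, 170]), ([5, 2, 3, -7, 3, 5], 10, [983, 971, 1138, 171]), ([5, 3, -8, 7, -8, 5], 15, [976, 1007, 351, 172]), ([5, 3, -3, 2, -3, 5], 6, [977, 997, 730, 173]), ([5, 3, -2, -5, -2, 5], 27, [978, 981, 828, 174]), ([5, 3, 3, -10, 3, 5], 18, [979, 964, 1142, 175])]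

/-- A block of the enumeration. -/
def blockE631 : List (List ℤ × ℕ × List ℕ) :=
  [([5, 5, -8, 5, -8, 5], 18, [968, 1005, 355, 176]), ([5, 5, -7, 5, -7, 5], 13, [969, 1006, 455, 177]), ([5, 5, -4, -3, -4, 5], 26, [970, 985, 645, 178]), ([5, 5, -4, 2, -4, 5], 8, [971, 1002, 646, 179]), ([5, 5, -1, -7, -1, 5], 25, [972, 980, 935, 180]), ([5, 5, -1, -2, -1, 5], 7, [973, 989, 936, 181]), ([5, 5, 2, -10, 2, 5], 20, [974, 968, 1094, 182]), ([5, 5, 3, -10, 3, 5], 15, [975, 969, 1151, 183]), ([5, 7, -7, 3, -7, 5], 16, [964, 1004, 463, 184]), ([5, 7, -3, -5, -3, 5], 24, [965, 984, 750, 185]), ([5, 7, -2, -2, -2, 5], 9, [966, 995, 846, 186]), ([5, 7, 2, -10, 2, 5], 17, [967, 976, 1103, 187]), ([5, 10, -4, -3, -4, 5], 17, [960, 1000, 663, 188]), ([5, 10, -3, -5, -3, 5], 19, [961, 992, 759, 189]), ([5, 10, -2, -5, -2, 5], 14, [962, 993, 859, 190]), ([5, 10, -1, -7,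 -1, 5], 16, [963, 988, 955, 191]), ([6, -9, -4, 6, -4, 6], 17, [1052, 1027, 687, 96]), ([6, -9, -3, 4, -3, 6], 19, [1053, 1019, 782, 97]), ([6, -9, -3, 5, -3, 6], 16, [1054, 1023, 783, 98]), ([6, -9, -2, 3, -2, 6], 18, [1055, 1015, 875, 99]), ([6, -6, -7, 9, -7, 6], 16, [1048, 1039, 503, 100]), ([6, -6, -3, 1, -3, 6], 24, [1049, 1018, 793, 101]), ([6, -6, -3, 5, -3, 6], 11, [1050, 1031, 794, 102]), ([6, -6, 1, -3, 1, 6], 19, [1051, 1011, 1063, 103]), ([6, -5, -7, 9, -7, 6], 15, [1044, 1043, 511, 104]), ([6, -5, -4, 6, -4, 6], 10, [1045, 1035, 698, 105]), ([6, -5, -2, -1, -2, 6], 25, [1046, 1013, 893, 106]), ([6, -5, 1, -4, 1, 6], 20, [1047, 1009, 1067, 107]), ([6, -4, -8, 9, -8, 6], 18, [1040, 1047, 419, 108]), ([6, -4, -4, 1, -4, 6], 26, [1041, 1025, 706, 109]), ([6, -4, -2, 3, -2, 6], 9, [1042, 1030, 901, 110]), ([6, -4, 2, -5, 2, 6], 17, [1043, 1010, 1111,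 111])]

/-- A block of the enumeration. -/
def blockE632 : List (List ℤ × ℕ × List ℕ) :=
  [([6, -3, -8, 9, -8, 6], 17, [1036, 1051, 423, 112]), ([6, -3, -3, -1, -3, 6], 27, [1037, 1021, 805, 113]), ([6, -3, -3, 4, -3, 6], 8, [1038, 1034, 806, 114]), ([6, -3, 2, -6, 2, 6], 18, [1039, 1008, 1115, 115]), ([6, -1, -8, 6, -8, 6], 23, [1032, 1046, 431, 116]), ([6, -1, -7, 4, -7, 6], 25, [1033, 1037, 525, 117]), ([6, -1, 1, -3, 1, 6], 10, [1034, 1022, 1077, 118]), ([6, -1, 2, -5, 2, 6], 12, [1035, 1014, 1125, 119]), ([6, 1, -8, 5, -8, 6], 22, [1028, 1049, 435, 120]), ([6, 1, -7, 3, -7, 6], 24, [1029, 1041, 537, 121]), ([6, 1, 1, -4, 1, 6], 9, [1030, 1026, 1085, 122]), ([6, 1, 2, -6, 2, 6], 11, [1031, 1017, 1133, 123]), ([6, 3, -8, 6, -8, 6], 16, [1024, 1055, 443, 124]), ([6, 3, -3, -4, -3, 6], 26, [1025, 1029, 829, 125]), ([6, 3, -3, 1, -3, 6], 7, [1026, 1042, 830,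 126]), ([6, 3, 2, -9, 2, 6], 17, [1027, 1012, 1143, 127]), ([6, 4, -8, 5, -8, 6], 17, [1020, 1053, 451, 128]), ([6, 4, -4, -3, -4, 6], 25, [1021, 1033, 738, 129]), ([6, 4, -2, -1, -2, 6], 8, [1022, 1038, 925, 130]), ([6, 4, 2, -9, 2, 6], 16, [1023, 1016, 1147, 131]), ([6, 5, -7, 4, -7, 6], 14, [1016, 1054, 551, 132]), ([6, 5, -4, 1, -4, 6], 9, [1017, 1050, 742, 133]), ([6, 5, -2, -6, -2, 6], 24, [1018, 1028, 937, 134]), ([6, 5, 1, -9, 1, 6], 19, [1019, 1020, 1095, 135]), ([6, 6, -7, 3, -7, 6], 15, [1012, 1052, 555, 136]), ([6, 6, -3, -5, -3, 6], 23, [1013, 1032, 841, 137]), ([6, 6, -3, -1, -3, 6], 10, [1014, 1045, 842, 138]), ([6, 6, 1, -9, 1, 6], 18, [1015, 1024, 1099, 139]), ([6, 9, -4, -3, -4, 6], 16, [1008, 1048, 755, 140]), ([6, 9, -3, -5, -3, 6], 18, [1009, 1040, 854, 141]), ([6, 9, -3, -4, -3, 6], 15, [1010, 1044, 855, 142]), ([6, 9, -2, -6, -2, 6],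 17, [1011, 1036, 951, 143])]

/-- A block of the enumeration. -/
def blockE633 : List (List ℤ × ℕ × List ℕ) :=
  [([7, -7, -5, 6, -5, 7], 15, [1100, 1078, 695, 48]), ([7, -7, -4, 5, -4, 7], 14, [1101, 1071, 787, 49]), ([7, -7, -3, 2, -3, 7], 21, [1102, 1067, 879, 50]), ([7, -7, -2, 1, -2, 7], 20, [1103, 1063, 967, 51]), ([7, -6, -6, 7, -6, 7], 14, [1096, 1086, 599, 52]), ([7, -6, -4, 5, -4, 7], 13, [1097, 1079, 795, 53]), ([7, -6, -3, 1, -3, 7], 22, [1098, 1066, 883, 54]), ([7, -6, -1, -1, -1, 7], 21, [1099, 1059, 1015, 55]), ([7, -5, -6, 7, -6, 7], 13, [1092, 1091, 607, 56]), ([7, -5, -5, 6, -5, 7], 12, [1093, 1087, 699, 57]), ([7, -5, -2, -1, -2, 7], 23, [1094, 1062, 974, 58]), ([7, -5, -1, -2, -1, 7], 22, [1095, 1058, 1019, 59]), ([7, -2, -8, 7, -8, 7], 20, [1088, 1095, 515, 60]), ([7, -2, -5, 1, -5, 7], 24, [1089, 1075, 715, 61]), ([7, -2, -2, 1, -2, 7],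 11, [1090, 1077, 982, 62]), ([7, -2, 1, -5, 1, 7], 15, [1091, 1057, 1119, 63]), ([7, -1, -8, 6, -8, 7], 21, [1080, 1094, 526, 64]), ([7, -1, -8, 7, -8, 7], 19, [1081, 1099, 527, 65]), ([7, -1, -6, 2, -6, 7], 23, [1082, 1083, 621, 66]), ([7, -1, -4, -1, -4, 7], 25, [1083, 1069, 815, 67]), ([7, -1, -3, 2, -3, 7], 10, [1084, 1085, 909, 68]), ([7, -1, -1, -1, -1, 7], 12, [1085, 1070, 1030, 69]), ([7, -1, 1, -6, 1, 7], 16, [1086, 1056, 1126, 70]), ([7, -1, 1, -5, 1, 7], 14, [1087, 1061, 1127, 71]), ([7, 1, -8, 5, -8, 7], 20, [1072, 1098, 538, 72]), ([7, 1, -8, 6, -8, 7], 18, [1073, 1103, 539, 73]), ([7, 1, -6, 1, -6, 7], 22, [1074, 1089, 633, 74]), ([7, 1, -4, -2, -4, 7], 24, [1075, 1074, 819, 75]), ([7, 1, -3, 1, -3, 7], 9, [1076, 1090, 917, 76]), ([7, 1, -1, -2, -1, 7], 11, [1077, 1076, 1034, 77]), ([7, 1, 1, -7, 1, 7], 15, [1078, 1060, 1134, 78]), ([7, 1, 1,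 -6, 1, 7], 13, [1079, 1065, 1135, 79])]

/-- A block of the enumeration. -/
def blockE634 : List (List ℤ × ℕ × List ℕ) :=
  [([7, 2, -8, 5, -8, 7], 19, [1068, 1102, 543, 80]), ([7, 2, -5, -1, -5, 7], 23, [1069, 1082, 727, 81]), ([7, 2, -2, -1, -2, 7], 10, [1070, 1084, 986, 82]), ([7, 2, 1, -7, 1, 7], 14, [1071, 1064, 1139, 83]), ([7, 5, -6, 2, -6, 7], 12, [1064, 1101, 647, 84]), ([7, 5, -5, 1, -5, 7], 11, [1065, 1097, 743, 85]), ([7, 5, -2, -6, -2, 7], 22, [1066, 1072, 998, 86]), ([7, 5, -1, -7, -1, 7], 21, [1067, 1068, 1047, 87]), ([7, 6, -6, 1, -6, 7], 13, [1060, 1100, 651, 88]), ([7, 6, -4, -1, -4, 7], 12, [1061, 1093, 843, 89]), ([7, 6, -3, -5, -3, 7], 21, [1062, 1080, 943, 90]), ([7, 6, -1, -7, -1, 7], 20, [1063, 1073, 1051, 91]), ([7, 7, -5, -1, -5, 7], 14, [1056, 1096, 751, 92]), ([7, 7, -4, -2, -4, 7], 13, [1057, 1092, 847, 93]), ([7, 7, -3, -5, -3,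 7], 20, [1058, 1088, 947, 94]), ([7, 7, -2, -6, -2, 7], 19, [1059, 1081, 1003, 95]), ([8, -5, -5, 4, -5, 8], 17, [1148, 1126, 799, 0]), ([8, -5, -4, 2, -4, 8], 19, [1149, 1115, 894, 1]), ([8, -5, -4, 3, -4, 8], 16, [1150, 1119, 895, 2]), ([8, -5, -3, 1, -3, 8], 18, [1151, 1111, 975, 3]), ([8, -4, -6, 5, -6, 8], 16, [1144, 1134, 707, 4]), ([8, -4, -4, 1, -4, 8], 20, [1145, 1114, 902, 5]), ([8, -4, -4, 3, -4, 8], 15, [1146, 1127, 903, 6]), ([8, -4, -2, -1, -2, 8], 19, [1147, 1107, 1023, 7]), ([8, -3, -6, 5, -6, 8], 15, [1140, 1139, 711, 8]), ([8, -3, -5, 4, -5, 8], 14, [1141, 1135, 807, 9]), ([8, -3, -3, -1, -3, 8], 21, [1142, 1109, 979, 10]), ([8, -3, -2, -2, -2, 8], 20, [1143, 1105, 1027, 11]), ([8, -2, -7, 5, -7, 8], 18, [1136, 1143, 611, 12]), ([8, -2, -5, 1, -5, 8], 22, [1137, 1123, 811, 13]), ([8, -2, -3, 1, -3, 8], 13, [1138, 1125, 983, 14]), ([8, -2,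 -1, -3, -1, 8], 17, [1139, 1106, 1071, 15])]

/-- A block of the enumeration. -/
def blockE635 : List (List ℤ × ℕ × List ℕ) :=
  [([8, -1, -7, 4, -7, 8], 19, [1128, 1142, 622, 16]), ([8, -1, -7, 5, -7, 8], 17, [1129, 1147, 623, 17]), ([8, -1, -6, 2, -6, 8], 21, [1130, 1131, 719, 18]), ([8, -1, -4, -1, -4, 8], 23, [1131, 1117, 910, 19]), ([8, -1, -4, 2, -4, 8], 12, [1132, 1133, 911, 20]), ([8, -1, -2, -1, -2, 8], 14, [1133, 1118, 1031, 21]), ([8, -1, -1, -4, -1, 8], 18, [1134, 1104, 1078, 22]), ([8, -1, -1, -3, -1, 8], 16, [1135, 1110, 1079, 23]), ([8, 1, -7, 3, -7, 8], 18, [1120, 1145, 634, 24]), ([8, 1, -7, 4, -7, 8], 16, [1121, 1151, 635, 25]), ([8, 1, -6, 1, -6, 8], 20, [1122, 1137, 723, 26]), ([8, 1, -4, -2, -4, 8], 22, [1123, 1122, 918, 27]), ([8, 1, -4, 1, -4, 8], 11, [1124, 1138, 919, 28]), ([8, 1, -2, -2, -2, 8], 13, [1125, 1124, 1035, 29]), ([8, 1,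 -1, -5, -1, 8], 17, [1126, 1108, 1086, 30]), ([8, 1, -1, -4, -1, 8], 15, [1127, 1113, 1087, 31]), ([8, 2, -7, 3, -7, 8], 17, [1116, 1149, 639, 32]), ([8, 2, -5, -1, -5, 8], 21, [1117, 1130, 823, 33]), ([8, 2, -3, -1, -3, 8], 12, [1118, 1132, 987, 34]), ([8, 2, -1, -5, -1, 8], 16, [1119, 1112, 1091, 35]), ([8, 3, -6, 2, -6, 8], 14, [1112, 1150, 731, 36]), ([8, 3, -5, 1, -5, 8], 13, [1113, 1146, 831, 37]), ([8, 3, -3, -4, -3, 8], 20, [1114, 1120, 991, 38]), ([8, 3, -2, -5, -2, 8], 19, [1115, 1116, 1039, 39]), ([8, 4, -6, 1, -6, 8], 15, [1108, 1148, 739, 40]), ([8, 4, -4, -3, -4, 8], 19, [1109, 1128, 926, 41]), ([8, 4, -4, -1, -4, 8], 14, [1110, 1141, 927, 42]), ([8, 4, -2, -5, -2, 8], 18, [1111, 1121, 1043, 43]), ([8, 5, -5, -1, -5, 8], 16, [1104, 1144, 835, 44]), ([8, 5, -4, -3, -4, 8], 18, [1105, 1136, 938, 45]), ([8, 5, -4, -2, -4, 8], 15, [1106, 1140, 939,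 46]), ([8, 5, -3, -4, -3, 8], 17, [1107, 1129, 999, 47])]

/-- The enumeration of the centralised Weyl group. -/
def certE6 : WCert where
  chunks := [blockE60, blockE61, blockE62, blockE63, blockE64, blockE65, blockE66, blockE67, blockE68, blockE69, blockE610, blockE611, blockE612, blockE613, blockE614, blockE615, blockE616, blockE617, blockE618, blockE619, blockE620, blockE621, blockE622, blockE623, blockE624, blockE625, blockE626, blockE627, blockE628, blockE629, blockE630, blockE631, blockE632, blockE633, blockE634, blockE635]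
  size := 1152
  d := 1

theorem certOKE6 : certE6.check symE6 Cfsg.Lie.chevE6 631 = true := by decide +kernel

theorem certLtE6 : (List.range 1152).all (fun i => Nat.blt (certE6.len i) 37) = true := by
  decide +kernel

theorem certHistE6 : (List.range 37).map (fun k => ((List.range 1152).map certE6.len).count k) =
    [1, 2, 4, 6, 9, 13, 17, 22, 26, 32, 37, 43, 47, 51, 55, 58, 61, 61, 62, 61, 61, 58, 55, 51, 47, 43, 37, 32, 26, 22, 17, 13, 9, 6, 4, 2, 1] := by decide +kernel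

end CfsgLib.Chev
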