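/-
The twisted groups of type ²E₆ as fixed groups.
-/
import Cfsg.Agent.Lib.Chev.Twist.Finite
import Cfsg.Agent.Lib.Chev.Twist.DataE6
import Cfsg.Agent.Lib.Chev.Twist.Simple
import Cfsg.Prelude.Def_LieTwisted

namespace CfsgLib.Chev.T2E6

open Cfsg.Lie Matrix Chev

set_option linter.dupNamespace false
set_option linter.unusedSectionVars false
set_option maxRecDepth 100000

/-- The symmetry. -/
noncomputable abbrev S : CfsgLib.Chev.chevE6.Sym := symOKE6.sym CfsgLib.Chev.chevE6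

variable {K : Type*} [Field K] [Fintype K] {q : ℕ}

/-- The twisted endomorphism. -/
noncomputable def tw (hq : IsPrimePow q) (hK : Fintype.card K = q ^ 2) : Tw S K :=
  symOKE6.tw (CfsgLib.Chev.chevE6.adj_of_check adjE6) (morOK_zero K) checkMorE6 (exists_frob hq hK).choose q
    (exists_frob hq hK).choose_spec

variable (hq : IsPrimePow q) (hK : Fintype.card K = q ^ 2)

theorem k_p (i : Fin Cfsg.Lie.chevE6.rank) : (tw hq hK).k (CfsgLib.Chev.chevE6.p i) = q := by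
  show morE6.l (CfsgLib.Chev.chevE6.p i).val * q = q
  have : ∀ i : Fin Cfsg.Lie.chevE6.rank, morE6.l (Cfsg.Lie.chevE6.simple i.val) = 1 := by decide +kernel
  rw [p_val, this, one_mul]

theorem tau_eq (i j : Fin Cfsg.Lie.chevE6.rank) (h : symE6.t i.val = j.val) : S.τ i = j := Fin.ext h

/-- The index of a fundamental root. -/
abbrev ix (n : ℕ) (h : n < Cfsg.Lie.chevE6.rank := by decide) : Fin Cfsg.Lie.chevE6.rank := ⟨n, h⟩

/-- An orbit index. -/
abbrev ox (n : ℕ) (h : n < 4 := by decide) : Fin S.m := ⟨n, h⟩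

theorem oneOrbit (a : Fin S.m) (i : Fin Cfsg.Lie.chevE6.rank) (h1 : symE6.orb a.val = [i.val]) (h2 : symE6.word a.val = [i.val])
    (hc : onlySimple Cfsg.Lie.chevE6 symE6 a.val = true) : Tw.One (S := S) a i where
  hJ k := by show k.val ∈ symE6.orb a.val ↔ k = i; rw [h1, List.mem_singleton, Fin.val_inj]
  hPJ r hr := by
    obtain ⟨j, hj, rfl⟩ := symOKE6.only_simple a hc r hr
    rw [h1, List.mem_singleton, Fin.val_inj] at hj
    rw [hj]
  hw := by show wPerm _ symE6 a.val = _; simp [wPerm, h2]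

theorem twoOrbit (a : Fin S.m) (i j : Fin Cfsg.Lie.chevE6.rank) (h1 : symE6.orb a.val = [i.val, j.val])
    (h2 : symE6.word a.val = [i.val, j.val]) (hc : onlySimple Cfsg.Lie.chevE6 symE6 a.val = true)
    (h3 : orthCheck Cfsg.Lie.chevE6 i.val j.val = true) (h4 : symE6.t i.val = j.val) (h5 : symE6.t j.val = i.val) :
    Tw.Two (S := S) a i j where
  hJ k := by
    show k.val ∈ symE6.orb a.val ↔ _
    simp [h1, Fin.val_inj]
  hPJ r hr := by
    obtain ⟨l, hl, rfl⟩ := symOKE6.only_simple a hc r hr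
    simp only [h1, List.mem_cons, List.not_mem_nil, or_false, Fin.val_inj] at hl
    rcases hl with rfl | rfl <;> simp
  hne := (orth_of_check _ h3).1
  hij := tau_eq i j h4
  hji := tau_eq j i h5
  orth := orth_of_check _ h3
  hw := by show wPerm _ symE6 a.val = _; simp [wPerm, h2]

theorem orb0 : Tw.One (S := S) (ox 0) (ix 1) :=
  oneOrbit _ _ rfl rfl (by decide +kernel)
theorem orb1 : Tw.One (S := S) (ox 1) (ix 3) :=
  oneOrbit _ _ rfl rfl (by decide +kernel)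
theorem orb2 : Tw.Two (S := S) (ox 2) (ix 2) (ix 4) :=
  twoOrbit _ _ _ rfl rfl (by decide +kernel) (by decide +kernel) rfl rfl
theorem orb3 : Tw.Two (S := S) (ox 3) (ix 0) (ix 5) :=
  twoOrbit _ _ _ rfl rfl (by decide +kernel) (by decide +kernel) rfl rfl

theorem p_eq {n : ℕ} (h : n < Cfsg.Lie.chevE6.nroots) (i : Fin Cfsg.Lie.chevE6.rank) (e : Cfsg.Lie.chevE6.simple i.val = n) :
    (⟨n, h⟩ : Fin Cfsg.Lie.chevE6.nroots) = CfsgLib.Chev.chevE6.p i := Fin.ext (by rw [p_val, e])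

theorem prev_eq {n : ℕ} (h : n < Cfsg.Lie.chevE6.nroots) (i : Fin Cfsg.Lie.chevE6.rank)
    (e : Cfsg.Lie.chevE6.neg (Cfsg.Lie.chevE6.simple i.val) = n) :
    (⟨n, h⟩ : Fin Cfsg.Lie.chevE6.nroots) = (CfsgLib.Chev.chevE6.p i).rev := Fin.ext (by rw [p_rev_val, e])

theorem word_one {r : ℕ} (hr : r < Cfsg.Lie.chevE6.nroots) {t : K} {g : GL Cfsg.Lie.chevE6.Idx K}
    (hg : (g : Matrix Cfsg.Lie.chevE6.Idx Cfsg.Lie.chevE6.Idx K) = Cfsg.Lie.chevE6.wordMat K [(r, t)]) :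
    g = CfsgLib.Chev.chevE6.toAlg.xg ⟨r, hr⟩ t :=
  CfsgLib.Chev.chevE6.xg_of_word_one hr hg

theorem word_two {r s : ℕ} (hr : r < Cfsg.Lie.chevE6.nroots) (hs : s < Cfsg.Lie.chevE6.nroots) {t u : K} {g : GL Cfsg.Lie.chevE6.Idx K}
    (hg : (g : Matrix Cfsg.Lie.chevE6.Idx Cfsg.Lie.chevE6.Idx K) = Cfsg.Lie.chevE6.wordMat K [(r, t), (s, u)]) :
    g = CfsgLib.Chev.chevE6.toAlg.xg ⟨r, hr⟩ t * CfsgLib.Chev.chevE6.toAlg.xg ⟨s, hs⟩ u := by
  refine Units.ext ?_
  rw [hg, Units.val_mul, ← Alg.x_val, ← Alg.x_val]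
  simp [ChevalleyDatum.wordMat]

/-- The generators. -/
def gens (K : Type*) [Field K] (q : ℕ) : Set (GL Cfsg.Lie.chevE6.Idx K) :=
  {g | ∃ w ∈ e6Words K q, (g : Matrix Cfsg.Lie.chevE6.Idx Cfsg.Lie.chevE6.Idx K) = Cfsg.Lie.chevE6.wordMat K w}

theorem twisted_eq : twistedE6 K q = Subgroup.closure (gens K q) := rfl

theorem one_gen (i : Fin Cfsg.Lie.chevE6.rank) (hi : i = ix 1 ∨ i = ix 3) {c : K} (hc : c ^ q = c) :
    CfsgLib.Chev.chevE6.toAlg.xg (CfsgLib.Chev.chevE6.p i) c ∈ twistedE6 K q ∧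
      CfsgLib.Chev.chevE6.toAlg.xg (CfsgLib.Chev.chevE6.p i).rev c ∈ twistedE6 K q := by
  have key : ∀ r ∈ [e6p2, e6m2, e6p4, e6m4], ∀ hr : r < Cfsg.Lie.chevE6.nroots,
      CfsgLib.Chev.chevE6.toAlg.xg ⟨r, hr⟩ c ∈ twistedE6 K q := fun r hr hlt =>
    Subgroup.subset_closure ⟨_, Or.inl ⟨c, hc, r, hr, rfl⟩, by
      rw [← Alg.x_val]; simp [ChevalleyDatum.wordMat]⟩
  rcases hi with rfl | rfl
  · rw [← prev_eq (n := e6m2) (by decide) (ix 1) (by decide +kernel),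
      ← p_eq (n := e6p2) (by decide) (ix 1) (by decide +kernel)]
    exact ⟨key _ (by simp) _, key _ (by simp) _⟩
  · rw [← prev_eq (n := e6m4) (by decide) (ix 3) (by decide +kernel),
      ← p_eq (n := e6p4) (by decide) (ix 3) (by decide +kernel)]
    exact ⟨key _ (by simp) _, key _ (by simp) _⟩

theorem two_gen (i j : Fin Cfsg.Lie.chevE6.rank) (hij : (i = ix 0 ∧ j = ix 5) ∨ (i = ix 2 ∧ j = ix 4)) (c : K) :
    Tw.X2 CfsgLib.Chev.chevE6 (CfsgLib.Chev.chevE6.p i) (CfsgLib.Chev.chevE6.p j) c (c ^ q) ∈ twistedE6 K q ∧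
      Tw.X2 CfsgLib.Chev.chevE6 (CfsgLib.Chev.chevE6.p i).rev (CfsgLib.Chev.chevE6.p j).rev c (c ^ q) ∈
        twistedE6 K q := by
  have key : ∀ rs ∈ [(e6p1, e6p6), (e6m1, e6m6), (e6p3, e6p5), (e6m3, e6m5)],
      ∀ (hr : rs.1 < Cfsg.Lie.chevE6.nroots) (hs : rs.2 < Cfsg.Lie.chevE6.nroots),
      Tw.X2 CfsgLib.Chev.chevE6 ⟨rs.1, hr⟩ ⟨rs.2, hs⟩ c (c ^ q) ∈ twistedE6 K q := fun rs hrs hr hs =>
    Subgroup.subset_closure ⟨_, Or.inr ⟨c, rs, hrs, rfl⟩, by
      rw [Tw.X2, Units.val_mul, ← Alg.x_val, ← Alg.x_val]; simp [ChevalleyDatum.wordMat]⟩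
  rcases hij with ⟨rfl, rfl⟩ | ⟨rfl, rfl⟩
  · rw [← prev_eq (n := e6m1) (by decide) (ix 0) (by decide +kernel),
      ← prev_eq (n := e6m6) (by decide) (ix 5) (by decide +kernel),
      ← p_eq (n := e6p1) (by decide) (ix 0) (by decide +kernel),
      ← p_eq (n := e6p6) (by decide) (ix 5) (by decide +kernel)]
    exact ⟨key (e6p1, e6p6) (by simp) _ _, key (e6m1, e6m6) (by simp) _ _⟩
  · rw [← prev_eq (n := e6m3) (by decide) (ix 2) (by decide +kernel),
      ← prev_eq (n := e6m5) (by decide) (ix 4) (by decide +kernel),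
      ← p_eq (n := e6p3) (by decide) (ix 2) (by decide +kernel),
      ← p_eq (n := e6p5) (by decide) (ix 4) (by decide +kernel)]
    exact ⟨key (e6p3, e6p5) (by simp) _ _, key (e6m3, e6m5) (by simp) _ _⟩

include hK in
theorem pow_q_q (c : K) : (c ^ q) ^ q = c := by rw [← pow_mul, ← sq, ← hK, FiniteField.pow_card]

theorem gens_fix {g : GL Cfsg.Lie.chevE6.Idx K} (hg : g ∈ gens K q) :
    g ∈ (tw hq hK).fix ∧ ∃ a, g ∈ CfsgLib.Chev.chevE6.US K (S.PJ a) ∨
      g ∈ CfsgLib.Chev.chevE6.US K (fun r => S.PJ a r.rev) := by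
  obtain ⟨w, (⟨t, ht, r, hr, rfl⟩ | ⟨t, rs, hrs, rfl⟩), hg⟩ := hg
  · have hk : ∀ i, t ^ (tw hq hK).k (CfsgLib.Chev.chevE6.p i) = t := fun i => by rw [k_p]; exact ht
    have key : ∀ (a : Fin S.m) (i : Fin Cfsg.Lie.chevE6.rank), Tw.One (S := S) a i →
        (g = CfsgLib.Chev.chevE6.toAlg.xg (CfsgLib.Chev.chevE6.p i) t ∨
          g = CfsgLib.Chev.chevE6.toAlg.xg (CfsgLib.Chev.chevE6.p i).rev t) →
        g ∈ (tw hq hK).fix ∧ ∃ a, g ∈ CfsgLib.Chev.chevE6.US K (S.PJ a) ∨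
          g ∈ CfsgLib.Chev.chevE6.US K (fun r => S.PJ a r.rev) := by
      rintro a i ho (rfl | rfl)
      · exact ⟨(ho.app (hk i)).1, a, Or.inl (xg_mem_US _ (S.p_mem_PJ ho.mem) t)⟩
      · exact ⟨(ho.app (hk i)).2, a, Or.inr (xg_mem_US _
          (S := fun r => S.PJ a r.rev) (by rw [Fin.rev_rev]; exact S.p_mem_PJ ho.mem) t)⟩
    simp only [List.mem_cons, List.not_mem_nil, or_false] at hr
    rcases hr with rfl | rfl | rfl | rfl
    · exact key _ _ orb0 (Or.inl (by rw [word_one (by decide) hg, p_eq _ (ix 1) (by decide +kernel)]))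
    · exact key _ _ orb0 (Or.inr (by rw [word_one (by decide) hg, prev_eq _ (ix 1) (by decide +kernel)]))
    · exact key _ _ orb1 (Or.inl (by rw [word_one (by decide) hg, p_eq _ (ix 3) (by decide +kernel)]))
    · exact key _ _ orb1 (Or.inr (by rw [word_one (by decide) hg, prev_eq _ (ix 3) (by decide +kernel)]))
  · have key : ∀ (a : Fin S.m) (i j : Fin Cfsg.Lie.chevE6.rank), Tw.Two (S := S) a i j →
        (g = Tw.X2 CfsgLib.Chev.chevE6 (CfsgLib.Chev.chevE6.p i) (CfsgLib.Chev.chevE6.p j) t (t ^ q) ∨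
          g = Tw.X2 CfsgLib.Chev.chevE6 (CfsgLib.Chev.chevE6.p i).rev (CfsgLib.Chev.chevE6.p j).rev t (t ^ q)) →
        g ∈ (tw hq hK).fix ∧ ∃ a, g ∈ CfsgLib.Chev.chevE6.US K (S.PJ a) ∨
          g ∈ CfsgLib.Chev.chevE6.US K (fun r => S.PJ a r.rev) := by
      intro a i j ho hg
      have h1 : t ^ (tw hq hK).k (CfsgLib.Chev.chevE6.p i) = t ^ q := by rw [k_p]
      have h2 : (t ^ q) ^ (tw hq hK).k (CfsgLib.Chev.chevE6.p j) = t := by rw [k_p]; exact pow_q_q hK t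
      rcases hg with rfl | rfl
      · exact ⟨(ho.app h1 h2).1, a, Or.inl (mul_mem (xg_mem_US _ (S.p_mem_PJ ho.mem.1) _)
          (xg_mem_US _ (S.p_mem_PJ ho.mem.2) _))⟩
      · exact ⟨(ho.app h1 h2).2, a, Or.inr (mul_mem
          (xg_mem_US _ (S := fun r => S.PJ a r.rev) (by rw [Fin.rev_rev]; exact S.p_mem_PJ ho.mem.1) _)
          (xg_mem_US _ (S := fun r => S.PJ a r.rev) (by rw [Fin.rev_rev]; exact S.p_mem_PJ ho.mem.2) _))⟩
    simp only [List.mem_cons, List.not_mem_nil, or_false] at hrs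
    rcases hrs with rfl | rfl | rfl | rfl
    · exact key _ _ _ orb3 (Or.inl (by
        rw [word_two (by decide) (by decide) hg, p_eq _ (ix 0) (by decide +kernel),
          p_eq _ (ix 5) (by decide +kernel)]; rfl))
    · exact key _ _ _ orb3 (Or.inr (by
        rw [word_two (by decide) (by decide) hg, prev_eq _ (ix 0) (by decide +kernel),
          prev_eq _ (ix 5) (by decide +kernel)]; rfl))
    · exact key _ _ _ orb2 (Or.inl (by
        rw [word_two (by decide) (by decide) hg, p_eq _ (ix 2) (by decide +kernel),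
          p_eq _ (ix 4) (by decide +kernel)]; rfl))
    · exact key _ _ _ orb2 (Or.inr (by
        rw [word_two (by decide) (by decide) hg, prev_eq _ (ix 2) (by decide +kernel),
          prev_eq _ (ix 4) (by decide +kernel)]; rfl))

/-- An inverse of the Cartan matrix, times three. -/
def adjA : Matrix (Fin Cfsg.Lie.chevE6.rank) (Fin Cfsg.Lie.chevE6.rank) ℤ :=
  Matrix.of fun a b => ([[4, 3, 5, 6, 4, 2], [3, 6, 6, 9, 6, 3], [5, 6, 10, 12, 8, 4], [6, 9, 12, 18, 12, 6],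
    [4, 6, 8, 12, 10, 5], [2, 3, 4, 6, 5, 4]].getD a.val []).getD b.val 0

theorem A_val (k j : Fin Cfsg.Lie.chevE6.rank) :
    CfsgLib.Chev.chevE6.A k (CfsgLib.Chev.chevE6.p j) = Cfsg.Lie.chevE6.cartan k.val (Cfsg.Lie.chevE6.simple j.val) := by
  rw [← cartan_val, ← p_val]

theorem ker_cube {z : Fin Cfsg.Lie.chevE6.rank → Kˣ} (hz : Tw.tor (Φ := CfsgLib.Chev.chevE6) z = 1) (l : Fin Cfsg.Lie.chevE6.rank) :
    z l ^ 3 = 1 := by
  refine pow_det_of_coHom adjA (fun k l => ?_) hz l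
  have : ∀ k l : Fin Cfsg.Lie.chevE6.rank, ∑ j : Fin Cfsg.Lie.chevE6.rank, Cfsg.Lie.chevE6.cartan k.val (Cfsg.Lie.chevE6.simple j.val) * adjA j l =
      if k = l then (3 : ℤ) else 0 := by decide +kernel
  refine Eq.trans ?_ (this k l)
  exact Finset.sum_congr rfl fun j _ => by rw [A_val]

theorem tau_tau (i : Fin Cfsg.Lie.chevE6.rank) : S.τ (S.τ i) = i := by
  have : ∀ i : Fin Cfsg.Lie.chevE6.rank, symE6.t (symE6.t i.val) = i.val := by decide +kernel
  exact Fin.ext (this i)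

theorem tau_symm (i : Fin Cfsg.Lie.chevE6.rank) : S.τ.symm i = S.τ i := by
  rw [Equiv.symm_apply_eq, tau_tau]

theorem dmap_apply (d : Fin Cfsg.Lie.chevE6.rank → Kˣ) (j : Fin Cfsg.Lie.chevE6.rank) : (tw hq hK).dmap d j = d (S.τ j) ^ q := by
  simp only [Tw.dmap, k_p, tau_symm]

theorem gen : (tw hq hK).Gen (twistedE6 K q) where
  le_fix := by
    rw [twisted_eq, Subgroup.closure_le]
    exact fun g hg => (gens_fix hq hK hg).1
  root_le a := by
    match a with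
    | ⟨0, _⟩ => exact (orb0.facts (T := tw hq hK) fun c hc => one_gen _ (Or.inl rfl) (by rwa [k_p] at hc)).1
    | ⟨1, _⟩ => exact (orb1.facts (T := tw hq hK) fun c hc => one_gen _ (Or.inr rfl) (by rwa [k_p] at hc)).1
    | ⟨2, _⟩ => exact (orb2.facts (T := tw hq hK) fun x y hx hy => by
        rw [k_p] at hx; rw [← hx]; exact two_gen _ _ (Or.inr ⟨rfl, rfl⟩) x).1
    | ⟨3, _⟩ => exact (orb3.facts (T := tw hq hK) fun x y hx hy => by
        rw [k_p] at hx; rw [← hx]; exact two_gen _ _ (Or.inl ⟨rfl, rfl⟩) x).1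
  exists_n a := by
    match a with
    | ⟨0, _⟩ => exact (orb0.facts (T := tw hq hK) fun c hc => one_gen _ (Or.inl rfl) (by rwa [k_p] at hc)).2.1
    | ⟨1, _⟩ => exact (orb1.facts (T := tw hq hK) fun c hc => one_gen _ (Or.inr rfl) (by rwa [k_p] at hc)).2.1
    | ⟨2, _⟩ => exact (orb2.facts (T := tw hq hK) fun x y hx hy => by
        rw [k_p] at hx; rw [← hx]; exact two_gen _ _ (Or.inr ⟨rfl, rfl⟩) x).2.1
    | ⟨3, _⟩ => exact (orb3.facts (T := tw hq hK) fun x y hx hy => by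
        rw [k_p] at hx; rw [← hx]; exact two_gen _ _ (Or.inl ⟨rfl, rfl⟩) x).2.1
  torus_le a := by
    match a with
    | ⟨0, _⟩ => exact (orb0.facts (T := tw hq hK) fun c hc => one_gen _ (Or.inl rfl) (by rwa [k_p] at hc)).2.2
    | ⟨1, _⟩ => exact (orb1.facts (T := tw hq hK) fun c hc => one_gen _ (Or.inr rfl) (by rwa [k_p] at hc)).2.2
    | ⟨2, _⟩ => exact (orb2.facts (T := tw hq hK) fun x y hx hy => by
        rw [k_p] at hx; rw [← hx]; exact two_gen _ _ (Or.inr ⟨rfl, rfl⟩) x).2.2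
    | ⟨3, _⟩ => exact (orb3.facts (T := tw hq hK) fun x y hx hy => by
        rw [k_p] at hx; rw [← hx]; exact two_gen _ _ (Or.inl ⟨rfl, rfl⟩) x).2.2
  lift d hd := by
    set z := (tw hq hK).dmap d / d with hz
    have hz1 : Tw.tor (Φ := CfsgLib.Chev.chevE6) z = 1 := by rw [hz, map_div, hd, div_self']
    have hmul : ∀ x y : Fin Cfsg.Lie.chevE6.rank → Kˣ, (tw hq hK).dmap (x / y) = (tw hq hK).dmap x / (tw hq hK).dmap y :=
      fun x y => funext fun j => by simp [dmap_apply, div_pow]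
    have hdd : (tw hq hK).dmap ((tw hq hK).dmap d) = d := funext fun j => by
      rw [dmap_apply, dmap_apply, tau_tau, ← pow_mul, ← sq]
      exact Units.ext (by rw [Units.val_pow_eq_pow_val, ← hK, FiniteField.pow_card])
    refine ⟨d / z, ?_, by rw [map_div, hz1, div_one]⟩
    rw [hmul, hz, hmul, hdd, div_div_eq_mul_div, div_div_eq_mul_div]
    funext j
    have hc := ker_cube hz1 j
    rw [hz, Pi.div_apply, div_pow, div_eq_one] at hc
    simp only [Pi.div_apply, Pi.mul_apply]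
    rw [div_eq_div_iff_mul_eq_mul]
    calc (tw hq hK).dmap d j * (tw hq hK).dmap d j * (tw hq hK).dmap d j = (tw hq hK).dmap d j ^ 3 := by
          rw [pow_succ, sq]
      _ = d j ^ 3 := hc
      _ = d j * d j * d j := by rw [pow_succ, sq]

theorem eq_fix : twistedE6 K q = (tw hq hK).fix := (gen hq hK).eq_fix

theorem wit : (tw hq hK).Wit := fun a => by
  match a with
  | ⟨0, _⟩ => exact orb0.wit
  | ⟨1, _⟩ => exact orb1.wit
  | ⟨2, _⟩ => exact orb2.wit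
  | ⟨3, _⟩ => exact orb3.wit

theorem card_root (a : Fin S.m) :
    Nat.card ↥(CfsgLib.Chev.chevE6.US K (S.PJ a) ⊓ (tw hq hK).fix) ^ 1 = q ^ S.len (S.w a) := by
  have hq1 : 1 < q := hq.one_lt
  have hone : ∀ (b : Fin S.m) (i : Fin Cfsg.Lie.chevE6.rank), Tw.One (S := S) b i →
      Nat.card ↥(CfsgLib.Chev.chevE6.US K (S.PJ b) ⊓ (tw hq hK).fix) = q := fun b i ho => by
    rw [ho.card, k_p, card_pow_eq_self hq1 hK]
  have htwo : ∀ (b : Fin S.m) (i j : Fin Cfsg.Lie.chevE6.rank), Tw.Two (S := S) b i j →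
      Nat.card ↥(CfsgLib.Chev.chevE6.US K (S.PJ b) ⊓ (tw hq hK).fix) = q ^ 2 := fun b i j ho => by
    rw [ho.card, k_p, k_p, ← hK, ← Nat.card_eq_fintype_card]
    exact Nat.card_congr (Equiv.subtypeUnivEquiv fun c => pow_q_q hK c)
  rw [cnt_eq symOKE6, pow_one]
  match a with
  | ⟨0, _⟩ => rw [show WCert.cnt symE6 Cfsg.Lie.chevE6 0 = 1 by decide +kernel, pow_one]; exact hone _ _ orb0
  | ⟨1, _⟩ => rw [show WCert.cnt symE6 Cfsg.Lie.chevE6 1 = 1 by decide +kernel, pow_one]; exact hone _ _ orb1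
  | ⟨2, _⟩ => rw [show WCert.cnt symE6 Cfsg.Lie.chevE6 2 = 2 by decide +kernel]; exact htwo _ _ _ orb2
  | ⟨3, _⟩ => rw [show WCert.cnt symE6 Cfsg.Lie.chevE6 3 = 2 by decide +kernel]; exact htwo _ _ _ orb3

include hq hK in
theorem card_U : Nat.card ↥(Cfsg.Lie.chevE6.posUnipotent K ⊓ twistedE6 K q) = q ^ 36 := by
  have := (gen hq hK).card_U q 1 (card_root hq hK)
  rw [pow_one, show Cfsg.Lie.chevE6.nroots / 2 = 36 by decide +kernel] at this
  rw [eq_fix hq hK]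
  exact this

end CfsgLib.Chev.T2E6
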