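/-
The order of the torus of ²E₆.
-/
import Cfsg.Agent.Lib.Chev.Twist.TypeE6
import Cfsg.Agent.Lib.Chev.Twist.Torus

namespace CfsgLib.Chev.T2E6

open Cfsg.Lie Matrix Chev

set_option linter.dupNamespace false
set_option linter.unusedSectionVars false
set_option maxRecDepth 100000

variable {K : Type*} [Field K] [Fintype K] {q : ℕ} (hq : IsPrimePow q) (hK : Fintype.card K = q ^ 2)

theorem tau_val : ∀ (j : Fin Cfsg.Lie.chevE6.rank), (S.τ j).val = [5, 1, 4, 3, 2, 0].getD j.val 0 :=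
  fun _ => rfl

theorem tau_cases :
    S.τ (ix 0) = ix 5 ∧ S.τ (ix 1) = ix 1 ∧ S.τ (ix 2) = ix 4 ∧ S.τ (ix 3) = ix 3 ∧ S.τ (ix 4) = ix 2 ∧
      S.τ (ix 5) = ix 0 :=
  ⟨Fin.ext rfl, Fin.ext rfl, Fin.ext rfl, Fin.ext rfl, Fin.ext rfl, Fin.ext rfl⟩

theorem forall_ix {P : Fin Cfsg.Lie.chevE6.rank → Prop} :
    (∀ j, P j) ↔ P (ix 0) ∧ P (ix 1) ∧ P (ix 2) ∧ P (ix 3) ∧ P (ix 4) ∧ P (ix 5) := by
  refine ⟨fun h => ⟨h _, h _, h _, h _, h _, h _⟩, fun ⟨a, b, c, d, e, f⟩ j => ?_⟩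
  match j with
  | ⟨0, _⟩ => exact a
  | ⟨1, _⟩ => exact b
  | ⟨2, _⟩ => exact c
  | ⟨3, _⟩ => exact d
  | ⟨4, _⟩ => exact e
  | ⟨5, _⟩ => exact f

theorem stable_iff (d : Fin Cfsg.Lie.chevE6.rank → Kˣ) :
    (tw hq hK).dmap d = d ↔ d (ix 1) ^ q = d (ix 1) ∧ d (ix 3) ^ q = d (ix 3) ∧
      d (ix 4) = d (ix 2) ^ q ∧ d (ix 5) = d (ix 0) ^ q := by
  obtain ⟨t0, t1, t2, t3, t4, t5⟩ := tau_cases
  have hqq : ∀ u : Kˣ, (u ^ q) ^ q = u := fun u => Units.ext (by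
    rw [Units.val_pow_eq_pow_val, Units.val_pow_eq_pow_val]; exact pow_q_q hK _)
  rw [funext_iff, forall_ix, dmap_apply, dmap_apply, dmap_apply, dmap_apply, dmap_apply, dmap_apply,
    t0, t1, t2, t3, t4, t5]
  exact ⟨fun ⟨_, h1, _, h3, h4, h5⟩ => ⟨h1, h3, h4.symm, h5.symm⟩,
    fun ⟨h1, h3, h4, h5⟩ => ⟨by rw [h5, hqq], h1, by rw [h4, hqq], h3, h4.symm, h5.symm⟩⟩

/-- The six parameters. -/
def vec6 (a b c e f g : Kˣ) : Fin Cfsg.Lie.chevE6.rank → Kˣ := fun j => [a, b, c, e, f, g].getD j.val 1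

theorem card_stable : Nat.card {d : Fin Cfsg.Lie.chevE6.rank → Kˣ // (tw hq hK).dmap d = d} =
    (q - 1) ^ 2 * (q ^ 2 - 1) ^ 2 := by
  have e : {d : Fin Cfsg.Lie.chevE6.rank → Kˣ // (tw hq hK).dmap d = d} ≃
      ({u : Kˣ // u ^ q = u} × {u : Kˣ // u ^ q = u}) × (Kˣ × Kˣ) :=
    { toFun := fun d => ((⟨d.1 (ix 1), ((stable_iff hq hK _).mp d.2).1⟩,
        ⟨d.1 (ix 3), ((stable_iff hq hK _).mp d.2).2.1⟩), (d.1 (ix 0), d.1 (ix 2)))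
      invFun := fun x => ⟨vec6 x.2.1 x.1.1.1 x.2.2 x.1.2.1 (x.2.2 ^ q) (x.2.1 ^ q),
        (stable_iff hq hK _).mpr ⟨x.1.1.2, x.1.2.2, rfl, rfl⟩⟩
      left_inv := fun d => by
        obtain ⟨-, -, h4, h5⟩ := (stable_iff hq hK _).mp d.2
        exact Subtype.ext (funext (forall_ix.mpr ⟨rfl, rfl, rfl, rfl, h4.symm, h5.symm⟩))
      right_inv := fun _ => rfl }
  rw [Nat.card_congr e, Nat.card_prod, Nat.card_prod, Nat.card_prod, card_units_pow_eq_self hq.one_lt hK,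
    Nat.card_units, Nat.card_eq_fintype_card, hK, sq (q - 1), sq (q ^ 2 - 1)]

theorem tor_eq_one_iff (z : Fin Cfsg.Lie.chevE6.rank → Kˣ) :
    Tw.tor (Φ := CfsgLib.Chev.chevE6) z = 1 ↔
      z (ix 0) ^ (2 : ℤ) * z (ix 2) ^ (-1 : ℤ) = 1 ∧ z (ix 1) ^ (2 : ℤ) * z (ix 3) ^ (-1 : ℤ) = 1 ∧
      z (ix 0) ^ (-1 : ℤ) * z (ix 2) ^ (2 : ℤ) * z (ix 3) ^ (-1 : ℤ) = 1 ∧
      z (ix 1) ^ (-1 : ℤ) * z (ix 2) ^ (-1 : ℤ) * z (ix 3) ^ (2 : ℤ) * z (ix 4) ^ (-1 : ℤ) = 1 ∧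
      z (ix 3) ^ (-1 : ℤ) * z (ix 4) ^ (2 : ℤ) * z (ix 5) ^ (-1 : ℤ) = 1 ∧
      z (ix 4) ^ (-1 : ℤ) * z (ix 5) ^ (2 : ℤ) = 1 := by
  let L : List (List ℤ) := [[2, 0, -1, 0, 0, 0], [0, 2, 0, -1, 0, 0], [-1, 0, 2, -1, 0, 0],
    [0, -1, -1, 2, -1, 0], [0, 0, 0, -1, 2, -1], [0, 0, 0, 0, -1, 2]]
  have hA : ∀ k j : Fin Cfsg.Lie.chevE6.rank,
      CfsgLib.Chev.chevE6.A k (CfsgLib.Chev.chevE6.p j) = (L.getD k.val []).getD j.val 0 := by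
    intro k j
    rw [A_val]
    revert k j
    decide +kernel
  rw [Tw.tor, MonoidHom.comp_apply, ← map_one CfsgLib.Chev.chevE6.toAlg.torus,
    (CfsgLib.Chev.chevE6.torus_injective).eq_iff, funext_iff, forall_ix]
  have hs : ∀ j : Fin Cfsg.Lie.chevE6.rank, CfsgLib.Chev.chevE6.coHom K z j =
      z (ix 0) ^ (L.getD 0 []).getD j.val 0 * z (ix 1) ^ (L.getD 1 []).getD j.val 0 *
      z (ix 2) ^ (L.getD 2 []).getD j.val 0 * z (ix 3) ^ (L.getD 3 []).getD j.val 0 *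
      z (ix 4) ^ (L.getD 4 []).getD j.val 0 * z (ix 5) ^ (L.getD 5 []).getD j.val 0 := fun j => by
    show ∏ k, z k ^ CfsgLib.Chev.chevE6.A k (CfsgLib.Chev.chevE6.p j) = _
    simp only [hA]
    exact Fin.prod_univ_six (fun k : Fin 6 => z k ^ (L.getD k.val []).getD j.val 0)
  simp only [hs, Pi.one_apply, L, List.getD_cons_zero, List.getD_cons_succ, _root_.zpow_zero, mul_one, one_mul]

theorem card_ker : Nat.card {d : Fin Cfsg.Lie.chevE6.rank → Kˣ //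
    (tw hq hK).dmap d = d ∧ Tw.tor (Φ := CfsgLib.Chev.chevE6) d = 1} = Nat.gcd 3 (q + 1) := by
  classical
  have key : ∀ d : Fin Cfsg.Lie.chevE6.rank → Kˣ,
      ((tw hq hK).dmap d = d ∧ Tw.tor (Φ := CfsgLib.Chev.chevE6) d = 1) ↔
        d (ix 0) ^ Nat.gcd 3 (q + 1) = 1 ∧
          d = vec6 (d (ix 0)) 1 (d (ix 0) ^ 2) 1 ((d (ix 0) ^ 2) ^ q) (d (ix 0) ^ q) := by
    intro d
    rw [stable_iff, pow_gcd_eq_one]
    constructor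
    · rintro ⟨⟨-, -, h4, h5⟩, hz⟩
      have h3 := ker_cube hz
      obtain ⟨e0, e1, e2, e3, -, -⟩ := (tor_eq_one_iff d).mp hz
      simp only [_root_.zpow_neg, _root_.zpow_one, ← div_eq_mul_inv, div_eq_one,
        show (2 : ℤ) = ((2 : ℕ) : ℤ) from rfl, _root_.zpow_natCast] at e0 e1 e2 e3
      have hc : d (ix 2) = d (ix 0) ^ 2 := e0.symm
      have he : d (ix 3) = 1 := by
        rw [← e2, hc, ← h3 (ix 0)]
        group
      have hb : d (ix 1) = 1 := by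
        have := h3 (ix 1)
        rwa [pow_succ, e1, he, one_mul] at this
      refine ⟨⟨h3 _, ?_⟩, funext (forall_ix.mpr ⟨rfl, hb, hc, he, by rw [h4, hc]; rfl, by rw [h5]; rfl⟩)⟩
      rw [hb, he, inv_one, one_div, one_pow, mul_one, h4, hc] at e3
      have h6 : (d (ix 0) ^ 2) ^ (q + 1) = 1 := by rw [pow_succ, ← e3, inv_mul_cancel]
      have h7 := h3 (ix 0)
      calc d (ix 0) ^ (q + 1) = ((d (ix 0) ^ 2) ^ (q + 1)) ^ 2 / (d (ix 0) ^ 3) ^ (q + 1) := by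
            rw [eq_div_iff_mul_eq', ← pow_mul, ← pow_add, ← pow_mul, ← pow_mul]
            congr 1
            ring
        _ = 1 := by rw [h6, h7, one_pow, one_pow, div_one]
    · rintro ⟨⟨h3, hq1⟩, hd⟩
      have hqq : d (ix 0) ^ q = (d (ix 0))⁻¹ := eq_inv_of_mul_eq_one_left (by rw [← pow_succ, hq1])
      have h2 : d (ix 0) ^ 2 = (d (ix 0))⁻¹ := eq_inv_of_mul_eq_one_left (by rw [← pow_succ, h3])
      rw [hd]
      refine ⟨⟨one_pow _, one_pow _, rfl, rfl⟩, (tor_eq_one_iff _).mpr ?_⟩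
      simp only [vec6, List.getD_cons_zero, List.getD_cons_succ, hqq, h2, inv_pow, inv_inv]
      simp only [_root_.zpow_neg, _root_.zpow_one, show (2 : ℤ) = ((2 : ℕ) : ℤ) from rfl, _root_.zpow_natCast,
        inv_pow, inv_inv, one_mul, mul_one, inv_one, one_pow, h2]
      simp
  rw [Nat.card_congr (Equiv.subtypeEquivRight key)]
  have e : {d : Fin Cfsg.Lie.chevE6.rank → Kˣ // d (ix 0) ^ Nat.gcd 3 (q + 1) = 1 ∧
      d = vec6 (d (ix 0)) 1 (d (ix 0) ^ 2) 1 ((d (ix 0) ^ 2) ^ q) (d (ix 0) ^ q)} ≃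
      (powMonoidHom (Nat.gcd 3 (q + 1)) : Kˣ →* Kˣ).ker :=
    { toFun := fun d => ⟨d.1 (ix 0), d.2.1⟩
      invFun := fun a => ⟨vec6 a.1 1 (a.1 ^ 2) 1 ((a.1 ^ 2) ^ q) (a.1 ^ q), a.2, rfl⟩
      left_inv := fun d => Subtype.ext d.2.2.symm
      right_inv := fun _ => rfl }
  rw [Nat.card_congr e, IsCyclic.card_powMonoidHom_ker, Nat.card_units, Nat.card_eq_fintype_card, hK]
  refine Nat.gcd_eq_right ((Nat.gcd_dvd_right 3 (q + 1)).trans ⟨q - 1, ?_⟩)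
  rw [← Nat.sq_sub_sq, one_pow]

include hq hK in
theorem card_H : Nat.gcd 3 (q + 1) * Nat.card ↥(Cfsg.Lie.chevE6.diagonalSubgroup K ⊓ twistedE6 K q) =
    (q - 1) ^ 4 * (q + 1) ^ 2 := by
  have := (gen hq hK).card_H_mul
  rw [card_ker, card_stable, ← eq_fix hq hK] at this
  rw [mul_comm, this, show q ^ 2 - 1 = (q + 1) * (q - 1) by rw [← Nat.sq_sub_sq, one_pow]]
  ring

end CfsgLib.Chev.T2E6
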