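/-
The order of ²E₆.
-/
import Cfsg.Agent.Lib.Chev.Twist.TorusE6

namespace CfsgLib.Chev.T2E6

open Cfsg.Lie Matrix Chev

set_option linter.dupNamespace false
set_option linter.unusedSectionVars false
set_option maxRecDepth 100000
set_option maxHeartbeats 1000000

variable {K : Type*} [Field K] [Fintype K] {q : ℕ} (hq : IsPrimePow q) (hK : Fintype.card K = q ^ 2)

theorem sum_poly :
    ∑ i : Fin certE6.size, q ^ certE6.len i.val =
      ∑ k ∈ Finset.range 37, ([1, 2, 4, 6, 9, 13, 17, 22, 26, 32, 37, 43, 47, 51, 55, 58, 61, 61, 62, 61, 61, 58,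
        55, 51, 47, 43, 37, 32, 26, 22, 17, 13, 9, 6, 4, 2, 1] : List ℕ).getD k 0 * q ^ k := by
  have hlt : ∀ i < certE6.size, certE6.len i < 37 := fun i hi => by
    have := certLtE6
    simp only [List.all_eq_true, List.mem_range, Nat.blt_eq] at this
    exact this i hi
  rw [sum_pow_eq_count certE6.len q hlt, ← certHistE6]
  refine Finset.sum_congr rfl fun k hk => ?_
  rw [List.getD_eq_getElem _ _ (by simpa using Finset.mem_range.mp hk)]
  simp only [List.getElem_map, List.getElem_range]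
  rfl

include hq hK in
theorem card_G : Nat.gcd 3 (q + 1) * Nat.card ↥(twistedE6 K q) =
    q ^ 36 * (q ^ 2 - 1) * (q ^ 5 + 1) * (q ^ 6 - 1) * (q ^ 8 - 1) * (q ^ 9 + 1) * (q ^ 12 - 1) := by
  classical
  haveI : Fintype S.W1 := Fintype.ofFinite _
  have h := gen hq hK
  have hsum := cert_sum (Φ := CfsgLib.Chev.chevE6) symOKE6 certOKE6
    (fun π : S.W1 => Nat.card ((tw hq hK).Uinv π.1)) (q := q)
    fun π => h.card_Uinv q 1 (card_root hq hK) π.2
  rw [h.card_eq, hsum, (tw hq hK).card_B1, sum_poly, ← eq_fix hq hK, card_U hq hK, ← mul_assoc, ← mul_assoc,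
    mul_comm _ (q ^ 36), mul_assoc (q ^ 36), card_H hq hK]
  simp only [Finset.sum_range_succ, Finset.sum_range_zero, List.getD_cons_zero, List.getD_cons_succ]
  have h0 : 1 ≤ q := hq.one_lt.le
  have h2 : 1 ≤ q ^ 2 := Nat.one_le_pow _ _ h0
  have h6 : 1 ≤ q ^ 6 := Nat.one_le_pow _ _ h0
  have h8 : 1 ≤ q ^ 8 := Nat.one_le_pow _ _ h0
  have h12 : 1 ≤ q ^ 12 := Nat.one_le_pow _ _ h0
  zify [h0, h2, h6, h8, h12]
  ring

end CfsgLib.Chev.T2E6
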