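/-
Tables of the twisted type over G2.
-/
import Cfsg.Agent.Lib.Chev.Twist.Cert
import Cfsg.Agent.Lib.Chev.MorphData

namespace CfsgLib.Chev

set_option maxRecDepth 100000
set_option maxHeartbeats 4000000

/-- The symmetry of type G2. -/
def symG2 : SymData where
  mor := morG2
  tau := [1, 0]
  orbits := [[0, 1]]
  words := [[0, 1, 0, 1, 0, 1]]
  refl := [[0, 5, 3, 2, 7, 1, 10, 4, 9, 8, 6, 11], [1, 0, 2, 4, 3, 6, 5, 8, 7, 9, 11, 10]]

theorem symOKG2 : Chev.SymOK (D := Cfsg.Lie.chevG2) symG2 3 where
  mor := checkMorG2
  refl := by decide +kernel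
  simple := by decide +kernel
  roots := by decide +kernel
  orbits := by decide +kernel

/-- A block of the enumeration. -/
def blockG20 : List (List ℤ × ℕ × List ℕ) :=
  [([-1, -1], 3, [1]), ([1, 1], 0, [0])]

/-- The enumeration of the centralised Weyl group. -/
def certG2 : WCert where
  chunks := [blockG20]
  size := 2
  d := 2

theorem certOKG2 : certG2.check symG2 Cfsg.Lie.chevG2 1 = true := by decide +kernel

theorem certLtG2 : (List.range 2).all (fun i => Nat.blt (certG2.len i) 4) = true := by
  decide +kernel

theorem certHistG2 : (List.range 4).map (fun k => ((List.range 2).map certG2.len).count k) =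
    [1, 0, 0, 1] := by decide +kernel

end CfsgLib.Chev
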