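/-
The map x_r(c) ↦ x_{-r}(-c) of type G2.
-/
import Cfsg.Agent.Lib.Chev.MorphData

namespace CfsgLib.Chev

set_option maxRecDepth 100000

/-- The map to the negative roots. -/
def morNegG2 : MorData :=
  ⟨[11, 10, 9, 8, 7, 6, 5, 4, 3, 2, 1, 0], [1, 1, 1, 1, 1, 1, 1, 1, 1, 1, 1, 1],
    [-1, -1, -1, -1, -1, -1, -1, -1, -1, -1, -1, -1]⟩

theorem checkMorNegG2 : morNegG2.check Cfsg.Lie.chevG2 0 = true := by decide +kernel

end CfsgLib.Chev
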