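/-
Torus elements inverted by the reflection of an orbit, and the squares of fixed torus elements.
-/
import Cfsg.Agent.Lib.Chev.Twist.Fix

namespace CfsgLib.Chev

open Cfsg.Lie Matrix

set_option linter.dupNamespace false
set_option linter.unusedSectionVars false

variable {D : ChevalleyDatum}

namespace Chev

variable {Φ : Chev D} {F : Type*} [Field F]

theorem Mono.conj_tor {n : GL D.Idx F} {π : Equiv.Perm (Fin D.nroots)} (hn : n ∈ D.monomialSubgroup F)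
    (hm : Φ.Mono n π) (d : Fin D.rank → Fˣ) :
    ∃ c, n * Tw.tor (Φ := Φ) d * n⁻¹ = Φ.toAlg.torus c ∧
      ∀ r, Φ.toSys.chi c (π r) = Φ.toSys.chi (Φ.coHom F d) r := by
  obtain ⟨c, hc⟩ := Φ.exists_torus_of_mem_H
    ((Subgroup.mem_normalizer_iff.mp (Φ.N_le_normalizer_H hn) _).mp (Tw.tor_mem_H d))
  refine ⟨c, hc, fun r => ?_⟩
  obtain ⟨a, ha, h, -⟩ := hm.1 r
  set T := Φ.toAlg.torus (R := F)
  set χ := Φ.toSys.chi (Φ.coHom F d) r
  have ht : Tw.tor (Φ := Φ) d = T (Φ.coHom F d) := rfl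
  rw [ht] at hc
  have e1 : Φ.toAlg.xg (π r) ((Φ.toSys.chi c (π r) : F) * 1) * T c =
      Φ.toAlg.xg (π r) (a * ((χ : F) * a⁻¹)) * T c := by
    rw [← Φ.toAlg.torus_xg, ← h ((χ : F) * a⁻¹), ← mul_inv_cancel₀ ha, ← h a⁻¹, ← hc]
    calc n * T (Φ.coHom F d) * n⁻¹ * (n * Φ.toAlg.xg r a⁻¹ * n⁻¹)
        = n * (T (Φ.coHom F d) * Φ.toAlg.xg r a⁻¹) * n⁻¹ := by group
      _ = n * (Φ.toAlg.xg r ((χ : F) * a⁻¹) * T (Φ.coHom F d)) * n⁻¹ := by rw [Φ.toAlg.torus_xg]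
      _ = _ := by group
  have e3 := Φ.toAlg.xg_injective _ (mul_right_cancel e1)
  exact Units.ext (by rw [mul_one] at e3; rw [e3]; field_simp)

theorem chi_coHom_tw (d : Fin D.rank → Fˣ) (r : Fin D.nroots) :
    Φ.toSys.chi (Φ.coHom F d) r = ∏ k, d k ^ Φ.A k r := by
  rw [Φ.coHom_apply]
  induction (Finset.univ : Finset (Fin D.rank)) using Finset.induction_on with
  | empty => simp [Sys.chi]
  | insert j t hj ih => rw [Finset.prod_insert hj, Finset.prod_insert hj, Φ.toSys.chi_mul, ih, Φ.toAlg.chi_cartanChar]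

/-- A monomial element inverting a torus element. -/
theorem Mono.conj_tor_eq_inv {n : GL D.Idx F} {π : Equiv.Perm (Fin D.nroots)} (hn : n ∈ D.monomialSubgroup F)
    (hm : Φ.Mono n π) (hπ : ∀ r, π (π r) = r) {d : Fin D.rank → Fˣ}
    (hinv : ∀ i k, d k ≠ 1 → Φ.A k (π (Φ.p i)) = -Φ.A k (Φ.p i)) :
    n * Tw.tor (Φ := Φ) d * n⁻¹ = (Tw.tor (Φ := Φ) d)⁻¹ := by
  obtain ⟨c, hc, hchi⟩ := hm.conj_tor hn d
  rw [hc, Tw.tor, MonoidHom.comp_apply, ← map_inv]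
  refine congrArg _ (funext fun i => ?_)
  have := hchi (π (Φ.p i))
  rw [hπ, Φ.toSys.chi_simple, chi_coHom_tw] at this
  rw [this, Pi.inv_apply]
  show _ = (∏ k, d k ^ Φ.A k (Φ.p i))⁻¹
  rw [← Finset.prod_inv_distrib]
  refine Finset.prod_congr rfl fun k _ => ?_
  by_cases hk : d k = 1
  · simp [hk]
  · rw [hinv i k hk, _root_.zpow_neg]

namespace Tw

variable {S : Φ.Sym} {T : Tw S F} {G1 : Subgroup (GL D.Idx F)}

/-- The square of a fixed torus element inverted by a member of a subgroup lies in it, given normality data. -/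
theorem tor_sq_eq {n : GL D.Idx F} {d : Fin D.rank → Fˣ}
    (hconj : n * tor (Φ := Φ) d * n⁻¹ = (tor (Φ := Φ) d)⁻¹) :
    tor (Φ := Φ) (d * d) = tor (Φ := Φ) d * n * (tor (Φ := Φ) d)⁻¹ * n⁻¹ := by
  rw [map_mul]
  calc tor (Φ := Φ) d * tor (Φ := Φ) d = tor (Φ := Φ) d * (n * tor (Φ := Φ) d * n⁻¹)⁻¹ := by
        rw [hconj, inv_inv]
    _ = _ := by group

/-- Squares of fixed torus elements inverted by the reflection of an orbit lie in the generated group. -/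
theorem sq_tor_mem (hle : G1 ≤ T.fix) (a : Fin S.m) (hroot : Φ.US F (S.PJ a) ⊓ T.fix ≤ G1)
    {n : GL D.Idx F} (hnN : n ∈ D.monomialSubgroup F) (hm : Φ.Mono n (S.w a))
    (hgen : n ∈ Subgroup.closure {g | g ∈ G1 ∧ (g ∈ Φ.US F (S.PJ a) ∨ g ∈ Φ.US F (fun r => S.PJ a r.rev))})
    {d : Fin D.rank → Fˣ} (hd : T.dmap d = d)
    (hinv : ∀ i k, d k ≠ 1 → Φ.A k (S.w a (Φ.p i)) = -Φ.A k (Φ.p i)) :
    tor (Φ := Φ) (d * d) ∈ G1 := by
  set c := tor (Φ := Φ) d with hc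
  have hconj := hm.conj_tor_eq_inv hnN (S.w_w_apply a) hinv
  have hn1 : n ∈ G1 := (Subgroup.closure_le _).mpr (fun g hg => hg.1) hgen
  have hcf : c ∈ T.fix := ⟨Φ.H_le_group (tor_mem_H _), by rw [hc, T.app_tor, hd]⟩
  have hU : ∀ x ∈ Φ.US F (S.PJ a) ⊓ T.fix, ∀ y ∈ T.fix, y ∈ D.diagonalSubgroup F → y * x * y⁻¹ ∈ G1 :=
    fun x hx y hy hyH => hroot (Subgroup.mem_inf.mpr
      ⟨(Subgroup.mem_normalizer_iff.mp (Φ.H_le_normalizer_US _ hyH) x).mp hx.1,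
        mul_mem (mul_mem hy hx.2) (Subgroup.inv_mem _ hy)⟩)
  have hn : c * n * c⁻¹ ∈ G1 := by
    refine Subgroup.closure_induction (p := fun g _ => c * g * c⁻¹ ∈ G1) ?_ (by simp [one_mem]) ?_ ?_ hgen
    · rintro g ⟨hg1, hg | hg⟩
      · exact hU g (Subgroup.mem_inf.mpr ⟨hg, hle hg1⟩) c hcf (tor_mem_H _)
      · obtain ⟨σ, -, h1, h2⟩ := Φ.exists_monoW hnN
        obtain rfl := Mono.unique Φ hm h1
        rw [S.w_inv] at h2
        have h3 := Φ.map_US_le h2 (T := S.PJ a) (fun r hr => by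
          refine ⟨?_, ?_⟩
          · have h3 := S.w_neg a r.rev hr.1 hr.2
            rwa [Φ.W_rev (S.w_mem_W a), Φ.pos_rev_iff, not_not] at h3
          · rw [S.sub_w, ← Φ.sub_rev]; exact hr.2) g hg
        rw [inv_inv] at h3
        have h4 := hU _ (Subgroup.mem_inf.mpr ⟨h3, mul_mem (mul_mem (Subgroup.inv_mem _ (hle hn1)) (hle hg1)) (hle hn1)⟩)
          c⁻¹ (Subgroup.inv_mem _ hcf) (inv_mem (tor_mem_H _))
        have e : c * g * c⁻¹ = n * (c⁻¹ * (n⁻¹ * g * n) * c⁻¹⁻¹) * n⁻¹ := by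
          have hc' : n * c⁻¹ * n⁻¹ = c := by
            rw [show n * c⁻¹ * n⁻¹ = (n * c * n⁻¹)⁻¹ by group, hconj, inv_inv]
          calc c * g * c⁻¹ = (n * c⁻¹ * n⁻¹) * g * (n * c⁻¹ * n⁻¹)⁻¹ := by rw [hc']
            _ = _ := by group
        rw [e]
        exact mul_mem (mul_mem hn1 h4) (inv_mem hn1)
    · intro x y _ _ hx hy
      rw [show c * (x * y) * c⁻¹ = (c * x * c⁻¹) * (c * y * c⁻¹) by group]
      exact mul_mem hx hy
    · intro x _ hx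
      rw [show c * x⁻¹ * c⁻¹ = (c * x * c⁻¹)⁻¹ by group]
      exact inv_mem hx
  rw [tor_sq_eq hconj]
  exact mul_mem hn (inv_mem hn1)

end Tw

end Chev

end CfsgLib.Chev
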