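/-
Normal forms in the unipotent group of type G2 in characteristic three.
-/
import Cfsg.Agent.Lib.Chev.Twist.Finite

namespace CfsgLib.Chev.T2G2

open Cfsg.Lie Matrix Chev

set_option linter.dupNamespace false
set_option linter.unusedSectionVars false
set_option maxRecDepth 100000

variable {K : Type*} [Field K]

/-- A root index. -/
abbrev rx (n : ℕ) (h : n < Cfsg.Lie.chevG2.nroots := by decide) : Fin Cfsg.Lie.chevG2.nroots := ⟨n, h⟩

/-- A root element. -/
noncomputable abbrev X (r : Fin Cfsg.Lie.chevG2.nroots) (c : K) : GL Cfsg.Lie.chevG2.Idx K :=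
  CfsgLib.Chev.chevG2.toAlg.xg r c

theorem rel (r s : Fin Cfsg.Lie.chevG2.nroots) (hne : s ≠ r) (hneg : s.val ≠ Cfsg.Lie.chevG2.neg r.val) (x y : K) :
    (X s y * X r x : GL Cfsg.Lie.chevG2.Idx K) = X r x * X s y *
      ((Cfsg.Lie.chevG2.commTerms r.val s.val).map fun c =>
        if h : c.1 < Cfsg.Lie.chevG2.nroots then X ⟨c.1, h⟩ ((c.2.1 : K) * (-x) ^ c.2.2.1 * y ^ c.2.2.2) else 1).prod := by
  refine Units.ext ?_
  have := CfsgLib.Chev.chevG2.commutator_formula (r := r) (s := s) (R := K) hne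
    (fun e => hneg ((congrArg Fin.val e).trans (CfsgLib.Chev.chevG2.negIdx_eq _).symm)) x y
  simp only [Units.val_mul, Alg.xg_val]
  rw [this, ← Chev.tval_val]
  rfl

theorem commute_of (r s : Fin Cfsg.Lie.chevG2.nroots) (hne : s.val ≠ Cfsg.Lie.chevG2.neg r.val)
    (h : (Cfsg.Lie.chevG2.chainEntry r.val s.val).isEmpty = true) (x y : K) : Commute (X r x) (X s y) :=
  CfsgLib.Chev.chevG2.xg_commute_of (fun e => hne ((congrArg Fin.val e).trans (CfsgLib.Chev.chevG2.negIdx_eq _).symm))
    (CfsgLib.Chev.chevG2.N_eq_zero_of_check h) x y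

variable (hc3 : (3 : K) = 0)

include hc3 in
theorem commute89 (x y : K) : Commute (X (rx 8) x) (X (rx 9) y) := by
  have h := rel (K := K) (rx 8) (rx 9) (by decide) (by decide +kernel) x y
  rw [show Cfsg.Lie.chevG2.commTerms 8 9 = [(11, 3, 1, 1)] by decide +kernel] at h
  show _ = _
  simpa [hc3, Alg.xg_zero] using h.symm

/-- The part of the four higher roots. -/
noncomputable def M4 (c d e f : K) : GL Cfsg.Lie.chevG2.Idx K :=
  X (rx 8) c * X (rx 9) d * X (rx 10) e * X (rx 11) f

include hc3 in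
theorem M4_mul (c d e f c' d' e' f' : K) :
    M4 c d e f * M4 c' d' e' f' = M4 (c + c') (d + d') (e + e') (f + f') := by
  have k1 := fun x y => commute_of (K := K) (rx 8) (rx 10) (by decide +kernel) (by decide +kernel) x y
  have k2 := fun x y => commute_of (K := K) (rx 8) (rx 11) (by decide +kernel) (by decide +kernel) x y
  have k3 := fun x y => commute_of (K := K) (rx 9) (rx 10) (by decide +kernel) (by decide +kernel) x y
  have k4 := fun x y => commute_of (K := K) (rx 9) (rx 11) (by decide +kernel) (by decide +kernel) x y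
  have k5 := fun x y => commute_of (K := K) (rx 10) (rx 11) (by decide +kernel) (by decide +kernel) x y
  have e1 : Commute (X (rx 9) d * X (rx 10) e * X (rx 11) f) (X (rx 8) c') :=
    ((commute89 hc3 c' d).symm.mul_left (k1 c' e).symm).mul_left (k2 c' f).symm
  have e2 : Commute (X (rx 10) e * X (rx 11) f) (X (rx 9) d') := (k3 d' e).symm.mul_left (k4 d' f).symm
  simp only [M4, X, Alg.xg_add]
  calc _ = X (rx 8) c * ((X (rx 9) d * X (rx 10) e * X (rx 11) f) * X (rx 8) c') *
        X (rx 9) d' * X (rx 10) e' * X (rx 11) f' := by simp only [X, mul_assoc]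
    _ = X (rx 8) c * X (rx 8) c' * X (rx 9) d * ((X (rx 10) e * X (rx 11) f) * X (rx 9) d') *
        X (rx 10) e' * X (rx 11) f' := by rw [e1.eq]; simp only [X, mul_assoc]
    _ = X (rx 8) c * X (rx 8) c' * (X (rx 9) d * X (rx 9) d') * X (rx 10) e *
        (X (rx 11) f * X (rx 10) e') * X (rx 11) f' := by rw [e2.eq]; simp only [X, mul_assoc]
    _ = _ := by rw [← (k5 e' f).eq]; simp only [X, mul_assoc]

/-- The normal form. -/
noncomputable def P (a b c d e f : K) : GL Cfsg.Lie.chevG2.Idx K :=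
  X (rx 6) a * X (rx 7) b * M4 c d e f

include hc3 in
theorem swap76 (a b : K) :
    (X (rx 7) b * X (rx 6) a : GL Cfsg.Lie.chevG2.Idx K) =
      P a b (-(a * b)) (-(a * b ^ 2)) (a * b ^ 3) (a ^ 2 * b ^ 3) := by
  rw [rel (rx 6) (rx 7) (by decide) (by decide +kernel),
    show Cfsg.Lie.chevG2.commTerms 6 7 = [(8, 1, 1, 1), (9, 1, 1, 2), (10, -1, 1, 3), (11, -2, 2, 3)] by
      decide +kernel]
  have l8 : (8 : ℕ) < Cfsg.Lie.chevG2.nroots := by decide
  have l9 : (9 : ℕ) < Cfsg.Lie.chevG2.nroots := by decide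
  have l10 : (10 : ℕ) < Cfsg.Lie.chevG2.nroots := by decide
  have l11 : (11 : ℕ) < Cfsg.Lie.chevG2.nroots := by decide
  have h2 : (-2 : K) = 1 := by linear_combination -hc3
  simp only [List.map_cons, List.map_nil, List.prod_cons, List.prod_nil, mul_one, dif_pos l8, dif_pos l9,
    dif_pos l10, dif_pos l11, Int.cast_one, Int.cast_neg, Int.cast_ofNat, h2, P, M4, mul_assoc]
  congr 5 <;> first | rfl | ring | (congr 1; ring) | skip

/-- The image word of a normal form under the twisted endomorphism. -/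
noncomputable def Q (a b c d f g : K) : GL Cfsg.Lie.chevG2.Idx K :=
  X (rx 7) a * X (rx 6) b * X (rx 10) c * X (rx 11) d * X (rx 8) f * X (rx 9) g

include hc3 in
theorem Q_eq (a b c d f g : K) :
    Q a b c d f g = P b a (f - b * a) (g - b * a ^ 2) (c + b * a ^ 3) (d + b ^ 2 * a ^ 3) := by
  have k1 := fun x y => commute_of (K := K) (rx 8) (rx 10) (by decide +kernel) (by decide +kernel) x y
  have k2 := fun x y => commute_of (K := K) (rx 8) (rx 11) (by decide +kernel) (by decide +kernel) x y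
  have k3 := fun x y => commute_of (K := K) (rx 9) (rx 10) (by decide +kernel) (by decide +kernel) x y
  have k4 := fun x y => commute_of (K := K) (rx 9) (rx 11) (by decide +kernel) (by decide +kernel) x y
  have e : X (rx 10) c * X (rx 11) d * (X (rx 8) f * X (rx 9) g) = M4 f g c d := by
    have h : Commute (X (rx 10) c * X (rx 11) d) (X (rx 8) f * X (rx 9) g) :=
      ((k1 f c).symm.mul_right (k3 g c).symm).mul_left ((k2 f d).symm.mul_right (k4 g d).symm)
    rw [h.eq, M4]; simp only [mul_assoc]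
  rw [Q, show ∀ a b c d f g : GL Cfsg.Lie.chevG2.Idx K, a * b * c * d * f * g = a * b * (c * d * (f * g)) from
    fun a b c d f g => by simp only [mul_assoc], e, swap76 hc3, P, P, mul_assoc, M4_mul hc3]
  congr 2 <;> ring

theorem ree_form (hc3 : (3 : K) = 0) (t s c d u v : K) :
    X (rx 7) s * X (rx 6) t * X (rx 8) c * X (rx 9) d * X (rx 10) u * X (rx 11) v =
      P t s (c - t * s) (d - t * s ^ 2) (u + t * s ^ 3) (v + t ^ 2 * s ^ 3) := by
  rw [show ∀ a b c d f g : GL Cfsg.Lie.chevG2.Idx K, a * b * c * d * f * g = a * b * (c * d * f * g) from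
    fun a b c d f g => by simp only [mul_assoc], swap76 hc3, P, P, mul_assoc]
  show _ * (M4 _ _ _ _ * M4 c d u v) = _
  rw [M4_mul hc3]
  congr 2 <;> ring

/-- The parameters of a normal form. -/
def tvec (a b c d e f : K) : Fin Cfsg.Lie.chevG2.nroots → K :=
  fun r => [0, 0, 0, 0, 0, 0, a, b, c, d, e, f].getD r.val 0

open Classical in
theorem rootList_pos : rootList CfsgLib.Chev.chevG2.toTables.Pos = [rx 6, rx 7, rx 8, rx 9, rx 10, rx 11] := by
  have e : rootList CfsgLib.Chev.chevG2.toTables.Pos =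
      (List.finRange Cfsg.Lie.chevG2.nroots).filter fun r => Nat.ble Cfsg.Lie.chevG2.nroots (2 * r.val) := by
    refine List.filter_congr fun r _ => ?_
    rw [Bool.eq_iff_iff, decide_eq_true_iff, Nat.ble_eq]
    rfl
  rw [e]
  decide +kernel

open Classical in
theorem P_eq_prodL (a b c d e f : K) :
    P a b c d e f = CfsgLib.Chev.chevG2.prodL (rootList CfsgLib.Chev.chevG2.toTables.Pos) (tvec a b c d e f) := by
  rw [rootList_pos]
  simp [P, M4, prodL, tvec, mul_assoc]

open Classical in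
theorem P_injective {a b c d e f a' b' c' d' e' f' : K} (h : P a b c d e f = P a' b' c' d' e' f') :
    a = a' ∧ b = b' ∧ c = c' ∧ d = d' ∧ e = e' ∧ f = f' := by
  rw [P_eq_prodL, P_eq_prodL] at h
  have := fun r hr => CfsgLib.Chev.chevG2.prodL_injective (pairwise_rootList _)
    (fun r hr => mem_rootList.mp hr) h r hr
  have hm : ∀ n (hn : n < Cfsg.Lie.chevG2.nroots), 6 ≤ n →
      tvec a b c d e f ⟨n, hn⟩ = tvec a' b' c' d' e' f' ⟨n, hn⟩ := fun n hn h6 =>
    this _ (mem_rootList.mpr (by show Cfsg.Lie.chevG2.nroots ≤ 2 * n; exact (show 12 ≤ 2 * n by omega)))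
  exact ⟨hm 6 (by decide) le_rfl, hm 7 (by decide) (by omega), hm 8 (by decide) (by omega),
    hm 9 (by decide) (by omega), hm 10 (by decide) (by omega), hm 11 (by decide) (by omega)⟩

open Classical in
theorem exists_P {g : GL Cfsg.Lie.chevG2.Idx K}
    (hg : g ∈ CfsgLib.Chev.chevG2.US K CfsgLib.Chev.chevG2.toTables.Pos) :
    ∃ a b c d e f, g = P a b c d e f := by
  obtain ⟨t, rfl⟩ := (CfsgLib.Chev.chevG2.mem_US_iff (fun _ h => h) CfsgLib.Chev.chevG2.closed_pos).mp hg
  refine ⟨t (rx 6), t (rx 7), t (rx 8), t (rx 9), t (rx 10), t (rx 11), ?_⟩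
  rw [rootList_pos]
  simp [P, M4, prodL, mul_assoc]

end CfsgLib.Chev.T2G2
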