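/-
Equalities of words in root elements with integer parameters, checked modulo a prime.
-/
import Cfsg.Agent.Lib.Chev.Inst
import Cfsg.Agent.Lib.Chev.BNPairChev

namespace CfsgLib.Chev

open Cfsg.Lie Matrix

set_option linter.dupNamespace false

variable {D : ChevalleyDatum}

namespace Pack

variable (P : Pack)

/-- Two words have the same matrix modulo `p`. -/
noncomputable def eqMod (p : ℕ) (w v : List (ℕ × ℤ)) : Bool :=
  allN (Nat.add P.n P.l) fun b =>
    (fun L M => allN (Nat.add P.n P.l) fun x => Nat.beq ((coef x L - coef x M).natAbs % p) 0)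
      (P.wordCol w b) (P.wordCol v b)

variable {hn : 0 < D.nroots} {hd : P.datumOK D = true} {ht : P.tabOK = true} {hr : P.rootsOK = true}

local notation "Φ" => P.toSys D hn hd ht hr

include hn hd ht hr in
theorem map_wordZ_eq {F : Type*} [Field F] (p : ℕ) [CharP F p] (w v : List (Fin D.nroots × ℤ))
    (h : P.eqMod p (w.map fun a => (a.1.val, a.2)) (v.map fun a => (a.1.val, a.2)) = true) :
    (wordZ (Φ) w).map (fun c : ℤ => (c : F)) = (wordZ (Φ) v).map (fun c : ℤ => (c : F)) := by
  obtain ⟨hl', hn'⟩ := P.rank_eq (hd := hd)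
  refine Matrix.ext fun x y => ?_
  have hlt : ∀ z : D.Idx, enc z < P.n + P.l := fun z => by
    rcases z with k | k <;> have := k.isLt <;> simp only [enc, Sum.elim_inl, Sum.elim_inr] <;> omega
  simp only [eqMod, allN_iff] at h
  have h1 := h (enc y) (hlt y) (enc x) (hlt x)
  rw [(P.wordCol_spec (hn := hn) (hd := hd) (ht := ht) (hr := hr) y w).2,
    (P.wordCol_spec (hn := hn) (hd := hd) (ht := ht) (hr := hr) y v).2] at h1
  rw [Matrix.map_apply, Matrix.map_apply, ← sub_eq_zero, ← Int.cast_sub, CharP.intCast_eq_zero_iff F p]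
  exact Int.natCast_dvd.mpr (Nat.dvd_of_mod_eq_zero (Nat.eq_of_beq_eq_true h1))

end Pack

namespace Chev

/-- The product of the root elements of a word with integer parameters. -/
def wordG (Φ : Chev D) (F : Type*) [Field F] (w : List (Fin D.nroots × ℤ)) : GL D.Idx F :=
  (w.map fun a => Φ.toAlg.xg a.1 (a.2 : F)).prod

theorem wordG_val (Φ : Chev D) (F : Type*) [Field F] (w : List (Fin D.nroots × ℤ)) :
    (Φ.wordG F w : Matrix D.Idx D.Idx F) = (Pack.wordZ Φ.toSys w).map (fun c : ℤ => (c : F)) := by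
  induction w with
  | nil => simp [wordG, Pack.wordZ]
  | cons a w ih =>
    simp only [wordG, Pack.wordZ, List.map_cons, List.prod_cons, Units.val_mul, Alg.xg_val] at ih ⊢
    rw [ih, show (a.2 : F) = Int.castRingHom F a.2 from rfl, ← Φ.toSys.X_map (Int.castRingHom F)]
    exact (Matrix.map_mul (f := Int.castRingHom F)).symm

theorem wordG_append (Φ : Chev D) (F : Type*) [Field F] (w v : List (Fin D.nroots × ℤ)) :
    Φ.wordG F (w ++ v) = Φ.wordG F w * Φ.wordG F v := by
  simp [wordG]

/-- Equality of words from the check. -/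
theorem wordG_eq_of_eqMod (Φ : Chev D) {P : Pack} {hn : 0 < D.nroots} {hd : P.datumOK D = true}
    {ht : P.tabOK = true} {hr : P.rootsOK = true} (hΦ : Φ.toSys = P.toSys D hn hd ht hr)
    {F : Type*} [Field F] (p : ℕ) [CharP F p] (w v : List (Fin D.nroots × ℤ))
    (h : P.eqMod p (w.map fun a => (a.1.val, a.2)) (v.map fun a => (a.1.val, a.2)) = true) :
    Φ.wordG F w = Φ.wordG F v := by
  refine Units.ext ?_
  rw [wordG_val, wordG_val, hΦ]
  exact P.map_wordZ_eq p w v h

/-- The word of `n_p(±1)`. -/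
def nWZ (r : Fin D.nroots) (c : ℤ) : List (Fin D.nroots × ℤ) := [(r, c), (r.rev, -c), (r, c)]

theorem wordG_nWZ_one (Φ : Chev D) (F : Type*) [Field F] (r : Fin D.nroots) :
    Φ.wordG F (nWZ r 1) = Φ.nw r (1 : Fˣ) := by
  simp [wordG, nWZ, nw, mul_assoc]

theorem wordG_nWZ_neg_one (Φ : Chev D) (F : Type*) [Field F] (r : Fin D.nroots) :
    Φ.wordG F (nWZ r (-1)) = Φ.nw r (-1 : Fˣ) := by
  simp [wordG, nWZ, nw, mul_assoc, inv_neg]

end Chev

end CfsgLib.Chev
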