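/-
The twisted groups of type ²G₂ as fixed groups.
-/
import Cfsg.Agent.Lib.Chev.Twist.UnipG2
import Cfsg.Agent.Lib.Chev.Twist.DataG2
import Cfsg.Agent.Lib.Chev.Twist.DataNegG2
import Cfsg.Agent.Lib.Chev.Twist.WordMod
import Cfsg.Agent.Lib.Chev.Twist.Invert
import Cfsg.Agent.Lib.Chev.Twist.Simple
import Cfsg.Agent.Lib.Chev.SteinbergData
import Cfsg.Prelude.Def_LieTwisted

namespace CfsgLib.Chev.T2G2

open Cfsg.Lie Matrix Chev

set_option linter.dupNamespace false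
set_option linter.unusedSectionVars false
set_option maxRecDepth 100000

/-- The symmetry. -/
noncomputable abbrev S : CfsgLib.Chev.chevG2.Sym := symOKG2.sym CfsgLib.Chev.chevG2

variable {K : Type*} [Field K] [Fintype K] {m : ℕ}

theorem charP_three (hK : Fintype.card K = 3 ^ (2 * m + 1)) : CharP K 3 :=
  haveI := Fact.mk Nat.prime_three
  charP_of_card_eq_prime_pow (f := 2 * m + 1) hK

theorem morOK_three (hK : Fintype.card K = 3 ^ (2 * m + 1)) : MorOK K 3 := by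
  haveI := Fact.mk Nat.prime_three
  haveI := charP_three hK
  exact morOK_prime K 3 fun x =>
    (Finite.injective_iff_surjective.mp (frobenius K 3).injective : Function.Surjective (frobenius K 3)) x

theorem exists_e (hK : Fintype.card K = 3 ^ (2 * m + 1)) : ∃ f : K →+* K, ∀ x, f x = x ^ 3 ^ m := by
  haveI := Fact.mk Nat.prime_three
  haveI := charP_three hK
  exact ⟨iterateFrobenius K 3 m, fun x => iterateFrobenius_def 3 m x⟩

/-- The twisted endomorphism. -/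
noncomputable def tw (hK : Fintype.card K = 3 ^ (2 * m + 1)) : Tw S K :=
  symOKG2.tw (CfsgLib.Chev.chevG2.adj_of_check adjG2) (morOK_three hK) checkMorG2 (exists_e hK).choose (3 ^ m)
    (exists_e hK).choose_spec

variable (hK : Fintype.card K = 3 ^ (2 * m + 1))

include hK in
theorem hc3 : (3 : K) = 0 := by
  haveI := charP_three hK
  exact_mod_cast CharP.cast_eq_zero K 3

include hK in
theorem pow_q (x : K) : (x ^ 3 ^ m) ^ (3 * 3 ^ m) = x ∧ (x ^ (3 * 3 ^ m)) ^ 3 ^ m = x := by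
  have h : 3 ^ m * (3 * 3 ^ m) = 3 ^ (2 * m + 1) := by rw [pow_succ, two_mul, pow_add]; ring
  rw [← pow_mul, ← pow_mul, mul_comm (3 * 3 ^ m) (3 ^ m), h, ← hK, FiniteField.pow_card]
  exact ⟨rfl, rfl⟩

include hK in
theorem pow_three_add (x y : K) : (x + y) ^ 3 ^ m = x ^ 3 ^ m + y ^ 3 ^ m := by
  obtain ⟨f, hf⟩ := exists_e hK
  rw [← hf, ← hf, ← hf, map_add]

include hK in
theorem pow_three_int (z : ℤ) : (z : K) ^ 3 ^ m = z := by
  obtain ⟨f, hf⟩ := exists_e hK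
  rw [← hf, map_intCast]

theorem app_X (r : Fin Cfsg.Lie.chevG2.nroots) (s : Fin Cfsg.Lie.chevG2.nroots) (c : K) (l : ℕ)
    (hs : morG2.ρ r.val = s.val) (hl : morG2.l r.val = l) (he : morG2.e r.val = 1) :
    (tw hK).app (X r c) = X s (c ^ (l * 3 ^ m)) := by
  rw [Tw.app_xg, show S.ρ r = s from Fin.ext hs, show (tw hK).ε r = morG2.e r.val from rfl,
    show (tw hK).k r = morG2.l r.val * 3 ^ m from rfl, hl, he, Int.cast_one, one_mul]

theorem app_P (a b c d e f : K) : (tw hK).app (P a b c d e f) =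
    Q (a ^ 3 ^ m) (b ^ (3 * 3 ^ m)) (c ^ (3 * 3 ^ m)) (d ^ (3 * 3 ^ m)) (e ^ 3 ^ m) (f ^ 3 ^ m) := by
  have g := fun r (c : K) => CfsgLib.Chev.chevG2.toAlg.xg_mem_group r c
  simp only [P, M4, ← mul_assoc]
  rw [Tw.app_mul _ (mul_mem (mul_mem (mul_mem (mul_mem (g _ _) (g _ _)) (g _ _)) (g _ _)) (g _ _)) (g _ _),
    Tw.app_mul _ (mul_mem (mul_mem (mul_mem (g _ _) (g _ _)) (g _ _)) (g _ _)) (g _ _),
    Tw.app_mul _ (mul_mem (mul_mem (g _ _) (g _ _)) (g _ _)) (g _ _),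
    Tw.app_mul _ (mul_mem (g _ _) (g _ _)) (g _ _), Tw.app_mul _ (g _ _) (g _ _),
    app_X hK (rx 6) (rx 7) a 1 (by decide +kernel) (by decide +kernel) (by decide +kernel),
    app_X hK (rx 7) (rx 6) b 3 (by decide +kernel) (by decide +kernel) (by decide +kernel),
    app_X hK (rx 8) (rx 10) c 3 (by decide +kernel) (by decide +kernel) (by decide +kernel),
    app_X hK (rx 9) (rx 11) d 3 (by decide +kernel) (by decide +kernel) (by decide +kernel),
    app_X hK (rx 10) (rx 8) e 1 (by decide +kernel) (by decide +kernel) (by decide +kernel),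
    app_X hK (rx 11) (rx 9) f 1 (by decide +kernel) (by decide +kernel) (by decide +kernel)]
  simp only [Q, one_mul]

theorem P_mem (a b c d e f : K) :
    P a b c d e f ∈ CfsgLib.Chev.chevG2.US K CfsgLib.Chev.chevG2.toTables.Pos := by
  have g := fun (n : ℕ) (hn : n < Cfsg.Lie.chevG2.nroots) (h6 : 6 ≤ n) (c : K) =>
    CfsgLib.Chev.chevG2.xg_mem_US (F := K) (S := CfsgLib.Chev.chevG2.toTables.Pos) (r := ⟨n, hn⟩)
      (show Cfsg.Lie.chevG2.nroots ≤ 2 * n from (show 12 ≤ 2 * n by omega)) c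
  exact mul_mem (mul_mem (g 6 _ le_rfl a) (g 7 _ (by omega) b))
    (mul_mem (mul_mem (mul_mem (g 8 _ (by omega) c) (g 9 _ (by omega) d)) (g 10 _ (by omega) e)) (g 11 _ (by omega) f))

/-- The word of the generators on the positive side. -/
noncomputable def U6 (m : ℕ) (t u v : K) : GL Cfsg.Lie.chevG2.Idx K :=
  X (rx 7) (t ^ 3 ^ m) * X (rx 6) t * X (rx 8) (t ^ (3 ^ m + 1) + u ^ 3 ^ m) *
    X (rx 9) (t ^ (2 * 3 ^ m + 1) + v ^ 3 ^ m) * X (rx 10) u * X (rx 11) v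

include hK in
theorem U6_eq (t u v : K) : U6 m t u v =
    P t (t ^ 3 ^ m) (u ^ 3 ^ m) (v ^ 3 ^ m) (u + t * (t ^ 3 ^ m) ^ 3) (v + t ^ 2 * (t ^ 3 ^ m) ^ 3) := by
  rw [U6, ree_form (hc3 hK)]
  congr 1 <;> ring

theorem P_fix_iff (a b c d e f : K) : (tw hK).app (P a b c d e f) = P a b c d e f ↔
    b = a ^ 3 ^ m ∧ c = e ^ 3 ^ m - a * b ∧ d = f ^ 3 ^ m - a * b ^ 2 := by
  rw [app_P, Q_eq (hc3 hK)]
  constructor
  · intro h
    obtain ⟨h1, h2, h3, h4, -, -⟩ := P_injective h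
    rw [h1, h2] at h3 h4
    exact ⟨h2.symm, h3.symm, h4.symm⟩
  · rintro ⟨rfl, hc, hd⟩
    have hp : ∀ x : K, (-x) ^ (3 * 3 ^ m) = -(x ^ (3 * 3 ^ m)) := fun x => by
      rw [Odd.neg_pow (Odd.mul (by decide) (Odd.pow (by decide)))]
    have hs : ∀ x y : K, (x - y) ^ (3 * 3 ^ m) = x ^ (3 * 3 ^ m) - y ^ (3 * 3 ^ m) := fun x y => by
      haveI := Fact.mk Nat.prime_three
      haveI := charP_three hK
      rw [show 3 * 3 ^ m = 3 ^ (m + 1) by rw [pow_succ, mul_comm], sub_pow_char_pow]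
    obtain ⟨qa, -⟩ := pow_q hK a
    have qe : ∀ x : K, (x ^ (3 * 3 ^ m)) = (x ^ 3 ^ m) ^ 3 := fun x => by rw [← pow_mul, mul_comm]
    have eC : c ^ (3 * 3 ^ m) = e - (a ^ 3 ^ m) ^ 3 * a := by
      rw [hc, hs, (pow_q hK e).1, mul_pow, qa, qe]
    have eD : d ^ (3 * 3 ^ m) = f - (a ^ 3 ^ m) ^ 3 * a ^ 2 := by
      rw [hd, hs, (pow_q hK f).1, mul_pow, ← pow_mul (a ^ 3 ^ m) 2, mul_comm 2, pow_mul (a ^ 3 ^ m) (3 * 3 ^ m), qa, qe]
    rw [qa, eC, eD, hc, hd]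
    congr 1 <;> ring

theorem U6_fix (t u v : K) : U6 m t u v ∈ (tw hK).fix := by
  rw [U6_eq hK]
  refine ⟨CfsgLib.Chev.chevG2.US_le_group _ (P_mem _ _ _ _ _ _), (P_fix_iff hK _ _ _ _ _ _).mpr ⟨rfl, ?_, ?_⟩⟩
  · rw [pow_three_add hK, mul_pow, ← pow_mul (t ^ 3 ^ m), (pow_q hK t).1]; ring
  · rw [pow_three_add hK, mul_pow, ← pow_mul (t ^ 3 ^ m), (pow_q hK t).1, ← pow_mul t 2, mul_comm 2, pow_mul]; ring

theorem fix_pos_iff {g : GL Cfsg.Lie.chevG2.Idx K} :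
    g ∈ CfsgLib.Chev.chevG2.US K CfsgLib.Chev.chevG2.toTables.Pos ⊓ (tw hK).fix ↔ ∃ t u v, g = U6 m t u v := by
  constructor
  · rintro ⟨hg, hf⟩
    obtain ⟨a, b, c, d, e, f, rfl⟩ := exists_P hg
    obtain ⟨rfl, rfl, rfl⟩ := (P_fix_iff hK a b c d e f).mp hf.2
    refine ⟨a, e - a * (a ^ 3 ^ m) ^ 3, f - a ^ 2 * (a ^ 3 ^ m) ^ 3, ?_⟩
    rw [U6_eq hK]
    have hs : ∀ x y : K, (x - y) ^ 3 ^ m = x ^ 3 ^ m - y ^ 3 ^ m := fun x y => by
      rw [eq_sub_iff_add_eq, ← pow_three_add hK, sub_add_cancel]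
    rw [hs, hs, mul_pow, mul_pow, ← pow_mul (a ^ 3 ^ m), (pow_q hK a).1, ← pow_mul a 2, mul_comm 2,
      pow_mul a (3 ^ m)]
    congr 1 <;> ring
  · rintro ⟨t, u, v, rfl⟩
    exact Subgroup.mem_inf.mpr ⟨by rw [U6_eq hK]; exact P_mem _ _ _ _ _ _, U6_fix hK t u v⟩

theorem PJ_eq (a : Fin S.m) : S.PJ a = CfsgLib.Chev.chevG2.toTables.Pos := by
  refine funext fun r => propext ⟨fun h => h.1, fun h => ⟨h, fun j hj => (hj ?_).elim⟩⟩
  show j.val ∈ symG2.orb a.val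
  have : ∀ (a : Fin 1) (j : Fin Cfsg.Lie.chevG2.rank), j.val ∈ symG2.orb a.val := by decide +kernel
  exact this a j

/-- A negated word. -/
noncomputable def V6 (m : ℕ) (t u v : K) : GL Cfsg.Lie.chevG2.Idx K :=
  X (rx 7).rev (-(t ^ 3 ^ m)) * X (rx 6).rev (-t) * X (rx 8).rev (-(t ^ (3 ^ m + 1) + u ^ 3 ^ m)) *
    X (rx 9).rev (-(t ^ (2 * 3 ^ m + 1) + v ^ 3 ^ m)) * X (rx 10).rev (-u) * X (rx 11).rev (-v)

theorem V6_mem_US (a : Fin S.m) (t u v : K) :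
    V6 m t u v ∈ CfsgLib.Chev.chevG2.US K (fun r => S.PJ a r.rev) := by
  have g := fun (n : ℕ) (hn : n < Cfsg.Lie.chevG2.nroots) (h6 : 6 ≤ n) (c : K) =>
    CfsgLib.Chev.chevG2.xg_mem_US (F := K) (S := fun r => S.PJ a r.rev)
      (r := (⟨n, hn⟩ : Fin Cfsg.Lie.chevG2.nroots).rev) (by
        rw [Fin.rev_rev, PJ_eq]
        exact (show 12 ≤ 2 * n by omega)) c
  exact mul_mem (mul_mem (mul_mem (mul_mem (mul_mem (g 7 _ (by omega) _) (g 6 _ le_rfl _)) (g 8 _ (by omega) _))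
    (g 9 _ (by omega) _)) (g 10 _ (by omega) _)) (g 11 _ (by omega) _)

theorem V6_fix (t u v : K) : V6 m t u v ∈ (tw hK).fix := by
  obtain ⟨α, -, hα⟩ := CfsgLib.Chev.chevG2.exists_mor (F := K) (CfsgLib.Chev.chevG2.adj_of_check adjG2)
    (morOK_zero K) checkMorNegG2
  have hneg : ∀ r : Fin Cfsg.Lie.chevG2.nroots, ∀ c (hg : X r c ∈ Cfsg.Lie.chevG2.group K),
      (α ⟨X r c, hg⟩ : GL Cfsg.Lie.chevG2.Idx K) = X r.rev (-c) := by
    intro r c hg
    have h := hα r c ⟨X r c, hg⟩ rfl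
    rw [h]
    have e : ∀ r : Fin Cfsg.Lie.chevG2.nroots,
        morNegG2.ρ r.val = r.rev.val ∧ morNegG2.e r.val = -1 ∧ morNegG2.l r.val = 1 := by decide +kernel
    obtain ⟨e1, e2, e3⟩ := e r
    rw [show (⟨morNegG2.ρ r.val, (check_root checkMorNegG2 r.isLt).1⟩ : Fin _) = r.rev from Fin.ext e1, e2, e3,
      pow_one, Int.cast_neg, Int.cast_one, neg_one_mul]
  have hcomm : ∀ g (hg : g ∈ Cfsg.Lie.chevG2.group K), (tw hK).s (α ⟨g, hg⟩) = α ((tw hK).s ⟨g, hg⟩) := by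
    intro g hg
    have hc : (tw hK).s.comp α = α.comp (tw hK).s := by
      refine MonoidHom.ext fun ⟨g, hg⟩ => ?_
      have hg' := hg
      rw [CfsgLib.Chev.chevG2.toAlg.group_eq] at hg'
      induction hg' using Subgroup.closure_induction with
      | mem x hx =>
        obtain ⟨r, c, rfl⟩ := hx
        refine Subtype.ext ?_
        simp only [MonoidHom.comp_apply]
        have e1 : (α ⟨X r c, hg⟩) = ⟨X r.rev (-c), CfsgLib.Chev.chevG2.toAlg.xg_mem_group _ _⟩ :=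
          Subtype.ext (hneg r c _)
        have e2 : (tw hK).s ⟨X r c, hg⟩ = ⟨X (S.ρ r) (((tw hK).ε r : K) * c ^ (tw hK).k r),
            CfsgLib.Chev.chevG2.toAlg.xg_mem_group _ _⟩ := Subtype.ext ((tw hK).s_xg r c)
        rw [e1, e2, hneg, (tw hK).s_xg]
        have t0 : ∀ r : Fin Cfsg.Lie.chevG2.nroots, morG2.e r.val = 1 ∧ morG2.l r.rev.val = morG2.l r.val ∧
            morG2.e r.rev.val = 1 ∧ morG2.ρ r.rev.val + morG2.ρ r.val + 1 = 12 ∧ morG2.l r.val % 2 = 1 := by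
          decide +kernel
        obtain ⟨t1, t2, t3, t4, t5⟩ := t0 r
        rw [show (tw hK).ε r.rev = morG2.e r.rev.val from rfl, show (tw hK).ε r = morG2.e r.val from rfl,
          show (tw hK).k r.rev = morG2.l r.rev.val * 3 ^ m from rfl,
          show (tw hK).k r = morG2.l r.val * 3 ^ m from rfl, t1, t2, t3, Int.cast_one, one_mul, one_mul,
          Odd.neg_pow (Odd.mul (Nat.odd_iff.mpr t5) (Odd.pow (by decide)))]
        congr 1
        refine Fin.ext ?_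
        rw [Fin.val_rev]
        show morG2.ρ r.rev.val = 12 - (morG2.ρ r.val + 1)
        omega
      | one => exact (map_one _).trans (map_one _).symm
      | mul a b ha hb iha ihb =>
        have ha' : a ∈ Cfsg.Lie.chevG2.group K := by rw [CfsgLib.Chev.chevG2.toAlg.group_eq]; exact ha
        have hb' : b ∈ Cfsg.Lie.chevG2.group K := by rw [CfsgLib.Chev.chevG2.toAlg.group_eq]; exact hb
        show ((tw hK).s.comp α) (⟨a, ha'⟩ * ⟨b, hb'⟩) = (α.comp (tw hK).s) (⟨a, ha'⟩ * ⟨b, hb'⟩)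
        rw [map_mul, map_mul, iha ha', ihb hb']
      | inv a ha iha =>
        have ha' : a ∈ Cfsg.Lie.chevG2.group K := by rw [CfsgLib.Chev.chevG2.toAlg.group_eq]; exact ha
        show ((tw hK).s.comp α) ⟨a, ha'⟩⁻¹ = (α.comp (tw hK).s) ⟨a, ha'⟩⁻¹
        rw [map_inv, map_inv, iha ha']
    exact DFunLike.congr_fun hc _
  have g := fun r (c : K) => CfsgLib.Chev.chevG2.toAlg.xg_mem_group r c
  have hU := U6_fix hK t u v
  have hV : (α ⟨U6 m t u v, hU.1⟩ : GL Cfsg.Lie.chevG2.Idx K) = V6 m t u v := by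
    have e : (⟨U6 m t u v, hU.1⟩ : Cfsg.Lie.chevG2.group K) = ⟨X (rx 7) (t ^ 3 ^ m), g _ _⟩ * ⟨X (rx 6) t, g _ _⟩ *
      ⟨X (rx 8) (t ^ (3 ^ m + 1) + u ^ 3 ^ m), g _ _⟩ * ⟨X (rx 9) (t ^ (2 * 3 ^ m + 1) + v ^ 3 ^ m), g _ _⟩ *
      ⟨X (rx 10) u, g _ _⟩ * ⟨X (rx 11) v, g _ _⟩ := rfl
    rw [e]
    simp only [map_mul, Subgroup.coe_mul, hneg]
    rfl
  rw [← hV]
  refine ⟨SetLike.coe_mem _, ?_⟩
  rw [Tw.app_eq _ (SetLike.coe_mem _), Subtype.coe_eta, hcomm _ hU.1]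
  exact congrArg Subtype.val (congrArg α (Subtype.ext (((tw hK).app_eq hU.1).symm.trans hU.2)))

/-- The generators. -/
def gens (K : Type*) [Field K] (e : ℕ) : Set (GL Cfsg.Lie.chevG2.Idx K) :=
  {g | ∃ w ∈ g2Words K e, (g : Matrix Cfsg.Lie.chevG2.Idx Cfsg.Lie.chevG2.Idx K) = Cfsg.Lie.chevG2.wordMat K w}

theorem twisted_eq : twistedG2 K (3 ^ m) = Subgroup.closure (gens K (3 ^ m)) := rfl

theorem U6_val (t u v : K) : (U6 m t u v : Matrix Cfsg.Lie.chevG2.Idx Cfsg.Lie.chevG2.Idx K) =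
    Cfsg.Lie.chevG2.wordMat K (reeWordU (3 ^ m) t u v) := by
  simp only [U6, Units.val_mul, ← Alg.x_val, ChevalleyDatum.wordMat, reeWordU, List.map_cons, List.map_nil,
    List.prod_cons, List.prod_nil, mul_one, Matrix.mul_assoc, g2a, g2b, g2ab, g2aab, g2aaab, g2aaabb]

theorem V6_val (t u v : K) : (V6 m t u v : Matrix Cfsg.Lie.chevG2.Idx Cfsg.Lie.chevG2.Idx K) =
    Cfsg.Lie.chevG2.wordMat K (reeWordV (3 ^ m) t u v) := by
  simp only [V6, Units.val_mul, ← Alg.x_val, ChevalleyDatum.wordMat, reeWordV, reeWordU, ChevalleyDatum.negWord,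
    List.map_cons, List.map_nil, List.prod_cons, List.prod_nil, mul_one, Matrix.mul_assoc, g2a, g2b, g2ab, g2aab,
    g2aaab, g2aaabb]
  have e : ∀ n : Fin Cfsg.Lie.chevG2.nroots, Cfsg.Lie.chevG2.negIdx.getD n.val 0 = n.rev.val := by decide +kernel
  rw [← e (rx 7), ← e (rx 6), ← e (rx 8), ← e (rx 9), ← e (rx 10), ← e (rx 11)]

theorem U6_mem (t u v : K) : U6 m t u v ∈ twistedG2 K (3 ^ m) :=
  Subgroup.subset_closure ⟨_, ⟨t, u, v, Or.inl rfl⟩, U6_val t u v⟩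

theorem V6_mem (t u v : K) : V6 m t u v ∈ twistedG2 K (3 ^ m) :=
  Subgroup.subset_closure ⟨_, ⟨t, u, v, Or.inr rfl⟩, V6_val t u v⟩

theorem gens_cases {g : GL Cfsg.Lie.chevG2.Idx K} (hg : g ∈ gens K (3 ^ m)) :
    ∃ t u v, g = U6 m t u v ∨ g = V6 m t u v := by
  obtain ⟨w, ⟨t, u, v, rfl | rfl⟩, hg⟩ := hg
  · exact ⟨t, u, v, Or.inl (Units.ext (hg.trans (U6_val t u v).symm))⟩
  · exact ⟨t, u, v, Or.inr (Units.ext (hg.trans (V6_val t u v).symm))⟩

theorem gens_US (a : Fin S.m) {g : GL Cfsg.Lie.chevG2.Idx K} (hg : g ∈ gens K (3 ^ m)) :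
    g ∈ CfsgLib.Chev.chevG2.US K (S.PJ a) ∨ g ∈ CfsgLib.Chev.chevG2.US K (fun r => S.PJ a r.rev) := by
  obtain ⟨t, u, v, rfl | rfl⟩ := gens_cases hg
  · left
    rw [PJ_eq]
    have g := fun (n : ℕ) (hn : n < Cfsg.Lie.chevG2.nroots) (h6 : 6 ≤ n) (c : K) =>
      CfsgLib.Chev.chevG2.xg_mem_US (F := K) (S := CfsgLib.Chev.chevG2.toTables.Pos) (r := ⟨n, hn⟩)
        (show Cfsg.Lie.chevG2.nroots ≤ 2 * n from (show 12 ≤ 2 * n by omega)) c
    exact mul_mem (mul_mem (mul_mem (mul_mem (mul_mem (g 7 _ (by omega) _) (g 6 _ le_rfl _)) (g 8 _ (by omega) _))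
      (g 9 _ (by omega) _)) (g 10 _ (by omega) _)) (g 11 _ (by omega) _)
  · exact Or.inr (V6_mem_US a t u v)

/-- The word of a generator on the positive side with integer parameters. -/
def wU (t u v : ℤ) : List (Fin Cfsg.Lie.chevG2.nroots × ℤ) :=
  [(rx 7, t), (rx 6, t), (rx 8, t * t + u), (rx 9, t * (t * t) + v), (rx 10, u), (rx 11, v)]

/-- The word of a generator on the negative side with integer parameters. -/
def wV (t u v : ℤ) : List (Fin Cfsg.Lie.chevG2.nroots × ℤ) := (wU t u v).map fun a => (a.1.rev, -a.2)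

include hK in
theorem wU_mem (t u v : ℤ) : CfsgLib.Chev.chevG2.wordG K (wU t u v) ∈ twistedG2 K (3 ^ m) ∧
    CfsgLib.Chev.chevG2.wordG K (wV t u v) ∈ twistedG2 K (3 ^ m) := by
  have e1 : (t : K) ^ (3 ^ m + 1) + (u : K) ^ 3 ^ m = ((t * t + u : ℤ) : K) := by
    rw [pow_succ, pow_three_int hK, pow_three_int hK]; push_cast; ring
  have e2 : (t : K) ^ (2 * 3 ^ m + 1) + (v : K) ^ 3 ^ m = ((t * (t * t) + v : ℤ) : K) := by
    rw [pow_succ, mul_comm 2, pow_mul, pow_three_int hK, pow_three_int hK]; push_cast; ring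
  constructor
  · have : CfsgLib.Chev.chevG2.wordG K (wU t u v) = U6 m (t : K) u v := by
      rw [U6, pow_three_int hK t, e1, e2]
      simp [wordG, wU, X, mul_assoc]
    rw [this]; exact U6_mem _ _ _
  · have : CfsgLib.Chev.chevG2.wordG K (wV t u v) = V6 m (t : K) u v := by
      rw [V6, pow_three_int hK t, e1, e2]
      simp [wordG, wV, wU, X, mul_assoc]
    rw [this]; exact V6_mem _ _ _

/-- The word of the longest element. -/
def wN : List (Fin Cfsg.Lie.chevG2.nroots × ℤ) :=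
  nWZ (rx 7) 1 ++ nWZ (rx 6) 1 ++ nWZ (rx 7) 1 ++ nWZ (rx 6) 1 ++ nWZ (rx 7) 1 ++ nWZ (rx 6) 1

/-- The word of the central involution of the torus. -/
def wH : List (Fin Cfsg.Lie.chevG2.nroots × ℤ) :=
  nWZ (rx 7) (-1) ++ nWZ (rx 7) (-1) ++ (nWZ (rx 6) (-1) ++ nWZ (rx 6) (-1))

theorem eqMod_n : packG2.eqMod 3 ((wU 0 1 0 ++ wV 0 1 0 ++ wU 0 1 0).map fun a => (a.1.val, a.2))
    (wN.map fun a => (a.1.val, a.2)) = true := by decide +kernel

theorem eqMod_h : packG2.eqMod 3 ((wU 0 1 1 ++ wV 2 1 1 ++ wU 0 2 1).map fun a => (a.1.val, a.2))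
    ((wH ++ wN).map fun a => (a.1.val, a.2)) = true := by decide +kernel

theorem simple_idx : CfsgLib.Chev.chevG2.p ⟨0, by decide⟩ = rx 7 ∧ CfsgLib.Chev.chevG2.p ⟨1, by decide⟩ = rx 6 :=
  ⟨Fin.ext (by rw [p_val]; decide +kernel), Fin.ext (by rw [p_val]; decide +kernel)⟩

theorem wN_eq : CfsgLib.Chev.chevG2.wordG K wN =
    CfsgLib.Chev.chevG2.nw (rx 7) 1 * CfsgLib.Chev.chevG2.nw (rx 6) 1 * CfsgLib.Chev.chevG2.nw (rx 7) 1 *
      CfsgLib.Chev.chevG2.nw (rx 6) 1 * CfsgLib.Chev.chevG2.nw (rx 7) 1 * CfsgLib.Chev.chevG2.nw (rx 6) 1 := by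
  simp only [wN, wordG_append, wordG_nWZ_one]

include hK in
theorem wN_mem : CfsgLib.Chev.chevG2.wordG K wN ∈ twistedG2 K (3 ^ m) := by
  haveI := charP_three hK
  rw [← wordG_eq_of_eqMod CfsgLib.Chev.chevG2 (P := packG2) (hn := by decide) (hd := datumOKG2) (ht := tabOKG2)
    (hr := rootsOKG2) rfl 3 _ _ eqMod_n, wordG_append, wordG_append]
  exact mul_mem (mul_mem (wU_mem hK 0 1 0).1 (wU_mem hK 0 1 0).2) (wU_mem hK 0 1 0).1

theorem wN_N : CfsgLib.Chev.chevG2.wordG K wN ∈ Cfsg.Lie.chevG2.monomialSubgroup K := by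
  rw [wN_eq]
  exact mul_mem (mul_mem (mul_mem (mul_mem (mul_mem (nw_mem_N _ _ _) (nw_mem_N _ _ _)) (nw_mem_N _ _ _))
    (nw_mem_N _ _ _)) (nw_mem_N _ _ _)) (nw_mem_N _ _ _)

theorem wN_mono (a : Fin S.m) : CfsgLib.Chev.chevG2.Mono (CfsgLib.Chev.chevG2.wordG K wN) (S.w a) := by
  obtain ⟨p0, p1⟩ := simple_idx
  have m0 : CfsgLib.Chev.chevG2.Mono (CfsgLib.Chev.chevG2.nw (rx 7) (1 : Kˣ)) (CfsgLib.Chev.chevG2.reflPerm ⟨0, by decide⟩) := by
    rw [← p0]; exact nw_one_mono _ _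
  have m1 : CfsgLib.Chev.chevG2.Mono (CfsgLib.Chev.chevG2.nw (rx 6) (1 : Kˣ)) (CfsgLib.Chev.chevG2.reflPerm ⟨1, by decide⟩) := by
    rw [← p1]; exact nw_one_mono _ _
  have ha : a = ⟨0, by decide⟩ := Fin.ext (by have : a.val < 1 := a.isLt; show a.val = 0; omega)
  subst ha
  rw [wN_eq]
  have := Mono.mul _ (Mono.mul _ (Mono.mul _ (Mono.mul _ (Mono.mul _ m0 m1) m0) m1) m0) m1
  convert this using 1
  show wPerm _ symG2 0 = _
  simp [wPerm, symG2, SymData.word, mul_assoc]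
  rfl

include hK in
theorem wH_mem : CfsgLib.Chev.chevG2.wordG K wH ∈ twistedG2 K (3 ^ m) := by
  haveI := charP_three hK
  have h : CfsgLib.Chev.chevG2.wordG K (wH ++ wN) ∈ twistedG2 K (3 ^ m) := by
    rw [← wordG_eq_of_eqMod CfsgLib.Chev.chevG2 (P := packG2) (hn := by decide) (hd := datumOKG2) (ht := tabOKG2)
      (hr := rootsOKG2) rfl 3 _ _ eqMod_h, wordG_append, wordG_append]
    exact mul_mem (mul_mem (wU_mem hK 0 1 1).1 (wU_mem hK 2 1 1).2) (wU_mem hK 0 2 1).1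
  rw [wordG_append] at h
  have := mul_mem h (inv_mem (wN_mem hK))
  rwa [mul_inv_cancel_right] at this

theorem wH_eq : CfsgLib.Chev.chevG2.wordG K wH = Tw.tor (Φ := CfsgLib.Chev.chevG2) (fun _ => (-1 : Kˣ)) := by
  obtain ⟨p0, p1⟩ := simple_idx
  rw [Tw.tor_eq_prod]
  show _ = (List.map (fun j => CfsgLib.Chev.chevG2.hw (CfsgLib.Chev.chevG2.p j) (-1 : Kˣ))
    [⟨0, by decide⟩, ⟨1, by decide⟩]).prod
  simp only [wH, wordG_append, wordG_nWZ_neg_one, List.map_cons, List.map_nil, List.prod_cons, List.prod_nil,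
    mul_one, p0, p1, Chev.hw]

/-- The index of a fundamental root. -/
abbrev ix (n : ℕ) (h : n < Cfsg.Lie.chevG2.rank := by decide) : Fin Cfsg.Lie.chevG2.rank := ⟨n, h⟩

theorem k_p : (tw hK).k (CfsgLib.Chev.chevG2.p (ix 0)) = 3 * 3 ^ m ∧
    (tw hK).k (CfsgLib.Chev.chevG2.p (ix 1)) = 3 ^ m := by
  constructor
  · show morG2.l (CfsgLib.Chev.chevG2.p (ix 0)).val * 3 ^ m = _
    rw [p_val, show morG2.l (Cfsg.Lie.chevG2.simple 0) = 3 by decide +kernel]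
  · show morG2.l (CfsgLib.Chev.chevG2.p (ix 1)).val * 3 ^ m = _
    rw [p_val, show morG2.l (Cfsg.Lie.chevG2.simple 1) = 1 by decide +kernel, one_mul]

theorem tau_symm : S.τ.symm (ix 0) = ix 1 ∧ S.τ.symm (ix 1) = ix 0 :=
  ⟨Equiv.symm_apply_eq _ |>.mpr (Fin.ext rfl), Equiv.symm_apply_eq _ |>.mpr (Fin.ext rfl)⟩

/-- The fixed torus parameters. -/
def stab (m : ℕ) : Kˣ →* (Fin Cfsg.Lie.chevG2.rank → Kˣ) where
  toFun s := fun j => if j.val = 0 then s ^ 3 ^ m else s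
  map_one' := funext fun j => by simp
  map_mul' s t := funext fun j => by
    show (if j.val = 0 then (s * t) ^ 3 ^ m else s * t) = _
    simp only [Pi.mul_apply]
    split_ifs <;> simp [mul_pow]

theorem stable_iff (d : Fin Cfsg.Lie.chevG2.rank → Kˣ) :
    (tw hK).dmap d = d ↔ d = stab m (d (ix 1)) := by
  obtain ⟨k0, k1⟩ := k_p hK
  obtain ⟨t0, t1⟩ := tau_symm
  have hcase : ∀ j : Fin Cfsg.Lie.chevG2.rank, j = ix 0 ∨ j = ix 1 := by decide +kernel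
  constructor
  · intro h
    have h0 := congrFun h (ix 0)
    simp only [Tw.dmap, t0, k1] at h0
    funext j
    rcases hcase j with rfl | rfl
    · exact h0.symm
    · rfl
  · intro h
    have h0 : d (ix 0) = d (ix 1) ^ 3 ^ m := congrFun h (ix 0)
    funext j
    rcases hcase j with rfl | rfl
    · simp only [Tw.dmap, t0, k1]; exact h0.symm
    · simp only [Tw.dmap, t1, k0, h0]
      exact Units.ext (by simpa using (pow_q hK (d (ix 1) : K)).1)

include hK in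
theorem exists_sq (s : Kˣ) : ∃ w : Kˣ, w * w = s ∨ w * w = -s := by
  obtain ⟨k, hk⟩ : ∃ k, Fintype.card K + 1 = 4 * k := by
    refine ⟨(3 ^ (2 * m + 1) + 1) / 4, ?_⟩
    rw [hK, Nat.mul_div_cancel' ?_]
    rw [Nat.dvd_iff_mod_eq_zero, pow_succ, pow_mul, Nat.add_mod, Nat.mul_mod, Nat.pow_mod]
    norm_num
  refine ⟨s ^ k, ?_⟩
  have h4 : (s ^ k * s ^ k) * (s ^ k * s ^ k) = s * s := by
    rw [← pow_add, ← pow_add, show k + k + (k + k) = Fintype.card K + 1 by omega, pow_succ]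
    congr 1
    exact Units.ext (by simp [FiniteField.pow_card])
  have h5 : ((s ^ k * s ^ k : Kˣ) : K) * ((s ^ k * s ^ k : Kˣ) : K) = (s : K) * s := by
    rw [← Units.val_mul, h4, Units.val_mul]
  rcases mul_self_eq_mul_self_iff.mp h5 with h | h
  · exact Or.inl (Units.ext h)
  · exact Or.inr (Units.ext (by rw [h, Units.val_neg]))

theorem w_inv_cartan (a : Fin S.m) (i k : Fin Cfsg.Lie.chevG2.rank) :
    CfsgLib.Chev.chevG2.A k (S.w a (CfsgLib.Chev.chevG2.p i)) = -CfsgLib.Chev.chevG2.A k (CfsgLib.Chev.chevG2.p i) := by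
  have h : ∀ (a : Fin 1) (i k : Fin Cfsg.Lie.chevG2.rank),
      Cfsg.Lie.chevG2.cartan k.val (symG2.wEval a.val (Cfsg.Lie.chevG2.simple i.val)) =
        -Cfsg.Lie.chevG2.cartan k.val (Cfsg.Lie.chevG2.simple i.val) := by decide +kernel
  rw [← cartan_val, ← cartan_val]
  show Cfsg.Lie.chevG2.cartan k.val (CfsgLib.Chev.chevG2.wPerm symG2 a.val (CfsgLib.Chev.chevG2.p i)).val = _
  rw [← symOKG2.wEval_eq a.isLt, p_val]
  exact h a i k

theorem ker_one {z : Fin Cfsg.Lie.chevG2.rank → Kˣ} (hz : Tw.tor (Φ := CfsgLib.Chev.chevG2) z = 1) : z = 1 := by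
  let B : Matrix (Fin Cfsg.Lie.chevG2.rank) (Fin Cfsg.Lie.chevG2.rank) ℤ :=
    Matrix.of fun a b => ([[2, 3], [1, 2]].getD a.val []).getD b.val 0
  funext l
  have h := pow_det_of_coHom (d := 1) B (fun k l => ?_) hz l
  · simpa using h
  · have hk : ∀ k l : Fin Cfsg.Lie.chevG2.rank, ∑ j : Fin Cfsg.Lie.chevG2.rank,
        Cfsg.Lie.chevG2.cartan k.val (Cfsg.Lie.chevG2.simple j.val) * B j l = if k = l then (1 : ℤ) else 0 := by
      decide +kernel
    refine Eq.trans ?_ (hk k l)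
    exact Finset.sum_congr rfl fun j _ => by rw [← cartan_val, ← p_val]

include hK in
theorem root_le (a : Fin S.m) :
    CfsgLib.Chev.chevG2.US K (S.PJ a) ⊓ (tw hK).fix ≤ twistedG2 K (3 ^ m) := by
  intro g hg
  rw [PJ_eq] at hg
  obtain ⟨t, u, v, rfl⟩ := (fix_pos_iff hK).mp hg
  exact U6_mem t u v

theorem le_fix : twistedG2 K (3 ^ m) ≤ (tw hK).fix := by
  rw [twisted_eq, Subgroup.closure_le]
  intro g hg
  obtain ⟨t, u, v, rfl | rfl⟩ := gens_cases hg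
  · exact U6_fix hK t u v
  · exact V6_fix hK t u v

include hK in
theorem wN_gen (a : Fin S.m) : CfsgLib.Chev.chevG2.wordG K wN ∈ Subgroup.closure
    {g | g ∈ twistedG2 K (3 ^ m) ∧ (g ∈ CfsgLib.Chev.chevG2.US K (S.PJ a) ∨
      g ∈ CfsgLib.Chev.chevG2.US K (fun r => S.PJ a r.rev))} := by
  haveI := charP_three hK
  rw [← wordG_eq_of_eqMod CfsgLib.Chev.chevG2 (P := packG2) (hn := by decide) (hd := datumOKG2) (ht := tabOKG2)
    (hr := rootsOKG2) rfl 3 _ _ eqMod_n, wordG_append, wordG_append]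
  have key : ∀ w ∈ [wU 0 1 0, wV 0 1 0], CfsgLib.Chev.chevG2.wordG K w ∈
      CfsgLib.Chev.chevG2.US K (S.PJ a) ∨ CfsgLib.Chev.chevG2.wordG K w ∈
        CfsgLib.Chev.chevG2.US K (fun r => S.PJ a r.rev) := by
    intro w hw
    rcases List.mem_cons.mp hw with rfl | hw
    · left
      refine Subgroup.list_prod_mem _ fun x hx => ?_
      obtain ⟨y, hy, rfl⟩ := List.mem_map.mp hx
      refine xg_mem_US _ ?_ _
      rw [PJ_eq]
      have : ∀ y ∈ wU 0 1 0, Cfsg.Lie.chevG2.nroots ≤ 2 * y.1.val := by decide +kernel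
      exact this y hy
    · obtain rfl := List.mem_singleton.mp hw
      right
      refine Subgroup.list_prod_mem _ fun x hx => ?_
      obtain ⟨y, hy, rfl⟩ := List.mem_map.mp hx
      refine xg_mem_US _ (S := fun r => S.PJ a r.rev) ?_ _
      rw [PJ_eq]
      have : ∀ y ∈ wV 0 1 0, Cfsg.Lie.chevG2.nroots ≤ 2 * y.1.rev.val := by decide +kernel
      exact this y hy
  refine mul_mem (mul_mem ?_ ?_) ?_ <;> refine Subgroup.subset_closure ⟨?_, key _ (by simp)⟩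
  · exact (wU_mem hK 0 1 0).1
  · exact (wU_mem hK 0 1 0).2
  · exact (wU_mem hK 0 1 0).1

include hK in
theorem stab_mem (s : Kˣ) : Tw.tor (Φ := CfsgLib.Chev.chevG2) (stab m s) ∈ twistedG2 K (3 ^ m) := by
  have a : Fin S.m := ⟨0, by decide⟩
  have hsq : ∀ w : Kˣ, Tw.tor (Φ := CfsgLib.Chev.chevG2) (stab m w * stab m w) ∈ twistedG2 K (3 ^ m) := fun w =>
    Tw.sq_tor_mem (le_fix hK) a (root_le hK a) wN_N (wN_mono a) (wN_gen hK a) ((stable_iff hK _).mpr rfl)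
      fun i k _ => w_inv_cartan a i k
  have hneg : Tw.tor (Φ := CfsgLib.Chev.chevG2) (stab m (-1)) ∈ twistedG2 K (3 ^ m) := by
    have e : stab m (-1 : Kˣ) = fun _ => -1 := funext fun j => by
      show (if j.val = 0 then (-1 : Kˣ) ^ 3 ^ m else -1) = -1
      split_ifs
      · exact Odd.neg_one_pow (Odd.pow (by decide))
      · rfl
    rw [e, ← wH_eq]
    exact wH_mem hK
  obtain ⟨w, hw | hw⟩ := exists_sq hK s
  · rw [← hw, map_mul]; exact hsq w
  · have : s = -1 * (w * w) := by rw [hw, neg_one_mul, neg_neg]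
    rw [this, map_mul, map_mul]
    exact mul_mem hneg (by rw [map_mul (stab m)]; exact hsq w)

theorem gen : (tw hK).Gen (twistedG2 K (3 ^ m)) where
  le_fix := le_fix hK
  root_le := root_le hK
  exists_n a := ⟨_, wN_mem hK, wN_N, wN_mono a⟩
  torus_le a d hd _ := by rw [(stable_iff hK d).mp hd]; exact stab_mem hK _
  lift d hd := by
    refine ⟨d, ?_, rfl⟩
    have h : Tw.tor (Φ := CfsgLib.Chev.chevG2) ((tw hK).dmap d / d) = 1 := by rw [map_div, hd, div_self']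
    exact div_eq_one.mp (ker_one h)

theorem eq_fix : twistedG2 K (3 ^ m) = (tw hK).fix := (gen hK).eq_fix

open Classical in
theorem wit : (tw hK).Wit := fun a => by
  refine ⟨tvec 1 1 ((0 : K) ^ 3 ^ m) ((0 : K) ^ 3 ^ m) 1 1, ?_, fun i _ => ?_⟩
  · have e : rootList (S.PJ a) = rootList CfsgLib.Chev.chevG2.toTables.Pos := by simp only [PJ_eq]
    rw [e, ← P_eq_prodL]
    have h := U6_eq hK (1 : K) 0 0
    simp only [one_pow, mul_one, zero_add] at h
    rw [← h]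
    exact U6_fix hK 1 0 0
  · obtain ⟨p0, p1⟩ := simple_idx
    have hcase : i = ix 0 ∨ i = ix 1 := by
      have : ∀ j : Fin Cfsg.Lie.chevG2.rank, j = ix 0 ∨ j = ix 1 := by decide +kernel
      exact this i
    rcases hcase with rfl | rfl
    · rw [p0]; exact one_ne_zero
    · rw [p1]; exact one_ne_zero

theorem card_root (a : Fin S.m) :
    Nat.card ↥(CfsgLib.Chev.chevG2.US K (S.PJ a) ⊓ (tw hK).fix) = (3 ^ (2 * m + 1)) ^ 3 := by
  rw [PJ_eq]
  have e : K × K × K ≃ ↥(CfsgLib.Chev.chevG2.US K CfsgLib.Chev.chevG2.toTables.Pos ⊓ (tw hK).fix) := by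
    refine Equiv.ofBijective (fun x => ⟨U6 m x.1 x.2.1 x.2.2, (fix_pos_iff hK).mpr ⟨_, _, _, rfl⟩⟩) ⟨?_, ?_⟩
    · rintro ⟨t, u, v⟩ ⟨t', u', v'⟩ e
      have e' : U6 m t u v = U6 m t' u' v' := congrArg Subtype.val e
      rw [U6_eq hK, U6_eq hK] at e'
      obtain ⟨rfl, -, -, -, h5, h6⟩ := P_injective e'
      exact Prod.ext rfl (Prod.ext (add_right_cancel h5) (add_right_cancel h6))
    · rintro ⟨g, hg⟩
      obtain ⟨t, u, v, rfl⟩ := (fix_pos_iff hK).mp hg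
      exact ⟨(t, u, v), rfl⟩
  rw [← Nat.card_congr e, Nat.card_prod, Nat.card_prod, Nat.card_eq_fintype_card, hK]
  ring

theorem card_root_sq (a : Fin S.m) :
    Nat.card ↥(CfsgLib.Chev.chevG2.US K (S.PJ a) ⊓ (tw hK).fix) ^ 2 =
      (3 ^ (2 * m + 1)) ^ S.len (S.w a) := by
  rw [card_root, cnt_eq symOKG2, ← pow_mul]
  have ha : a.val = 0 := by have : a.val < 1 := a.isLt; omega
  rw [ha, show WCert.cnt symG2 Cfsg.Lie.chevG2 0 = 6 by decide +kernel]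

include hK in
theorem card_U : Nat.card ↥(Cfsg.Lie.chevG2.posUnipotent K ⊓ twistedG2 K (3 ^ m)) = (3 ^ (2 * m + 1)) ^ 3 := by
  rw [eq_fix hK, CfsgLib.Chev.chevG2.posUnipotent_eq_US]
  have := card_root hK ⟨0, by decide⟩
  rwa [PJ_eq] at this

end CfsgLib.Chev.T2G2
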