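/-
The homomorphism of N¹ onto the centralised Weyl group.
-/
import Cfsg.Agent.Lib.Chev.Twist.Fix

namespace CfsgLib.Chev

open Cfsg.Lie Matrix

set_option linter.dupNamespace false
set_option linter.unusedSectionVars false

variable {D : ChevalleyDatum}

namespace Chev

variable {Φ : Chev D} {S : Φ.Sym} {F : Type*} [Field F] {T : Tw S F} {G1 : Subgroup (GL D.Idx F)}

theorem Tw.Gen.weylHom (h : T.Gen G1) :
    ∃ φ : ↥(D.monomialSubgroup F ⊓ G1) →* S.W1, Function.Surjective φ ∧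
      φ.ker = (D.diagonalSubgroup F ⊓ G1).subgroupOf (D.monomialSubgroup F ⊓ G1) := by
  classical
  choose σ hσW hσ hσ' using fun x : ↥(D.monomialSubgroup F ⊓ G1) => Φ.exists_monoW x.2.1
  have hmem : ∀ x, σ x ∈ S.W1 := fun x => by
    refine S.mem_W1.mpr ⟨hσW x, fun r => ?_⟩
    obtain ⟨-, h2⟩ := T.app_monomial x.2.1 (hσ x)
    rw [(h.le_fix x.2.2).2] at h2
    have := Equiv.ext_iff.mp (Mono.unique Φ (hσ x) h2) (S.ρ r)
    simpa using this
  let φ : ↥(D.monomialSubgroup F ⊓ G1) →* S.W1 := MonoidHom.mk' (fun x => ⟨σ x, hmem x⟩)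
    fun x y => Subtype.ext (Mono.unique Φ (hσ (x * y)) (Mono.mul Φ (hσ x) (hσ y)))
  refine ⟨φ, fun π => ?_, ?_⟩
  · obtain ⟨n, hn1, hn2, hn3⟩ := h.exists_nW1 π.2
    exact ⟨⟨n, Subgroup.mem_inf.mpr ⟨hn2, hn1⟩⟩,
      Subtype.ext (Mono.unique Φ (hσ ⟨n, Subgroup.mem_inf.mpr ⟨hn2, hn1⟩⟩) hn3)⟩
  · ext x
    rw [MonoidHom.mem_ker, Subgroup.mem_subgroupOf, Subgroup.mem_inf, Φ.mem_H_iff_mono_one x.2.1]
    constructor
    · intro e
      have e' : σ x = 1 := congrArg Subtype.val e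
      exact ⟨e' ▸ hσ x, x.2.2⟩
    · exact fun h' => Subtype.ext (Mono.unique Φ (hσ x) h'.1)

end Chev

end CfsgLib.Chev
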