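/-
The torus, the order and the Weyl group of ²G₂.
-/
import Cfsg.Agent.Lib.Chev.Twist.TypeG2
import Cfsg.Agent.Lib.Chev.Twist.Torus
import Cfsg.Agent.Lib.Chev.Twist.WeylHom

namespace CfsgLib.Chev.T2G2

open Cfsg.Lie Matrix Chev

set_option linter.dupNamespace false
set_option linter.unusedSectionVars false
set_option maxRecDepth 100000

variable {K : Type*} [Field K] [Fintype K] {m : ℕ} (hK : Fintype.card K = 3 ^ (2 * m + 1))

theorem card_stable : Nat.card {d : Fin Cfsg.Lie.chevG2.rank → Kˣ // (tw hK).dmap d = d} = 3 ^ (2 * m + 1) - 1 := by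
  have e : Kˣ ≃ {d : Fin Cfsg.Lie.chevG2.rank → Kˣ // (tw hK).dmap d = d} :=
    { toFun := fun s => ⟨stab m s, (stable_iff hK _).mpr rfl⟩
      invFun := fun d => d.1 (ix 1)
      left_inv := fun s => rfl
      right_inv := fun d => Subtype.ext ((stable_iff hK _).mp d.2).symm }
  rw [← Nat.card_congr e, Nat.card_units, Nat.card_eq_fintype_card, hK]

theorem card_ker : Nat.card {d : Fin Cfsg.Lie.chevG2.rank → Kˣ //
    (tw hK).dmap d = d ∧ Tw.tor (Φ := CfsgLib.Chev.chevG2) d = 1} = 1 := by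
  rw [Nat.card_eq_one_iff_unique]
  exact ⟨⟨fun x y => Subtype.ext ((ker_one x.2.2).trans (ker_one y.2.2).symm)⟩,
    ⟨⟨1, by rw [stable_iff hK, Pi.one_apply, map_one], map_one _⟩⟩⟩

include hK in
theorem card_H : Nat.card ↥(Cfsg.Lie.chevG2.diagonalSubgroup K ⊓ twistedG2 K (3 ^ m)) =
    3 ^ (2 * m + 1) - 1 := by
  have := (gen hK).card_H_mul
  rw [card_ker, mul_one, card_stable, ← eq_fix hK] at this
  exact this

include hK in
theorem card_G : Nat.card ↥(twistedG2 K (3 ^ m)) =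
    (3 ^ (2 * m + 1)) ^ 3 * (3 ^ (2 * m + 1) - 1) * ((3 ^ (2 * m + 1)) ^ 3 + 1) := by
  classical
  haveI : Fintype S.W1 := Fintype.ofFinite _
  have h := gen hK
  have hsum := cert_sum (Φ := CfsgLib.Chev.chevG2) symOKG2 certOKG2
    (fun π : S.W1 => Nat.card ((tw hK).Uinv π.1)) (q := 3 ^ (2 * m + 1))
    fun π => h.card_Uinv _ 2 (card_root_sq hK) π.2
  have hlt : ∀ i < certG2.size, certG2.len i < 4 := fun i hi => by
    have := certLtG2
    simp only [List.all_eq_true, List.mem_range, Nat.blt_eq] at this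
    exact this i hi
  have hs : ∑ i : Fin certG2.size, (3 ^ (2 * m + 1)) ^ certG2.len i.val =
      ∑ k ∈ Finset.range 4, ([1, 0, 0, 1] : List ℕ).getD k 0 * (3 ^ (2 * m + 1)) ^ k := by
    rw [sum_pow_eq_count certG2.len _ hlt, ← certHistG2]
    refine Finset.sum_congr rfl fun k hk => ?_
    rw [List.getD_eq_getElem _ _ (by simpa using Finset.mem_range.mp hk)]
    simp only [List.getElem_map, List.getElem_range]
    rfl
  rw [h.card_eq, hsum, (tw hK).card_B1, hs, ← eq_fix hK, card_U hK, card_H hK]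
  simp only [Finset.sum_range_succ, Finset.sum_range_zero, List.getD_cons_zero, List.getD_cons_succ]
  ring

include hK in
theorem weyl :
    ∃ φ : ↥(Cfsg.Lie.chevG2.monomialSubgroup K ⊓ twistedG2 K (3 ^ m)) →* Multiplicative (ZMod 2),
      Function.Surjective φ ∧ φ.ker = (Cfsg.Lie.chevG2.diagonalSubgroup K ⊓ twistedG2 K (3 ^ m)).subgroupOf
        (Cfsg.Lie.chevG2.monomialSubgroup K ⊓ twistedG2 K (3 ^ m)) := by
  obtain ⟨φ, h1, h2⟩ := (gen hK).weylHom
  obtain ⟨e, -⟩ := cert_bijective (Φ := CfsgLib.Chev.chevG2) symOKG2 certOKG2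
  have hc : Nat.card S.W1 = 2 := by rw [← Nat.card_congr e, Nat.card_fin]; rfl
  haveI := Fact.mk Nat.prime_two
  have hc' : Nat.card (Multiplicative (ZMod 2)) = 2 := by
    rw [Nat.card_congr Multiplicative.toAdd, Nat.card_zmod]
  let E : S.W1 ≃* Multiplicative (ZMod 2) := mulEquivOfPrimeCardEq hc hc'
  refine ⟨E.toMonoidHom.comp φ, E.surjective.comp h1, ?_⟩
  rw [← h2]
  ext x
  simp [MonoidHom.mem_ker]

end CfsgLib.Chev.T2G2
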