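/-
Consequences of the structure of the small Ree groups.
-/
import Cfsg.Agent.Lib.Chev.Twist.OrderG2

namespace CfsgLib.Chev.T2G2

open Cfsg.Lie Matrix Chev

set_option linter.dupNamespace false
set_option linter.unusedSectionVars false
set_option maxRecDepth 100000

variable {K : Type*} [Field K] [Fintype K] {m : ℕ} (hc3 : (3 : K) = 0) (hK : Fintype.card K = 3 ^ (2 * m + 1))

/-- The torus element of a parameter. -/
noncomputable def th (m : ℕ) (s : Kˣ) : GL Cfsg.Lie.chevG2.Idx K :=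
  Tw.tor (Φ := CfsgLib.Chev.chevG2) (stab m s)

theorem th_one : th m (1 : Kˣ) = 1 := by rw [th, map_one, map_one]

theorem th_mul (s t : Kˣ) : th m (s * t) = th m s * th m t := by rw [th, map_mul, map_mul]; rfl

include hK in
theorem th_mem_H (s : Kˣ) : th m s ∈ Cfsg.Lie.chevG2.diagonalSubgroup K ⊓ twistedG2 K (3 ^ m) :=
  Subgroup.mem_inf.mpr ⟨Tw.tor_mem_H _, stab_mem hK s⟩

theorem th_injective : Function.Injective (th (K := K) m) := by
  intro s t e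
  have h : th m (s / t) = 1 := by
    have h1 := th_mul (m := m) (s / t) t
    rw [div_mul_cancel, e] at h1
    exact mul_eq_right.mp h1.symm
  have h2 := congrFun (ker_one h) (ix 1)
  exact div_eq_one.mp h2

include hK in
theorem mem_H_iff {g : GL Cfsg.Lie.chevG2.Idx K} :
    g ∈ Cfsg.Lie.chevG2.diagonalSubgroup K ⊓ twistedG2 K (3 ^ m) ↔ ∃ s, g = th m s := by
  refine ⟨fun hg => ?_, fun ⟨s, e⟩ => e ▸ th_mem_H hK s⟩
  haveI : Finite ↥(Cfsg.Lie.chevG2.diagonalSubgroup K ⊓ twistedG2 K (3 ^ m)) :=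
    Nat.finite_of_card_ne_zero (by
      rw [card_H hK]
      have := Nat.pow_le_pow_right (show 3 > 0 by norm_num) (show 1 ≤ 2 * m + 1 by omega)
      omega)
  have hb : Function.Bijective (fun s : Kˣ =>
      (⟨th m s, th_mem_H hK s⟩ : ↥(Cfsg.Lie.chevG2.diagonalSubgroup K ⊓ twistedG2 K (3 ^ m)))) := by
    refine Function.Injective.bijective_of_nat_card_le (fun s t e => th_injective (congrArg Subtype.val e)) ?_
    rw [card_H hK, Nat.card_units, Nat.card_eq_fintype_card, hK]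
  obtain ⟨s, hs⟩ := hb.2 ⟨g, hg⟩
  exact ⟨s, (congrArg Subtype.val hs).symm⟩

/-- The torus parameters as the diagonal subgroup. -/
noncomputable def hEquiv : Kˣ ≃* ↥(Cfsg.Lie.chevG2.diagonalSubgroup K ⊓ twistedG2 K (3 ^ m)) :=
  MulEquiv.ofBijective
    ({ toFun := fun s => ⟨th m s, th_mem_H hK s⟩
       map_one' := Subtype.ext th_one
       map_mul' := fun s t => Subtype.ext (th_mul s t) } :
      Kˣ →* ↥(Cfsg.Lie.chevG2.diagonalSubgroup K ⊓ twistedG2 K (3 ^ m)))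
    ⟨fun s t e => th_injective (congrArg Subtype.val e), fun g => by
      obtain ⟨s, hs⟩ := (mem_H_iff hK).mp g.2
      exact ⟨s, Subtype.ext hs.symm⟩⟩

/-- The exponent of the character of a root. -/
def kk (m : ℕ) (r : Fin Cfsg.Lie.chevG2.nroots) : ℤ :=
  Cfsg.Lie.chevG2.cartan 0 r.val * ((3 ^ m : ℕ) : ℤ) + Cfsg.Lie.chevG2.cartan 1 r.val

theorem conj_X (s : Kˣ) (r : Fin Cfsg.Lie.chevG2.nroots) (c : K) :
    th m s * X r c * (th m s)⁻¹ = X r (((s ^ kk m r : Kˣ) : K) * c) := by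
  have e : CfsgLib.Chev.chevG2.toSys.chi (CfsgLib.Chev.chevG2.coHom K (stab m s)) r = s ^ kk m r := by
    rw [chi_coHom_tw]
    refine (Fin.prod_univ_two (fun k : Fin 2 => stab m s k ^ CfsgLib.Chev.chevG2.A k r)).trans ?_
    show stab m s (ix 0) ^ CfsgLib.Chev.chevG2.A (ix 0) r * stab m s (ix 1) ^ CfsgLib.Chev.chevG2.A (ix 1) r = _
    rw [show (stab m s) (ix 0) = s ^ ((3 ^ m : ℕ) : ℤ) by rw [_root_.zpow_natCast]; rfl,
      show (stab m s) (ix 1) = s ^ (1 : ℤ) by rw [_root_.zpow_one]; rfl,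
      show CfsgLib.Chev.chevG2.A (ix 0) r = Cfsg.Lie.chevG2.cartan 0 r.val from (cartan_val _ (ix 0) r).symm,
      show CfsgLib.Chev.chevG2.A (ix 1) r = Cfsg.Lie.chevG2.cartan 1 r.val from (cartan_val _ (ix 1) r).symm,
      ← _root_.zpow_mul, ← _root_.zpow_mul, ← _root_.zpow_add, kk]
    congr 1
    ring
  rw [th, Tw.tor, MonoidHom.comp_apply, Alg.torus_xg, e, mul_inv_cancel_right]

theorem conj_P (s : Kˣ) (a b c d e f : K) : th m s * P a b c d e f * (th m s)⁻¹ =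
    P (((s ^ kk m (rx 6) : Kˣ) : K) * a) (((s ^ kk m (rx 7) : Kˣ) : K) * b) (((s ^ kk m (rx 8) : Kˣ) : K) * c)
      (((s ^ kk m (rx 9) : Kˣ) : K) * d) (((s ^ kk m (rx 10) : Kˣ) : K) * e)
      (((s ^ kk m (rx 11) : Kˣ) : K) * f) := by
  have key : ∀ t x y : GL Cfsg.Lie.chevG2.Idx K, t * (x * y) * t⁻¹ = t * x * t⁻¹ * (t * y * t⁻¹) := by
    intros; group
  simp only [P, M4, key, conj_X]

theorem kk_val :
    kk m (rx 6) = -3 * ((3 ^ m : ℕ) : ℤ) + 2 ∧ kk m (rx 7) = 2 * ((3 ^ m : ℕ) : ℤ) - 1 ∧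
    kk m (rx 8) = -((3 ^ m : ℕ) : ℤ) + 1 ∧ kk m (rx 9) = ((3 ^ m : ℕ) : ℤ) ∧
    kk m (rx 10) = 3 * ((3 ^ m : ℕ) : ℤ) - 1 ∧ kk m (rx 11) = 1 := by
  have h : (List.range 6).map (fun i => (Cfsg.Lie.chevG2.cartan 0 (i + 6), Cfsg.Lie.chevG2.cartan 1 (i + 6))) =
      [((-3 : ℤ), (2 : ℤ)), (2, -1), (-1, 1), (1, 0), (3, -1), (0, 1)] := by decide +kernel
  simp only [List.range_succ, List.range_zero, List.nil_append, List.map_cons, List.cons_append,
    List.map_nil, List.cons.injEq, Prod.mk.injEq] at h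
  obtain ⟨⟨a0, b0⟩, ⟨a1, b1⟩, ⟨a2, b2⟩, ⟨a3, b3⟩, ⟨a4, b4⟩, ⟨a5, b5⟩, -⟩ := h
  refine ⟨?_, ?_, ?_, ?_, ?_, ?_⟩ <;>
    simp only [kk, Nat.zero_add, Nat.reduceAdd] at * <;> simp only [*] <;> ring

include hK in
theorem pow_units (s : Kˣ) : s ^ (3 * (((3 ^ m : ℕ) : ℤ) * ((3 ^ m : ℕ) : ℤ)) - 1) = 1 := by
  have hN : ((3 ^ (2 * m + 1) - 1 : ℕ) : ℤ) = 3 * (((3 ^ m : ℕ) : ℤ) * ((3 ^ m : ℕ) : ℤ)) - 1 := by
    rw [Nat.cast_sub (Nat.one_le_pow _ _ (by norm_num))]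
    push_cast
    ring
  rw [← hN, _root_.zpow_natCast, ← hK]
  exact Units.ext (by rw [Units.val_pow_eq_pow_val, Units.val_one]; exact FiniteField.pow_card_sub_one_eq_one _ s.ne_zero)

include hK in
theorem sq_one_of_kk {s : Kˣ} {r : Fin Cfsg.Lie.chevG2.nroots} (hr : 6 ≤ r.val) (h : s ^ kk m r = 1) :
    s ^ (2 : ℤ) = 1 := by
  obtain ⟨k6, k7, k8, k9, k10, k11⟩ := kk_val (m := m)
  have hc : r = rx 6 ∨ r = rx 7 ∨ r = rx 8 ∨ r = rx 9 ∨ r = rx 10 ∨ r = rx 11 := by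
    have : ∀ r : Fin Cfsg.Lie.chevG2.nroots, 6 ≤ r.val →
        r = rx 6 ∨ r = rx 7 ∨ r = rx 8 ∨ r = rx 9 ∨ r = rx 10 ∨ r = rx 11 := by decide +kernel
    exact this r hr
  have hN := pow_units hK s
  generalize hE : ((3 ^ m : ℕ) : ℤ) = E at *
  have key : ∀ x y : ℤ, s ^ (kk m r * x + (3 * (E * E) - 1) * y) = 1 := fun x y => by
    rw [_root_.zpow_add, _root_.zpow_mul, h, _root_.one_zpow, _root_.zpow_mul, hN, _root_.one_zpow, one_mul]
  rcases hc with rfl | rfl | rfl | rfl | rfl | rfl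
  · rw [show (2 : ℤ) = kk m (rx 6) * (2 * (3 * E + 2)) + (3 * (E * E) - 1) * 6 by rw [k6]; ring]; exact key _ _
  · rw [show (2 : ℤ) = kk m (rx 7) * (2 * (6 * E + 3)) + (3 * (E * E) - 1) * (-8) by rw [k7]; ring]; exact key _ _
  · rw [show (2 : ℤ) = kk m (rx 8) * (3 * E + 3) + (3 * (E * E) - 1) * 1 by rw [k8]; ring]; exact key _ _
  · rw [show (2 : ℤ) = kk m (rx 9) * (6 * E) + (3 * (E * E) - 1) * (-2) by rw [k9]; ring]; exact key _ _
  · rw [show (2 : ℤ) = kk m (rx 10) * (3 * E + 1) + (3 * (E * E) - 1) * (-3) by rw [k10]; ring]; exact key _ _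
  · rw [show (2 : ℤ) = kk m (rx 11) * 2 + (3 * (E * E) - 1) * 0 by rw [k11]; ring]; exact key _ _

include hK in
theorem mem_U_iff {g : GL Cfsg.Lie.chevG2.Idx K} :
    g ∈ Cfsg.Lie.chevG2.posUnipotent K ⊓ twistedG2 K (3 ^ m) ↔ ∃ t u v, g = U6 m t u v := by
  rw [eq_fix hK, CfsgLib.Chev.chevG2.posUnipotent_eq_US]
  exact fix_pos_iff hK

include hK in
/-- An element of the torus centralising a nontrivial unipotent element is an involution or trivial. -/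
theorem sq_one_of_commute {s : Kˣ} {g : GL Cfsg.Lie.chevG2.Idx K}
    (hg : g ∈ Cfsg.Lie.chevG2.posUnipotent K) (hne : g ≠ 1) (hc : th m s * g = g * th m s) :
    s ^ (2 : ℤ) = 1 := by
  rw [CfsgLib.Chev.chevG2.posUnipotent_eq_US] at hg
  obtain ⟨a, b, c, d, e, f, rfl⟩ := exists_P hg
  by_contra hs
  have z : ∀ (r : Fin Cfsg.Lie.chevG2.nroots) (x : K), 6 ≤ r.val → ((s ^ kk m r : Kˣ) : K) * x = x → x = 0 := by
    intro r x hr hx
    by_contra h0
    exact hs (sq_one_of_kk hK hr (Units.ext ((mul_eq_right₀ h0).mp hx)))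
  have h := conj_P (m := m) s a b c d e f
  rw [hc, mul_inv_cancel_right] at h
  obtain ⟨h1, h2, h3, h4, h5, h6⟩ := P_injective h
  refine hne ?_
  rw [z _ a (by decide) h1.symm, z _ b (by decide) h2.symm, z _ c (by decide) h3.symm,
    z _ d (by decide) h4.symm, z _ e (by decide) h5.symm, z _ f (by decide) h6.symm]
  simp [P, M4, X]

/-- The monomial element of the nontrivial element of the Weyl group. -/
noncomputable def w0 (K : Type*) [Field K] : GL Cfsg.Lie.chevG2.Idx K := CfsgLib.Chev.chevG2.wordG K wN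

/-- The only orbit. -/
abbrev o : Fin S.m := ⟨0, by decide⟩

theorem w0_conj_neg {x : GL Cfsg.Lie.chevG2.Idx K} (hx : x ∈ Cfsg.Lie.chevG2.posUnipotent K) :
    w0 K * x * (w0 K)⁻¹ ∈ Cfsg.Lie.chevG2.negUnipotent K := by
  rw [CfsgLib.Chev.chevG2.posUnipotent_eq_US] at hx
  rw [CfsgLib.Chev.chevG2.negUnipotent_eq_US]
  refine CfsgLib.Chev.chevG2.map_US_le (wN_mono o) (T := fun r => ¬ CfsgLib.Chev.chevG2.toTables.Pos r)
    (fun r hr => ?_) x hx
  have hr' : S.PJ o r := by rw [PJ_eq]; exact hr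
  exact S.w_neg o r hr'.1 hr'.2

theorem w0_inv_conj_neg {x : GL Cfsg.Lie.chevG2.Idx K} (hx : x ∈ Cfsg.Lie.chevG2.posUnipotent K) :
    (w0 K)⁻¹ * x * w0 K ∈ Cfsg.Lie.chevG2.negUnipotent K := by
  rw [CfsgLib.Chev.chevG2.posUnipotent_eq_US] at hx
  rw [CfsgLib.Chev.chevG2.negUnipotent_eq_US]
  have hm := Tw.mono_inv (wN_N (K := K)) (wN_mono o)
  rw [S.w_inv] at hm
  have h := CfsgLib.Chev.chevG2.map_US_le hm (T := fun r => ¬ CfsgLib.Chev.chevG2.toTables.Pos r)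
    (fun r hr => ?_) x hx
  · rwa [inv_inv] at h
  · have hr' : S.PJ o r := by rw [PJ_eq]; exact hr
    exact S.w_neg o r hr'.1 hr'.2

theorem eq_one_of_B_V {x : GL Cfsg.Lie.chevG2.Idx K} (hB : x ∈ Cfsg.Lie.chevG2.borelSubgroup K)
    (hV : x ∈ Cfsg.Lie.chevG2.negUnipotent K) : x = 1 := by
  have h : x ∈ Cfsg.Lie.chevG2.borelSubgroup K ⊓ Cfsg.Lie.chevG2.negUnipotent K := Subgroup.mem_inf.mpr ⟨hB, hV⟩
  rwa [CfsgLib.Chev.chevG2.B_inf_V, Subgroup.mem_bot] at h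

include hK in
theorem not_mem_B_w0 : w0 K ∉ Cfsg.Lie.chevG2.borelSubgroup K := by
  intro h
  obtain ⟨x, hx, hne⟩ := (wit hK).ne o
  rw [PJ_eq, ← CfsgLib.Chev.chevG2.posUnipotent_eq_US] at hx
  have h1 : w0 K * x * (w0 K)⁻¹ = 1 :=
    eq_one_of_B_V (mul_mem (mul_mem h (Subgroup.mem_sup_left hx.1)) (inv_mem h)) (w0_conj_neg hx.1)
  exact hne (mul_eq_left.mp (mul_inv_eq_one.mp h1))

theorem W1_cases (π : Equiv.Perm (Fin Cfsg.Lie.chevG2.nroots)) (hπ : π ∈ S.W1) : π = 1 ∨ π = S.w o := by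
  by_cases he : π = 1
  · exact Or.inl he
  obtain ⟨a, ha⟩ := S.exists_descent hπ he
  have hW := (S.mem_W1.mp hπ).1
  have h : π * S.w a = 1 := by
    refine CfsgLib.Chev.chevG2.W_eq_one_of_pos (mul_mem hW (S.w_mem_W a)) fun r hr => ?_
    have hr' : S.PJ a r := by rw [PJ_eq]; exact hr
    have hneg := S.w_neg a r hr'.1 hr'.2
    rw [Equiv.Perm.mul_apply]
    rw [← CfsgLib.Chev.chevG2.pos_rev_iff] at hneg
    have h1 := ha (S.w a r).rev (by rw [PJ_eq]; exact hneg)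
    have h2 := h1.2
    rwa [CfsgLib.Chev.chevG2.W_rev hW, CfsgLib.Chev.chevG2.pos_rev_iff, not_not] at h2
  refine Or.inr ?_
  rw [show o = a from Fin.ext (by have : a.val < 1 := a.isLt; show 0 = a.val; omega), eq_inv_of_mul_eq_one_left h,
    S.w_inv]

include hK in
/-- The Bruhat decomposition in rank one. -/
theorem bruhat_one {g : GL Cfsg.Lie.chevG2.Idx K} (hg : g ∈ twistedG2 K (3 ^ m))
    (hB : g ∉ Cfsg.Lie.chevG2.borelSubgroup K) :
    ∃ b ∈ Cfsg.Lie.chevG2.borelSubgroup K ⊓ twistedG2 K (3 ^ m),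
      ∃ u ∈ Cfsg.Lie.chevG2.posUnipotent K ⊓ twistedG2 K (3 ^ m), g = b * w0 K * u := by
  rw [eq_fix hK] at hg ⊢
  obtain ⟨π, hπ, hb⟩ := (gen hK).bruhat hg
  have hU : ∀ {π u}, u ∈ (tw hK).Uinv π →
      u ∈ Cfsg.Lie.chevG2.posUnipotent K ⊓ (tw hK).fix := fun {π u} hu => by
    refine ⟨?_, hu.2⟩
    rw [CfsgLib.Chev.chevG2.posUnipotent_eq_US]
    exact CfsgLib.Chev.chevG2.US_mono (F := K) (fun r hr => hr.1) hu.1
  rcases W1_cases π hπ with rfl | rfl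
  · obtain ⟨b, hb1, u, hu, rfl⟩ := hb 1 (one_mem _) (one_mem _) (Mono.one _)
    rw [mul_one] at hB
    exact absurd (mul_mem hb1.1 (Subgroup.mem_sup_left (hU hu).1)) hB
  · obtain ⟨b, hb1, u, hu, rfl⟩ := hb (w0 K) (wN_mem hK) wN_N (wN_mono o)
    exact ⟨b, hb1, u, hU hu, rfl⟩

theorem B_normalizer_U {b x : GL Cfsg.Lie.chevG2.Idx K} (hb : b ∈ Cfsg.Lie.chevG2.borelSubgroup K)
    (hx : x ∈ Cfsg.Lie.chevG2.posUnipotent K) : b * x * b⁻¹ ∈ Cfsg.Lie.chevG2.posUnipotent K := by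
  obtain ⟨u, hu, h, hh, rfl⟩ := CfsgLib.Chev.chevG2.mem_B_iff.mp hb
  have h1 : h * x * h⁻¹ ∈ Cfsg.Lie.chevG2.posUnipotent K := by
    rw [CfsgLib.Chev.chevG2.posUnipotent_eq_US] at hx ⊢
    exact (Subgroup.mem_normalizer_iff.mp (CfsgLib.Chev.chevG2.H_le_normalizer_US _ hh) x).mp hx
  rw [show u * h * x * (u * h)⁻¹ = u * (h * x * h⁻¹) * u⁻¹ by group]
  exact mul_mem (mul_mem hu h1) (inv_mem hu)

include hK in
theorem mem_B_of_conj {g x : GL Cfsg.Lie.chevG2.Idx K} (hg : g ∈ twistedG2 K (3 ^ m))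
    (hx : x ∈ Cfsg.Lie.chevG2.posUnipotent K) (hne : x ≠ 1)
    (hgx : g * x * g⁻¹ ∈ Cfsg.Lie.chevG2.posUnipotent K) : g ∈ Cfsg.Lie.chevG2.borelSubgroup K := by
  by_contra hB
  obtain ⟨b, hb, u, hu, rfl⟩ := bruhat_one hK hg hB
  have h1 : u * x * u⁻¹ ∈ Cfsg.Lie.chevG2.posUnipotent K := mul_mem (mul_mem hu.1 hx) (inv_mem hu.1)
  have h2 := B_normalizer_U (inv_mem hb.1) hgx
  rw [show b⁻¹ * (b * w0 K * u * x * (b * w0 K * u)⁻¹) * b⁻¹⁻¹ = w0 K * (u * x * u⁻¹) * (w0 K)⁻¹ by group] at h2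
  have h3 : u * x * u⁻¹ = 1 :=
    mul_eq_left.mp (mul_inv_eq_one.mp (eq_one_of_B_V (Subgroup.mem_sup_left h2) (w0_conj_neg h1)))
  exact hne (mul_eq_left.mp (mul_inv_eq_one.mp h3))

include hK in
theorem odd_units : ∃ k, Odd k ∧ 3 ^ (2 * m + 1) - 1 = 2 * k := by
  have h9 : 9 ^ m % 4 = 1 := by rw [Nat.pow_mod]; norm_num
  have h3 : 3 ^ (2 * m + 1) = 3 * 9 ^ m := by rw [pow_succ, pow_mul]; ring
  exact ⟨(3 ^ (2 * m + 1) - 1) / 2, Nat.odd_iff.mpr (by omega), by omega⟩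

include hK in
theorem commute_eq_one {g : GL Cfsg.Lie.chevG2.Idx K}
    (hg : g ∈ Cfsg.Lie.chevG2.diagonalSubgroup K ⊓ twistedG2 K (3 ^ m)) (hne : g ≠ 1)
    (hodd : Odd (orderOf g)) :
    (Cfsg.Lie.chevG2.posUnipotent K ⊓ twistedG2 K (3 ^ m)) ⊓ Subgroup.centralizer {g} = ⊥ := by
  obtain ⟨s, rfl⟩ := (mem_H_iff hK).mp hg
  refine (Subgroup.eq_bot_iff_forall _).mpr fun x hx => ?_
  obtain ⟨hx1, hx2⟩ := Subgroup.mem_inf.mp hx
  by_contra h0
  have hc : th m s * x = x * th m s := (Subgroup.mem_centralizer_singleton_iff.mp hx2).symm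
  have h2 := sq_one_of_commute hK hx1.1 h0 hc
  have h3 : th m s ^ 2 = 1 := by
    rw [pow_two, ← th_mul, ← pow_two, show s ^ 2 = s ^ (2 : ℤ) from (_root_.zpow_natCast s 2).symm, h2, th_one]
  rcases (Nat.dvd_prime Nat.prime_two).mp (orderOf_dvd_of_pow_eq_one h3) with h | h
  · exact hne (orderOf_eq_one_iff.mp h)
  · rw [h] at hodd; exact absurd hodd (by decide)

include hK in
theorem card_odd :
    2 * Nat.card {h : ↥(Cfsg.Lie.chevG2.diagonalSubgroup K ⊓ twistedG2 K (3 ^ m)) // Odd (orderOf h)} =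
      3 ^ (2 * m + 1) - 1 := by
  classical
  obtain ⟨k, hk, hq⟩ := odd_units hK
  have hcard : Nat.card Kˣ = 2 * k := by rw [Nat.card_units, Nat.card_eq_fintype_card, hK, hq]
  have e : {h : ↥(Cfsg.Lie.chevG2.diagonalSubgroup K ⊓ twistedG2 K (3 ^ m)) // Odd (orderOf h)} ≃
      (powMonoidHom k : Kˣ →* Kˣ).ker := by
    refine (Equiv.subtypeEquiv (hEquiv hK).toEquiv fun s => ?_).symm
    rw [MonoidHom.mem_ker, powMonoidHom_apply, show ((hEquiv hK).toEquiv s) = hEquiv hK s from rfl,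
      MulEquiv.orderOf_eq]
    constructor
    · exact fun h => Odd.of_dvd_nat hk (orderOf_dvd_of_pow_eq_one h)
    · intro h
      refine orderOf_dvd_iff_pow_eq_one.mp ?_
      have hd : orderOf s ∣ 2 * k := hcard ▸ orderOf_dvd_natCard s
      exact (Nat.Coprime.dvd_of_dvd_mul_left (Nat.coprime_two_right.mpr h) hd)
  rw [Nat.card_congr e, IsCyclic.card_powMonoidHom_ker, hcard, Nat.gcd_mul_left_left, hq]

include hc3 in
theorem P_mul (a b c d e f a' b' c' d' e' f' : K) :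
    P a b c d e f * P a' b' c' d' e' f' = P (a + a') (b + b') (c - a' * b + c')
      (d - a' * b ^ 2 - b' * (c - a' * b) + d') (e + a' * b ^ 3 + e')
      (f - a' * e + a' ^ 2 * b ^ 3 + f') := by
  have h10 : ∀ x y : K, X (rx 10) y * X (rx 6) x = X (rx 6) x * X (rx 10) y * X (rx 11) (-x * y) := fun x y => by
    rw [rel (rx 6) (rx 10) (by decide) (by decide +kernel),
      show Cfsg.Lie.chevG2.commTerms 6 10 = [(11, 1, 1, 1)] by decide +kernel]
    have l11 : (11 : ℕ) < Cfsg.Lie.chevG2.nroots := by decide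
    simp only [List.map_cons, List.map_nil, List.prod_cons, List.prod_nil, mul_one, dif_pos l11, Int.cast_one,
      one_mul, pow_one]
  have h8 : ∀ x y : K, X (rx 8) y * X (rx 7) x = X (rx 7) x * X (rx 8) y * X (rx 9) (-(x * y)) := fun x y => by
    rw [rel (rx 7) (rx 8) (by decide) (by decide +kernel),
      show Cfsg.Lie.chevG2.commTerms 7 8 = [(9, -2, 1, 1), (10, -3, 2, 1), (11, 3, 1, 2)] by decide +kernel]
    have l9 : (9 : ℕ) < Cfsg.Lie.chevG2.nroots := by decide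
    have l10 : (10 : ℕ) < Cfsg.Lie.chevG2.nroots := by decide
    have l11 : (11 : ℕ) < Cfsg.Lie.chevG2.nroots := by decide
    have h2 : (-2 : K) = 1 := by linear_combination -hc3
    simp only [List.map_cons, List.map_nil, List.prod_cons, List.prod_nil, mul_one, dif_pos l9, dif_pos l10,
      dif_pos l11, Int.cast_neg, Int.cast_ofNat, h2, hc3, neg_zero, zero_mul, X, Alg.xg_zero, pow_one, one_mul,
      neg_mul]
  have k68 := fun x y => commute_of (K := K) (rx 6) (rx 8) (by decide +kernel) (by decide +kernel) x y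
  have k69 := fun x y => commute_of (K := K) (rx 6) (rx 9) (by decide +kernel) (by decide +kernel) x y
  have k611 := fun x y => commute_of (K := K) (rx 6) (rx 11) (by decide +kernel) (by decide +kernel) x y
  have k710 := fun x y => commute_of (K := K) (rx 7) (rx 10) (by decide +kernel) (by decide +kernel) x y
  have k711 := fun x y => commute_of (K := K) (rx 7) (rx 11) (by decide +kernel) (by decide +kernel) x y
  have k79 : ∀ x y : K, Commute (X (rx 7) x) (X (rx 9) y) := fun x y => by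
    have h := rel (K := K) (rx 7) (rx 9) (by decide) (by decide +kernel) x y
    rw [show Cfsg.Lie.chevG2.commTerms 7 9 = [(10, 3, 1, 1)] by decide +kernel] at h
    show _ = _
    simpa [hc3, Alg.xg_zero] using h.symm
  have z : ∀ (n : ℕ) (h : n < Cfsg.Lie.chevG2.nroots), X (⟨n, h⟩ : Fin Cfsg.Lie.chevG2.nroots) (0 : K) = 1 :=
    fun n h => Alg.xg_zero _ _
  have s6 : ∀ x : K, M4 c d e f * X (rx 6) x = X (rx 6) x * M4 c d e (f - x * e) := fun x => by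
    calc _ = X (rx 8) c * X (rx 9) d * (X (rx 10) e * X (rx 6) x) * X (rx 11) f := by
          simp only [M4, mul_assoc]; rw [(k611 x f).eq]
      _ = X (rx 8) c * (X (rx 9) d * X (rx 6) x) * X (rx 10) e * X (rx 11) (-x * e) * X (rx 11) f := by
          rw [h10]; simp only [mul_assoc]
      _ = (X (rx 8) c * X (rx 6) x) * X (rx 9) d * X (rx 10) e * X (rx 11) (-x * e) * X (rx 11) f := by
          rw [← (k69 x d).eq]; simp only [mul_assoc]
      _ = X (rx 6) x * (X (rx 8) c * X (rx 9) d * X (rx 10) e * (X (rx 11) (-x * e) * X (rx 11) f)) := by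
          rw [← (k68 x c).eq]; simp only [mul_assoc]
      _ = _ := by
          rw [show f - x * e = -x * e + f by ring]
          simp only [X, Alg.xg_add, M4]
  have s7 : ∀ x c d e f : K, M4 c d e f * X (rx 7) x = X (rx 7) x * M4 c (d - x * c) e f := fun x c d e f => by
    calc _ = X (rx 8) c * X (rx 9) d * (X (rx 10) e * X (rx 7) x) * X (rx 11) f := by
          simp only [M4, mul_assoc]; rw [(k711 x f).eq]
      _ = X (rx 8) c * (X (rx 9) d * X (rx 7) x) * X (rx 10) e * X (rx 11) f := by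
          rw [← (k710 x e).eq]; simp only [mul_assoc]
      _ = (X (rx 8) c * X (rx 7) x) * X (rx 9) d * X (rx 10) e * X (rx 11) f := by
          rw [← (k79 x d).eq]; simp only [mul_assoc]
      _ = X (rx 7) x * (X (rx 8) c * (X (rx 9) (-(x * c)) * X (rx 9) d) * X (rx 10) e * X (rx 11) f) := by
          rw [h8]; simp only [mul_assoc]
      _ = _ := by
          rw [show d - x * c = -(x * c) + d by ring]
          simp only [X, Alg.xg_add, M4]
  calc P a b c d e f * P a' b' c' d' e' f'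
      = X (rx 6) a * X (rx 7) b * (M4 c d e f * X (rx 6) a') * X (rx 7) b' * M4 c' d' e' f' := by
        simp only [P, mul_assoc]
    _ = X (rx 6) a * (X (rx 7) b * X (rx 6) a') * M4 c d e (f - a' * e) * X (rx 7) b' * M4 c' d' e' f' := by
        rw [s6]; simp only [mul_assoc]
    _ = X (rx 6) a * X (rx 6) a' * X (rx 7) b *
        (M4 (-(a' * b)) (-(a' * b ^ 2)) (a' * b ^ 3) (a' ^ 2 * b ^ 3) * M4 c d e (f - a' * e) * X (rx 7) b') *
        M4 c' d' e' f' := by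
        rw [swap76 hc3, P]; simp only [mul_assoc]
    _ = X (rx 6) a * X (rx 6) a' * (X (rx 7) b * X (rx 7) b') *
        (M4 (c - a' * b) (d - a' * b ^ 2 - b' * (c - a' * b)) (e + a' * b ^ 3) (f - a' * e + a' ^ 2 * b ^ 3) *
        M4 c' d' e' f') := by
        rw [M4_mul hc3, s7]; simp only [mul_assoc]
        congr 5
        congr 1 <;> ring
    _ = _ := by
        rw [M4_mul hc3]
        simp only [X, Alg.xg_add, P]

include hc3 in
theorem P_cube (a b c d e f : K) :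
    P a b c d e f ^ 3 = P 0 0 0 (-(a * b ^ 2)) 0 (-(a ^ 2 * b ^ 3)) := by
  rw [pow_succ, pow_two, P_mul hc3, P_mul hc3]
  have h : ∀ x : K, x + x + x = 0 := fun x => by linear_combination x * hc3
  congr 1
  · exact h a
  · exact h b
  · linear_combination (c - a * b) * hc3
  · linear_combination (d - b * c) * hc3
  · linear_combination (e + 3 * a * b ^ 3) * hc3
  · linear_combination (f - a * e + 3 * a ^ 2 * b ^ 3) * hc3

theorem P_zero : P (0 : K) 0 0 0 0 0 = 1 := by simp [P, M4, X]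

include hK in
theorem card_order_three :
    Nat.card {u : ↥(Cfsg.Lie.chevG2.posUnipotent K ⊓ twistedG2 K (3 ^ m)) // orderOf u = 3} =
      (3 ^ (2 * m + 1)) ^ 2 - 1 := by
  classical
  haveI := Fact.mk Nat.prime_three
  have hiff : ∀ t u v : K, orderOf (U6 m t u v) = 3 ↔ t = 0 ∧ ¬ (u = 0 ∧ v = 0) := by
    intro t u v
    rw [orderOf_eq_prime_iff, U6_eq hK, P_cube (hc3 hK), ne_eq, ← P_zero (K := K)]
    constructor
    · rintro ⟨h, h'⟩
      obtain ⟨-, -, -, hd, -, -⟩ := P_injective h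
      have ht : t = 0 := by
        by_contra ht
        exact mul_ne_zero ht (pow_ne_zero _ (pow_ne_zero _ ht)) (neg_eq_zero.mp hd)
      subst ht
      refine ⟨rfl, ?_⟩
      rintro ⟨rfl, rfl⟩
      exact h' (by simp)
    · rintro ⟨rfl, h'⟩
      refine ⟨by simp, fun e => h' ?_⟩
      obtain ⟨-, -, -, -, h5, h6⟩ := P_injective e
      simp only [zero_mul, add_zero, ne_eq, OfNat.ofNat_ne_zero, not_false_eq_true, zero_pow] at h5 h6
      exact ⟨h5, h6⟩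
  let f : {x : K × K // x ≠ (0, 0)} →
      {u : ↥(Cfsg.Lie.chevG2.posUnipotent K ⊓ twistedG2 K (3 ^ m)) // orderOf u = 3} := fun x =>
    ⟨⟨U6 m 0 x.1.1 x.1.2, (mem_U_iff hK).mpr ⟨_, _, _, rfl⟩⟩, by
      rw [← Subgroup.orderOf_coe, hiff]
      exact ⟨rfl, fun h => x.2 (Prod.ext h.1 h.2)⟩⟩
  have hf : Function.Bijective f := by
    constructor
    · rintro ⟨⟨u, v⟩, hx⟩ ⟨⟨u', v'⟩, hy⟩ e
      have e' : U6 m 0 u v = U6 m 0 u' v' := congrArg (fun z => (z.1 : GL Cfsg.Lie.chevG2.Idx K)) e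
      rw [U6_eq hK, U6_eq hK] at e'
      obtain ⟨-, -, -, -, h5, h6⟩ := P_injective e'
      exact Subtype.ext (Prod.ext (add_right_cancel h5) (add_right_cancel h6))
    · rintro ⟨⟨g, hg⟩, ho⟩
      obtain ⟨t, u, v, rfl⟩ := (mem_U_iff hK).mp hg
      rw [← Subgroup.orderOf_coe, hiff] at ho
      obtain ⟨rfl, hne⟩ := ho
      exact ⟨⟨(u, v), fun e => hne ⟨congrArg Prod.fst e, congrArg Prod.snd e⟩⟩, rfl⟩
  rw [← Nat.card_congr (Equiv.ofBijective f hf), Nat.card_eq_fintype_card, Fintype.card_subtype_compl,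
    Fintype.card_prod, hK, Fintype.card_subtype_eq, pow_two]

include hK in
theorem tame {g : GL Cfsg.Lie.chevG2.Idx K} (hg : g ∈ twistedG2 K (3 ^ m))
    (hgB : g ∉ Cfsg.Lie.chevG2.borelSubgroup K) {x : GL Cfsg.Lie.chevG2.Idx K}
    (hx : x ∈ Cfsg.Lie.chevG2.posUnipotent K) (hgx : g * x * g⁻¹ ∈ Cfsg.Lie.chevG2.posUnipotent K) : x = 1 := by
  by_contra hne
  exact hgB (mem_B_of_conj hK hg hx hne hgx)

include hK in
theorem sylow_three_ti (P Q : Sylow 3 ↥(twistedG2 K (3 ^ m))) (hPQ : P ≠ Q) :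
    (P : Subgroup ↥(twistedG2 K (3 ^ m))) ⊓ (Q : Subgroup ↥(twistedG2 K (3 ^ m))) = ⊥ := by
  classical
  haveI := Fact.mk Nat.prime_three
  haveI : Finite ↥(twistedG2 K (3 ^ m)) := Subgroup.instFiniteSubtypeMem _
  set U0 : Subgroup ↥(twistedG2 K (3 ^ m)) := (Cfsg.Lie.chevG2.posUnipotent K ⊓ twistedG2 K (3 ^ m)).subgroupOf (twistedG2 K (3 ^ m))
  have hU0 : Nat.card U0 = 3 ^ (Nat.card ↥(twistedG2 K (3 ^ m))).factorization 3 := by
    rw [Nat.card_congr (Subgroup.subgroupOfEquivOfLe (inf_le_right)).toEquiv, card_U hK, ← pow_mul, card_G hK,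
      mul_assoc, ← pow_mul]
    have h3 : ¬ 3 ∣ (3 ^ (2 * m + 1) - 1) * (3 ^ ((2 * m + 1) * 3) + 1) := by
      have ha : 3 ∣ 3 ^ (2 * m + 1) := dvd_pow_self _ (by omega)
      have hb : 3 ∣ 3 ^ ((2 * m + 1) * 3) := dvd_pow_self _ (by omega)
      have hc := Nat.one_le_pow (2 * m + 1) 3 (by norm_num)
      rw [Nat.prime_three.dvd_mul]
      omega
    have hb0 : (3 ^ (2 * m + 1) - 1) * (3 ^ ((2 * m + 1) * 3) + 1) ≠ 0 := fun e => h3 (e ▸ dvd_zero 3)
    rw [Nat.factorization_mul (by positivity) hb0, Finsupp.coe_add, Pi.add_apply,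
      Nat.prime_three.factorization_pow, Finsupp.single_eq_same,
      Nat.factorization_eq_zero_of_not_dvd h3, add_zero]
  let S0 : Sylow 3 ↥(twistedG2 K (3 ^ m)) := Sylow.ofCard U0 hU0
  obtain ⟨a, ha⟩ := MulAction.exists_smul_eq ↥(twistedG2 K (3 ^ m)) S0 P
  obtain ⟨b, hb⟩ := MulAction.exists_smul_eq ↥(twistedG2 K (3 ^ m)) S0 Q
  refine (Subgroup.eq_bot_iff_forall _).mpr fun x hx => ?_
  obtain ⟨hxa, hxb⟩ := Subgroup.mem_inf.mp hx
  rw [← ha] at hxa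
  rw [← hb] at hxb
  rw [Sylow.coe_subgroup_smul, Sylow.coe_ofCard, Subgroup.mem_pointwise_smul_iff_inv_smul_mem] at hxa hxb
  rw [← map_inv, MulAut.smul_def, MulAut.conj_apply, inv_inv] at hxa hxb
  by_contra hne
  refine hPQ ?_
  have hB : ((a⁻¹ * b : ↥(twistedG2 K (3 ^ m))) : GL Cfsg.Lie.chevG2.Idx K) ∈ Cfsg.Lie.chevG2.borelSubgroup K := by
    by_contra hB
    refine hne ?_
    have h := tame hK (a⁻¹ * b).2 hB (x := ((b⁻¹ * x * b : ↥(twistedG2 K (3 ^ m))) : GL Cfsg.Lie.chevG2.Idx K))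
      (Subgroup.mem_subgroupOf.mp hxb).1 ?_
    · have h' : b⁻¹ * x * b = 1 := Subtype.ext h
      calc x = b * (b⁻¹ * x * b) * b⁻¹ := by group
        _ = 1 := by rw [h', mul_one, mul_inv_cancel]
    · rw [← Subgroup.coe_inv, ← Subgroup.coe_mul, ← Subgroup.coe_mul,
        show a⁻¹ * b * (b⁻¹ * x * b) * (a⁻¹ * b)⁻¹ = a⁻¹ * x * a by group]
      exact (Subgroup.mem_subgroupOf.mp hxa).1
  have hfix : (a⁻¹ * b) • S0 = S0 := by
    rw [Sylow.smul_eq_iff_mem_normalizer]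
    show a⁻¹ * b ∈ Subgroup.normalizer (U0 : Set ↥(twistedG2 K (3 ^ m)))
    rw [Subgroup.mem_normalizer_iff]
    intro y
    rw [Subgroup.mem_subgroupOf, Subgroup.mem_subgroupOf]
    constructor
    · intro hy
      refine Subgroup.mem_inf.mpr ⟨?_, SetLike.coe_mem _⟩
      exact B_normalizer_U hB hy.1
    · intro hy
      refine Subgroup.mem_inf.mpr ⟨?_, SetLike.coe_mem _⟩
      have := B_normalizer_U (inv_mem hB) hy.1
      rw [← Subgroup.coe_inv, ← Subgroup.coe_inv, ← Subgroup.coe_mul, ← Subgroup.coe_mul] at this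
      rwa [show (a⁻¹ * b)⁻¹ * (a⁻¹ * b * y * (a⁻¹ * b)⁻¹) * (a⁻¹ * b)⁻¹⁻¹ = y by group] at this
  rw [← ha, ← hb]
  conv_lhs => rw [← hfix]
  rw [smul_smul, mul_inv_cancel_left]

/-- The point stabiliser. -/
abbrev Bsub (K : Type*) [Field K] (m : ℕ) : Subgroup ↥(twistedG2 K (3 ^ m)) :=
  (Cfsg.Lie.chevG2.borelSubgroup K ⊓ twistedG2 K (3 ^ m)).subgroupOf (twistedG2 K (3 ^ m))

theorem mem_Bsub {g : ↥(twistedG2 K (3 ^ m))} :
    g ∈ Bsub K m ↔ (g : GL Cfsg.Lie.chevG2.Idx K) ∈ Cfsg.Lie.chevG2.borelSubgroup K := by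
  rw [Subgroup.mem_subgroupOf, Subgroup.mem_inf]
  exact and_iff_left g.2

/-- The second base point. -/
noncomputable def n0 : ↥(twistedG2 K (3 ^ m)) := ⟨w0 K, wN_mem hK⟩

theorem mem_stab_mk (h g : ↥(twistedG2 K (3 ^ m))) :
    h ∈ MulAction.stabilizer ↥(twistedG2 K (3 ^ m)) (g : ↥(twistedG2 K (3 ^ m)) ⧸ Bsub K m) ↔
      g⁻¹ * h * g ∈ Bsub K m := by
  rw [MulAction.mem_stabilizer_iff, MulAction.Quotient.smul_coe, smul_eq_mul, eq_comm, QuotientGroup.eq,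
    mul_assoc]

include hK in
/-- The stabiliser of three base points. -/
theorem stab_three {v : GL Cfsg.Lie.chevG2.Idx K} (hv : v ∈ Cfsg.Lie.chevG2.posUnipotent K ⊓ twistedG2 K (3 ^ m))
    (h : ↥(twistedG2 K (3 ^ m))) :
    h ∈ MulAction.stabilizer ↥(twistedG2 K (3 ^ m))
          ((1 : ↥(twistedG2 K (3 ^ m))) : ↥(twistedG2 K (3 ^ m)) ⧸ Bsub K m) ⊓
        MulAction.stabilizer ↥(twistedG2 K (3 ^ m)) ((n0 hK : ↥(twistedG2 K (3 ^ m))) : ↥(twistedG2 K (3 ^ m)) ⧸ Bsub K m) ⊓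
        MulAction.stabilizer ↥(twistedG2 K (3 ^ m))
          (((⟨v, hv.2⟩ * n0 hK : ↥(twistedG2 K (3 ^ m)))) : ↥(twistedG2 K (3 ^ m)) ⧸ Bsub K m) ↔
      ∃ s, (h : GL Cfsg.Lie.chevG2.Idx K) = th m s ∧ th m s * v = v * th m s := by
  rw [Subgroup.mem_inf, Subgroup.mem_inf, mem_stab_mk, mem_stab_mk, mem_stab_mk]
  rw [show (1 : ↥(twistedG2 K (3 ^ m)))⁻¹ * h * 1 = h by group]
  simp only [mem_Bsub, Subgroup.coe_mul, Subgroup.coe_inv, n0]
  have hn : ∀ y, y ∈ Cfsg.Lie.chevG2.diagonalSubgroup K → (w0 K)⁻¹ * y * w0 K ∈ Cfsg.Lie.chevG2.diagonalSubgroup K := by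
    intro y hy
    have := (Subgroup.mem_normalizer_iff.mp (CfsgLib.Chev.chevG2.N_le_normalizer_H (inv_mem (wN_N (K := K)))) y).mp hy
    rwa [inv_inv] at this
  constructor
  · rintro ⟨⟨h1, h2⟩, h3⟩
    rw [eq_fix hK] at hv
    have hh := h.2
    have hh' : (h : GL Cfsg.Lie.chevG2.Idx K) ∈ (tw hK).fix := le_fix hK hh
    obtain ⟨u, hu, y, hy, e⟩ := (tw hK).B_mem h1 hh'
    have hyn := hn y hy.1
    have hu1 : u = 1 := by
      rw [e, show (w0 K)⁻¹ * (u * y) * w0 K = (w0 K)⁻¹ * u * w0 K * ((w0 K)⁻¹ * y * w0 K) by group] at h2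
      have h4 := mul_mem h2 (inv_mem (Subgroup.mem_sup_right hyn : _ ∈ Cfsg.Lie.chevG2.borelSubgroup K))
      rw [mul_inv_cancel_right] at h4
      have h5 := eq_one_of_B_V h4 (w0_inv_conj_neg hu.1)
      calc u = w0 K * ((w0 K)⁻¹ * u * w0 K) * (w0 K)⁻¹ := by group
        _ = 1 := by rw [h5, mul_one, mul_inv_cancel]
    rw [hu1, one_mul] at e
    obtain ⟨s, hs⟩ := (mem_H_iff hK).mp (Subgroup.mem_inf.mpr ⟨hy.1, by rw [eq_fix hK]; exact hy.2⟩)
    refine ⟨s, e.trans hs, ?_⟩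
    have hys : y = th m s := hs
    rw [e] at h3
    rw [show (v * w0 K)⁻¹ * y * (v * w0 K) =
      (w0 K)⁻¹ * (v⁻¹ * (y * v * y⁻¹)) * w0 K * ((w0 K)⁻¹ * y * w0 K) by group] at h3
    have h4 := mul_mem h3 (inv_mem (Subgroup.mem_sup_right hyn : _ ∈ Cfsg.Lie.chevG2.borelSubgroup K))
    rw [mul_inv_cancel_right] at h4
    have h6 : v⁻¹ * (y * v * y⁻¹) ∈ Cfsg.Lie.chevG2.posUnipotent K := by
      refine mul_mem (inv_mem hv.1) ?_
      exact B_normalizer_U (Subgroup.mem_sup_right hy.1) hv.1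
    have h7 := eq_one_of_B_V h4 (w0_inv_conj_neg h6)
    have h8 : v⁻¹ * (y * v * y⁻¹) = 1 := by
      calc v⁻¹ * (y * v * y⁻¹) = w0 K * ((w0 K)⁻¹ * (v⁻¹ * (y * v * y⁻¹)) * w0 K) * (w0 K)⁻¹ := by group
        _ = 1 := by rw [h7, mul_one, mul_inv_cancel]
    rw [inv_mul_eq_one] at h8
    rw [← hys]
    calc y * v = y * v * y⁻¹ * y := by group
      _ = v * y := by rw [← h8]
  · rintro ⟨s, e, hc⟩
    have hy : th m s ∈ Cfsg.Lie.chevG2.diagonalSubgroup K := Tw.tor_mem_H _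
    rw [e]
    refine ⟨⟨Subgroup.mem_sup_right hy, Subgroup.mem_sup_right (hn _ hy)⟩, ?_⟩
    rw [show (v * w0 K)⁻¹ * th m s * (v * w0 K) = (w0 K)⁻¹ * (v⁻¹ * (th m s * v)) * w0 K by group, hc,
      inv_mul_cancel_left]
    exact Subgroup.mem_sup_right (hn _ hy)

theorem th_neg_commute (u : K) : th m (-1 : Kˣ) * P 0 0 (u ^ 3 ^ m) 0 u 0 * (th m (-1 : Kˣ))⁻¹ =
    P 0 0 (u ^ 3 ^ m) 0 u 0 := by
  obtain ⟨-, -, k8, -, k10, -⟩ := kk_val (m := m)
  have ho : Odd ((3 ^ m : ℕ) : ℤ) := by exact_mod_cast (Odd.pow (n := m) (by decide : Odd (3 : ℕ)))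
  rw [conj_P]
  simp only [mul_zero]
  congr 1
  · rw [k8, Even.neg_one_zpow (ho.neg.add_odd odd_one), Units.val_one, one_mul]
  · rw [k10, Even.neg_one_zpow (((by decide : Odd (3 : ℤ)).mul ho).sub_odd odd_one), Units.val_one, one_mul]

include hK in
theorem exists_reduction (x y z : ↥(twistedG2 K (3 ^ m)) ⧸ Bsub K m) (hxy : x ≠ y) (hxz : x ≠ z) (hyz : y ≠ z) :
    ∃ g : ↥(twistedG2 K (3 ^ m)), ∃ v, ∃ hv : v ∈ Cfsg.Lie.chevG2.posUnipotent K ⊓ twistedG2 K (3 ^ m), v ≠ 1 ∧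
      x = g • ((1 : ↥(twistedG2 K (3 ^ m))) : ↥(twistedG2 K (3 ^ m)) ⧸ Bsub K m) ∧
      y = g • ((n0 hK : ↥(twistedG2 K (3 ^ m))) : ↥(twistedG2 K (3 ^ m)) ⧸ Bsub K m) ∧
      z = g • (((⟨v, hv.2⟩ * n0 hK : ↥(twistedG2 K (3 ^ m)))) : ↥(twistedG2 K (3 ^ m)) ⧸ Bsub K m) := by
  induction x using QuotientGroup.induction_on with
  | _ a =>
  induction y using QuotientGroup.induction_on with
  | _ b =>
  induction z using QuotientGroup.induction_on with
  | _ c =>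
  rw [ne_eq, QuotientGroup.eq] at hxy hxz hyz
  rw [mem_Bsub] at hxy hxz
  obtain ⟨b1, hb1, u1, hu1, e1⟩ := bruhat_one hK (a⁻¹ * b).2 hxy
  let g : ↥(twistedG2 K (3 ^ m)) := a * ⟨b1, hb1.2⟩
  have hg : g⁻¹ * c = (⟨b1, hb1.2⟩ : ↥(twistedG2 K (3 ^ m)))⁻¹ * (a⁻¹ * c) := by
    simp [g, mul_assoc]
  have hgc : ((g⁻¹ * c : ↥(twistedG2 K (3 ^ m))) : GL Cfsg.Lie.chevG2.Idx K) ∉ Cfsg.Lie.chevG2.borelSubgroup K := by
    intro h
    refine hxz ?_
    rw [hg] at h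
    have := mul_mem hb1.1 h
    rwa [Subgroup.coe_mul, Subgroup.coe_inv, mul_inv_cancel_left] at this
  obtain ⟨b2, hb2, u2, hu2, e2⟩ := bruhat_one hK (g⁻¹ * c).2 hgc
  obtain ⟨v, hv, y', hy', e3⟩ := (tw hK).B_mem hb2.1 (le_fix hK hb2.2)
  rw [← eq_fix hK] at hv hy'
  have hq : (⟨b2, hb2.2⟩ * n0 hK : ↥(twistedG2 K (3 ^ m))) = ⟨v, hv.2⟩ * n0 hK *
      ⟨(w0 K)⁻¹ * y' * w0 K, mul_mem (mul_mem (inv_mem (wN_mem hK)) hy'.2) (wN_mem hK)⟩ := by
    refine Subtype.ext ?_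
    show b2 * w0 K = v * w0 K * ((w0 K)⁻¹ * y' * w0 K)
    rw [e3]; group
  have hyB : (w0 K)⁻¹ * y' * w0 K ∈ Cfsg.Lie.chevG2.borelSubgroup K := by
    have h := (Subgroup.mem_normalizer_iff.mp
      (CfsgLib.Chev.chevG2.N_le_normalizer_H (inv_mem (wN_N (K := K)))) y').mp hy'.1
    rw [inv_inv] at h
    exact Subgroup.mem_sup_right h
  have hX : (a : ↥(twistedG2 K (3 ^ m)) ⧸ Bsub K m) = g • ((1 : ↥(twistedG2 K (3 ^ m))) : ↥(twistedG2 K (3 ^ m)) ⧸ Bsub K m) := by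
    rw [MulAction.Quotient.smul_coe, smul_eq_mul, mul_one, QuotientGroup.eq, mem_Bsub]
    simp only [g, inv_mul_cancel_left]
    exact hb1.1
  have hY : (b : ↥(twistedG2 K (3 ^ m)) ⧸ Bsub K m) =
      g • ((n0 hK : ↥(twistedG2 K (3 ^ m))) : ↥(twistedG2 K (3 ^ m)) ⧸ Bsub K m) := by
    rw [MulAction.Quotient.smul_coe, smul_eq_mul, QuotientGroup.eq, mem_Bsub]
    have : b⁻¹ * (g * n0 hK) = (⟨u1, hu1.2⟩ : ↥(twistedG2 K (3 ^ m)))⁻¹ := by
      have e : a⁻¹ * b = ⟨b1, hb1.2⟩ * n0 hK * ⟨u1, hu1.2⟩ := Subtype.ext e1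
      rw [inv_mul_eq_iff_eq_mul.mp e]
      simp only [g, _root_.mul_inv_rev, mul_assoc, inv_mul_cancel_left, inv_mul_cancel, mul_one]
    rw [this]
    exact Subgroup.mem_sup_left (inv_mem hu1.1)
  have hZ : (c : ↥(twistedG2 K (3 ^ m)) ⧸ Bsub K m) =
      g • (((⟨v, hv.2⟩ * n0 hK : ↥(twistedG2 K (3 ^ m)))) : ↥(twistedG2 K (3 ^ m)) ⧸ Bsub K m) := by
    rw [MulAction.Quotient.smul_coe, smul_eq_mul, QuotientGroup.eq, mem_Bsub]
    have e : g⁻¹ * c = ⟨b2, hb2.2⟩ * n0 hK * ⟨u2, hu2.2⟩ := Subtype.ext e2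
    rw [hq] at e
    rw [inv_mul_eq_iff_eq_mul.mp e]
    simp only [_root_.mul_inv_rev, mul_assoc, inv_mul_cancel_left, inv_mul_cancel, mul_one, Subgroup.coe_mul,
      Subgroup.coe_inv]
    exact mul_mem (Subgroup.mem_sup_left (inv_mem hu2.1)) (inv_mem hyB)
  refine ⟨g, v, hv, ?_, hX, hY, hZ⟩
  intro hv1
  refine hyz (QuotientGroup.eq.mp (hY.trans (Eq.trans ?_ hZ.symm)))
  have e : (⟨v, hv.2⟩ * n0 hK : ↥(twistedG2 K (3 ^ m))) = n0 hK := Subtype.ext (by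
    rw [Subgroup.coe_mul]
    show v * w0 K = w0 K
    rw [hv1, one_mul])
  rw [e]

include hK in
theorem three_point :
    (∀ x y z : ↥(twistedG2 K (3 ^ m)) ⧸ Bsub K m, x ≠ y → x ≠ z → y ≠ z →
      Nat.card ↥(MulAction.stabilizer ↥(twistedG2 K (3 ^ m)) x ⊓ MulAction.stabilizer ↥(twistedG2 K (3 ^ m)) y ⊓
        MulAction.stabilizer ↥(twistedG2 K (3 ^ m)) z) ≤ 2) ∧
    ∃ x y z : ↥(twistedG2 K (3 ^ m)) ⧸ Bsub K m, x ≠ y ∧ x ≠ z ∧ y ≠ z ∧
      Nat.card ↥(MulAction.stabilizer ↥(twistedG2 K (3 ^ m)) x ⊓ MulAction.stabilizer ↥(twistedG2 K (3 ^ m)) y ⊓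
        MulAction.stabilizer ↥(twistedG2 K (3 ^ m)) z) = 2 := by
  classical
  haveI : Finite ↥(twistedG2 K (3 ^ m)) := Subgroup.instFiniteSubtypeMem _
  let T : Set ↥(twistedG2 K (3 ^ m)) := {1, ⟨th m (-1), (th_mem_H hK _).2⟩}
  have hT : T.ncard = 2 := by
    refine Set.ncard_pair fun e => ?_
    have h := th_injective (K := K) (m := m) (th_one.trans (congrArg Subtype.val e))
    haveI := charP_three hK
    have h2 : ((1 : Kˣ) : K) = ((-1 : Kˣ) : K) := congrArg Units.val h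
    rw [Units.val_neg, Units.val_one] at h2
    have h3 : ((2 : ℕ) : K) = 0 := by push_cast; linear_combination h2
    exact absurd ((CharP.cast_eq_zero_iff K 3 2).mp h3) (by norm_num)
  have hsub : ∀ {v} (hv : v ∈ Cfsg.Lie.chevG2.posUnipotent K ⊓ twistedG2 K (3 ^ m)), v ≠ 1 →
      ((MulAction.stabilizer ↥(twistedG2 K (3 ^ m))
          ((1 : ↥(twistedG2 K (3 ^ m))) : ↥(twistedG2 K (3 ^ m)) ⧸ Bsub K m) ⊓
        MulAction.stabilizer ↥(twistedG2 K (3 ^ m)) ((n0 hK : ↥(twistedG2 K (3 ^ m))) : ↥(twistedG2 K (3 ^ m)) ⧸ Bsub K m) ⊓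
        MulAction.stabilizer ↥(twistedG2 K (3 ^ m))
          (((⟨v, hv.2⟩ * n0 hK : ↥(twistedG2 K (3 ^ m)))) : ↥(twistedG2 K (3 ^ m)) ⧸ Bsub K m) :
        Subgroup ↥(twistedG2 K (3 ^ m))) : Set ↥(twistedG2 K (3 ^ m))) ⊆ T := by
    intro v hv hne h hh
    obtain ⟨s, e, hc⟩ := (stab_three hK hv h).mp hh
    have h2 := sq_one_of_commute hK hv.1 hne hc
    have h3 : (s : K) * s = 1 := by
      rw [← Units.val_mul, ← pow_two, show s ^ 2 = s ^ (2 : ℤ) from (_root_.zpow_natCast s 2).symm, h2, Units.val_one]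
    rcases mul_self_eq_one_iff.mp h3 with h4 | h4
    · left
      refine Subtype.ext ?_
      rw [e, show s = 1 from Units.ext h4, th_one]
      rfl
    · right
      refine Subtype.ext ?_
      rw [e, show s = -1 from Units.ext (by rw [h4, Units.val_neg, Units.val_one])]
  constructor
  · intro x y z hxy hxz hyz
    obtain ⟨g, v, hv, hne, rfl, rfl, rfl⟩ := exists_reduction hK x y z hxy hxz hyz
    rw [MulAction.stabilizer_smul_eq_stabilizer_map_conj, MulAction.stabilizer_smul_eq_stabilizer_map_conj,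
      MulAction.stabilizer_smul_eq_stabilizer_map_conj, ← Subgroup.map_inf _ _ _ (MulAut.conj g).injective,
      ← Subgroup.map_inf _ _ _ (MulAut.conj g).injective,
      Subgroup.card_map_of_injective (f := (MulAut.conj g).toMonoidHom) (MulAut.conj g).injective,
      show ∀ A : Subgroup ↥(twistedG2 K (3 ^ m)), Nat.card A = (A : Set ↥(twistedG2 K (3 ^ m))).ncard from
        fun A => Nat.card_coe_set_eq _]
    exact (Set.ncard_le_ncard (hsub hv hne)).trans hT.le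
  · set v := P (0 : K) 0 ((1 : K) ^ 3 ^ m) 0 1 0 with hvdef
    have hv : v ∈ Cfsg.Lie.chevG2.posUnipotent K ⊓ twistedG2 K (3 ^ m) := by
      refine (mem_U_iff hK).mpr ⟨0, 1, 0, ?_⟩
      rw [U6_eq hK]
      simp [hvdef]
    have hne : v ≠ 1 := by
      rw [← P_zero (K := K), hvdef]
      intro e
      exact one_ne_zero (P_injective e).2.2.2.2.1
    refine ⟨((1 : ↥(twistedG2 K (3 ^ m))) : ↥(twistedG2 K (3 ^ m)) ⧸ Bsub K m),
      ((n0 hK : ↥(twistedG2 K (3 ^ m))) : ↥(twistedG2 K (3 ^ m)) ⧸ Bsub K m),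
      (((⟨v, hv.2⟩ * n0 hK : ↥(twistedG2 K (3 ^ m)))) : ↥(twistedG2 K (3 ^ m)) ⧸ Bsub K m), ?_, ?_, ?_, ?_⟩
    · rw [ne_eq, QuotientGroup.eq, mem_Bsub, _root_.inv_one, one_mul]
      exact not_mem_B_w0 hK
    · rw [ne_eq, QuotientGroup.eq, mem_Bsub, _root_.inv_one, one_mul]
      show v * w0 K ∉ _
      intro h
      refine not_mem_B_w0 hK ?_
      have := mul_mem (inv_mem (Subgroup.mem_sup_left hv.1 : v ∈ Cfsg.Lie.chevG2.borelSubgroup K)) h
      rwa [inv_mul_cancel_left] at this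
    · rw [ne_eq, QuotientGroup.eq, mem_Bsub]
      show (w0 K)⁻¹ * (v * w0 K) ∉ _
      intro h
      rw [← mul_assoc] at h
      have h5 := eq_one_of_B_V h (w0_inv_conj_neg hv.1)
      refine hne ?_
      calc v = w0 K * ((w0 K)⁻¹ * v * w0 K) * (w0 K)⁻¹ := by group
        _ = 1 := by rw [h5, mul_one, mul_inv_cancel]
    · rw [show ∀ A : Subgroup ↥(twistedG2 K (3 ^ m)), Nat.card A = (A : Set ↥(twistedG2 K (3 ^ m))).ncard from
        fun A => Nat.card_coe_set_eq _, ← hT]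
      congr 1
      refine Set.Subset.antisymm (hsub hv hne) ?_
      intro h hh
      rcases hh with rfl | rfl
      · exact one_mem _
      · refine (stab_three hK hv _).mpr ⟨-1, rfl, ?_⟩
        have := th_neg_commute (m := m) (1 : K)
        rw [mul_inv_eq_iff_eq_mul] at this
        exact this


end CfsgLib.Chev.T2G2
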