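/-
The centraliser of an involution in the small Ree groups.
-/
import Cfsg.Agent.Lib.Chev.Twist.ReeG2
import Cfsg.Agent.Lib.Chev.SL2Hom
import Cfsg.Agent.Lib.SL2Orders
import Cfsg.Agent.Lib.SLCard

namespace CfsgLib.Chev.T2G2

open Cfsg.Lie Matrix Chev

set_option linter.dupNamespace false
set_option linter.unusedSectionVars false
set_option maxRecDepth 100000

variable {K : Type*} [Field K] [Fintype K] {m : ℕ} (hK : Fintype.card K = 3 ^ (2 * m + 1))

/-- The field endomorphism. -/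
noncomputable def theta : K →+* K := (exists_e hK).choose

theorem theta_apply (x : K) : theta hK x = x ^ 3 ^ m := (exists_e hK).choose_spec x

/-- The rank one homomorphism on the short root. -/
noncomputable def phi8 : SpecialLinearGroup (Fin 2) K →* GL Cfsg.Lie.chevG2.Idx K :=
  (CfsgLib.Chev.chevG2.rankOne K (rx 8)).hom.comp (SpecialLinearGroup.map (theta hK))

/-- The rank one homomorphism on the long root. -/
noncomputable def phi10 (K : Type*) [Field K] : SpecialLinearGroup (Fin 2) K →* GL Cfsg.Lie.chevG2.Idx K :=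
  (CfsgLib.Chev.chevG2.rankOne K (rx 10)).hom

theorem comm_roots (x y : K) (r : Fin Cfsg.Lie.chevG2.nroots) (hr : r = rx 8 ∨ r = rx 3)
    (s : Fin Cfsg.Lie.chevG2.nroots) (hs : s = rx 10 ∨ s = rx 1) : Commute (X r x) (X s y) := by
  rcases hr with rfl | rfl <;> rcases hs with rfl | rfl <;>
    exact commute_of _ _ (by decide +kernel) (by decide +kernel) x y

theorem rev_roots : (rx 8).rev = rx 3 ∧ (rx 10).rev = rx 1 := by
  constructor <;> decide +kernel

theorem phi_commute (A B : SpecialLinearGroup (Fin 2) K) : Commute (phi8 hK A) (phi10 K B) := by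
  obtain ⟨r8, r10⟩ := rev_roots
  have h8 : phi8 hK A ∈ (CfsgLib.Chev.chevG2.rankOne K (rx 8)).hom.range := ⟨_, rfl⟩
  have h10 : phi10 K B ∈ (CfsgLib.Chev.chevG2.rankOne K (rx 10)).hom.range := ⟨_, rfl⟩
  rw [RankOne.range_hom] at h8 h10
  have hle : Subgroup.closure (Set.range (CfsgLib.Chev.chevG2.rankOne K (rx 8)).x ∪
      Set.range (CfsgLib.Chev.chevG2.rankOne K (rx 8)).y) ≤
      Subgroup.centralizer (Subgroup.closure (Set.range (CfsgLib.Chev.chevG2.rankOne K (rx 10)).x ∪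
        Set.range (CfsgLib.Chev.chevG2.rankOne K (rx 10)).y) : Set (GL Cfsg.Lie.chevG2.Idx K)) := by
    rw [Subgroup.centralizer_closure, Subgroup.closure_le]
    intro a ha
    rw [SetLike.mem_coe, Subgroup.mem_centralizer_iff]
    intro b hb
    rcases ha with ⟨x, rfl⟩ | ⟨x, rfl⟩ <;> rcases hb with ⟨y, rfl⟩ | ⟨y, rfl⟩ <;>
      refine ((comm_roots x y _ ?_ _ ?_).eq).symm <;> simp [r8, r10]
  exact ((Subgroup.mem_centralizer_iff.mp (hle h8)) _ h10).symm

/-- The diagonal embedding of SL₂. -/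
noncomputable def psi : SpecialLinearGroup (Fin 2) K →* GL Cfsg.Lie.chevG2.Idx K :=
  MonoidHom.mk' (fun A => phi8 hK A * phi10 K A) fun A B => by
    rw [map_mul, map_mul]
    calc phi8 hK A * phi8 hK B * (phi10 K A * phi10 K B)
        = phi8 hK A * (phi8 hK B * phi10 K A) * phi10 K B := by simp only [mul_assoc]
      _ = phi8 hK A * (phi10 K A * phi8 hK B) * phi10 K B := by rw [(phi_commute hK B A).eq]
      _ = _ := by simp only [mul_assoc]

theorem map_val (A : SpecialLinearGroup (Fin 2) K) (i j : Fin 2) :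
    (SpecialLinearGroup.map (theta hK) A).1 i j = theta hK (A.1 i j) := rfl

theorem map_u (t : K) : SpecialLinearGroup.map (theta hK) (RankOne.u t) = RankOne.u (theta hK t) := by
  refine Subtype.ext ?_
  ext i j
  rw [map_val]
  fin_cases i <;> fin_cases j <;> simp [RankOne.u]

theorem map_l (t : K) : SpecialLinearGroup.map (theta hK) (RankOne.l t) = RankOne.l (theta hK t) := by
  refine Subtype.ext ?_
  ext i j
  rw [map_val]
  fin_cases i <;> fin_cases j <;> simp [RankOne.l]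

theorem psi_u (t : K) : psi hK (RankOne.u t) = U6 m 0 t 0 := by
  show phi8 hK _ * phi10 K _ = _
  simp only [phi8, phi10, MonoidHom.comp_apply, map_u, RankOne.hom_u]
  show X (rx 8) (theta hK t) * X (rx 10) t = _
  have h3 : (3 : ℕ) ^ m ≠ 0 := pow_ne_zero _ (by norm_num)
  rw [U6, theta_apply, zero_pow h3, zero_pow (by omega : 2 * 3 ^ m + 1 ≠ 0), zero_pow (Nat.succ_ne_zero _)]
  simp [X, zero_add]

theorem psi_l (t : K) : psi hK (RankOne.l t) = V6 m 0 (-t) 0 := by
  show phi8 hK _ * phi10 K _ = _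
  simp only [phi8, phi10, MonoidHom.comp_apply, map_l, RankOne.hom_l]
  show X (rx 8).rev (theta hK t) * X (rx 10).rev t = _
  have h3 : (3 : ℕ) ^ m ≠ 0 := pow_ne_zero _ (by norm_num)
  rw [V6, theta_apply, zero_pow h3, zero_pow (by omega : 2 * 3 ^ m + 1 ≠ 0), zero_pow (Nat.succ_ne_zero _),
    Odd.neg_pow (Odd.pow (by decide))]
  simp [X, zero_add]

theorem psi_mem (A : SpecialLinearGroup (Fin 2) K) : psi hK A ∈ twistedG2 K (3 ^ m) := by
  have hA : A ∈ Subgroup.closure (Set.range RankOne.u ∪ {RankOne.w}) := by rw [RankOne.closure_u_w]; trivial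
  suffices Subgroup.closure (Set.range RankOne.u ∪ {RankOne.w}) ≤ (twistedG2 K (3 ^ m)).comap (psi hK) from this hA
  rw [Subgroup.closure_le]
  rintro _ (⟨t, rfl⟩ | rfl)
  · show psi hK _ ∈ twistedG2 K (3 ^ m)
    rw [psi_u]
    exact U6_mem _ _ _
  · show psi hK _ ∈ twistedG2 K (3 ^ m)
    rw [show (RankOne.w : SpecialLinearGroup (Fin 2) K) = RankOne.u 1 * RankOne.l (-1) * RankOne.u 1 from
      Subtype.ext (by
        simp only [RankOne.val_mul]
        ext i j
        fin_cases i <;> fin_cases j <;> simp [RankOne.u, RankOne.l, RankOne.w, Matrix.mul_apply, Fin.sum_univ_two]),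
      map_mul, map_mul, psi_u, psi_l]
    exact mul_mem (mul_mem (U6_mem _ _ _) (V6_mem _ _ _)) (U6_mem _ _ _)

/-- The diagonal matrices. -/
def dg (s : Kˣ) : SpecialLinearGroup (Fin 2) K :=
  ⟨!![(s : K), 0; 0, ((s⁻¹ : Kˣ) : K)], by simp [Matrix.det_fin_two]⟩

theorem psi_dg (s : Kˣ) : psi hK (dg s) =
    CfsgLib.Chev.chevG2.hw (rx 8) (Units.map (theta hK : K →* K) s) * CfsgLib.Chev.chevG2.hw (rx 10) s := by
  show phi8 hK _ * phi10 K _ = _
  congr 1
  · show (CfsgLib.Chev.chevG2.rankOne K (rx 8)).f _ = _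
    rw [RankOne.f_of_zero _ (by rw [map_val]; simp [dg]) (Units.map (theta hK : K →* K) s) (by rw [map_val]; simp [dg]),
      show (SpecialLinearGroup.map (theta hK) (dg s)).1 0 1 = 0 by rw [map_val]; simp [dg], zero_div, RankOne.x_zero, mul_one]
    rfl
  · show (CfsgLib.Chev.chevG2.rankOne K (rx 10)).f _ = _
    rw [RankOne.f_of_zero _ (by simp [dg]) s (by simp [dg]),
      show (dg s).1 0 1 = 0 by simp [dg], zero_div, RankOne.x_zero, mul_one]
    rfl

include hK in
theorem psi_dg_th (s : Kˣ) : ∃ x : Kˣ, psi hK (dg s) = th m x ∧ x ^ kk m (rx 10) = s ^ (2 : ℤ) := by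
  have hH : psi hK (dg s) ∈ Cfsg.Lie.chevG2.diagonalSubgroup K := by
    rw [psi_dg, CfsgLib.Chev.chevG2.diagonalSubgroup_eq, CfsgLib.Chev.chevG2.hw_eq, CfsgLib.Chev.chevG2.hw_eq,
      ← map_mul, MonoidHom.mem_range]
    have h := fun r (t : Kˣ) => CfsgLib.Chev.chevG2.hw_eq (F := K) r t
    obtain ⟨d, hd⟩ : CfsgLib.Chev.chevG2.toAlg.torus
        (CfsgLib.Chev.chevG2.coChar (rx 8) (Units.map (theta hK : K →* K) s) * CfsgLib.Chev.chevG2.coChar (rx 10) s) ∈
          (Tw.tor (Φ := CfsgLib.Chev.chevG2) (F := K)).range := by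
      rw [map_mul, ← h, ← h]
      refine mul_mem ?_ ?_ <;>
        exact (CfsgLib.Chev.chevG2.diagonalSubgroup_eq (F := K)) ▸ CfsgLib.Chev.chevG2.hw_mem_H _ _
    exact ⟨d, hd⟩
  obtain ⟨x, hx⟩ := (mem_H_iff hK).mp (Subgroup.mem_inf.mpr ⟨hH, psi_mem hK _⟩)
  refine ⟨x, hx, ?_⟩
  have h1 : psi hK (dg s) * X (rx 10) (1 : K) * (psi hK (dg s))⁻¹ = X (rx 10) ((s : K) ^ 2) := by
    rw [psi_dg]
    have hc : Commute (CfsgLib.Chev.chevG2.hw (rx 8) (Units.map (theta hK : K →* K) s)) (X (rx 10) ((s : K) ^ 2 * 1)) := by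
      have hm : CfsgLib.Chev.chevG2.hw (rx 8) (Units.map (theta hK : K →* K) s) ∈
          (CfsgLib.Chev.chevG2.rankOne K (rx 8)).hom.range := by
        refine ⟨SpecialLinearGroup.map (theta hK) (dg s), ?_⟩
        show (CfsgLib.Chev.chevG2.rankOne K (rx 8)).f _ = _
        rw [RankOne.f_of_zero _ (by rw [map_val]; simp [dg]) (Units.map (theta hK : K →* K) s) (by rw [map_val]; simp [dg]),
          show (SpecialLinearGroup.map (theta hK) (dg s)).1 0 1 = 0 by rw [map_val]; simp [dg], zero_div, RankOne.x_zero, mul_one]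
        rfl
      rw [RankOne.range_hom] at hm
      have hle : Subgroup.closure (Set.range (CfsgLib.Chev.chevG2.rankOne K (rx 8)).x ∪
          Set.range (CfsgLib.Chev.chevG2.rankOne K (rx 8)).y) ≤
          Subgroup.centralizer {X (rx 10) ((s : K) ^ 2 * 1)} := by
        rw [Subgroup.closure_le]
        intro a ha
        rw [SetLike.mem_coe, Subgroup.mem_centralizer_singleton_iff]
        rcases ha with ⟨y, rfl⟩ | ⟨y, rfl⟩
        · exact (comm_roots y _ _ (Or.inl rfl) _ (Or.inl rfl)).eq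
        · exact (comm_roots y _ _ (Or.inr rev_roots.1) _ (Or.inl rfl)).eq
      exact Subgroup.mem_centralizer_singleton_iff.mp (hle hm)
    rw [mul_assoc (CfsgLib.Chev.chevG2.hw (rx 8) _), CfsgLib.Chev.chevG2.hw_xg, ← mul_assoc, hc.eq,
      mul_assoc _ (CfsgLib.Chev.chevG2.hw (rx 8) _), mul_inv_cancel_right, mul_one]
  rw [hx, conj_X, mul_one] at h1
  refine Units.ext ?_
  rw [CfsgLib.Chev.chevG2.toAlg.xg_injective _ h1, show (2 : ℤ) = ((2 : ℕ) : ℤ) from rfl, _root_.zpow_natCast,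
    Units.val_pow_eq_pow_val]

theorem eqMod_neg : packG2.eqMod 3
    ((nWZ (rx 8) (-1) ++ nWZ (rx 8) (-1) ++ nWZ (rx 10) (-1) ++ nWZ (rx 10) (-1)).map fun a => (a.1.val, a.2))
    [] = true := by decide +kernel

theorem neg_one_eq_dg : (-1 : SpecialLinearGroup (Fin 2) K) = dg (-1) := by
  refine Subtype.ext ?_
  ext i j
  fin_cases i <;> fin_cases j <;> simp [dg, inv_neg]

theorem psi_neg_one : psi hK (-1) = 1 := by
  haveI := charP_three hK
  rw [neg_one_eq_dg, psi_dg,
    show Units.map (theta hK : K →* K) (-1 : Kˣ) = -1 from Units.ext (by simp)]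
  have h := wordG_eq_of_eqMod CfsgLib.Chev.chevG2 (F := K) (P := packG2) (hn := by decide) (hd := datumOKG2)
    (ht := tabOKG2) (hr := rootsOKG2) rfl 3 (nWZ (rx 8) (-1) ++ nWZ (rx 8) (-1) ++ nWZ (rx 10) (-1) ++ nWZ (rx 10) (-1)) [] eqMod_neg
  rw [wordG_append, wordG_append, wordG_append, wordG_nWZ_neg_one, wordG_nWZ_neg_one] at h
  calc _ = CfsgLib.Chev.chevG2.wordG K [] := by
        rw [← h]
        simp only [Chev.hw, mul_assoc]
    _ = 1 := by simp [wordG]

/-- The involution. -/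
noncomputable def inv0 (K : Type*) [Field K] (m : ℕ) : GL Cfsg.Lie.chevG2.Idx K := th m (-1 : Kˣ)

theorem inv0_sq : inv0 K m * inv0 K m = 1 := by rw [inv0, ← th_mul, neg_one_mul, neg_neg, th_one]

include hK in
theorem neg_one_ne : (-1 : Kˣ) ≠ 1 := by
  intro e
  haveI := charP_three hK
  have h2 : ((-1 : Kˣ) : K) = ((1 : Kˣ) : K) := congrArg Units.val e
  rw [Units.val_neg, Units.val_one] at h2
  have h3 : ((2 : ℕ) : K) = 0 := by push_cast; linear_combination -h2
  exact absurd ((CharP.cast_eq_zero_iff K 3 2).mp h3) (by norm_num)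

theorem kk_parity : (-1 : Kˣ) ^ kk m (rx 6) = -1 ∧ (-1 : Kˣ) ^ kk m (rx 7) = -1 ∧ (-1 : Kˣ) ^ kk m (rx 8) = 1 ∧
    (-1 : Kˣ) ^ kk m (rx 9) = -1 ∧ (-1 : Kˣ) ^ kk m (rx 10) = 1 ∧ (-1 : Kˣ) ^ kk m (rx 11) = -1 ∧
    (-1 : Kˣ) ^ kk m (rx 3) = 1 ∧ (-1 : Kˣ) ^ kk m (rx 1) = 1 := by
  obtain ⟨k6, k7, k8, k9, k10, k11⟩ := kk_val (m := m)
  have ho : Odd ((3 ^ m : ℕ) : ℤ) := by exact_mod_cast (Odd.pow (n := m) (by decide : Odd (3 : ℕ)))
  have h3 : kk m (rx 3) = -kk m (rx 8) ∧ kk m (rx 1) = -kk m (rx 10) := by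
    have e : Cfsg.Lie.chevG2.cartan 0 3 = -Cfsg.Lie.chevG2.cartan 0 8 ∧
        Cfsg.Lie.chevG2.cartan 1 3 = -Cfsg.Lie.chevG2.cartan 1 8 ∧
        Cfsg.Lie.chevG2.cartan 0 1 = -Cfsg.Lie.chevG2.cartan 0 10 ∧
        Cfsg.Lie.chevG2.cartan 1 1 = -Cfsg.Lie.chevG2.cartan 1 10 := by decide +kernel
    constructor <;> simp only [kk, e.1, e.2.1, e.2.2.1, e.2.2.2] <;> ring
  obtain ⟨z, hz⟩ := ho
  refine ⟨Odd.neg_one_zpow ⟨-3 * z - 1, by rw [k6, hz]; ring⟩, Odd.neg_one_zpow ⟨2 * z, by rw [k7, hz]; ring⟩,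
    Even.neg_one_zpow ⟨-z, by rw [k8, hz]; ring⟩, Odd.neg_one_zpow ⟨z, by rw [k9, hz]⟩,
    Even.neg_one_zpow ⟨3 * z + 1, by rw [k10, hz]; ring⟩, Odd.neg_one_zpow ⟨0, by rw [k11]; ring⟩,
    Even.neg_one_zpow ⟨z, by rw [h3.1, k8, hz]; ring⟩,
    Even.neg_one_zpow ⟨-3 * z - 1, by rw [h3.2, k10, hz]; ring⟩⟩

theorem inv0_commute_psi (A : SpecialLinearGroup (Fin 2) K) : Commute (inv0 K m) (psi hK A) := by
  obtain ⟨-, -, p8, -, p10, -, p3, p1⟩ := kk_parity (K := K) (m := m)
  obtain ⟨r8, r10⟩ := rev_roots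
  have hX : ∀ r : Fin Cfsg.Lie.chevG2.nroots, (-1 : Kˣ) ^ kk m r = 1 → ∀ c : K,
      X r c ∈ Subgroup.centralizer {inv0 K m} := by
    intro r hr c
    rw [Subgroup.mem_centralizer_singleton_iff]
    have h := conj_X (m := m) (-1 : Kˣ) r c
    rw [hr, Units.val_one, one_mul, mul_inv_eq_iff_eq_mul] at h
    exact h.symm
  have key : ∀ r : Fin Cfsg.Lie.chevG2.nroots, (-1 : Kˣ) ^ kk m r = 1 → (-1 : Kˣ) ^ kk m r.rev = 1 →
      ∀ B, (CfsgLib.Chev.chevG2.rankOne K r).hom B ∈ Subgroup.centralizer {inv0 K m} := by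
    intro r h1 h2 B
    have hB : (CfsgLib.Chev.chevG2.rankOne K r).hom B ∈ (CfsgLib.Chev.chevG2.rankOne K r).hom.range := ⟨_, rfl⟩
    rw [RankOne.range_hom] at hB
    refine (Subgroup.closure_le _).mpr ?_ hB
    rintro _ (⟨c, rfl⟩ | ⟨c, rfl⟩)
    · exact hX r h1 c
    · exact hX r.rev h2 c
  exact (Subgroup.mem_centralizer_singleton_iff.mp
    (mul_mem (key (rx 8) p8 (r8 ▸ p3) (SpecialLinearGroup.map (theta hK) A))
      (key (rx 10) p10 (r10 ▸ p1) A))).symm

theorem psi_u_ne {t : K} (ht : t ≠ 0) : psi hK (RankOne.u t) ≠ 1 := by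
  rw [psi_u, U6_eq hK, ← P_zero (K := K)]
  intro e
  obtain ⟨-, -, -, -, h5, -⟩ := P_injective e
  rw [zero_mul, add_zero] at h5
  exact ht h5

theorem psi_mem_U (t : K) : psi hK (RankOne.u t) ∈ Cfsg.Lie.chevG2.posUnipotent K := by
  rw [psi_u, U6_eq hK, CfsgLib.Chev.chevG2.posUnipotent_eq_US]
  exact P_mem _ _ _ _ _ _

theorem psi_w_not_mem_B : psi hK RankOne.w ∉ Cfsg.Lie.chevG2.borelSubgroup K := by
  intro h
  have e : (RankOne.w : SpecialLinearGroup (Fin 2) K) * RankOne.u 1 * RankOne.w⁻¹ = RankOne.l (-1) := by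
    rw [mul_inv_eq_iff_eq_mul]
    refine Subtype.ext ?_
    simp only [RankOne.val_mul]
    ext i j
    fin_cases i <;> fin_cases j <;> simp [RankOne.u, RankOne.l, RankOne.w, Matrix.mul_apply, Fin.sum_univ_two]
  have h1 : psi hK (RankOne.l (-1)) = 1 := by
    refine eq_one_of_B_V ?_ ?_
    · rw [← e, map_mul, map_mul, map_inv]
      exact mul_mem (mul_mem h (Subgroup.mem_sup_left (psi_mem_U hK 1))) (inv_mem h)
    · rw [psi_l, CfsgLib.Chev.chevG2.negUnipotent_eq_US]
      refine CfsgLib.Chev.chevG2.US_mono (F := K) (fun r hr => ?_) (V6_mem_US o _ _ _)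
      rw [PJ_eq] at hr
      exact (CfsgLib.Chev.chevG2.pos_rev_iff r).mp hr
  rw [← e, map_mul, map_mul, map_inv, mul_inv_eq_one] at h1
  exact psi_u_ne hK one_ne_zero (mul_eq_left.mp h1)

include hK in
theorem ne_inv0_one : inv0 K m ≠ 1 := by
  intro e
  exact neg_one_ne hK (th_injective (e.trans th_one.symm))

include hK in
theorem psi_cases {A : SpecialLinearGroup (Fin 2) K} (hA : psi hK A = 1 ∨ psi hK A = inv0 K m) :
    A = 1 ∨ A = -1 := by
  have hB : psi hK A ∈ Cfsg.Lie.chevG2.borelSubgroup K := by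
    rcases hA with e | e <;> rw [e]
    · exact one_mem _
    · exact Subgroup.mem_sup_right (Tw.tor_mem_H _)
  have hdet := A.2
  rw [Matrix.det_fin_two] at hdet
  by_cases hc : A.1 1 0 = 0
  · rw [hc, mul_zero, sub_zero] at hdet
    have ha : A.1 0 0 ≠ 0 := left_ne_zero_of_mul_eq_one hdet
    set a := Units.mk0 _ ha with hadef
    have hd : A = dg a * RankOne.u (A.1 0 1 / A.1 0 0) := by
      refine Subtype.ext ?_
      simp only [RankOne.val_mul]
      ext i j
      fin_cases i <;> fin_cases j <;> simp [dg, RankOne.u, Matrix.mul_apply, Fin.sum_univ_two, hadef, hc]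
      · field_simp
      · field_simp; linear_combination hdet
    obtain ⟨x, hx, hxs⟩ := psi_dg_th hK a
    rw [hd, map_mul, hx] at hA
    obtain ⟨s, hs⟩ : ∃ s : Kˣ, th m x * psi hK (RankOne.u (A.1 0 1 / A.1 0 0)) = th m s ∧ s ^ (2 : ℤ) = 1 := by
      rcases hA with e | e
      · exact ⟨1, e.trans th_one.symm, _root_.one_zpow _⟩
      · exact ⟨-1, e, Even.neg_one_zpow ⟨1, rfl⟩⟩
    have hu : psi hK (RankOne.u (A.1 0 1 / A.1 0 0)) = 1 := by
      refine CfsgLib.Chev.chevG2.eq_one_of_mem_U_of_mem_N (psi_mem_U hK _) ?_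
      rw [eq_inv_mul_of_mul_eq hs.1]
      exact H_le_N (mul_mem (inv_mem (Tw.tor_mem_H _)) (Tw.tor_mem_H _))
    have hb : A.1 0 1 / A.1 0 0 = 0 := by
      by_contra h
      exact psi_u_ne hK h hu
    rw [hu, mul_one] at hs
    obtain rfl := th_injective hs.1
    have hk : a ^ (2 : ℤ) = 1 := by
      rw [← hxs]
      have h2 : x ^ kk m (rx 10) = x ^ ((kk m (rx 10) / 2) * 2) := by
        congr 1
        obtain ⟨z, hz⟩ : Odd ((3 ^ m : ℕ) : ℤ) := by exact_mod_cast (Odd.pow (n := m) (by decide : Odd (3 : ℕ)))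
        rw [(kk_val (m := m)).2.2.2.2.1, hz]
        omega
      rw [h2, mul_comm, _root_.zpow_mul, hs.2, _root_.one_zpow]
    have hk' : (a : K) * a = 1 := by
      rw [← Units.val_mul, ← pow_two, show a ^ 2 = a ^ (2 : ℤ) from (_root_.zpow_natCast a 2).symm, hk, Units.val_one]
    rcases mul_self_eq_one_iff.mp hk' with h1 | h1
    · left
      rw [hd, hb, show a = 1 from Units.ext h1]
      refine Subtype.ext ?_
      rw [RankOne.val_mul]
      ext i j
      fin_cases i <;> fin_cases j <;> simp [dg, RankOne.u, RankOne.val_mul, Matrix.mul_apply, Fin.sum_univ_two]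
    · right
      rw [hd, hb, show a = -1 from Units.ext (by rw [h1, Units.val_neg, Units.val_one])]
      refine Subtype.ext ?_
      rw [RankOne.val_mul]
      ext i j
      fin_cases i <;> fin_cases j <;> simp [dg, RankOne.u, RankOne.val_mul, Matrix.mul_apply, Fin.sum_univ_two, inv_neg]
  · exfalso
    set t := Units.mk0 (-(A.1 1 0)⁻¹) (neg_ne_zero.mpr (inv_ne_zero hc)) with htdef
    have hdec : A = RankOne.u (A.1 0 0 / A.1 1 0) * (dg t * RankOne.w) * RankOne.u (A.1 1 1 / A.1 1 0) := by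
      refine Subtype.ext ?_
      simp only [RankOne.val_mul]
      ext i j
      fin_cases i <;> fin_cases j <;>
        simp [dg, RankOne.u, RankOne.w, Matrix.mul_apply, Fin.sum_univ_two, htdef, inv_neg]
      · field_simp
      · field_simp; linear_combination (-1 : K) * hdet
      · field_simp
    obtain ⟨x, hx, -⟩ := psi_dg_th hK t
    rw [hdec, map_mul, map_mul, map_mul, hx] at hB
    have hB0 : ∀ y, psi hK (RankOne.u y) ∈ Cfsg.Lie.chevG2.borelSubgroup K := fun y =>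
      Subgroup.mem_sup_left (psi_mem_U hK y)
    have hx0 : th m x ∈ Cfsg.Lie.chevG2.borelSubgroup K := Subgroup.mem_sup_right (Tw.tor_mem_H _)
    rw [Subgroup.mul_mem_cancel_right _ (hB0 _), Subgroup.mul_mem_cancel_left _ (hB0 _),
      Subgroup.mul_mem_cancel_left _ hx0] at hB
    exact psi_w_not_mem_B hK hB

include hK in
theorem cent_U {v : GL Cfsg.Lie.chevG2.Idx K} (hv : v ∈ Cfsg.Lie.chevG2.posUnipotent K ⊓ twistedG2 K (3 ^ m))
    (hc : inv0 K m * v * (inv0 K m)⁻¹ = v) : ∃ t, v = psi hK (RankOne.u t) := by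
  obtain ⟨t, u, w, rfl⟩ := (mem_U_iff hK).mp hv
  haveI := charP_three hK
  rw [U6_eq hK, inv0, conj_P] at hc
  obtain ⟨p6, -, -, -, -, p11, -, -⟩ := kk_parity (K := K) (m := m)
  obtain ⟨h1, -, -, -, -, h6⟩ := P_injective hc
  have two : ∀ y : K, -y = y → y = 0 := fun y hy => by
    have h2 : (2 : K) * y = 0 := by linear_combination -hy
    refine (mul_eq_zero.mp h2).resolve_left ?_
    intro e
    exact absurd ((CharP.cast_eq_zero_iff K 3 2).mp (by exact_mod_cast e)) (by norm_num)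
  rw [p6, Units.val_neg, Units.val_one, neg_one_mul] at h1
  obtain rfl := two _ h1
  rw [p11, Units.val_neg, Units.val_one, neg_one_mul] at h6
  have h6' := two _ h6
  simp only [ne_eq, OfNat.ofNat_ne_zero, not_false_eq_true, zero_pow, zero_mul, add_zero] at h6'
  subst h6'
  exact ⟨u, (psi_u hK u).symm⟩

include hK in
theorem inv0_conj_w0 : inv0 K m * w0 K * (inv0 K m)⁻¹ = w0 K := by
  obtain ⟨s, hs⟩ := ((mem_H_iff hK (g := w0 K * inv0 K m * (w0 K)⁻¹)).mp) (Subgroup.mem_inf.mpr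
    ⟨(Subgroup.mem_normalizer_iff.mp (CfsgLib.Chev.chevG2.N_le_normalizer_H (wN_N (K := K))) _).mp
      (Tw.tor_mem_H _), mul_mem (mul_mem (wN_mem hK) (th_mem_H hK _).2) (inv_mem (wN_mem hK))⟩)
  have h2 : th m s * th m s = 1 := by
    rw [← hs, show w0 K * inv0 K m * (w0 K)⁻¹ * (w0 K * inv0 K m * (w0 K)⁻¹) =
      w0 K * (inv0 K m * inv0 K m) * (w0 K)⁻¹ by group, inv0_sq, mul_one, mul_inv_cancel]
  rw [← th_mul, ← th_one (m := m)] at h2
  have h3 : (s : K) * s = 1 := by rw [← Units.val_mul, th_injective h2, Units.val_one]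
  rcases mul_self_eq_one_iff.mp h3 with h4 | h4
  · exfalso
    rw [show s = 1 from Units.ext h4, th_one, mul_inv_eq_one] at hs
    exact ne_inv0_one hK (mul_eq_left.mp hs)
  · rw [show s = -1 from Units.ext (by rw [h4, Units.val_neg, Units.val_one])] at hs
    change _ = inv0 K m at hs
    rw [mul_inv_eq_iff_eq_mul] at hs ⊢
    exact hs.symm

include hK in
theorem cent_gen {g : GL Cfsg.Lie.chevG2.Idx K} (hg : g ∈ twistedG2 K (3 ^ m))
    (hc : inv0 K m * g * (inv0 K m)⁻¹ = g) : ∃ A, g = psi hK A ∨ g = inv0 K m * psi hK A := by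
  classical
  let L : Subgroup (GL Cfsg.Lie.chevG2.Idx K) := (psi hK).range ⊔ Subgroup.zpowers (inv0 K m)
  have hsub : ∀ g ∈ L, ∃ A, g = psi hK A ∨ g = inv0 K m * psi hK A := by
    intro g hg
    have hi : inv0 K m * inv0 K m = 1 := inv0_sq
    have hinv : ∀ A, psi hK A * inv0 K m = inv0 K m * psi hK A := fun A => (inv0_commute_psi hK A).eq.symm
    have hzp : Subgroup.zpowers (inv0 K m) = Subgroup.closure {inv0 K m} := Subgroup.zpowers_eq_closure _
    have hg' : g ∈ Subgroup.closure (Set.range (psi hK) ∪ {inv0 K m}) := by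
      rw [Subgroup.closure_union, ← MonoidHom.coe_range, Subgroup.closure_eq, ← hzp]
      exact hg
    induction hg' using Subgroup.closure_induction with
    | mem x hx =>
      rcases hx with ⟨A, rfl⟩ | rfl
      · exact ⟨A, Or.inl rfl⟩
      · exact ⟨1, Or.inr (by rw [map_one, mul_one])⟩
    | one => exact ⟨1, Or.inl (map_one _).symm⟩
    | mul x y hx' hy' ihx ihy =>
      obtain ⟨A, rfl | rfl⟩ := ihx (by
        rw [Subgroup.closure_union, ← MonoidHom.coe_range, Subgroup.closure_eq, ← hzp] at hx'; exact hx') <;>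
      obtain ⟨B, rfl | rfl⟩ := ihy (by
        rw [Subgroup.closure_union, ← MonoidHom.coe_range, Subgroup.closure_eq, ← hzp] at hy'; exact hy')
      · exact ⟨A * B, Or.inl (map_mul _ _ _).symm⟩
      · exact ⟨A * B, Or.inr (by rw [← mul_assoc, hinv, mul_assoc, map_mul])⟩
      · exact ⟨A * B, Or.inr (by rw [mul_assoc, map_mul])⟩
      · refine ⟨A * B, Or.inl ?_⟩
        rw [mul_assoc, ← mul_assoc (psi hK A), hinv, mul_assoc (inv0 K m) (psi hK A), ← mul_assoc, hi, one_mul,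
          map_mul]
    | inv x hx' ihx =>
      obtain ⟨A, rfl | rfl⟩ := ihx (by
        rw [Subgroup.closure_union, ← MonoidHom.coe_range, Subgroup.closure_eq, ← hzp] at hx'; exact hx')
      · exact ⟨A⁻¹, Or.inl (map_inv _ _).symm⟩
      · refine ⟨A⁻¹, Or.inr ?_⟩
        rw [_root_.mul_inv_rev, inv_eq_of_mul_eq_one_left hi, map_inv]
        exact ((inv0_commute_psi hK A).inv_right).eq.symm
  refine hsub g ?_
  have hL : ∀ A, psi hK A ∈ L := fun A => Subgroup.mem_sup_left ⟨A, rfl⟩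
  have hH : ∀ y, y ∈ Cfsg.Lie.chevG2.diagonalSubgroup K ⊓ twistedG2 K (3 ^ m) → y ∈ L := by
    intro y hy
    obtain ⟨x, rfl⟩ := (mem_H_iff hK).mp hy
    have hfour : ∀ v : Kˣ, th m ((v * v) * (v * v)) ∈ L := by
      intro v
      obtain ⟨z, hz, hz2⟩ := psi_dg_th hK (v ^ (3 * ((3 ^ m : ℕ) : ℤ) - 1))
      have hk := (kk_val (m := m)).2.2.2.2.1
      have e : z * z = (v * v) * (v * v) := by
        have h2 := pow_units hK z
        have h3 := pow_units hK v
        rw [hk] at hz2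
        generalize hE : ((3 ^ m : ℕ) : ℤ) = E at *
        calc z * z = z ^ ((3 * E - 1) * (3 * E + 1) + (3 * (E * E) - 1) * (-3)) := by
              rw [show (3 * E - 1) * (3 * E + 1) + (3 * (E * E) - 1) * (-3) = 2 by ring, _root_.zpow_two]
          _ = v ^ ((3 * E - 1) * 2 * (3 * E + 1)) := by
              rw [_root_.zpow_add, _root_.zpow_mul, hz2, _root_.zpow_mul _ _ (-3), h2, _root_.one_zpow, mul_one,
                ← _root_.zpow_mul, ← _root_.zpow_mul]
              ring_nf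
          _ = v ^ ((4 : ℤ) + (3 * (E * E) - 1) * 6) := by congr 1; ring
          _ = _ := by
              rw [_root_.zpow_add, _root_.zpow_mul, h3, _root_.one_zpow, mul_one,
                show (4 : ℤ) = 2 + 2 by norm_num, _root_.zpow_add, _root_.zpow_two]
      rw [← e, th_mul, ← hz]
      exact mul_mem (hL _) (hL _)
    obtain ⟨w, hw⟩ := exists_sq hK x
    obtain ⟨v, hv⟩ := exists_sq hK w
    have hx : x = (v * v) * (v * v) ∨ x = -((v * v) * (v * v)) := by
      rcases hw with rfl | hw <;> rcases hv with rfl | hv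
      · exact Or.inl rfl
      · exact Or.inl (by rw [hv]; simp)
      · exact Or.inr (by rw [hw, neg_neg])
      · exact Or.inr (by rw [hv, neg_mul_neg, hw, neg_neg])
    rcases hx with rfl | rfl
    · exact hfour v
    · rw [show -((v * v) * (v * v)) = -1 * ((v * v) * (v * v)) from (neg_one_mul _).symm, th_mul]
      exact mul_mem (Subgroup.mem_sup_right (Subgroup.mem_zpowers _)) (hfour v)
  have hU : ∀ v, v ∈ Cfsg.Lie.chevG2.posUnipotent K ⊓ twistedG2 K (3 ^ m) →
      inv0 K m * v * (inv0 K m)⁻¹ = v → v ∈ L := by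
    intro v hv hc
    obtain ⟨t, rfl⟩ := cent_U hK hv hc
    exact hL _
  have hBc : ∀ b, b ∈ Cfsg.Lie.chevG2.borelSubgroup K → b ∈ twistedG2 K (3 ^ m) →
      inv0 K m * b * (inv0 K m)⁻¹ = b → b ∈ L := by
    intro b hb hbG hbc
    obtain ⟨v, hv, y, hy, rfl⟩ := (tw hK).B_mem hb (le_fix hK hbG)
    rw [← eq_fix hK] at hv hy
    refine mul_mem (hU v hv ?_) (hH y hy)
    obtain ⟨s, rfl⟩ := (mem_H_iff hK).mp hy
    have hs : inv0 K m * th m s * (inv0 K m)⁻¹ = th m s := by
      rw [inv0, ← th_mul, mul_comm, th_mul, mul_inv_cancel_right]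
    rw [show inv0 K m * (v * th m s) * (inv0 K m)⁻¹ =
      inv0 K m * v * (inv0 K m)⁻¹ * (inv0 K m * th m s * (inv0 K m)⁻¹) by group, hs] at hbc
    exact mul_right_cancel hbc
  have hd : ∀ g, g ∈ twistedG2 K (3 ^ m) → inv0 K m * g * (inv0 K m)⁻¹ = g →
      g ∉ Cfsg.Lie.chevG2.borelSubgroup K → ∃ x ∈ L, ∃ y ∈ L, g = x * w0 K * y := by
    intro g hg hc hB
    obtain ⟨b, hb, u, hu, rfl⟩ := bruhat_one hK hg hB
    rw [show inv0 K m * (b * w0 K * u) * (inv0 K m)⁻¹ = inv0 K m * b * (inv0 K m)⁻¹ *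
      (inv0 K m * w0 K * (inv0 K m)⁻¹) * (inv0 K m * u * (inv0 K m)⁻¹) by group, inv0_conj_w0 hK] at hc
    have hiB : inv0 K m ∈ Cfsg.Lie.chevG2.borelSubgroup K := Subgroup.mem_sup_right (Tw.tor_mem_H _)
    have hInv : CfsgLib.Chev.chevG2.toTables.Pos = CfsgLib.Chev.chevG2.Inv (S.w o) :=
      funext fun r => propext ((S.inv_w o r).trans (by rw [PJ_eq])).symm
    have hu1 : u ∈ CfsgLib.Chev.chevG2.US K (CfsgLib.Chev.chevG2.Inv (S.w o)) := by
      rw [← hInv, ← CfsgLib.Chev.chevG2.posUnipotent_eq_US]; exact hu.1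
    have hu2 : inv0 K m * u * (inv0 K m)⁻¹ ∈ CfsgLib.Chev.chevG2.US K (CfsgLib.Chev.chevG2.Inv (S.w o)) := by
      rw [← hInv, ← CfsgLib.Chev.chevG2.posUnipotent_eq_US]
      exact B_normalizer_U hiB hu.1
    obtain ⟨eb, eu⟩ := CfsgLib.Chev.chevG2.nf_unique (wN_mono o)
      (mul_mem (mul_mem hiB hb.1) (inv_mem hiB)) hb.1 hu2 hu1 hc
    exact ⟨b, hBc b hb.1 hb.2 eb, u, hU u hu eu, rfl⟩
  by_cases hB : g ∈ Cfsg.Lie.chevG2.borelSubgroup K
  · exact hBc g hB hg hc
  obtain ⟨x, hx, y, hy, rfl⟩ := hd g hg hc hB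
  obtain ⟨x', hx', y', hy', e⟩ := hd (psi hK RankOne.w) (psi_mem hK _)
    (by rw [(inv0_commute_psi hK _).eq, mul_inv_cancel_right]) (psi_w_not_mem_B hK)
  refine mul_mem (mul_mem hx ?_) hy
  have : w0 K = x'⁻¹ * psi hK RankOne.w * y'⁻¹ := by rw [e]; group
  rw [this]
  exact mul_mem (mul_mem (inv_mem hx') (hL _)) (inv_mem hy')

theorem center_cases {A : SpecialLinearGroup (Fin 2) K} :
    A ∈ Subgroup.center (SpecialLinearGroup (Fin 2) K) ↔ A = 1 ∨ A = -1 := by
  constructor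
  · intro h
    obtain ⟨r, hr, hA⟩ := Matrix.SpecialLinearGroup.mem_center_iff.mp h
    rw [Fintype.card_fin, pow_two] at hr
    rcases mul_self_eq_one_iff.mp hr with rfl | rfl
    · exact Or.inl (Subtype.ext (by rw [← hA, map_one]; rfl))
    · exact Or.inr (Subtype.ext (by rw [← hA, map_neg, map_one]; rfl))
  · rintro (rfl | rfl)
    · exact one_mem _
    · rw [Subgroup.mem_center_iff]; intro B; simp

include hK in
/-- The centraliser of the involution. -/
theorem centralizer_equiv (a : ↥(twistedG2 K (3 ^ m))) (ha : (a : GL Cfsg.Lie.chevG2.Idx K) = inv0 K m) :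
    Nonempty (↥(Subgroup.centralizer {a}) ≃* Multiplicative (ZMod 2) × ProjectiveSpecialLinearGroup (Fin 2) K) := by
  classical
  let C := Subgroup.centralizer {a}
  have haC : a ∈ C := Subgroup.mem_centralizer_singleton_iff.mpr rfl
  let q : SpecialLinearGroup (Fin 2) K →* C :=
    MonoidHom.mk' (fun A => ⟨⟨psi hK A, psi_mem hK A⟩, Subgroup.mem_centralizer_singleton_iff.mpr
        (Subtype.ext (by simp only [Subgroup.coe_mul, ha]; exact (inv0_commute_psi hK A).eq.symm))⟩)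
      fun A B => Subtype.ext (Subtype.ext (map_mul _ A B))
  have hq : Subgroup.center (SpecialLinearGroup (Fin 2) K) ≤ q.ker := by
    intro A hA
    rw [MonoidHom.mem_ker]
    refine Subtype.ext (Subtype.ext ?_)
    show psi hK A = 1
    rcases center_cases.mp hA with rfl | rfl
    · exact map_one _
    · exact psi_neg_one hK
  let p := QuotientGroup.lift _ q hq
  have ha2 : a * a = 1 := Subtype.ext (by rw [Subgroup.coe_mul, ha, inv0_sq]; rfl)
  let z : Multiplicative (ZMod 2) →* C :=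
    MonoidHom.mk' (fun i => if Multiplicative.toAdd i = 0 then 1 else ⟨a, haC⟩) fun i j => by
      have hz : ∀ x : ZMod 2, x = 0 ∨ x = 1 := by decide
      rw [toAdd_mul]
      rcases hz (Multiplicative.toAdd i) with hi | hi <;> rcases hz (Multiplicative.toAdd j) with hj | hj <;>
        simp only [hi, hj, one_ne_zero, if_false, if_true, add_zero, zero_add, one_mul, mul_one]
      rw [show (1 : ZMod 2) + 1 = 0 from rfl, if_pos rfl]
      exact (Subtype.ext ha2).symm
  have hcomm : ∀ i B, Commute (z i) (p B) := by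
    intro i B
    induction B using QuotientGroup.induction_on with
    | _ A =>
    have e : z i = if Multiplicative.toAdd i = 0 then 1 else ⟨a, haC⟩ := rfl
    show z i * q A = q A * z i
    rw [e]
    split_ifs
    · exact (Commute.one_left _).eq
    · refine Subtype.ext (Subtype.ext ?_)
      show (a : GL Cfsg.Lie.chevG2.Idx K) * psi hK A = psi hK A * (a : GL Cfsg.Lie.chevG2.Idx K)
      rw [ha]
      exact (inv0_commute_psi hK A).eq
  let f := MonoidHom.noncommCoprod z p hcomm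
  have hval : ∀ i A, ((f (i, (QuotientGroup.mk A))) : ↥(twistedG2 K (3 ^ m))) =
      (if Multiplicative.toAdd i = 0 then 1 else a) * ⟨psi hK A, psi_mem hK A⟩ := by
    intro i A
    show (((z i) * q A : C) : ↥(twistedG2 K (3 ^ m))) = _
    show ((if Multiplicative.toAdd i = 0 then 1 else ⟨a, haC⟩ : C) : ↥(twistedG2 K (3 ^ m))) * _ = _
    split_ifs <;> rfl
  refine ⟨(MulEquiv.ofBijective f ⟨?_, ?_⟩).symm⟩
  · rw [injective_iff_map_eq_one]
    rintro ⟨i, B⟩ h
    induction B using QuotientGroup.induction_on with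
    | _ A =>
    have h' := congrArg (fun x : C => ((x : ↥(twistedG2 K (3 ^ m))) : GL Cfsg.Lie.chevG2.Idx K)) h
    simp only [hval] at h'
    by_cases hi : Multiplicative.toAdd i = 0
    · rw [if_pos hi, one_mul] at h'
      have hA := psi_cases hK (Or.inl h')
      refine Prod.ext ?_ ((QuotientGroup.eq_one_iff _).mpr (center_cases.mpr hA))
      exact Multiplicative.toAdd.injective hi
    · rw [if_neg hi, Subgroup.coe_mul, ha] at h'
      have h'' : psi hK A = inv0 K m := by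
        have h3 : inv0 K m * psi hK A = 1 := h'
        rw [eq_inv_of_mul_eq_one_right h3]
        exact inv_eq_of_mul_eq_one_left inv0_sq
      rcases psi_cases hK (Or.inr h'') with rfl | rfl
      · rw [map_one] at h''; exact absurd h''.symm (ne_inv0_one hK)
      · rw [psi_neg_one] at h''; exact absurd h''.symm (ne_inv0_one hK)
  · intro g
    have hg := Subgroup.mem_centralizer_singleton_iff.mp g.2
    have hg' := congrArg (fun x : ↥(twistedG2 K (3 ^ m)) => (x : GL Cfsg.Lie.chevG2.Idx K)) hg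
    simp only [Subgroup.coe_mul, ha] at hg'
    obtain ⟨A, hA⟩ := cent_gen hK (g : ↥(twistedG2 K (3 ^ m))).2 (by rw [← hg', mul_inv_cancel_right])
    rcases hA with hA | hA
    · refine ⟨(1, QuotientGroup.mk A), Subtype.ext ?_⟩
      rw [hval, if_pos toAdd_one, one_mul]
      exact Subtype.ext hA.symm
    · refine ⟨(Multiplicative.ofAdd 1, QuotientGroup.mk A), Subtype.ext ?_⟩
      rw [hval, if_neg (by simp)]
      exact Subtype.ext (by rw [Subgroup.coe_mul, ha]; exact hA.symm)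

include hK in
theorem eq_inv0 {a : GL Cfsg.Lie.chevG2.Idx K} (haG : a ∈ twistedG2 K (3 ^ m))
    (haH : a ∈ Cfsg.Lie.chevG2.diagonalSubgroup K) (ha1 : a ≠ 1) (ha2 : a * a = 1) : a = inv0 K m := by
  obtain ⟨s, rfl⟩ := (mem_H_iff hK).mp (Subgroup.mem_inf.mpr ⟨haH, haG⟩)
  rw [← th_mul, ← th_one (m := m)] at ha2
  have h3 : (s : K) * s = 1 := by rw [← Units.val_mul, th_injective ha2, Units.val_one]
  rcases mul_self_eq_one_iff.mp h3 with h4 | h4
  · exact absurd (by rw [show s = 1 from Units.ext h4, th_one]) ha1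
  · rw [show s = -1 from Units.ext (by rw [h4, Units.val_neg, Units.val_one])]; rfl

theorem mul_self_zmod_two : ∀ i : Multiplicative (ZMod 2), i * i = 1 := by decide

include hK in
theorem sylow_two (a : ↥(twistedG2 K (3 ^ m))) (ha : (a : GL Cfsg.Lie.chevG2.Idx K) = inv0 K m)
    (S : Sylow 2 ↥(twistedG2 K (3 ^ m))) : Nat.card S = 8 ∧ ∀ x ∈ S, x * x = 1 := by
  classical
  haveI := Fact.mk Nat.prime_two
  haveI := Fact.mk Nat.prime_three
  haveI := charP_three hK
  haveI : Finite ↥(twistedG2 K (3 ^ m)) := Subgroup.instFiniteSubtypeMem _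
  obtain ⟨Q, hQ⟩ : ∃ q, 3 ^ (2 * m + 1) = 8 * q + 3 := by
    refine ⟨(3 ^ (2 * m + 1) - 3) / 8, ?_⟩
    have h9 : 9 ^ m % 8 = 1 := by rw [Nat.pow_mod]; norm_num
    have h3 : 3 ^ (2 * m + 1) = 3 * 9 ^ m := by rw [pow_succ, pow_mul]; ring
    omega
  obtain ⟨M, hM, hMo⟩ : ∃ M, Nat.card ↥(twistedG2 K (3 ^ m)) = 8 * M ∧ ¬ 2 ∣ M := by
    refine ⟨(8 * Q + 3) ^ 3 * (4 * Q + 1) * (128 * Q ^ 3 + 144 * Q ^ 2 + 54 * Q + 7), ?_, ?_⟩
    · rw [card_G hK, hQ, show 8 * Q + 3 - 1 = 2 * (4 * Q + 1) by omega]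
      ring
    · simp [Nat.prime_two.dvd_mul, Nat.prime_two.dvd_iff_eq, Nat.dvd_iff_mod_eq_zero, Nat.add_mod, Nat.mul_mod,
        Nat.pow_mod]
  have hS : Nat.card S = 8 := by
    rw [Sylow.card_eq_multiplicity, hM, Nat.factorization_mul (by norm_num) (show M ≠ 0 from fun e => hMo (e.symm ▸ dvd_zero 2)),
      Finsupp.coe_add, Pi.add_apply, Nat.factorization_eq_zero_of_not_dvd hMo, add_zero,
      show (8 : ℕ) = 2 ^ 3 by norm_num, Nat.prime_two.factorization_pow, Finsupp.single_eq_same]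
  refine ⟨hS, ?_⟩
  obtain ⟨e⟩ := centralizer_equiv hK a ha
  set C := Subgroup.centralizer {a}
  have hC : Nat.card C = 8 * ((8 * Q + 3) * (4 * Q + 1) * (2 * Q + 1)) := by
    have h := CfsgLib.SLCard.gcd_mul_card_PSL (F := K) (n := 2) (by norm_num)
    rw [CfsgLib.SLCard.card_SL_two, hK, hQ, show 8 * Q + 3 - 1 = 2 * (4 * Q + 1) by omega,
      Nat.gcd_mul_right_right] at h
    rw [Nat.card_congr e.toEquiv, Nat.card_prod, Nat.card_congr Multiplicative.toAdd, Nat.card_zmod, h,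
      show (8 * Q + 3) ^ 2 - 1 = 8 * ((4 * Q + 1) * (2 * Q + 1)) by
        refine Nat.sub_eq_of_eq_add ?_; ring]
    ring
  obtain ⟨P, hP⟩ := Sylow.exists_subgroup_card_pow_prime (G := C) 2 (n := 3) (by rw [hC, show (2 : ℕ) ^ 3 = 8 by norm_num]; exact Dvd.intro _ rfl)
  have hexp : ∀ x ∈ P, x * x = 1 := by
    intro x hx
    have h8 : x ^ 8 = 1 := by
      have h0 : (⟨x, hx⟩ : P) ^ 8 = 1 := by
        have := pow_card_eq_one' (G := P) (x := ⟨x, hx⟩)
        rwa [hP] at this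
      exact congrArg Subtype.val h0
    have hodd : Odd (Fintype.card K) := by rw [hK]; exact Odd.pow (by decide)
    have hp : (e x).2 ^ 2 = 1 := by
      have h8' : (e x).2 ^ 8 = 1 := by rw [← Prod.pow_snd, ← map_pow, h8, map_one]; rfl
      refine orderOf_dvd_iff_pow_eq_one.mp ?_
      have hd := orderOf_dvd_of_pow_eq_one h8'
      have hK' : Fintype.card K = 8 * Q + 3 := hK.trans hQ
      rcases CfsgLib.SL2Orders.psl_pow_cases 3 hodd (e x).2 with h | h | h <;>
        have h' := Nat.dvd_gcd hd (orderOf_dvd_of_pow_eq_one h) <;> rw [hK'] at *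
      · rw [show (8 * Q + 3 - 1) / 2 = 4 * Q + 1 by omega] at h'
        have hc : Nat.gcd 8 (4 * Q + 1) = 1 := by
          change Nat.Coprime (2 ^ 3) (4 * Q + 1)
          exact Nat.Coprime.pow_left _ (Nat.coprime_two_left.mpr ⟨2 * Q, by ring⟩)
        rw [hc] at h'
        exact h'.trans (one_dvd 2)
      · rw [show (8 * Q + 3 + 1) / 2 = 2 * (2 * Q + 1) by omega, show (8 : ℕ) = 2 * 4 by norm_num,
          Nat.gcd_mul_left] at h'
        have hc : Nat.gcd 4 (2 * Q + 1) = 1 := by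
          change Nat.Coprime (2 ^ 2) (2 * Q + 1)
          exact Nat.Coprime.pow_left _ (Nat.coprime_two_left.mpr ⟨Q, rfl⟩)
        rw [hc, mul_one] at h'
        exact h'
      · exact h'.trans (by norm_num)
    apply e.injective
    rw [map_mul, map_one]
    refine Prod.ext ?_ (by rw [Prod.snd_mul, ← pow_two, hp]; rfl)
    exact mul_self_zmod_two _
  have hP' : Nat.card (P.map C.subtype) = 8 := by
    rw [Subgroup.card_map_of_injective C.subtype_injective, hP]; norm_num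
  let S0 : Sylow 2 ↥(twistedG2 K (3 ^ m)) := Sylow.ofCard (P.map C.subtype)
    (by rw [hP', ← hS, Sylow.card_eq_multiplicity])
  obtain ⟨g, hg⟩ := MulAction.exists_smul_eq ↥(twistedG2 K (3 ^ m)) S0 S
  intro x hx
  rw [← hg] at hx
  have hx' : g⁻¹ * x * g ∈ P.map C.subtype := by
    have h1 : x ∈ ((g • S0 : Sylow 2 _) : Subgroup ↥(twistedG2 K (3 ^ m))) := hx
    rw [Sylow.coe_subgroup_smul, Sylow.coe_ofCard, Subgroup.mem_pointwise_smul_iff_inv_smul_mem] at h1
    rwa [← map_inv, MulAut.smul_def, MulAut.conj_apply, inv_inv] at h1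
  obtain ⟨y, hy, hyx⟩ := Subgroup.mem_map.mp hx'
  have hxy : x = g * C.subtype y * g⁻¹ := by rw [hyx]; group
  rw [hxy, show g * C.subtype y * g⁻¹ * (g * C.subtype y * g⁻¹) = g * C.subtype (y * y) * g⁻¹ by
    rw [map_mul]; group, hexp y hy, map_one, mul_one, mul_inv_cancel]

end CfsgLib.Chev.T2G2
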