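/-
Perfectness and simplicity of ²G₂.
-/
import Cfsg.Agent.Lib.Chev.Twist.TypeG2

namespace CfsgLib.Chev.T2G2

open Cfsg.Lie Matrix Chev

set_option linter.dupNamespace false
set_option linter.unusedSectionVars false
set_option maxRecDepth 100000

variable {K : Type*} [Field K] [Fintype K] {m : ℕ} (hK : Fintype.card K = 3 ^ (2 * m + 1))

theorem root_comm (hm : 1 ≤ m) (a : Fin S.m) :
    CfsgLib.Chev.chevG2.US K (S.PJ a) ⊓ (tw hK).fix ≤ ⁅twistedG2 K (3 ^ m), twistedG2 K (3 ^ m)⁆ := by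
  classical
  obtain ⟨s, hs⟩ := IsCyclic.exists_ofOrder_eq_natCard (α := Kˣ)
  have hord : orderOf s = 3 ^ (2 * m + 1) - 1 := by
    rw [hs, Nat.card_units, Nat.card_eq_fintype_card, hK]
  refine (gen hK).root_le_comm a (c := CfsgLib.Chev.chevG2.coHom K (stab m s)) (stab_mem hK s) fun r hr => ?_
  rw [chi_coHom_tw]
  have he : (stab m s) (ix 0) = s ^ ((3 ^ m : ℕ) : ℤ) ∧ (stab m s) (ix 1) = s ^ (1 : ℤ) :=
    ⟨by rw [_root_.zpow_natCast]; rfl, by rw [_root_.zpow_one]; rfl⟩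
  rw [show ∏ k, stab m s k ^ CfsgLib.Chev.chevG2.A k r =
      stab m s (ix 0) ^ CfsgLib.Chev.chevG2.A (ix 0) r * stab m s (ix 1) ^ CfsgLib.Chev.chevG2.A (ix 1) r from
      Fin.prod_univ_two (fun k : Fin 2 => stab m s k ^ CfsgLib.Chev.chevG2.A k r),
    he.1, he.2, ← _root_.zpow_mul, ← _root_.zpow_mul, ← _root_.zpow_add, ne_eq, ← orderOf_dvd_iff_zpow_eq_one, hord]
  have hA : ∀ r : Fin Cfsg.Lie.chevG2.nroots, Cfsg.Lie.chevG2.nroots ≤ 2 * r.val →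
      (Cfsg.Lie.chevG2.cartan 0 r.val, Cfsg.Lie.chevG2.cartan 1 r.val) ∈
        [((-3 : ℤ), (2 : ℤ)), (2, -1), (-1, 1), (1, 0), (3, -1), (0, 1)] := by decide +kernel
  have hpos : Cfsg.Lie.chevG2.nroots ≤ 2 * r.val := by rw [PJ_eq] at hr; exact hr
  have hmem := hA r hpos
  rw [show CfsgLib.Chev.chevG2.A (ix 0) r = Cfsg.Lie.chevG2.cartan 0 r.val from (cartan_val _ (ix 0) r).symm,
    show CfsgLib.Chev.chevG2.A (ix 1) r = Cfsg.Lie.chevG2.cartan 1 r.val from (cartan_val _ (ix 1) r).symm]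
  generalize Cfsg.Lie.chevG2.cartan 0 r.val = x at hmem ⊢
  generalize Cfsg.Lie.chevG2.cartan 1 r.val = y at hmem ⊢
  have hE : (3 : ℤ) ≤ ((3 ^ m : ℕ) : ℤ) := by
    exact_mod_cast le_trans (by norm_num) (Nat.pow_le_pow_right (by norm_num : 0 < 3) hm)
  have hN : ((3 ^ (2 * m + 1) - 1 : ℕ) : ℤ) = 3 * (((3 ^ m : ℕ) : ℤ) * ((3 ^ m : ℕ) : ℤ)) - 1 := by
    rw [Nat.cast_sub (Nat.one_le_pow _ _ (by norm_num))]
    push_cast
    ring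
  rw [hN]
  intro hd
  have hbig : ∀ z : ℤ, z ≠ 0 → z.natAbs < (3 * (((3 ^ m : ℕ) : ℤ) * ((3 ^ m : ℕ) : ℤ)) - 1).natAbs →
      ¬ (3 * (((3 ^ m : ℕ) : ℤ) * ((3 ^ m : ℕ) : ℤ)) - 1 ∣ z) := fun z h0 h1 h2 =>
    absurd (Int.natAbs_le_of_dvd_ne_zero h2 h0) (by omega)
  have h9 : 3 * ((3 ^ m : ℕ) : ℤ) ≤ ((3 ^ m : ℕ) : ℤ) * ((3 ^ m : ℕ) : ℤ) := by nlinarith
  refine hbig _ ?_ ?_ hd <;>
  · simp only [List.mem_cons, Prod.mk.injEq, List.not_mem_nil, or_false] at hmem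
    rcases hmem with ⟨rfl, rfl⟩ | ⟨rfl, rfl⟩ | ⟨rfl, rfl⟩ | ⟨rfl, rfl⟩ | ⟨rfl, rfl⟩ | ⟨rfl, rfl⟩ <;> omega

include hK in
theorem perfect (hm : 1 ≤ m) : commutator ↥(twistedG2 K (3 ^ m)) = ⊤ :=
  (gen hK).perfect twisted_eq (fun g hg => ⟨⟨0, by decide⟩, gens_US _ hg⟩) (root_comm hK hm)

include hK in
theorem simple (hm : 1 ≤ m) :
    IsSimpleGroup ↥(twistedG2 K (3 ^ m)) ∧ ¬ IsMulCommutative ↥(twistedG2 K (3 ^ m)) := by
  refine (gen hK).simple (wit hK) (by decide) (fun A h1 h2 => ?_) (perfect hK hm)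
  obtain ⟨x, hx⟩ := h1
  obtain ⟨y, hy⟩ := h2
  have : x = y := Fin.ext (by have h1 : x.val < 1 := x.isLt; have h2 : y.val < 1 := y.isLt; omega)
  exact absurd (this ▸ hx) hy

end CfsgLib.Chev.T2G2
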