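/-
Tables of the twisted type over F4.
-/
import Cfsg.Agent.Lib.Chev.Twist.Cert
import Cfsg.Agent.Lib.Chev.MorphData

namespace CfsgLib.Chev

set_option maxRecDepth 100000
set_option maxHeartbeats 4000000

/-- The symmetry of type F4. -/
def symF4 : SymData where
  mor := morF4
  tau := [3, 2, 1, 0]
  orbits := [[0, 3], [1, 2]]
  words := [[0, 3], [1, 2, 1, 2]]
  refl := [[0, 1, 2, 7, 15, 16, 17, 3, 8, 9, 10, 18, 19, 20, 33, 4, 5, 6, 11, 12, 13, 21, 22, 23, 24, 25, 26, 34, 35, 36, 41, 42, 43, 14, 27, 28, 29, 37, 38, 39, 44, 30, 31, 32, 40, 45, 46, 47], [0, 1, 4, 3, 2, 5, 6, 8, 7, 11, 12, 9, 10, 14, 13, 15, 21, 22, 18, 19, 27, 16, 17, 23, 24, 30, 31, 20, 28, 29, 25, 26, 32, 34, 33, 37, 38, 35, 36, 40, 39, 41, 42, 45, 44, 43, 46, 47], [0, 2, 1, 3, 5, 4, 6, 7, 9, 8, 10, 11, 13, 12, 14, 16, 15, 17, 18, 20, 19, 23, 25, 21, 26, 22, 24, 28, 27, 29, 30, 32, 31, 33, 35, 34, 36, 37, 39, 38, 40, 41,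 43, 42, 44, 46, 45, 47], [1, 0, 2, 3, 4, 6, 5, 7, 8, 10, 9, 12, 11, 13, 14, 15, 17, 16, 19, 18, 20, 22, 21, 24, 23, 26, 25, 27, 29, 28, 31, 30, 32, 33, 34, 36, 35, 38, 37, 39, 40, 42, 41, 43, 44, 45, 47, 46]]

theorem symOKF4 : Chev.SymOK (D := Cfsg.Lie.chevF4) symF4 2 where
  mor := checkMorF4
  refl := by decide +kernel
  simple := by decide +kernel
  roots := by decide +kernel
  orbits := by decide +kernel

/-- A block of the enumeration. -/
def blockF40 : List (List ℤ × ℕ × List ℕ) :=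
  [([-6, 3, 4, -9], 7, [14, 10]), ([-6, 3, 5, -9], 6, [15, 12]), ([-5, 2, 2, -7], 9, [12, 8]), ([-5, 3, 5, -7], 4, [13, 14]), ([-4, 1, 1, -5], 10, [10, 6]), ([-4, 3, 4, -5], 3, [11, 15]), ([-1, -1, -1, -1], 12, [8, 4]), ([-1, 2, 2, -1], 1, [9, 13]), ([1, -2, -2, 1], 11, [6, 2]), ([1, 1, 1, 1], 0, [7, 11]), ([4, -3, -4, 5], 9, [4, 0]), ([4, -1, -1, 5], 2, [5, 9]), ([5, -3, -5, 7], 8, [2, 1]), ([5, -2, -2, 7], 3, [3, 7]), ([6, -3, -5, 9], 6, [0, 3]), ([6, -3, -4, 9], 5, [1, 5])]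

/-- The enumeration of the centralised Weyl group. -/
def certF4 : WCert where
  chunks := [blockF40]
  size := 16
  d := 2

theorem certOKF4 : certF4.check symF4 Cfsg.Lie.chevF4 9 = true := by decide +kernel

theorem certLtF4 : (List.range 16).all (fun i => Nat.blt (certF4.len i) 13) = true := by
  decide +kernel

theorem certHistF4 : (List.range 13).map (fun k => ((List.range 16).map certF4.len).count k) =
    [1, 1, 1, 2, 1, 1, 2, 1, 1, 2, 1, 1, 1] := by decide +kernel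

end CfsgLib.Chev
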