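/-
Normal forms in a unipotent group of type B2 in characteristic two.
-/
import Cfsg.Agent.Lib.Chev.Twist.Finite

namespace CfsgLib.Chev

open Cfsg.Lie Matrix

set_option linter.dupNamespace false
set_option linter.unusedSectionVars false

variable {D : ChevalleyDatum}

namespace Chev

variable {Φ : Chev D} {F : Type*} [Field F]

/-- The relations of four roots `a, b, a + b, 2 a + b` in characteristic two. -/
structure B2Rel (Φ : Chev D) (F : Type*) [Field F] (ra rb rc rd : Fin D.nroots) : Prop where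
  swap : ∀ x y : F, Φ.toAlg.xg ra y * Φ.toAlg.xg rb x =
    Φ.toAlg.xg rb x * Φ.toAlg.xg ra y * (Φ.toAlg.xg rc (x * y) * Φ.toAlg.xg rd (x * y ^ 2))
  cd : ∀ x y : F, Commute (Φ.toAlg.xg rc x) (Φ.toAlg.xg rd y)

/-- The normal form. -/
def PB2 (Φ : Chev D) (ra rb rc rd : Fin D.nroots) (a b c d : F) : GL D.Idx F :=
  Φ.toAlg.xg rb a * Φ.toAlg.xg ra b * (Φ.toAlg.xg rc c * Φ.toAlg.xg rd d)

/-- The check of the relations. -/
def b2Check (D : ChevalleyDatum) (ra rb rc rd : ℕ) : Bool :=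
  ([(1 : ℤ), -1].any fun c => [(1 : ℤ), -1].any fun c' =>
    D.commTerms rb ra == [(rc, c, 1, 1), (rd, c', 1, 2)]) &&
    (D.chainEntry rc rd).isEmpty && !(Nat.beq ra rb) && !(Nat.beq ra (D.neg rb)) && !(Nat.beq rd (D.neg rc))

theorem B2Rel.of_check (Φ : Chev D) (hc2 : (2 : F) = 0) {ra rb rc rd : Fin D.nroots}
    (h : b2Check D ra.val rb.val rc.val rd.val = true) : B2Rel Φ F ra rb rc rd := by
  simp only [b2Check, Bool.and_eq_true, List.any_eq_true, beq_iff_eq, Bool.not_eq_true'] at h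
  obtain ⟨⟨⟨⟨⟨c, hc, c', hc', h1⟩, h2⟩, h3⟩, h4⟩, h5⟩ := h
  have hn : ∀ z : F, -z = z := fun z => by rw [neg_eq_iff_add_eq_zero, ← two_mul, hc2, zero_mul]
  have cast_one : ∀ c : ℤ, c ∈ [(1 : ℤ), -1] → (c : F) = 1 := fun c hc => by
    simp only [List.mem_cons, List.not_mem_nil, or_false] at hc
    rcases hc with rfl | rfl <;> simp [hn]
  constructor
  · intro x y
    refine Units.ext ?_
    have := Φ.commutator_formula (r := rb) (s := ra) (R := F) (fun e => by rw [e] at h3; simp at h3)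
      (fun e => by
        have e' : ra.val = D.neg rb.val := (congrArg Fin.val e).trans (Φ.negIdx_eq _).symm
        rw [e'] at h4; simp at h4) x y
    simp only [Units.val_mul, Alg.xg_val]
    rw [this, h1]
    simp [Sys.termProd, Sys.XN_val, cast_one c hc, cast_one c' hc', hn]
  · intro x y
    exact Φ.xg_commute_of (fun e => by
      have e' : rd.val = D.neg rc.val := (congrArg Fin.val e).trans (Φ.negIdx_eq _).symm
      rw [e'] at h5; simp at h5) (Φ.N_eq_zero_of_check h2) x y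

variable {ra rb rc rd : Fin D.nroots}

theorem B2Rel.form (h : B2Rel Φ F ra rb rc rd) (s t c d : F) :
    Φ.toAlg.xg ra s * Φ.toAlg.xg rb t * (Φ.toAlg.xg rc c * Φ.toAlg.xg rd d) =
      PB2 Φ ra rb rc rd t s (c + t * s) (d + t * s ^ 2) := by
  rw [h.swap, PB2, mul_assoc, Alg.xg_add, Alg.xg_add]
  congr 1
  calc _ = Φ.toAlg.xg rc (t * s) * (Φ.toAlg.xg rd (t * s ^ 2) * Φ.toAlg.xg rc c) * Φ.toAlg.xg rd d := by
        simp only [mul_assoc]
    _ = Φ.toAlg.xg rc (t * s) * Φ.toAlg.xg rc c * (Φ.toAlg.xg rd (t * s ^ 2) * Φ.toAlg.xg rd d) := by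
        rw [← (h.cd c (t * s ^ 2)).eq]; simp only [mul_assoc]
    _ = _ := by
        simp only [← Alg.xg_add]; rw [add_comm (t * s) c, add_comm (t * s ^ 2) d]

variable {S : Φ.Sym} (T : Tw S F)

/-- How the endomorphism permutes the four roots. -/
structure Tw.B2Act (e : ℕ) (ra rb rc rd : Fin D.nroots) : Prop where
  act : S.ρ ra = rb ∧ S.ρ rb = ra ∧ S.ρ rc = rd ∧ S.ρ rd = rc
  kk : T.k ra = 2 * e ∧ T.k rb = e ∧ T.k rc = 2 * e ∧ T.k rd = e
  eps : ∀ r ∈ [ra, rb, rc, rd], (T.ε r : F) = 1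

variable {T} {e : ℕ}

theorem Tw.B2Act.app (ha : T.B2Act e ra rb rc rd) (h : B2Rel Φ F ra rb rc rd) (a b c d : F) :
    T.app (PB2 Φ ra rb rc rd a b c d) = PB2 Φ ra rb rc rd (b ^ (2 * e)) (a ^ e)
      (d ^ e + b ^ (2 * e) * a ^ e) (c ^ (2 * e) + b ^ (2 * e) * (a ^ e) ^ 2) := by
  have g := fun r (x : F) => Φ.toAlg.xg_mem_group r x
  obtain ⟨r1, r2, r3, r4⟩ := ha.act
  obtain ⟨k1, k2, k3, k4⟩ := ha.kk
  rw [PB2, T.app_mul (mul_mem (g _ _) (g _ _)) (mul_mem (g _ _) (g _ _)), T.app_mul (g _ _) (g _ _),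
    T.app_mul (g _ _) (g _ _), T.app_xg, T.app_xg, T.app_xg, T.app_xg, r1, r2, r3, r4, k1, k2, k3, k4,
    ha.eps ra (by simp), ha.eps rb (by simp), ha.eps rc (by simp), ha.eps rd (by simp), one_mul, one_mul,
    one_mul, one_mul, ← (h.cd _ _).eq, h.form]

/-- The parameters of a fixed element. -/
theorem Tw.B2Act.fixed (ha : T.B2Act e ra rb rc rd) (h : B2Rel Φ F ra rb rc rd) (hc2 : (2 : F) = 0)
    (hadd : ∀ x y : F, (x + y) ^ e = x ^ e + y ^ e)
    (hq : ∀ x : F, (x ^ e) ^ (2 * e) = x ∧ (x ^ (2 * e)) ^ e = x) (t u : F) :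
    T.app (Φ.toAlg.xg ra (t ^ e) * Φ.toAlg.xg rb t *
      (Φ.toAlg.xg rc (t ^ (e + 1) + u) * Φ.toAlg.xg rd (u ^ (2 * e)))) =
      Φ.toAlg.xg ra (t ^ e) * Φ.toAlg.xg rb t *
        (Φ.toAlg.xg rc (t ^ (e + 1) + u) * Φ.toAlg.xg rd (u ^ (2 * e))) := by
  rw [h.form, ha.app h]
  have e1 : t ^ (e + 1) + u + t * t ^ e = u := by
    linear_combination (t * t ^ e) * hc2
  have e2 : ((t ^ e) ^ 2) ^ e = t := by rw [← pow_mul, (hq t).1]
  rw [e1, hadd, mul_pow, (hq u).2, (hq t).1, e2]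
  congr 1
  linear_combination (t * t ^ e) * hc2

end Chev

end CfsgLib.Chev
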