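/-
The twisted groups of type ²F₄ as fixed groups.
-/
import Cfsg.Agent.Lib.Chev.Twist.UnipB2
import Cfsg.Agent.Lib.Chev.Twist.DataF4
import Cfsg.Agent.Lib.Chev.Twist.WordMod
import Cfsg.Agent.Lib.Chev.Twist.Invert
import Cfsg.Agent.Lib.Chev.Twist.Simple
import Cfsg.Agent.Lib.Chev.SteinbergData
import Cfsg.Prelude.Def_LieTwisted

namespace CfsgLib.Chev.T2F4

open Cfsg.Lie Matrix Chev

set_option linter.dupNamespace false
set_option linter.unusedSectionVars false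
set_option maxRecDepth 100000

/-- The symmetry. -/
noncomputable abbrev S : CfsgLib.Chev.chevF4.Sym := symOKF4.sym CfsgLib.Chev.chevF4

variable {K : Type*} [Field K] [Fintype K] {m : ℕ}

theorem charP_two (hK : Fintype.card K = 2 ^ (2 * m + 1)) : CharP K 2 :=
  haveI := Fact.mk Nat.prime_two
  charP_of_card_eq_prime_pow (f := 2 * m + 1) hK

theorem morOK_two (hK : Fintype.card K = 2 ^ (2 * m + 1)) : MorOK K 2 := by
  haveI := Fact.mk Nat.prime_two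
  haveI := charP_two hK
  exact morOK_prime K 2 fun x =>
    (Finite.injective_iff_surjective.mp (frobenius K 2).injective : Function.Surjective (frobenius K 2)) x

theorem exists_e (hK : Fintype.card K = 2 ^ (2 * m + 1)) : ∃ f : K →+* K, ∀ x, f x = x ^ 2 ^ m := by
  haveI := Fact.mk Nat.prime_two
  haveI := charP_two hK
  exact ⟨iterateFrobenius K 2 m, fun x => iterateFrobenius_def 2 m x⟩

/-- The twisted endomorphism. -/
noncomputable def tw (hK : Fintype.card K = 2 ^ (2 * m + 1)) : Tw S K :=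
  symOKF4.tw (CfsgLib.Chev.chevF4.adj_of_check adjF4) (morOK_two hK) checkMorF4 (exists_e hK).choose (2 ^ m)
    (exists_e hK).choose_spec

variable (hK : Fintype.card K = 2 ^ (2 * m + 1))

include hK in
theorem hc2 : (2 : K) = 0 := by
  haveI := charP_two hK
  exact_mod_cast CharP.cast_eq_zero K 2

include hK in
theorem pow_q (x : K) : (x ^ 2 ^ m) ^ (2 * 2 ^ m) = x ∧ (x ^ (2 * 2 ^ m)) ^ 2 ^ m = x := by
  have h : 2 ^ m * (2 * 2 ^ m) = 2 ^ (2 * m + 1) := by rw [pow_succ, two_mul m, pow_add]; ring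
  rw [← pow_mul, ← pow_mul, mul_comm (2 * 2 ^ m) (2 ^ m), h, ← hK, FiniteField.pow_card]
  exact ⟨rfl, rfl⟩

include hK in
theorem pow_e_add (x y : K) : (x + y) ^ 2 ^ m = x ^ 2 ^ m + y ^ 2 ^ m := by
  obtain ⟨f, hf⟩ := exists_e hK
  rw [← hf, ← hf, ← hf, map_add]

include hK in
theorem units_pow_q (x : Kˣ) : (x ^ 2 ^ m) ^ (2 * 2 ^ m) = x ∧ (x ^ (2 * 2 ^ m)) ^ 2 ^ m = x :=
  ⟨Units.ext (by simpa using (pow_q hK (x : K)).1), Units.ext (by simpa using (pow_q hK (x : K)).2)⟩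

/-- A root index. -/
abbrev rx (n : ℕ) (h : n < Cfsg.Lie.chevF4.nroots := by decide) : Fin Cfsg.Lie.chevF4.nroots := ⟨n, h⟩

/-- The index of a fundamental root. -/
abbrev ix (n : ℕ) (h : n < Cfsg.Lie.chevF4.rank := by decide) : Fin Cfsg.Lie.chevF4.rank := ⟨n, h⟩

/-- An orbit index. -/
abbrev ox (n : ℕ) (h : n < 2 := by decide) : Fin S.m := ⟨n, h⟩

theorem simple_idx : CfsgLib.Chev.chevF4.p (ix 0) = rx 33 ∧ CfsgLib.Chev.chevF4.p (ix 1) = rx 27 ∧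
    CfsgLib.Chev.chevF4.p (ix 2) = rx 25 ∧ CfsgLib.Chev.chevF4.p (ix 3) = rx 24 :=
  ⟨Fin.ext (by rw [p_val]; decide +kernel), Fin.ext (by rw [p_val]; decide +kernel),
    Fin.ext (by rw [p_val]; decide +kernel), Fin.ext (by rw [p_val]; decide +kernel)⟩

theorem k_p : (tw hK).k (CfsgLib.Chev.chevF4.p (ix 0)) = 2 * 2 ^ m ∧
    (tw hK).k (CfsgLib.Chev.chevF4.p (ix 1)) = 2 * 2 ^ m ∧
    (tw hK).k (CfsgLib.Chev.chevF4.p (ix 2)) = 2 ^ m ∧ (tw hK).k (CfsgLib.Chev.chevF4.p (ix 3)) = 2 ^ m := by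
  obtain ⟨p0, p1, p2, p3⟩ := simple_idx
  rw [p0, p1, p2, p3]
  refine ⟨?_, ?_, ?_, ?_⟩
  · show morF4.l 33 * 2 ^ m = _
    rw [show morF4.l 33 = 2 by decide +kernel]
  · show morF4.l 27 * 2 ^ m = _
    rw [show morF4.l 27 = 2 by decide +kernel]
  · show morF4.l 25 * 2 ^ m = _
    rw [show morF4.l 25 = 1 by decide +kernel, one_mul]
  · show morF4.l 24 * 2 ^ m = _
    rw [show morF4.l 24 = 1 by decide +kernel, one_mul]

theorem orb0 : Tw.Two (S := S) (ox 0) (ix 0) (ix 3) where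
  hJ k := by show k.val ∈ symF4.orb 0 ↔ _; simp [symF4, SymData.orb, Fin.ext_iff]
  hPJ r hr := by
    obtain ⟨j, hj, rfl⟩ := symOKF4.only_simple (ox 0) (by decide +kernel) r hr
    simp [symF4, SymData.orb] at hj
    rcases hj with e | e
    · rw [show j = ix 0 from Fin.ext e]; exact Or.inl rfl
    · rw [show j = ix 3 from Fin.ext e]; exact Or.inr rfl
  hne := (orth_of_check _ (by decide +kernel) : CfsgLib.Chev.chevF4.Orth (CfsgLib.Chev.chevF4.p (ix 0))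
    (CfsgLib.Chev.chevF4.p (ix 3))).1
  hij := Fin.ext rfl
  hji := Fin.ext rfl
  orth := orth_of_check _ (by decide +kernel)
  hw := by show wPerm _ symF4 0 = _; simp [wPerm, symF4, SymData.word]; rfl

theorem b2pos : B2Rel CfsgLib.Chev.chevF4 K (rx 27) (rx 25) (rx 28) (rx 30) ∨ (2 : K) ≠ 0 := by
  by_cases h : (2 : K) = 0
  · exact Or.inl (B2Rel.of_check _ h (by decide +kernel))
  · exact Or.inr h

include hK in
theorem relU : B2Rel CfsgLib.Chev.chevF4 K (rx 27) (rx 25) (rx 28) (rx 30) :=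
  b2pos.resolve_right (fun h => h (hc2 hK))

include hK in
theorem relV : B2Rel CfsgLib.Chev.chevF4 K (rx 27).rev (rx 25).rev (rx 28).rev (rx 30).rev :=
  B2Rel.of_check _ (hc2 hK) (by decide +kernel)

theorem act_aux (ra rb rc rd : Fin Cfsg.Lie.chevF4.nroots)
    (h : (morF4.ρ ra.val, morF4.ρ rb.val, morF4.ρ rc.val, morF4.ρ rd.val) = (rb.val, ra.val, rd.val, rc.val) ∧
      (morF4.l ra.val, morF4.l rb.val, morF4.l rc.val, morF4.l rd.val) = (2, 1, 2, 1) ∧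
      ∀ r ∈ [ra, rb, rc, rd], morF4.e r.val = 1) : (tw hK).B2Act (2 ^ m) ra rb rc rd := by
  obtain ⟨h1, h2, h3⟩ := h
  simp only [Prod.mk.injEq] at h1 h2
  refine ⟨⟨Fin.ext h1.1, Fin.ext h1.2.1, Fin.ext h1.2.2.1, Fin.ext h1.2.2.2⟩, ?_, fun r hr => ?_⟩
  · refine ⟨?_, ?_, ?_, ?_⟩ <;>
      first
        | (show morF4.l ra.val * 2 ^ m = _; rw [h2.1])
        | (show morF4.l rb.val * 2 ^ m = _; rw [h2.2.1, one_mul])
        | (show morF4.l rc.val * 2 ^ m = _; rw [h2.2.2.1])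
        | (show morF4.l rd.val * 2 ^ m = _; rw [h2.2.2.2, one_mul])
  · show ((morF4.e r.val : ℤ) : K) = 1
    rw [h3 r hr, Int.cast_one]

theorem actU : (tw hK).B2Act (2 ^ m) (rx 27) (rx 25) (rx 28) (rx 30) :=
  act_aux hK _ _ _ _ (by decide +kernel)

theorem actV : (tw hK).B2Act (2 ^ m) (rx 27).rev (rx 25).rev (rx 28).rev (rx 30).rev :=
  act_aux hK _ _ _ _ (by decide +kernel)

/-- The word of a generator of type B2 on four roots. -/
noncomputable def W4 (m : ℕ) (ra rb rc rd : Fin Cfsg.Lie.chevF4.nroots) (t u : K) : GL Cfsg.Lie.chevF4.Idx K :=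
  CfsgLib.Chev.chevF4.toAlg.xg ra (t ^ 2 ^ m) * CfsgLib.Chev.chevF4.toAlg.xg rb t *
    (CfsgLib.Chev.chevF4.toAlg.xg rc (t ^ (2 ^ m + 1) + u) * CfsgLib.Chev.chevF4.toAlg.xg rd (u ^ (2 * 2 ^ m)))

theorem W4_mem_group (ra rb rc rd : Fin Cfsg.Lie.chevF4.nroots) (t u : K) :
    W4 m ra rb rc rd t u ∈ Cfsg.Lie.chevF4.group K :=
  mul_mem (mul_mem (Alg.xg_mem_group _ _ _) (Alg.xg_mem_group _ _ _))
    (mul_mem (Alg.xg_mem_group _ _ _) (Alg.xg_mem_group _ _ _))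

theorem W4_fix {ra rb rc rd : Fin Cfsg.Lie.chevF4.nroots} (ha : (tw hK).B2Act (2 ^ m) ra rb rc rd)
    (h : B2Rel CfsgLib.Chev.chevF4 K ra rb rc rd) (t u : K) : W4 m ra rb rc rd t u ∈ (tw hK).fix :=
  ⟨W4_mem_group _ _ _ _ t u, ha.fixed h (hc2 hK) (pow_e_add hK) (pow_q hK) t u⟩

theorem mem_PJ_one (r : Fin Cfsg.Lie.chevF4.nroots) :
    S.PJ (ox 1) r ↔ r ∈ [rx 25, rx 27, rx 28, rx 30] := by
  have h : ∀ r : Fin Cfsg.Lie.chevF4.nroots,
      symF4.inPJ Cfsg.Lie.chevF4 1 r.val = true ↔ r ∈ [rx 25, rx 27, rx 28, rx 30] := by decide +kernel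
  rw [← h, inPJ_iff CfsgLib.Chev.chevF4]
  rfl

open Classical in
theorem rootList_one : rootList (S.PJ (ox 1)) = [rx 25, rx 27, rx 28, rx 30] := by
  have e : rootList (S.PJ (ox 1)) = (List.finRange Cfsg.Lie.chevF4.nroots).filter
      fun r => decide (r ∈ [rx 25, rx 27, rx 28, rx 30]) :=
    List.filter_congr fun r _ => decide_eq_decide.mpr (mem_PJ_one r)
  rw [e]
  decide +kernel

open Classical in
theorem PB2_eq_prodL (t : Fin Cfsg.Lie.chevF4.nroots → K) :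
    CfsgLib.Chev.chevF4.prodL (rootList (S.PJ (ox 1))) t = PB2 CfsgLib.Chev.chevF4 (rx 27) (rx 25) (rx 28) (rx 30)
      (t (rx 25)) (t (rx 27)) (t (rx 28)) (t (rx 30)) := by
  rw [rootList_one]
  simp [prodL, PB2, mul_assoc]

/-- The parameters of a normal form. -/
def tvec (a b c d : K) : Fin Cfsg.Lie.chevF4.nroots → K :=
  fun r => if r.val = 25 then a else if r.val = 27 then b else if r.val = 28 then c else d

open Classical in
theorem PB2_injective {a b c d a' b' c' d' : K}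
    (h : PB2 CfsgLib.Chev.chevF4 (rx 27) (rx 25) (rx 28) (rx 30) a b c d =
      PB2 CfsgLib.Chev.chevF4 (rx 27) (rx 25) (rx 28) (rx 30) a' b' c' d') :
    a = a' ∧ b = b' ∧ c = c' ∧ d = d' := by
  have e : CfsgLib.Chev.chevF4.prodL (rootList (S.PJ (ox 1))) (tvec a b c d) =
      CfsgLib.Chev.chevF4.prodL (rootList (S.PJ (ox 1))) (tvec a' b' c' d') := by
    rw [PB2_eq_prodL, PB2_eq_prodL]
    simpa [tvec] using h
  have := fun r hr => CfsgLib.Chev.chevF4.prodL_injective (pairwise_rootList _)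
    (fun r hr => (mem_rootList.mp hr).1) e r hr
  have hm := fun r hr => this r (mem_rootList.mpr ((mem_PJ_one r).mpr hr))
  exact ⟨by simpa [tvec] using hm (rx 25) (by simp), by simpa [tvec] using hm (rx 27) (by simp),
    by simpa [tvec] using hm (rx 28) (by simp), by simpa [tvec] using hm (rx 30) (by simp)⟩

theorem W4_mem_US (t u : K) :
    W4 m (rx 27) (rx 25) (rx 28) (rx 30) t u ∈ CfsgLib.Chev.chevF4.US K (S.PJ (ox 1)) ∧
      W4 m (rx 27).rev (rx 25).rev (rx 28).rev (rx 30).rev t u ∈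
        CfsgLib.Chev.chevF4.US K (fun r => S.PJ (ox 1) r.rev) := by
  have g := fun r (hr : r ∈ [rx 25, rx 27, rx 28, rx 30]) (c : K) =>
    CfsgLib.Chev.chevF4.xg_mem_US (F := K) (S := S.PJ (ox 1)) ((mem_PJ_one r).mpr hr) c
  have g' := fun (r : Fin Cfsg.Lie.chevF4.nroots) (hr : r ∈ [rx 25, rx 27, rx 28, rx 30]) (c : K) =>
    CfsgLib.Chev.chevF4.xg_mem_US (F := K) (S := fun r => S.PJ (ox 1) r.rev) (r := r.rev)
      (by rw [Fin.rev_rev]; exact (mem_PJ_one r).mpr hr) c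
  exact ⟨mul_mem (mul_mem (g _ (by simp) _) (g _ (by simp) _)) (mul_mem (g _ (by simp) _) (g _ (by simp) _)),
    mul_mem (mul_mem (g' _ (by simp) _) (g' _ (by simp) _)) (mul_mem (g' _ (by simp) _) (g' _ (by simp) _))⟩

include hK in
theorem W4_eq (t u : K) : W4 m (rx 27) (rx 25) (rx 28) (rx 30) t u =
    PB2 CfsgLib.Chev.chevF4 (rx 27) (rx 25) (rx 28) (rx 30) t (t ^ 2 ^ m) u
      (u ^ (2 * 2 ^ m) + t * (t ^ 2 ^ m) ^ 2) := by
  rw [W4, (relU hK).form]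
  congr 1
  linear_combination (t * t ^ 2 ^ m) * hc2 hK

open Classical in
theorem fix_one_iff {g : GL Cfsg.Lie.chevF4.Idx K} :
    g ∈ CfsgLib.Chev.chevF4.US K (S.PJ (ox 1)) ⊓ (tw hK).fix ↔
      ∃ t u, g = W4 m (rx 27) (rx 25) (rx 28) (rx 30) t u := by
  constructor
  · rintro ⟨hg, hf⟩
    obtain ⟨s, rfl⟩ := (CfsgLib.Chev.chevF4.mem_US_iff (fun _ h => h.1) (S.closed_PJ (ox 1))).mp hg
    rw [PB2_eq_prodL] at hf ⊢
    have h := hf.2
    rw [(actU hK).app (relU hK)] at h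
    obtain ⟨-, h2, -, h4⟩ := PB2_injective h
    refine ⟨s (rx 25), s (rx 28), ?_⟩
    rw [W4_eq hK]
    rw [← h2, (pow_q hK _).1] at h4
    rw [h2] at h4
    congr 1
    · exact h2.symm
    · rw [h2]; exact h4.symm
  · rintro ⟨t, u, rfl⟩
    exact Subgroup.mem_inf.mpr ⟨(W4_mem_US t u).1, W4_fix hK (actU hK) (relU hK) t u⟩

/-- The generators. -/
def gens (K : Type*) [Field K] (e : ℕ) : Set (GL Cfsg.Lie.chevF4.Idx K) :=
  {g | ∃ w ∈ f4Words K e, (g : Matrix Cfsg.Lie.chevF4.Idx Cfsg.Lie.chevF4.Idx K) = Cfsg.Lie.chevF4.wordMat K w}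

theorem twisted_eq : twistedF4 K (2 ^ m) = Subgroup.closure (gens K (2 ^ m)) := rfl

theorem rev_val (n : ℕ) (h : n < Cfsg.Lie.chevF4.nroots) : (rx n h).rev.val = 47 - n := by
  rw [Fin.val_rev]
  show 48 - (n + 1) = 47 - n
  omega

theorem pair_val (t : K) :
    (Tw.X2 CfsgLib.Chev.chevF4 (rx 33) (rx 24) (t ^ 2 ^ m) t : Matrix Cfsg.Lie.chevF4.Idx Cfsg.Lie.chevF4.Idx K) =
        Cfsg.Lie.chevF4.wordMat K (f4PairWord (2 ^ m) f4p1 f4p4 t) ∧
      (Tw.X2 CfsgLib.Chev.chevF4 (rx 33).rev (rx 24).rev (t ^ 2 ^ m) t :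
          Matrix Cfsg.Lie.chevF4.Idx Cfsg.Lie.chevF4.Idx K) =
        Cfsg.Lie.chevF4.wordMat K (f4PairWord (2 ^ m) f4m1 f4m4 t) := by
  simp only [Tw.X2, Units.val_mul, ← Alg.x_val, ChevalleyDatum.wordMat, f4PairWord, List.map_cons, List.map_nil,
    List.prod_cons, List.prod_nil, mul_one, f4p1, f4p4, f4m1, f4m4, rev_val]
  exact ⟨trivial, trivial⟩

theorem b2_val (t u : K) :
    (W4 m (rx 27) (rx 25) (rx 28) (rx 30) t u : Matrix Cfsg.Lie.chevF4.Idx Cfsg.Lie.chevF4.Idx K) =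
        Cfsg.Lie.chevF4.wordMat K (b2ClassWord (2 ^ m) f4a f4b f4ab f4aab t u) ∧
      (W4 m (rx 27).rev (rx 25).rev (rx 28).rev (rx 30).rev t u :
          Matrix Cfsg.Lie.chevF4.Idx Cfsg.Lie.chevF4.Idx K) =
        Cfsg.Lie.chevF4.wordMat K (b2ClassWord (2 ^ m) f4ma f4mb f4mab f4maab t u) := by
  simp only [W4, Units.val_mul, ← Alg.x_val, ChevalleyDatum.wordMat, b2ClassWord, List.map_cons, List.map_nil,
    List.prod_cons, List.prod_nil, mul_one, Matrix.mul_assoc, f4a, f4b, f4ab, f4aab, f4ma, f4mb, f4mab, f4maab,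
    rev_val]
  exact ⟨trivial, trivial⟩

theorem pair_mem (t : K) :
    Tw.X2 CfsgLib.Chev.chevF4 (rx 33) (rx 24) (t ^ 2 ^ m) t ∈ twistedF4 K (2 ^ m) ∧
      Tw.X2 CfsgLib.Chev.chevF4 (rx 33).rev (rx 24).rev (t ^ 2 ^ m) t ∈ twistedF4 K (2 ^ m) :=
  ⟨Subgroup.subset_closure ⟨_, Or.inl ⟨t, Or.inl rfl⟩, (pair_val t).1⟩,
    Subgroup.subset_closure ⟨_, Or.inl ⟨t, Or.inr rfl⟩, (pair_val t).2⟩⟩

theorem b2_mem (t u : K) :
    W4 m (rx 27) (rx 25) (rx 28) (rx 30) t u ∈ twistedF4 K (2 ^ m) ∧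
      W4 m (rx 27).rev (rx 25).rev (rx 28).rev (rx 30).rev t u ∈ twistedF4 K (2 ^ m) :=
  ⟨Subgroup.subset_closure ⟨_, Or.inr ⟨t, u, Or.inl rfl⟩, (b2_val t u).1⟩,
    Subgroup.subset_closure ⟨_, Or.inr ⟨t, u, Or.inr rfl⟩, (b2_val t u).2⟩⟩

theorem gens_fix {g : GL Cfsg.Lie.chevF4.Idx K} (hg : g ∈ gens K (2 ^ m)) :
    g ∈ (tw hK).fix ∧ ∃ a, g ∈ CfsgLib.Chev.chevF4.US K (S.PJ a) ∨
      g ∈ CfsgLib.Chev.chevF4.US K (fun r => S.PJ a r.rev) := by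
  obtain ⟨k0, -, -, k3⟩ := k_p hK
  obtain ⟨p0, -, -, p3⟩ := simple_idx
  obtain ⟨w, (⟨t, rfl | rfl⟩ | ⟨t, u, rfl | rfl⟩), hg⟩ := hg
  · rw [Units.ext (hg.trans (pair_val t).1.symm)]
    have h1 : (t ^ 2 ^ m) ^ (tw hK).k (CfsgLib.Chev.chevF4.p (ix 0)) = t := by rw [k0]; exact (pow_q hK t).1
    have h2 : t ^ (tw hK).k (CfsgLib.Chev.chevF4.p (ix 3)) = t ^ 2 ^ m := by rw [k3]
    rw [← p0, ← p3]
    exact ⟨(orb0.app h1 h2).1, ox 0, Or.inl (mul_mem (xg_mem_US _ (S.p_mem_PJ orb0.mem.1) _)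
      (xg_mem_US _ (S.p_mem_PJ orb0.mem.2) _))⟩
  · rw [Units.ext (hg.trans (pair_val t).2.symm)]
    have h1 : (t ^ 2 ^ m) ^ (tw hK).k (CfsgLib.Chev.chevF4.p (ix 0)) = t := by rw [k0]; exact (pow_q hK t).1
    have h2 : t ^ (tw hK).k (CfsgLib.Chev.chevF4.p (ix 3)) = t ^ 2 ^ m := by rw [k3]
    rw [← p0, ← p3]
    exact ⟨(orb0.app h1 h2).2, ox 0, Or.inr (mul_mem
      (xg_mem_US _ (S := fun r => S.PJ (ox 0) r.rev) (by rw [Fin.rev_rev]; exact S.p_mem_PJ orb0.mem.1) _)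
      (xg_mem_US _ (S := fun r => S.PJ (ox 0) r.rev) (by rw [Fin.rev_rev]; exact S.p_mem_PJ orb0.mem.2) _))⟩
  · rw [Units.ext (hg.trans (b2_val t u).1.symm)]
    exact ⟨W4_fix hK (actU hK) (relU hK) t u, ox 1, Or.inl (W4_mem_US t u).1⟩
  · rw [Units.ext (hg.trans (b2_val t u).2.symm)]
    exact ⟨W4_fix hK (actV hK) (relV hK) t u, ox 1, Or.inr (W4_mem_US t u).2⟩

theorem le_fix : twistedF4 K (2 ^ m) ≤ (tw hK).fix := by
  rw [twisted_eq, Subgroup.closure_le]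
  exact fun g hg => (gens_fix hK hg).1

include hK in
theorem facts0 :
    (CfsgLib.Chev.chevF4.US K (S.PJ (ox 0)) ⊓ (tw hK).fix ≤ twistedF4 K (2 ^ m)) ∧
    (∃ n ∈ twistedF4 K (2 ^ m), n ∈ Cfsg.Lie.chevF4.monomialSubgroup K ∧
      CfsgLib.Chev.chevF4.Mono n (S.w (ox 0))) ∧
    (∀ d, (tw hK).dmap d = d → (∀ k, k ∉ S.J (ox 0) → d k = 1) →
      Tw.tor (Φ := CfsgLib.Chev.chevF4) d ∈ twistedF4 K (2 ^ m)) := by
  obtain ⟨k0, -, -, k3⟩ := k_p hK
  obtain ⟨p0, -, -, p3⟩ := simple_idx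
  refine orb0.facts (T := tw hK) fun x y hx hy => ?_
  rw [k3] at hy
  rw [p0, p3, ← hy]
  exact pair_mem y

include hK in
theorem root_le1 : CfsgLib.Chev.chevF4.US K (S.PJ (ox 1)) ⊓ (tw hK).fix ≤ twistedF4 K (2 ^ m) := by
  intro g hg
  obtain ⟨t, u, rfl⟩ := (fix_one_iff hK).mp hg
  exact (b2_mem t u).1

/-- The word of a generator with parameters in the prime field. -/
def wU (t u : ℤ) : List (Fin Cfsg.Lie.chevF4.nroots × ℤ) :=
  [(rx 27, t), (rx 25, t), (rx 28, t + u), (rx 30, u)]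

/-- The word of a generator on the negative roots. -/
def wV (t u : ℤ) : List (Fin Cfsg.Lie.chevF4.nroots × ℤ) :=
  [((rx 27).rev, t), ((rx 25).rev, t), ((rx 28).rev, t + u), ((rx 30).rev, u)]

/-- The word of the longest element of B2. -/
def wN : List (Fin Cfsg.Lie.chevF4.nroots × ℤ) :=
  nWZ (rx 27) 1 ++ nWZ (rx 25) 1 ++ nWZ (rx 27) 1 ++ nWZ (rx 25) 1

theorem eqMod_n : packF4.eqMod 2 ((wU 1 0 ++ wV 0 1 ++ wU 1 1).map fun a => (a.1.val, a.2))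
    (wN.map fun a => (a.1.val, a.2)) = true := by decide +kernel

include hK in
theorem wU_eq (t u : ℤ) (ht : t = 0 ∨ t = 1) (hu : u = 0 ∨ u = 1) :
    CfsgLib.Chev.chevF4.wordG K (wU t u) = W4 m (rx 27) (rx 25) (rx 28) (rx 30) (t : K) u ∧
      CfsgLib.Chev.chevF4.wordG K (wV t u) =
        W4 m (rx 27).rev (rx 25).rev (rx 28).rev (rx 30).rev (t : K) u := by
  have e : ∀ z : ℤ, z = 0 ∨ z = 1 → ∀ n : ℕ, n ≠ 0 → (z : K) ^ n = z := by
    rintro z (rfl | rfl) n hn <;> simp [hn]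
  have h2 : 2 ^ m ≠ 0 := by positivity
  rw [W4, W4, e t ht _ h2, e t ht _ (Nat.succ_ne_zero _), e u hu _ (Nat.mul_ne_zero (by decide) h2)]
  constructor <;> simp [wordG, wU, wV, mul_assoc]

include hK in
theorem wN_facts : CfsgLib.Chev.chevF4.wordG K wN ∈ Subgroup.closure
    {g | g ∈ twistedF4 K (2 ^ m) ∧ (g ∈ CfsgLib.Chev.chevF4.US K (S.PJ (ox 1)) ∨
      g ∈ CfsgLib.Chev.chevF4.US K (fun r => S.PJ (ox 1) r.rev))} := by
  haveI := charP_two hK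
  rw [← wordG_eq_of_eqMod CfsgLib.Chev.chevF4 (P := packF4) (hn := by decide) (hd := datumOKF4) (ht := tabOKF4)
    (hr := rootsOKF4) rfl 2 _ _ eqMod_n, wordG_append, wordG_append,
    (wU_eq hK 1 0 (by simp) (by simp)).1, (wU_eq hK 0 1 (by simp) (by simp)).2,
    (wU_eq hK 1 1 (by simp) (by simp)).1]
  exact mul_mem (mul_mem (Subgroup.subset_closure ⟨(b2_mem _ _).1, Or.inl (W4_mem_US _ _).1⟩)
    (Subgroup.subset_closure ⟨(b2_mem _ _).2, Or.inr (W4_mem_US _ _).2⟩))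
    (Subgroup.subset_closure ⟨(b2_mem _ _).1, Or.inl (W4_mem_US _ _).1⟩)

include hK in
theorem wN_mem : CfsgLib.Chev.chevF4.wordG K wN ∈ twistedF4 K (2 ^ m) :=
  (Subgroup.closure_le (twistedF4 K (2 ^ m))).mpr (fun _ hg => hg.1) (wN_facts hK)

theorem wN_N : CfsgLib.Chev.chevF4.wordG K wN ∈ Cfsg.Lie.chevF4.monomialSubgroup K := by
  simp only [wN, wordG_append, wordG_nWZ_one]
  exact mul_mem (mul_mem (mul_mem (nw_mem_N _ _ _) (nw_mem_N _ _ _)) (nw_mem_N _ _ _)) (nw_mem_N _ _ _)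

theorem wN_mono : CfsgLib.Chev.chevF4.Mono (CfsgLib.Chev.chevF4.wordG K wN) (S.w (ox 1)) := by
  obtain ⟨-, p1, p2, -⟩ := simple_idx
  have m1 : CfsgLib.Chev.chevF4.Mono (CfsgLib.Chev.chevF4.nw (rx 27) (1 : Kˣ)) (CfsgLib.Chev.chevF4.reflPerm (ix 1)) := by
    rw [← p1]; exact nw_one_mono _ _
  have m2 : CfsgLib.Chev.chevF4.Mono (CfsgLib.Chev.chevF4.nw (rx 25) (1 : Kˣ)) (CfsgLib.Chev.chevF4.reflPerm (ix 2)) := by
    rw [← p2]; exact nw_one_mono _ _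
  simp only [wN, wordG_append, wordG_nWZ_one]
  have := Mono.mul _ (Mono.mul _ (Mono.mul _ m1 m2) m1) m2
  convert this using 1
  show wPerm _ symF4 1 = _
  simp [wPerm, symF4, SymData.word, mul_assoc]
  rfl

theorem tau_symm : S.τ.symm (ix 0) = ix 3 ∧ S.τ.symm (ix 1) = ix 2 ∧ S.τ.symm (ix 2) = ix 1 ∧
    S.τ.symm (ix 3) = ix 0 :=
  ⟨Equiv.symm_apply_eq _ |>.mpr (Fin.ext rfl), Equiv.symm_apply_eq _ |>.mpr (Fin.ext rfl),
    Equiv.symm_apply_eq _ |>.mpr (Fin.ext rfl), Equiv.symm_apply_eq _ |>.mpr (Fin.ext rfl)⟩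

/-- The fixed torus parameters. -/
def stab (m : ℕ) : Kˣ × Kˣ →* (Fin Cfsg.Lie.chevF4.rank → Kˣ) where
  toFun x := fun j => [x.1 ^ 2 ^ m, x.2 ^ 2 ^ m, x.2, x.1].getD j.val 1
  map_one' := funext fun j => by
    match j with
    | ⟨0, _⟩ => exact one_pow _
    | ⟨1, _⟩ => exact one_pow _
    | ⟨2, _⟩ => rfl
    | ⟨3, _⟩ => rfl
  map_mul' x y := funext fun j => by
    match j with
    | ⟨0, _⟩ => exact mul_pow _ _ _
    | ⟨1, _⟩ => exact mul_pow _ _ _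
    | ⟨2, _⟩ => rfl
    | ⟨3, _⟩ => rfl

theorem forall_ix {P : Fin Cfsg.Lie.chevF4.rank → Prop} :
    (∀ j, P j) ↔ P (ix 0) ∧ P (ix 1) ∧ P (ix 2) ∧ P (ix 3) := by
  refine ⟨fun h => ⟨h _, h _, h _, h _⟩, fun ⟨a, b, c, d⟩ j => ?_⟩
  match j with
  | ⟨0, _⟩ => exact a
  | ⟨1, _⟩ => exact b
  | ⟨2, _⟩ => exact c
  | ⟨3, _⟩ => exact d

theorem stable_iff (d : Fin Cfsg.Lie.chevF4.rank → Kˣ) :
    (tw hK).dmap d = d ↔ d = stab m (d (ix 3), d (ix 2)) := by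
  obtain ⟨k0, k1, k2, k3⟩ := k_p hK
  obtain ⟨t0, t1, t2, t3⟩ := tau_symm
  constructor
  · intro h
    have h0 := congrFun h (ix 0)
    have h1 := congrFun h (ix 1)
    simp only [Tw.dmap, t0, k3] at h0
    simp only [Tw.dmap, t1, k2] at h1
    exact funext (forall_ix.mpr ⟨h0.symm, h1.symm, rfl, rfl⟩)
  · intro h
    have h0 : d (ix 0) = d (ix 3) ^ 2 ^ m := congrFun h (ix 0)
    have h1 : d (ix 1) = d (ix 2) ^ 2 ^ m := congrFun h (ix 1)
    refine funext (forall_ix.mpr ⟨?_, ?_, ?_, ?_⟩)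
    · simp only [Tw.dmap, t0, k3]; exact h0.symm
    · simp only [Tw.dmap, t1, k2]; exact h1.symm
    · simp only [Tw.dmap, t2, k1, h1]; exact (units_pow_q hK _).1
    · simp only [Tw.dmap, t3, k0, h0]; exact (units_pow_q hK _).1

theorem ker_one {z : Fin Cfsg.Lie.chevF4.rank → Kˣ} (hz : Tw.tor (Φ := CfsgLib.Chev.chevF4) z = 1) : z = 1 := by
  let B : Matrix (Fin Cfsg.Lie.chevF4.rank) (Fin Cfsg.Lie.chevF4.rank) ℤ :=
    Matrix.of fun a b => ([[2, 3, 4, 2], [3, 6, 8, 4], [2, 4, 6, 3], [1, 2, 3, 2]].getD a.val []).getD b.val 0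
  funext l
  have h := pow_det_of_coHom (d := 1) B (fun k l => ?_) hz l
  · simpa using h
  · have hk : ∀ k l : Fin Cfsg.Lie.chevF4.rank, ∑ j : Fin Cfsg.Lie.chevF4.rank,
        Cfsg.Lie.chevF4.cartan k.val (Cfsg.Lie.chevF4.simple j.val) * B j l = if k = l then (1 : ℤ) else 0 := by
      decide +kernel
    refine Eq.trans ?_ (hk k l)
    exact Finset.sum_congr rfl fun j _ => by rw [← cartan_val, ← p_val]

include hK in
theorem exists_sqrt (s : Kˣ) : ∃ w : Kˣ, w * w = s := by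
  refine ⟨s ^ 2 ^ (2 * m), ?_⟩
  rw [← pow_add, show 2 ^ (2 * m) + 2 ^ (2 * m) = Fintype.card K by rw [hK, pow_succ]; omega]
  exact Units.ext (by simp [FiniteField.pow_card])

theorem w1_inv_cartan (i k : Fin Cfsg.Lie.chevF4.rank) (hk : k.val ∈ symF4.orb 1) :
    CfsgLib.Chev.chevF4.A k (S.w (ox 1) (CfsgLib.Chev.chevF4.p i)) =
      -CfsgLib.Chev.chevF4.A k (CfsgLib.Chev.chevF4.p i) := by
  have h : ∀ i k : Fin Cfsg.Lie.chevF4.rank, k.val ∈ symF4.orb 1 →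
      Cfsg.Lie.chevF4.cartan k.val (symF4.wEval 1 (Cfsg.Lie.chevF4.simple i.val)) =
        -Cfsg.Lie.chevF4.cartan k.val (Cfsg.Lie.chevF4.simple i.val) := by decide +kernel
  rw [← cartan_val, ← cartan_val]
  show Cfsg.Lie.chevF4.cartan k.val (CfsgLib.Chev.chevF4.wPerm symF4 1 (CfsgLib.Chev.chevF4.p i)).val = _
  rw [← symOKF4.wEval_eq (by decide), p_val]
  exact h i k hk

include hK in
theorem torus1 (d : Fin Cfsg.Lie.chevF4.rank → Kˣ) (hd : (tw hK).dmap d = d)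
    (hs : ∀ k, k ∉ S.J (ox 1) → d k = 1) :
    Tw.tor (Φ := CfsgLib.Chev.chevF4) d ∈ twistedF4 K (2 ^ m) := by
  have h3 : d (ix 3) = 1 := hs _ (by show ¬ (3 ∈ symF4.orb 1); decide +kernel)
  obtain ⟨w, hw⟩ := exists_sqrt hK (d (ix 2))
  rw [(stable_iff hK d).mp hd, h3, ← hw, show ((1 : Kˣ), w * w) = (1, w) * (1, w) by simp, map_mul]
  refine Tw.sq_tor_mem (le_fix hK) (ox 1) (root_le1 hK) wN_N wN_mono (wN_facts hK) ((stable_iff hK _).mpr rfl)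
    fun i k hk => w1_inv_cartan i k ?_
  by_contra hc
  revert hk hc
  match k with
  | ⟨0, _⟩ => exact fun hk _ => hk (one_pow _)
  | ⟨1, _⟩ => exact fun _ hc => hc (show 1 ∈ symF4.orb 1 by decide +kernel)
  | ⟨2, _⟩ => exact fun _ hc => hc (show 2 ∈ symF4.orb 1 by decide +kernel)
  | ⟨3, _⟩ => exact fun hk _ => hk rfl

theorem gen : (tw hK).Gen (twistedF4 K (2 ^ m)) where
  le_fix := le_fix hK
  root_le a := by
    match a with
    | ⟨0, _⟩ => exact (facts0 hK).1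
    | ⟨1, _⟩ => exact root_le1 hK
  exists_n a := by
    match a with
    | ⟨0, _⟩ => exact (facts0 hK).2.1
    | ⟨1, _⟩ => exact ⟨_, wN_mem hK, wN_N, wN_mono⟩
  torus_le a := by
    match a with
    | ⟨0, _⟩ => exact (facts0 hK).2.2
    | ⟨1, _⟩ => exact torus1 hK
  lift d hd := by
    refine ⟨d, ?_, rfl⟩
    have h : Tw.tor (Φ := CfsgLib.Chev.chevF4) ((tw hK).dmap d / d) = 1 := by rw [map_div, hd, div_self']
    exact div_eq_one.mp (ker_one h)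

theorem eq_fix : twistedF4 K (2 ^ m) = (tw hK).fix := (gen hK).eq_fix

open Classical in
theorem wit : (tw hK).Wit := fun a => by
  match a with
  | ⟨0, _⟩ => exact orb0.wit
  | ⟨1, _⟩ =>
    refine ⟨tvec 1 ((1 : K) ^ 2 ^ m) 0 ((0 : K) ^ (2 * 2 ^ m) + 1 * ((1 : K) ^ 2 ^ m) ^ 2), ?_, fun i hi => ?_⟩
    · rw [PB2_eq_prodL]
      have h := W4_fix hK (actU hK) (relU hK) 1 0
      rw [W4_eq hK] at h
      simpa [tvec] using h
    · obtain ⟨-, p1, p2, -⟩ := simple_idx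
      have : i = ix 1 ∨ i = ix 2 := by
        have h : ∀ j : Fin Cfsg.Lie.chevF4.rank, j.val ∈ symF4.orb 1 → j = ix 1 ∨ j = ix 2 := by decide +kernel
        exact h i hi
      rcases this with rfl | rfl
      · rw [p1]; simp [tvec]
      · rw [p2]; simp [tvec]

theorem card_root_sq (a : Fin S.m) :
    Nat.card ↥(CfsgLib.Chev.chevF4.US K (S.PJ a) ⊓ (tw hK).fix) ^ 2 =
      (2 ^ (2 * m + 1)) ^ S.len (S.w a) := by
  rw [cnt_eq symOKF4]
  match a with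
  | ⟨0, _⟩ =>
    rw [show WCert.cnt symF4 Cfsg.Lie.chevF4 0 = 2 by decide +kernel]
    congr 1
    refine (Tw.Two.card (T := tw hK) orb0).trans ?_
    obtain ⟨k0, -, -, k3⟩ := k_p hK
    rw [k0, k3, ← hK, ← Nat.card_eq_fintype_card]
    exact Nat.card_congr (Equiv.subtypeUnivEquiv fun c => (pow_q hK c).2)
  | ⟨1, _⟩ =>
    rw [show WCert.cnt symF4 Cfsg.Lie.chevF4 1 = 4 by decide +kernel,
      show (4 : ℕ) = 2 * 2 from rfl, pow_mul]
    congr 1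
    let f : K × K → ↥(CfsgLib.Chev.chevF4.US K (S.PJ (ox 1)) ⊓ (tw hK).fix) := fun x =>
      ⟨W4 m (rx 27) (rx 25) (rx 28) (rx 30) x.1 x.2, (fix_one_iff hK).mpr ⟨_, _, rfl⟩⟩
    have hf : Function.Bijective f := by
      refine ⟨?_, ?_⟩
      · rintro ⟨t, u⟩ ⟨t', u'⟩ e
        have e' : W4 m (rx 27) (rx 25) (rx 28) (rx 30) t u = W4 m (rx 27) (rx 25) (rx 28) (rx 30) t' u' :=
          congrArg Subtype.val e
        rw [W4_eq hK, W4_eq hK] at e'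
        obtain ⟨h1, -, h3, -⟩ := PB2_injective e'
        exact Prod.ext h1 h3
      · rintro ⟨g, hg⟩
        obtain ⟨t, u, rfl⟩ := (fix_one_iff hK).mp hg
        exact ⟨(t, u), rfl⟩
    refine (Nat.card_congr (Equiv.ofBijective f hf)).symm.trans ?_
    rw [Nat.card_prod, Nat.card_eq_fintype_card, hK, sq]

include hK in
theorem card_U : Nat.card ↥(Cfsg.Lie.chevF4.posUnipotent K ⊓ twistedF4 K (2 ^ m)) = (2 ^ (2 * m + 1)) ^ 12 := by
  have := (gen hK).card_U _ 2 (card_root_sq hK)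
  rw [show Cfsg.Lie.chevF4.nroots / 2 = 12 * 2 by decide +kernel, pow_mul] at this
  rw [eq_fix hK]
  exact Nat.pow_left_injective (by norm_num) this

end CfsgLib.Chev.T2F4
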