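/-
The theorem of Borel and Tits for twisted groups.

The gradings allowed are those in a set stable under the centralised Weyl group and under
midpoints; the least admissible one is unique up to a parabolic subgroup of the twisted group,
which therefore contains the normaliser.
-/
import Cfsg.Agent.Lib.Chev.BorelTits
import Cfsg.Agent.Lib.Chev.Twist.BN
import Cfsg.Agent.Lib.BN.Basic

namespace CfsgLib.Chev

open Cfsg.Lie Matrix

set_option linter.dupNamespace false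
set_option linter.unusedSectionVars false

variable {D : ChevalleyDatum}

namespace Chev

variable {Φ : Chev D}

theorem W_le_WL_tw (Φ : Chev D) : Φ.W ≤ Φ.WL := by
  rw [W, Subgroup.closure_le]
  rintro _ ⟨i, rfl⟩
  exact Φ.reflPerm_mem_WL i

/-- A family of gradings adapted to a symmetry. -/
structure Sym.Gradings (S : Φ.Sym) where
  V : Set (Fin D.rank → ℝ)
  closed : IsClosed V
  mid : ∀ x ∈ V, ∀ y ∈ V, (fun j => (x j + y j) / 2) ∈ V
  act : ∀ π ∈ S.W1, ∀ x ∈ V, Φ.act π x ∈ V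
  pos : ∃ x ∈ V, ∀ i, 1 ≤ x i
  neg : ∀ x ∈ V, ∀ a, ∀ i ∈ S.J a, x i < 0 → ∀ k ∈ S.J a, x k < 0

theorem Sym.Gradings.exists_dominant {S : Φ.Sym} (V : S.Gradings) {z : Fin D.rank → ℝ} (hz : z ∈ V.V) :
    ∃ σ ∈ S.W1, ∀ i, 0 ≤ Φ.act σ z i := by
  classical
  set P := Finset.univ.filter (fun r => Φ.toTables.Pos r) with hP
  obtain ⟨σ, hσ, hmax⟩ := Finset.exists_max_image (Finset.univ.filter (· ∈ S.W1))
    (fun σ => ∑ r ∈ P, Φ.wt z (σ r)) ⟨1, by simp [one_mem]⟩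
  simp only [Finset.mem_filter, Finset.mem_univ, true_and] at hσ hmax
  refine ⟨σ, hσ, fun i => ?_⟩
  by_contra hi
  push Not at hi
  obtain ⟨a, ha⟩ := S.cover i
  set y := Φ.act σ z with hy
  have hwy : ∀ r, Φ.wt z (σ r) = Φ.wt y r := fun r =>
    (Φ.wt_act (Φ.W_le_WL_tw (S.mem_W1.mp hσ).1) z r).symm
  have hneg := V.neg y (V.act σ hσ z hz) a i ha hi
  have hle : ∀ r, S.PJ a r → Φ.wt y r ≤ 0 := by
    refine fun r hr => Finset.sum_nonpos fun j _ => ?_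
    by_cases hj : j ∈ S.J a
    · exact mul_nonpos_of_nonneg_of_nonpos (by exact_mod_cast Φ.V_nonneg r hr.1 j) (hneg j hj).le
    · simp [hr.2 j hj]
  have h := hmax _ (mul_mem hσ (S.w_mem_W1 a))
  have e : ∀ f : Fin D.nroots → ℝ, ∑ r ∈ P, f r =
      ∑ r ∈ P.filter (S.PJ a), f r + ∑ r ∈ P.filter (fun r => ¬ S.PJ a r), f r :=
    fun f => (Finset.sum_filter_add_sum_filter_not P _ f).symm
  have hout : ∀ r, r ∈ P.filter (fun r => ¬ S.PJ a r) → S.w a r ∈ P.filter (fun r => ¬ S.PJ a r) := by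
    intro r hr
    simp only [hP, Finset.mem_filter, Finset.mem_univ, true_and, Sym.PJ, not_and] at hr ⊢
    have ho := (S.out_w (S.w_mem a) r).mpr (Φ.out_iff_pos_and_not_sub.mpr ⟨hr.1, hr.2 hr.1⟩)
    have := Φ.out_iff_pos_and_not_sub.mp ho
    exact ⟨this.1, fun _ => this.2⟩
  have e1 : ∑ r ∈ P.filter (fun r => ¬ S.PJ a r), Φ.wt y (S.w a r) =
      ∑ r ∈ P.filter (fun r => ¬ S.PJ a r), Φ.wt y r :=
    Finset.sum_nbij' (S.w a) (S.w a) hout hout (fun r _ => S.w_w_apply a r)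
      (fun r _ => S.w_w_apply a r) (fun _ _ => rfl)
  have e2 : (0 : ℝ) ≤ ∑ r ∈ P.filter (S.PJ a), Φ.wt y (S.w a r) := by
    refine Finset.sum_nonneg fun r hr => ?_
    have hr' := (Finset.mem_filter.mp hr).2
    have h1 : S.PJ a (S.w a r).rev :=
      ⟨(Φ.pos_rev_iff _).mpr (S.w_neg a r hr'.1 hr'.2), by rw [Φ.sub_rev, S.sub_w]; exact hr'.2⟩
    have := hle _ h1
    rw [Φ.wt_rev] at this
    linarith
  have e3 : ∑ r ∈ P.filter (S.PJ a), Φ.wt y r < 0 := by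
    have hip : Φ.p i ∈ P.filter (S.PJ a) := by
      simp [hP, Φ.p_pos i, S.p_mem_PJ ha]
    rw [← Finset.add_sum_erase _ _ hip]
    have h1 : ∑ r ∈ (P.filter (S.PJ a)).erase (Φ.p i), Φ.wt y r ≤ 0 :=
      Finset.sum_nonpos fun r hr => hle r (Finset.mem_filter.mp (Finset.mem_of_mem_erase hr)).2
    rw [Φ.wt_p]
    linarith
  have h' : ∑ r ∈ P, Φ.wt y (S.w a r) ≤ ∑ r ∈ P, Φ.wt y r := by
    simpa [hwy] using h
  rw [e, e (fun r => Φ.wt y r), e1] at h'
  linarith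

namespace Tw

variable {S : Φ.Sym} {F : Type*} [Field F] {T : Tw S F} {G1 : Subgroup (GL D.Idx F)}

/-- Two frames of the least adapted grading differ by an element preserving the filtration. -/
theorem Gen.adm_unique (hG : T.Gen G1) (V : S.Gradings) {R : Subgroup (GL D.Idx F)} {g h : GL D.Idx F}
    (hg : g ∈ G1) (hh : h ∈ G1) {x : Fin D.rank → ℝ} (hxV : x ∈ V.V) (hx : ∀ i, 0 ≤ x i)
    (hgx : Φ.Adm R g x) (hhx : Φ.Adm R h x)
    (hmin : ∀ g' ∈ G1, ∀ y ∈ V.V, (∀ i, 0 ≤ y i) → Φ.Adm R g' y → Φ.nsq x ≤ Φ.nsq y) :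
    g⁻¹ * h ∈ stabR (Φ.wtIdx x) := by
  obtain ⟨π, hπ1, hb⟩ := hG.bruhat (hG.le_fix (mul_mem (inv_mem hg) hh))
  obtain ⟨n, hn1, hn, hm⟩ := hG.exists_nW1 hπ1
  obtain ⟨b, hb, b', hb', e⟩ := hb n hn1 hn hm
  have hπ : π ∈ Φ.WL := Φ.W_le_WL_tw (S.mem_W1.mp hπ1).1
  have hbs := Φ.borel_le_stabR hx hb.1
  have hb's := Φ.borel_le_stabR hx (Φ.inv_le_B π hb'.1)
  set g1 := g * b with hg1
  have hg1G : g1 ∈ G1 := mul_mem hg (hG.mem_B hb.1 hb.2)
  have h1 : Φ.Adm R g1 x := hgx.mul_stab Φ hbs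
  have h2 : Φ.Adm R (h * b'⁻¹) x := hhx.mul_stab Φ (inv_mem hb's)
  have e' : h * b'⁻¹ = g1 * n := by
    rw [hg1, show h = g * (g⁻¹ * h) by group, e]
    group
  rw [e'] at h2
  set y := Φ.act π⁻¹ x with hy
  have h3 : Φ.Adm R g1 y := by
    have := h2.mul_mono Φ (inv_mem hn) (inv_mem hπ) (Chev.mono_inv Φ hn hm)
    rwa [mul_inv_cancel_right] at this
  set z : Fin D.rank → ℝ := fun j => (x j + y j) / 2 with hz
  have h4 : Φ.Adm R g1 z := by
    intro r hr a c hac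
    have u1 := h1 r hr a c hac
    have u2 := h3 r hr a c hac
    have hl : ∀ i : D.Idx, Φ.wtIdx z i = (Φ.wtIdx x i + Φ.wtIdx y i) / 2 := by
      rintro (i | s)
      · simp [wtIdx]
      · simp only [wtIdx, Sum.elim_inr, wt, hz, ← Finset.sum_add_distrib, Finset.sum_div]
        exact Finset.sum_congr rfl fun j _ => by ring
    rw [hl, hl]
    linarith
  have hzV : z ∈ V.V := V.mid x hxV y (V.act _ (inv_mem hπ1) x hxV)
  obtain ⟨σ, hσ, hdom⟩ := V.exists_dominant hzV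
  obtain ⟨m, hm0, hm1, hm2⟩ := hG.exists_nW1 hσ
  have hσL : σ ∈ Φ.WL := Φ.W_le_WL_tw (S.mem_W1.mp hσ).1
  have h5 := hmin _ (mul_mem hg1G hm0) _ (V.act σ hσ z hzV) hdom (h4.mul_mono Φ hm1 hσL hm2)
  rw [Φ.nsq_act hσL] at h5
  have h6 := Φ.nsq_mid x y
  rw [hy, Φ.nsq_act (inv_mem hπ), ← hy, ← hz] at h6
  have h7 : Φ.nsq (fun j => x j - y j) ≤ 0 := by linarith
  have hxy : y = x := by
    funext j
    have := (Φ.sq_le_nsq (fun j => x j - y j) j).trans h7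
    nlinarith
  have hnst : n ∈ stabR (Φ.wtIdx x) := by
    have key : ∀ {m : GL D.Idx F} {τ : Equiv.Perm (Fin D.nroots)}, τ ∈ Φ.WL → Φ.Mono m τ →
        Φ.act τ x = x → RaisesR (Φ.wtIdx x) 0 (m : Matrix D.Idx D.Idx F) := by
      intro m τ hτ hmτ he a c hac
      rw [Φ.mono_entry hτ hmτ x hac, he, add_zero]
    have hx2 : Φ.act π x = x := by
      conv_lhs => rw [← hxy, hy, ← Φ.act_mul (inv_mem hπ), inv_mul_cancel, Φ.act_one]
    exact ⟨key hπ hm hx2, key (inv_mem hπ) (Chev.mono_inv Φ hn hm) hxy⟩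
  rw [e]
  exact mul_mem (mul_mem hbs hnst) hb's

/-- The theorem of Borel and Tits for twisted groups: the normaliser of a unipotent subgroup lies
in a proper parabolic subgroup. -/
theorem Gen.borelTits [Finite F] (hG : T.Gen G1)
    (hne : ∀ a, ∃ x ∈ Φ.US F (S.PJ a) ⊓ T.fix, x ≠ 1) (V : S.Gradings)
    {R : Subgroup (GL D.Idx F)} (hR : ∃ g ∈ G1, ∀ r ∈ R, g⁻¹ * r * g ∈ D.posUnipotent F) (hRne : R ≠ ⊥) :
    ∃ g : ↥G1, ∃ a : Fin S.m, ∀ k : ↥G1, (k : GL D.Idx F) ∈ Subgroup.normalizer (R : Set (GL D.Idx F)) →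
      g⁻¹ * k * g ∈ (hG.bnPair hne).parabolic (Set.range hG.sn \ {hG.sn a}) := by
  classical
  obtain ⟨g₀, hg₀, hU⟩ := hR
  obtain ⟨y₀, hy₀, hy₀1⟩ := V.pos
  have hstart : Φ.Adm R g₀ y₀ := by
    have hr1 : ∀ u ∈ D.posUnipotent F, RaisesR (Φ.wtIdx y₀) 1 ((u : Matrix D.Idx D.Idx F) - 1) ∧
        RaisesR (Φ.wtIdx y₀) 1 ((↑u⁻¹ : Matrix D.Idx D.Idx F) - 1) := by
      intro u hu
      rw [Φ.posUnipotent_eq_US] at hu
      have hge : ∀ r, Φ.toTables.Pos r → (1 : ℝ) ≤ Φ.wt y₀ r := by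
        intro r hr
        obtain ⟨j, hj⟩ := Φ.exists_V_pos hr
        refine le_trans ?_ (Finset.single_le_sum (f := fun j => (Φ.V r j : ℝ) * y₀ j)
          (fun k _ => mul_nonneg (by exact_mod_cast Φ.V_nonneg r hr k) (le_trans zero_le_one (hy₀1 k)))
          (Finset.mem_univ j))
        have h1 : (1 : ℝ) ≤ (Φ.V r j : ℝ) := by exact_mod_cast hj
        nlinarith [hy₀1 j]
      have hm : ∀ M N : Matrix D.Idx D.Idx F, RaisesR (Φ.wtIdx y₀) 1 (M - 1) →
          RaisesR (Φ.wtIdx y₀) 1 (N - 1) → RaisesR (Φ.wtIdx y₀) 1 (M * N - 1) := by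
        intro M N hM hN
        rw [mul_sub_one]
        have hMN : RaisesR (Φ.wtIdx y₀) 1 ((M - 1) * (N - 1)) := fun a b hab => by
          linarith [(hM.mul _ hN) a b hab]
        exact (hMN.add _ hM).add _ hN
      induction hu using Subgroup.closure_induction with
      | mem y hy =>
        obtain ⟨r, t, hr, rfl⟩ := hy
        exact ⟨Φ.raisesR_xg zero_le_one (hge r hr) t,
          by rw [Φ.toAlg.xg_inv]; exact Φ.raisesR_xg zero_le_one (hge r hr) (-t)⟩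
      | one => simp [RaisesR]
      | mul a b _ _ ha hb =>
        exact ⟨by rw [Units.val_mul]; exact hm _ _ ha.1 hb.1,
          by rw [_root_.mul_inv_rev, Units.val_mul]; exact hm _ _ hb.2 ha.2⟩
      | inv a _ ha => exact ⟨ha.2, by rw [inv_inv]; exact ha.1⟩
    exact fun r hr => (hr1 _ (hU r hr)).1
  set X : Set (Fin D.rank → ℝ) := {y | y ∈ V.V ∧ (∀ i, 0 ≤ y i) ∧ ∃ g ∈ G1, Φ.Adm R g y} with hX
  set K := X ∩ {y | Φ.nsq y ≤ Φ.nsq y₀} with hK
  have hcw : ∀ a : D.Idx, Continuous fun y : Fin D.rank → ℝ => Φ.wtIdx y a := by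
    rintro (i | s)
    · exact continuous_const
    · show Continuous fun y : Fin D.rank → ℝ => ∑ j, (Φ.V s j : ℝ) * y j
      exact continuous_finsetSum _ fun j _ => continuous_const.mul (continuous_apply j)
  have hcn : Continuous fun y : Fin D.rank → ℝ => Φ.nsq y :=
    continuous_finsetSum _ fun r _ => (hcw (Sum.inr r)).pow 2
  have hXc : IsClosed X := by
    have e : X = V.V ∩ ((⋂ i, {y : Fin D.rank → ℝ | 0 ≤ y i}) ∩ ⋃ g : ↥G1, {y | Φ.Adm R g y}) := by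
      ext y
      simp only [hX, Set.mem_setOf_eq, Set.mem_inter_iff, Set.mem_iInter, Set.mem_iUnion, Subtype.exists,
        exists_prop]
    rw [e]
    refine V.closed.inter ((isClosed_iInter fun i => isClosed_le continuous_const (continuous_apply i)).inter
      (isClosed_iUnion_of_finite fun g => ?_))
    simp only [Adm, RaisesR, Set.ofPred_forall]
    exact isClosed_iInter fun r => isClosed_iInter fun _ => isClosed_iInter fun a =>
      isClosed_iInter fun b => isClosed_iInter fun _ =>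
        isClosed_le ((hcw b).add continuous_const) (hcw a)
  have hKc : IsCompact K := by
    refine Metric.isCompact_of_isClosed_isBounded (hXc.inter (isClosed_le hcn continuous_const)) ?_
    refine (Metric.isBounded_closedBall (x := (0 : Fin D.rank → ℝ)) (r := Φ.nsq y₀ + 1)).subset ?_
    rintro y ⟨-, hy⟩
    have h0 : 0 ≤ Φ.nsq y₀ := Finset.sum_nonneg fun r _ => sq_nonneg _
    rw [Metric.mem_closedBall, dist_zero_right, pi_norm_le_iff_of_nonneg (by linarith)]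
    intro i
    have h1 : y i ^ 2 ≤ Φ.nsq y₀ := (Φ.sq_le_nsq y i).trans hy
    rw [Real.norm_eq_abs, abs_le]
    constructor <;> nlinarith
  have hx₀ : y₀ ∈ K :=
    ⟨⟨hy₀, fun i => le_trans zero_le_one (hy₀1 i), g₀, hg₀, hstart⟩, le_rfl (a := Φ.nsq y₀)⟩
  obtain ⟨x, hxK, hxmin⟩ := hKc.exists_isMinOn ⟨y₀, hx₀⟩ hcn.continuousOn
  obtain ⟨⟨hxV, hx, g, hg, hgx⟩, hxle⟩ := hxK
  have hmin : ∀ g' ∈ G1, ∀ y ∈ V.V, (∀ i, 0 ≤ y i) → Φ.Adm R g' y → Φ.nsq x ≤ Φ.nsq y := by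
    intro g' hg' y hyV hy hA
    by_cases h : Φ.nsq y ≤ Φ.nsq y₀
    · exact hxmin ⟨⟨hyV, hy, g', hg', hA⟩, h⟩
    · exact hxle.trans (le_of_not_ge h)
  -- the grading is not zero
  obtain ⟨i, hi⟩ : ∃ i, 0 < x i := by
    by_contra hall
    push Not at hall
    apply hRne
    rw [Subgroup.eq_bot_iff_forall]
    intro r hr
    have hzero : ∀ i, x i = 0 := fun i => le_antisymm (hall i) (hx i)
    have hw : ∀ a : D.Idx, Φ.wtIdx x a = 0 := by
      rintro (i | s) <;> simp [wtIdx, wt, hzero]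
    have h1 : g⁻¹ * r * g = 1 := by
      refine Units.ext (sub_eq_zero.1 (Matrix.ext fun a b => ?_))
      by_contra hne
      have := hgx r hr a b hne
      rw [hw, hw] at this
      linarith
    rw [show r = g * (g⁻¹ * r * g) * g⁻¹ by group, h1]
    group
  obtain ⟨a, ha⟩ := S.cover i
  refine ⟨⟨g, hg⟩, a, fun k hk => ?_⟩
  -- the stabiliser of the filtration
  let M : Subgroup ↥G1 := (stabR (Φ.wtIdx x)).comap G1.subtype
  have hB : (hG.bnPair hne).B ≤ M := fun y hy => Φ.borel_le_stabR hx (Tw.mem_B1.mp hy)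
  have hkM : (⟨g, hg⟩ : ↥G1)⁻¹ * k * ⟨g, hg⟩ ∈ M := by
    show g⁻¹ * (k : GL D.Idx F) * g ∈ stabR (Φ.wtIdx x)
    rw [mul_assoc]
    refine hG.adm_unique V hg (mul_mem k.2 hg) hxV hx hgx (fun r hr => ?_) hmin
    have hr' := (Subgroup.mem_normalizer_iff''.1 hk r).1 hr
    have := hgx _ hr'
    rwa [show g⁻¹ * ((k : GL D.Idx F)⁻¹ * r * k) * g = (k * g)⁻¹ * r * (k * g) by group] at this
  rw [CfsgLib.BN.eq_parabolic (hG.bnPair hne) hB] at hkM
  refine (sup_le_sup_left (Subgroup.closure_mono ?_) _ :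
    (hG.bnPair hne).parabolic _ ≤ (hG.bnPair hne).parabolic _) hkM
  rintro s ⟨hs, hsM⟩
  refine ⟨hs, fun e => ?_⟩
  rw [Set.mem_singleton_iff] at e
  subst e
  obtain ⟨c, hc, -, hv⟩ := (hG.sn_mono a).1 (Φ.p i)
  have hent : ((hG.sn a : GL D.Idx F) : Matrix D.Idx D.Idx F)
      (Sum.inr (S.w a (Φ.p i))) (Sum.inr (Φ.p i)) = c := by
    have h := congrFun hv (Sum.inr (S.w a (Φ.p i)))
    rw [Matrix.mulVec_single_one, Matrix.col_apply, Pi.smul_apply, Pi.single_eq_same, smul_eq_mul,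
      mul_one] at h
    exact h
  have h2 := (show (hG.sn a : GL D.Idx F) ∈ stabR (Φ.wtIdx x) from hsM).1
    (Sum.inr (S.w a (Φ.p i))) (Sum.inr (Φ.p i)) (by rw [hent]; exact hc)
  simp only [wtIdx, Sum.elim_inr, add_zero] at h2
  rw [Φ.wt_p] at h2
  have h3 := Φ.wt_nonpos hx (S.w_neg a _ (Φ.p_pos i) (Φ.sub_p.mpr ha))
  linarith

end Tw

end Chev

end CfsgLib.Chev
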