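/-
The torus, the order and the Weyl group of ²F₄.
-/
import Cfsg.Agent.Lib.Chev.Twist.TypeF4
import Cfsg.Agent.Lib.Chev.Twist.Torus
import Cfsg.Agent.Lib.Chev.Twist.WeylHom
import Cfsg.Agent.Lib.Chev.Twist.Coxeter
import Cfsg.Agent.Lib.Chev.Twist.Dihedral

namespace CfsgLib.Chev.T2F4

open Cfsg.Lie Matrix Chev

set_option linter.dupNamespace false
set_option linter.unusedSectionVars false
set_option maxRecDepth 100000
set_option maxHeartbeats 1000000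

variable {K : Type*} [Field K] [Fintype K] {m : ℕ} (hK : Fintype.card K = 2 ^ (2 * m + 1))

theorem card_stable :
    Nat.card {d : Fin Cfsg.Lie.chevF4.rank → Kˣ // (tw hK).dmap d = d} = (2 ^ (2 * m + 1) - 1) ^ 2 := by
  have e : Kˣ × Kˣ ≃ {d : Fin Cfsg.Lie.chevF4.rank → Kˣ // (tw hK).dmap d = d} :=
    { toFun := fun s => ⟨stab m s, (stable_iff hK _).mpr rfl⟩
      invFun := fun d => (d.1 (ix 3), d.1 (ix 2))
      left_inv := fun s => rfl
      right_inv := fun d => Subtype.ext ((stable_iff hK _).mp d.2).symm }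
  rw [← Nat.card_congr e, Nat.card_prod, Nat.card_units, Nat.card_eq_fintype_card, hK, sq]

theorem card_ker : Nat.card {d : Fin Cfsg.Lie.chevF4.rank → Kˣ //
    (tw hK).dmap d = d ∧ Tw.tor (Φ := CfsgLib.Chev.chevF4) d = 1} = 1 := by
  rw [Nat.card_eq_one_iff_unique]
  exact ⟨⟨fun x y => Subtype.ext ((ker_one x.2.2).trans (ker_one y.2.2).symm)⟩,
    ⟨⟨1, funext fun j => by simp [Tw.dmap], map_one _⟩⟩⟩

include hK in
theorem card_H : Nat.card ↥(Cfsg.Lie.chevF4.diagonalSubgroup K ⊓ twistedF4 K (2 ^ m)) =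
    (2 ^ (2 * m + 1) - 1) ^ 2 := by
  have := (gen hK).card_H_mul
  rw [card_ker, mul_one, card_stable, ← eq_fix hK] at this
  exact this

include hK in
theorem card_G : Nat.card ↥(twistedF4 K (2 ^ m)) =
    (2 ^ (2 * m + 1)) ^ 12 * (2 ^ (2 * m + 1) - 1) * ((2 ^ (2 * m + 1)) ^ 3 + 1) *
      ((2 ^ (2 * m + 1)) ^ 4 - 1) * ((2 ^ (2 * m + 1)) ^ 6 + 1) := by
  classical
  haveI : Fintype S.W1 := Fintype.ofFinite _
  have h := gen hK
  have hsum := cert_sum (Φ := CfsgLib.Chev.chevF4) symOKF4 certOKF4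
    (fun π : S.W1 => Nat.card ((tw hK).Uinv π.1)) (q := 2 ^ (2 * m + 1))
    fun π => h.card_Uinv _ 2 (card_root_sq hK) π.2
  have hlt : ∀ i < certF4.size, certF4.len i < 13 := fun i hi => by
    have := certLtF4
    simp only [List.all_eq_true, List.mem_range, Nat.blt_eq] at this
    exact this i hi
  have hs : ∑ i : Fin certF4.size, (2 ^ (2 * m + 1)) ^ certF4.len i.val =
      ∑ k ∈ Finset.range 13, ([1, 1, 1, 2, 1, 1, 2, 1, 1, 2, 1, 1, 1] : List ℕ).getD k 0 * (2 ^ (2 * m + 1)) ^ k := by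
    rw [sum_pow_eq_count certF4.len _ hlt, ← certHistF4]
    refine Finset.sum_congr rfl fun k hk => ?_
    rw [List.getD_eq_getElem _ _ (by simpa using Finset.mem_range.mp hk)]
    simp only [List.getElem_map, List.getElem_range]
    rfl
  rw [h.card_eq, hsum, (tw hK).card_B1, hs, ← eq_fix hK, card_U hK, card_H hK]
  simp only [Finset.sum_range_succ, Finset.sum_range_zero, List.getD_cons_zero, List.getD_cons_succ]
  have h0 : 1 ≤ 2 ^ (2 * m + 1) := Nat.one_le_pow _ _ (by norm_num)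
  generalize 2 ^ (2 * m + 1) = q at h0 ⊢
  have h4 : 1 ≤ q ^ 4 := Nat.one_le_pow _ _ h0
  zify [h0, h4]
  ring

theorem dihedral_of_two {D : ChevalleyDatum} {Φ : Chev D} {S : Φ.Sym} {n : ℕ} [NeZero n] [Finite S.W1]
    (a b : Fin S.m) (hab : ∀ c, c = a ∨ c = b) (hord : orderOf (S.w a * S.w b) = n)
    (hcard : Nat.card S.W1 = 2 * n) : Nonempty (S.W1 ≃* DihedralGroup n) := by
  refine nonempty_dihedral (⟨S.w a, S.w_mem_W1 a⟩ : S.W1) ⟨S.w b, S.w_mem_W1 b⟩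
    (Subtype.ext (S.w_w a)) (Subtype.ext (S.w_w b))
    (Subtype.ext (by rw [Subgroup.coe_pow, Subgroup.coe_mul, Subgroup.coe_one, ← hord, pow_orderOf_eq_one]))
    ?_ hcard
  rw [eq_top_iff]
  rintro ⟨π, hπ⟩ -
  set C := Subgroup.closure ({⟨S.w a, S.w_mem_W1 a⟩, ⟨S.w b, S.w_mem_W1 b⟩} : Set S.W1)
  suffices H : ∃ h : π ∈ S.W1, (⟨π, h⟩ : S.W1) ∈ C from H.2
  refine S.W1_induction (Q := fun π => ∃ h : π ∈ S.W1, (⟨π, h⟩ : S.W1) ∈ C)
    ⟨one_mem _, one_mem _⟩ (fun σ hσ c _ ⟨_, h⟩ => ⟨hσ, ?_⟩) hπ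
  have e : (⟨σ, hσ⟩ : S.W1) = ⟨σ * S.w c, mul_mem hσ (S.w_mem_W1 c)⟩ * ⟨S.w c, S.w_mem_W1 c⟩ :=
    Subtype.ext (by show σ = σ * S.w c * S.w c; rw [mul_assoc, S.w_w, mul_one])
  rw [e]
  refine mul_mem h (Subgroup.subset_closure ?_)
  rcases hab c with rfl | rfl
  · exact Or.inl rfl
  · exact Or.inr rfl

theorem ox_cases (c : Fin S.m) : c = ox 0 ∨ c = ox 1 := by
  match c with
  | ⟨0, _⟩ => exact Or.inl rfl
  | ⟨1, _⟩ => exact Or.inr rfl

theorem card_W1 : Nat.card S.W1 = 2 * 8 := by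
  obtain ⟨e, -⟩ := cert_bijective (Φ := CfsgLib.Chev.chevF4) symOKF4 certOKF4
  rw [← Nat.card_congr e, Nat.card_fin]
  rfl

theorem ord_w : orderOf (S.w (ox 0) * S.w (ox 1)) = 8 :=
  symOKF4.orderOf_pair (ox 0) (ox 1) (by decide +kernel)

include hK in
theorem weyl :
    ∃ φ : ↥(Cfsg.Lie.chevF4.monomialSubgroup K ⊓ twistedF4 K (2 ^ m)) →* DihedralGroup 8,
      Function.Surjective φ ∧ φ.ker = (Cfsg.Lie.chevF4.diagonalSubgroup K ⊓ twistedF4 K (2 ^ m)).subgroupOf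
        (Cfsg.Lie.chevF4.monomialSubgroup K ⊓ twistedF4 K (2 ^ m)) := by
  obtain ⟨φ, h1, h2⟩ := (gen hK).weylHom
  haveI : Finite S.W1 := Nat.finite_of_card_ne_zero (by rw [card_W1]; norm_num)
  obtain ⟨E⟩ := dihedral_of_two (S := S) (n := 8) (ox 0) (ox 1) ox_cases ord_w card_W1
  refine ⟨E.toMonoidHom.comp φ, E.surjective.comp h1, ?_⟩
  rw [← h2]
  ext x
  simp [MonoidHom.mem_ker]

end CfsgLib.Chev.T2F4
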