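/-
Parabolic subgroups of ²F₄ and the theorem of Borel and Tits for it.
-/
import Cfsg.Agent.Lib.Chev.Twist.OrderF4
import Cfsg.Agent.Lib.Chev.Twist.BorelTits

namespace CfsgLib.Chev

open Cfsg.Lie Matrix

set_option linter.dupNamespace false
set_option linter.unusedSectionVars false

variable {D : ChevalleyDatum}

namespace Chev

variable {Φ : Chev D}

namespace Tw

variable {S : Φ.Sym} {F : Type*} [Field F] {T : Tw S F} {G1 : Subgroup (GL D.Idx F)}

/-- The index of the Borel subgroup in a minimal parabolic subgroup. -/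
theorem Gen.index_B_parabolic [Finite F] (h : T.Gen G1)
    (hne : ∀ a, ∃ x ∈ Φ.US F (S.PJ a) ⊓ T.fix, x ≠ 1) (a : Fin S.m) :
    Nat.card (↥((h.bnPair hne).parabolic {h.sn a}) ⧸
        (B1 G1).subgroupOf ((h.bnPair hne).parabolic {h.sn a})) =
      Nat.card ↥(Φ.US F (S.PJ a) ⊓ T.fix) + 1 := by
  classical
  set P := h.bnPair hne with hP
  set Q := P.parabolic {h.sn a} with hQ
  have hsS : ({h.sn a} : Set ↥G1) ⊆ P.S := Set.singleton_subset_iff.mpr ⟨a, rfl⟩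
  have hsQ : h.sn a ∈ Q := Subgroup.mem_sup_right (Subgroup.subset_closure rfl)
  have hBQ : B1 G1 ≤ Q := le_sup_left
  have hUB : ∀ x : GL D.Idx F, x ∈ Φ.US F (S.PJ a) → x ∈ D.borelSubgroup F := fun x hx =>
    Subgroup.mem_sup_left (by rw [Φ.posUnipotent_eq_US]; exact Φ.US_mono (fun r hr => hr.1) hx)
  let el : ↥(Φ.US F (S.PJ a) ⊓ T.fix) → ↥Q := fun x =>
    ⟨⟨x, h.root_le a x.2⟩ * h.sn a, mul_mem (hBQ (mem_B1.mpr (hUB _ x.2.1))) hsQ⟩
  let f : Option ↥(Φ.US F (S.PJ a) ⊓ T.fix) → ↥Q ⧸ (B1 G1).subgroupOf Q := fun o =>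
    match o with
    | none => QuotientGroup.mk 1
    | some x => QuotientGroup.mk (el x)
  have hnB : h.sn a ∉ B1 G1 := CfsgLib.BN.notMem_B P ⟨a, rfl⟩
  have hx_nB : ∀ x : ↥(Φ.US F (S.PJ a) ⊓ T.fix), ((el x : ↥Q) : ↥G1) ∉ B1 G1 := fun x hm => hnB
    ((Subgroup.mul_mem_cancel_left (B1 G1) (mem_B1.mpr (hUB _ x.2.1))).mp hm)
  have hf : Function.Bijective f := by
    refine ⟨?_, ?_⟩
    · rintro (_ | x) (_ | y) e
      · rfl
      · refine absurd ?_ (hx_nB y)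
        have := (QuotientGroup.eq.mp e)
        simpa [Subgroup.mem_subgroupOf] using this
      · refine absurd ?_ (hx_nB x)
        have := (QuotientGroup.eq.mp e.symm)
        simpa [Subgroup.mem_subgroupOf] using this
      · congr 1
        by_contra hxy
        have h1 := mem_B1.mp (Subgroup.mem_subgroupOf.mp (QuotientGroup.eq.mp e))
        have h2 : ((x : GL D.Idx F) * h.sn a)⁻¹ * ((y : GL D.Idx F) * h.sn a) ∈ D.borelSubgroup F := by
          simpa [el] using h1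
        have hH : (h.sn a : GL D.Idx F) * h.sn a ∈ D.borelSubgroup F := Subgroup.mem_sup_right (h.sn_sq a)
        have h3 := mul_mem (mul_mem hH h2) (Subgroup.inv_mem _ hH)
        refine h.conj_root_not_mem_B a (x := (x : GL D.Idx F)⁻¹ * y)
          (mul_mem (Subgroup.inv_mem _ x.2.1) y.2.1)
          (fun e1 => hxy (Subtype.ext (inv_mul_eq_one.mp e1))) ?_
        convert h3 using 1
        group
    · intro q
      obtain ⟨g, rfl⟩ := QuotientGroup.mk_surjective q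
      by_cases hg : (g : ↥G1) ∈ B1 G1
      · exact ⟨none, QuotientGroup.eq.mpr (by simpa [Subgroup.mem_subgroupOf] using hg)⟩
      obtain ⟨p, hp, hcell⟩ := (CfsgLib.BN.mem_parabolic_iff P hsS).mp g.2
      obtain ⟨l, hl, rfl⟩ := hp
      -- the cell is that of the simple reflection
      have hl' : ∀ s ∈ l, s = (⟨h.sn a, ⟨a, rfl⟩⟩ : P.S) := fun s hs => Subtype.ext (hl s hs)
      have hcase : CfsgLib.BN.wd P l = 1 ∨ CfsgLib.BN.wd P l = CfsgLib.BN.σ P ⟨h.sn a, ⟨a, rfl⟩⟩ := by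
        clear hl hcell
        induction l with
        | nil => exact Or.inl (CfsgLib.BN.wd_nil P)
        | cons s t ih =>
          rw [CfsgLib.BN.wd_cons, hl' s List.mem_cons_self]
          rcases ih (fun u hu => hl' u (List.mem_cons_of_mem _ hu)) with e | e <;> rw [e]
          · exact Or.inr (mul_one _)
          · exact Or.inl (CfsgLib.BN.σ_mul_self P _)
      rcases hcase with e | e <;> rw [e] at hcell
      · rw [CfsgLib.BN.cell_one] at hcell
        exact absurd hcell hg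
      obtain ⟨b, hb, c, hc, e⟩ : ∃ b ∈ B1 G1, ∃ c ∈ B1 G1, (g : ↥G1) = b * h.sn a * c := by
        rw [show CfsgLib.BN.σ P ⟨h.sn a, ⟨a, rfl⟩⟩ = CfsgLib.BN.cls P ⟨h.sn a, P.subset ⟨a, rfl⟩⟩ from rfl,
          CfsgLib.BN.cell_cls_eq] at hcell
        exact DoubleCoset.mem_doubleCoset.mp hcell
      obtain ⟨v, hv, z, hz, ev⟩ := T.B_mem (mem_B1.mp hb) (h.le_fix b.2)
      obtain ⟨y, hy, x, hx, e'⟩ := h.split_U a (Subgroup.inv_mem _ hv)
      refine ⟨some ⟨x⁻¹, Subgroup.inv_mem _ hx⟩, QuotientGroup.eq.mpr ?_⟩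
      rw [Subgroup.mem_subgroupOf]
      show ((⟨x⁻¹, _⟩ : ↥G1) * h.sn a)⁻¹ * (g : ↥G1) ∈ B1 G1
      rw [mem_B1, e]
      simp only [Subgroup.coe_mul, Subgroup.coe_inv, ev]
      have ev' : v = x⁻¹ * y⁻¹ := by rw [← inv_inv v, e', _root_.mul_inv_rev]
      rw [ev']
      have hyo : (h.sn a : GL D.Idx F)⁻¹ * y⁻¹ * h.sn a ∈ D.borelSubgroup F := by
        refine Subgroup.mem_sup_left ?_
        rw [Φ.posUnipotent_eq_US]
        have := Φ.map_US_le (mono_inv (h.sn_N a) (h.sn_mono a)) (T := Φ.toTables.Pos)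
          (fun r hr => Out.pos Φ (by rw [S.w_inv]; exact (S.out_w (S.w_mem a) r).mpr hr)) _
          (Subgroup.inv_mem _ hy.1)
        rwa [inv_inv] at this
      have hzo : (h.sn a : GL D.Idx F)⁻¹ * z * h.sn a ∈ D.borelSubgroup F :=
        Subgroup.mem_sup_right (by
          simpa using (Subgroup.mem_normalizer_iff.mp
            (Φ.N_le_normalizer_H (Subgroup.inv_mem _ (h.sn_N a))) _).mp hz.1)
      have h3 := mul_mem (mul_mem hyo hzo) (mem_B1.mp hc)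
      convert h3 using 1
      group
  have : Finite ↥(Φ.US F (S.PJ a) ⊓ T.fix) := inferInstance
  rw [← Nat.card_congr (Equiv.ofBijective f hf), Finite.card_option]

end Tw

end Chev

namespace T2F4

open Chev

set_option maxRecDepth 100000

/-- The gradings fixed by the scaled symmetry. -/
def gradSet : Set (Fin Cfsg.Lie.chevF4.rank → ℝ) :=
  {x | x (ix 3) = Real.sqrt 2 * x (ix 0) ∧ x (ix 2) = Real.sqrt 2 * x (ix 1)}

/-- The action of the two reflections on the fundamental roots. -/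
def wMat : List (List (List ℤ)) :=
  [[[-1, 0, 0, 0], [1, 1, 0, 0], [0, 0, 1, 1], [0, 0, 0, -1]],
   [[1, 2, 1, 0], [0, -1, 0, 0], [0, 0, -1, 0], [0, 2, 2, 1]]]

theorem wMat_check : ∀ a : Fin 2, ∀ k j : Fin Cfsg.Lie.chevF4.rank, ∀ r : Fin Cfsg.Lie.chevF4.nroots,
    symF4.wEval a.val (Cfsg.Lie.chevF4.simple k.val) = r.val →
      CfsgLib.Chev.chevF4.toTables.V r j = ((wMat.getD a.val []).getD k.val []).getD j.val 0 := by
  decide +kernel

theorem act_w (a : Fin S.m) (x : Fin Cfsg.Lie.chevF4.rank → ℝ) (k : Fin Cfsg.Lie.chevF4.rank) :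
    CfsgLib.Chev.chevF4.act (S.w a) x k =
      ∑ j : Fin Cfsg.Lie.chevF4.rank, ((((wMat.getD a.val []).getD k.val []).getD j.val 0 : ℤ) : ℝ) * x j := by
  show ∑ j : Fin Cfsg.Lie.chevF4.rank,
      (CfsgLib.Chev.chevF4.toTables.V (S.w a (CfsgLib.Chev.chevF4.p k)) j : ℝ) * x j = _
  refine Finset.sum_congr rfl fun j _ => ?_
  have h := symOKF4.wEval_eq (Φ := CfsgLib.Chev.chevF4) a.isLt (CfsgLib.Chev.chevF4.p k)
  rw [p_val] at h
  exact congrArg (fun z : ℤ => (z : ℝ) * x j)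
    (wMat_check a k j (S.w a (CfsgLib.Chev.chevF4.p k)) h)

set_option maxHeartbeats 2000000 in
theorem act_w_mem (a : Fin S.m) {x : Fin Cfsg.Lie.chevF4.rank → ℝ} (hx : x ∈ gradSet) :
    CfsgLib.Chev.chevF4.act (S.w a) x ∈ gradSet := by
  obtain ⟨h3, h2⟩ := hx
  have hs : Real.sqrt 2 * Real.sqrt 2 = 2 := Real.mul_self_sqrt (by norm_num)
  have e4 : ∀ f : Fin Cfsg.Lie.chevF4.rank → ℝ, ∑ j, f j = f (ix 0) + f (ix 1) + f (ix 2) + f (ix 3) :=
    fun f => Fin.sum_univ_four (fun j : Fin 4 => f j)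
  have e0 := act_w a x (ix 0)
  have e1 := act_w a x (ix 1)
  have e2 := act_w a x (ix 2)
  have e3 := act_w a x (ix 3)
  rw [e4] at e0 e1 e2 e3
  match a with
  | ⟨0, _⟩ =>
    simp only [ix, wMat, List.getD_cons_zero, List.getD_cons_succ, Int.cast_zero, Int.cast_one,
      Int.cast_neg, Int.cast_ofNat, zero_mul, one_mul, add_zero, zero_add, neg_mul] at e0 e1 e2 e3
    refine ⟨?_, ?_⟩
    · rw [e3, e0, h3]; ring
    · rw [e2, e1, h2, h3]; ring
  | ⟨1, _⟩ =>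
    simp only [ix, wMat, List.getD_cons_zero, List.getD_cons_succ, Int.cast_zero, Int.cast_one,
      Int.cast_neg, Int.cast_ofNat, zero_mul, one_mul, add_zero, zero_add, neg_mul] at e0 e1 e2 e3
    refine ⟨?_, ?_⟩
    · rw [e3, e0, h2, h3]
      linear_combination (-(x (ix 1))) * hs
    · rw [e2, e1, h2]; ring

/-- The gradings used for ²F₄. -/
noncomputable def gradings : Sym.Gradings (S : CfsgLib.Chev.chevF4.Sym) where
  V := gradSet
  closed := (isClosed_eq (continuous_apply (ix 3))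
      (continuous_const (y := Real.sqrt 2) |>.mul (continuous_apply (ix 0)))).inter
    (isClosed_eq (continuous_apply (ix 2))
      (continuous_const (y := Real.sqrt 2) |>.mul (continuous_apply (ix 1))))
  mid x hx y hy := ⟨by simp only [hx.1, hy.1]; ring, by simp only [hx.2, hy.2]; ring⟩
  act π hπ x hx := by
    refine S.W1_induction (Q := fun π => ∀ x ∈ gradSet, CfsgLib.Chev.chevF4.act π x ∈ gradSet)
      (fun x hx => by rwa [CfsgLib.Chev.chevF4.act_one]) (fun π hπ a _ ih x hx => ?_) hπ x hx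
    have hπw : π * S.w a ∈ S.W1 := mul_mem hπ (S.w_mem_W1 a)
    have e : π = (π * S.w a) * S.w a := by rw [mul_assoc, S.w_w, mul_one]
    rw [e, CfsgLib.Chev.chevF4.act_mul (CfsgLib.Chev.chevF4.W_le_WL_tw (S.mem_W1.mp hπw).1)]
    exact act_w_mem a (ih x hx)
  pos := by
    refine ⟨fun j => if j.val ≤ 1 then 1 else Real.sqrt 2, ⟨by simp, by simp⟩, fun i => ?_⟩
    dsimp only
    split
    · exact le_rfl
    · exact Real.one_le_sqrt.mpr (by norm_num)
  neg x hx a i hi hneg k hk := by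
    obtain ⟨h3, h2⟩ := hx
    have hs : 0 < Real.sqrt 2 := Real.sqrt_pos.mpr (by norm_num)
    have key : ∀ b : Fin 2, ∀ j : Fin Cfsg.Lie.chevF4.rank, j.val ∈ symF4.orb b.val →
        (b.val = 0 ∧ (j = ix 0 ∨ j = ix 3)) ∨ (b.val = 1 ∧ (j = ix 1 ∨ j = ix 2)) := by decide +kernel
    have hi' := key a i hi
    have hk' := key a k hk
    rcases hi' with ⟨ha, rfl | rfl⟩ | ⟨ha, rfl | rfl⟩ <;>
      rcases hk' with ⟨hb, rfl | rfl⟩ | ⟨hb, rfl | rfl⟩ <;>
      first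
      | exact hneg
      | (exfalso; omega)
      | (rw [h3] at hneg ⊢ <;> nlinarith)
      | (rw [h3]; nlinarith)
      | (rw [h3] at hneg; nlinarith)
      | (rw [h2]; nlinarith)
      | (rw [h2] at hneg; nlinarith)

variable {K : Type*} [Field K] [Fintype K] {m : ℕ} (hK : Fintype.card K = 2 ^ (2 * m + 1))

theorem factorization_two_order {k : ℕ} (hk : 1 ≤ k) :
    ((2 ^ k) ^ 12 * (2 ^ k - 1) * ((2 ^ k) ^ 3 + 1) * ((2 ^ k) ^ 4 - 1) * ((2 ^ k) ^ 6 + 1)).factorization 2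
      = k * 12 := by
  have h2 : (2 ^ k) % 2 = 0 := by simp [Nat.pow_mod, zero_pow (show k ≠ 0 by omega)]
  have h1 : 1 ≤ 2 ^ k := Nat.one_le_pow _ _ (by norm_num)
  rw [← pow_mul 2 k 12]
  generalize hq : 2 ^ k = q at h1 h2 ⊢
  have h3 : q ^ 3 % 2 = 0 := by simp [Nat.pow_mod, h2]
  have h4 : q ^ 4 % 2 = 0 := by simp [Nat.pow_mod, h2]
  have h6 : q ^ 6 % 2 = 0 := by simp [Nat.pow_mod, h2]
  have h4' : 1 ≤ q ^ 4 := Nat.one_le_pow _ _ h1
  have hodd : ¬ 2 ∣ (q - 1) * (q ^ 3 + 1) * (q ^ 4 - 1) * (q ^ 6 + 1) := by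
    rw [Nat.Prime.dvd_mul Nat.prime_two, Nat.Prime.dvd_mul Nat.prime_two, Nat.Prime.dvd_mul Nat.prime_two]
    omega
  have hne : (q - 1) * (q ^ 3 + 1) * (q ^ 4 - 1) * (q ^ 6 + 1) ≠ 0 := fun e => hodd (by rw [e]; exact dvd_zero 2)
  rw [show 2 ^ (k * 12) * (q - 1) * (q ^ 3 + 1) * (q ^ 4 - 1) * (q ^ 6 + 1) =
      2 ^ (k * 12) * ((q - 1) * (q ^ 3 + 1) * (q ^ 4 - 1) * (q ^ 6 + 1)) by ring,
    Nat.factorization_mul (pow_ne_zero _ two_ne_zero) hne, Nat.prime_two.factorization_pow]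
  simp [Nat.factorization_eq_zero_of_not_dvd hodd]

include hK in
theorem exists_conj_le_U {R : Subgroup (GL Cfsg.Lie.chevF4.Idx K)} (hRG : R ≤ twistedF4 K (2 ^ m))
    (hR : IsPGroup 2 ↥R) :
    ∃ g ∈ twistedF4 K (2 ^ m), ∀ r ∈ R, g⁻¹ * r * g ∈ Cfsg.Lie.chevF4.posUnipotent K := by
  set G1 := twistedF4 K (2 ^ m)
  have hU : Nat.card ↥((Cfsg.Lie.chevF4.posUnipotent K ⊓ G1).subgroupOf G1) =
      2 ^ (Nat.card ↥G1).factorization 2 := by
    rw [Nat.card_congr (Subgroup.subgroupOfEquivOfLe inf_le_right).toEquiv, card_U hK, card_G hK,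
      factorization_two_order (by omega), ← pow_mul]
  haveI := Fact.mk Nat.prime_two
  let P : Sylow 2 ↥G1 := Sylow.ofCard _ hU
  obtain ⟨Q, hQ⟩ := (hR.of_equiv (Subgroup.subgroupOfEquivOfLe hRG).symm).exists_le_sylow
  obtain ⟨g, hg⟩ := MulAction.exists_smul_eq ↥G1 Q P
  refine ⟨(g : GL _ K)⁻¹, inv_mem g.2, fun r hr => ?_⟩
  have : MulAut.conj g ⟨r, hRG hr⟩ ∈ ((g • Q : Sylow 2 ↥G1) : Subgroup ↥G1) :=
    Subgroup.smul_mem_pointwise_smul _ _ _ (hQ (show (⟨r, hRG hr⟩ : ↥G1) ∈ R.subgroupOf _ from hr))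
  rw [hg] at this
  rw [inv_inv]
  exact (Subgroup.mem_inf.mp (Subgroup.mem_subgroupOf.mp this)).1

open Classical in
include hK in
theorem card_parabolic (hne : ∀ a, ∃ x ∈ CfsgLib.Chev.chevF4.US K (S.PJ a) ⊓ (tw hK).fix, x ≠ 1)
    (a : Fin S.m) :
    Nat.card ↥(((gen hK).bnPair hne).parabolic {(gen hK).sn a}) =
      (2 ^ (2 * m + 1)) ^ 12 * (2 ^ (2 * m + 1) - 1) ^ 2 * ((2 ^ (2 * m + 1)) ^ (a.val + 1) + 1) := by
  have h := (gen hK).index_B_parabolic hne a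
  have hBQ : Tw.B1 (twistedF4 K (2 ^ m)) ≤ ((gen hK).bnPair hne).parabolic {(gen hK).sn a} := le_sup_left
  rw [Subgroup.card_eq_card_quotient_mul_card_subgroup
      ((Tw.B1 (twistedF4 K (2 ^ m))).subgroupOf (((gen hK).bnPair hne).parabolic {(gen hK).sn a})), h,
    Nat.card_congr (Subgroup.subgroupOfEquivOfLe hBQ).toEquiv, Tw.B1,
    Nat.card_congr (Subgroup.subgroupOfEquivOfLe inf_le_right).toEquiv]
  have hB : Nat.card ↥(Cfsg.Lie.chevF4.borelSubgroup K ⊓ twistedF4 K (2 ^ m)) =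
      (2 ^ (2 * m + 1)) ^ 12 * (2 ^ (2 * m + 1) - 1) ^ 2 := by
    rw [eq_fix hK, Tw.card_B1, ← eq_fix hK, card_U hK, card_H hK]
  rw [hB]
  have hroot : Nat.card ↥(CfsgLib.Chev.chevF4.US K (S.PJ a) ⊓ (tw hK).fix) =
      (2 ^ (2 * m + 1)) ^ (a.val + 1) := by
    refine Nat.pow_left_injective (n := 2) (by norm_num) ?_
    show _ ^ 2 = _ ^ 2
    rw [card_root_sq hK, cnt_eq symOKF4,
      (by decide +kernel : ∀ b : Fin 2, WCert.cnt symF4 Cfsg.Lie.chevF4 b.val = (b.val + 1) * 2) a, pow_mul]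
  rw [hroot]
  ring

include hK in
/-- The normaliser of a non-trivial 2-subgroup of ²F₄ lies in a maximal parabolic subgroup. -/
theorem borelTits {R : Subgroup (GL Cfsg.Lie.chevF4.Idx K)} (hRG : R ≤ twistedF4 K (2 ^ m))
    (hR : IsPGroup 2 ↥R) (hne : ∀ a, ∃ x ∈ CfsgLib.Chev.chevF4.US K (S.PJ a) ⊓ (tw hK).fix, x ≠ 1)
    (hR1 : R ≠ ⊥) :
    ∃ g : ↥(twistedF4 K (2 ^ m)), ∃ a : Fin S.m, ∀ k : ↥(twistedF4 K (2 ^ m)),
      (k : GL Cfsg.Lie.chevF4.Idx K) ∈ Subgroup.normalizer (R : Set (GL Cfsg.Lie.chevF4.Idx K)) →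
      g⁻¹ * k * g ∈ ((gen hK).bnPair hne).parabolic {(gen hK).sn a} := by
  obtain ⟨g, a, h⟩ := (gen hK).borelTits hne gradings (exists_conj_le_U hK hRG hR) hR1
  obtain ⟨b, hb⟩ : ∃ b : Fin S.m, ∀ c : Fin S.m, c ≠ a → c = b :=
    (by decide : ∀ a : Fin 2, ∃ b : Fin 2, ∀ c : Fin 2, c ≠ a → c = b) a
  refine ⟨g, b, fun k hk => ?_⟩
  refine (sup_le_sup_left (Subgroup.closure_mono ?_) _ :
    ((gen hK).bnPair hne).parabolic _ ≤ ((gen hK).bnPair hne).parabolic _) (h k hk)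
  rintro _ ⟨⟨c, rfl⟩, hc⟩
  rw [Set.mem_singleton_iff, hb c fun e => hc (by rw [e]; rfl)]

end T2F4

end CfsgLib.Chev
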