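/-
The group ²F₄(2): a polycyclic normal form of a Sylow 2-subgroup and the abelianization on involutions.
-/
import Cfsg.Agent.Lib.Chev.Twist.OrderF4
import Cfsg.Agent.Lib.Chev.Collect
import Mathlib.GroupTheory.Sylow
import Mathlib.GroupTheory.Abelianization.Defs

namespace CfsgLib.Chev.T2F4Two

open Cfsg.Lie Matrix Chev CfsgLib.Chev.T2F4

set_option linter.dupNamespace false
set_option linter.unusedSectionVars false
set_option maxRecDepth 100000
set_option maxHeartbeats 1000000

/-- The field with two elements. -/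
abbrev F := ZMod 2

theorem hK : Fintype.card F = 2 ^ (2 * 0 + 1) := ZMod.card 2

/-- The group. -/
noncomputable abbrev G : Subgroup (GL Cfsg.Lie.chevF4.Idx F) := twistedF4 F (2 ^ 0)

/-- Letters of a word with parameters one. -/
def lw (l : List ℕ) : List Ltr := l.map fun r => (r, 1, 0, 0)

/-- The value of a word with parameters one. -/
noncomputable def val (l : List ℕ) : GL Cfsg.Lie.chevF4.Idx F :=
  CfsgLib.Chev.chevF4.evw (1 : F) 1 (lw l)

/-- The normal form of a word. -/
def nf (l : List ℕ) : List Ltr := Collect.normalize Cfsg.Lie.chevF4 2 100 (lw l)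

theorem val_append (l l' : List ℕ) : val (l ++ l') = val l * val l' := by
  simp only [val, lw, List.map_append, evw_append]

theorem val_eq_of_nf {l l' : List ℕ} (h : nf l = nf l') : val l = val l' :=
  CfsgLib.Chev.chevF4.evw_eq_of_normalize (morOK_two hK) h _ _

theorem val_nil : val [] = 1 := rfl

theorem val_cons (r : ℕ) (h : r < Cfsg.Lie.chevF4.nroots) (l : List ℕ) :
    val (r :: l) = CfsgLib.Chev.chevF4.toAlg.xg ⟨r, h⟩ 1 * val l := by
  have e : CfsgLib.Chev.chevF4.ev (1 : F) 1 (r, 1, 0, 0) = CfsgLib.Chev.chevF4.toAlg.xg ⟨r, h⟩ 1 := by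
    simp [Chev.ev, h]
  show CfsgLib.Chev.chevF4.evw (1 : F) 1 ((r, 1, 0, 0) :: lw l) = _
  rw [evw_cons, e]
  rfl

theorem val_mem_US {P : Fin Cfsg.Lie.chevF4.nroots → Prop} : ∀ {l : List ℕ},
    (∀ r ∈ l, ∃ h : r < Cfsg.Lie.chevF4.nroots, P ⟨r, h⟩) → val l ∈ CfsgLib.Chev.chevF4.US F P
  | [], _ => by rw [val_nil]; exact one_mem _
  | r :: l, h => by
    obtain ⟨hr, hP⟩ := h r List.mem_cons_self
    rw [val_cons r hr]
    exact mul_mem (CfsgLib.Chev.chevF4.xg_mem_US hP _)
      (val_mem_US fun s hs => h s (List.mem_cons_of_mem _ hs))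

theorem val_mem_group {l : List ℕ} (h : ∀ r ∈ l, r < Cfsg.Lie.chevF4.nroots) :
    val l ∈ Cfsg.Lie.chevF4.group F := by
  induction l with
  | nil => rw [val_nil]; exact one_mem _
  | cons r l ih =>
    rw [val_cons r (h r List.mem_cons_self)]
    exact mul_mem (CfsgLib.Chev.chevF4.toAlg.xg_mem_group _ _) (ih fun s hs => h s (List.mem_cons_of_mem _ hs))

theorem eps_one : ∀ r < Cfsg.Lie.chevF4.nroots, morF4.e r = 1 ∧ morF4.ρ r < Cfsg.Lie.chevF4.nroots := by
  decide +kernel

theorem app_val {l : List ℕ} (h : ∀ r ∈ l, r < Cfsg.Lie.chevF4.nroots) :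
    (tw hK).app (val l) = val (l.map morF4.ρ) := by
  induction l with
  | nil => rw [List.map_nil, val_nil, Tw.app_one]
  | cons r l ih =>
    have hr := h r List.mem_cons_self
    have hl : ∀ s ∈ l, s < Cfsg.Lie.chevF4.nroots := fun s hs => h s (List.mem_cons_of_mem _ hs)
    rw [List.map_cons, val_cons r hr, val_cons _ (eps_one r hr).2,
      Tw.app_mul _ (CfsgLib.Chev.chevF4.toAlg.xg_mem_group _ _) (val_mem_group hl), ih hl, Tw.app_xg, one_pow,
      mul_one]
    congr 2
    show ((morF4.e r : ℤ) : F) = 1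
    rw [(eps_one r hr).1, Int.cast_one]

/-- The generators. -/
def gL : List (List ℕ) :=
  [[24, 33], [25, 27, 28], [26, 34, 36], [28, 30], [29, 41, 44], [31, 35, 40], [32, 37], [36, 42], [38, 43], [39, 45],
    [40, 46], [44, 47]]

/-- The word of a generator. -/
def gw (i : ℕ) : List ℕ := gL.getD i []

/-- The first root of a generator. -/
def lead (i : ℕ) : ℕ := (gw i).headD 0

/-- The squares of the generators. -/
def sqT (i : ℕ) : List ℕ := [[], [3], [7], [], [11], [10], [], [], [], [], [], []].getD i []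

/-- The commutators of the generators. -/
def comL : List (List (List ℕ)) :=
  [[], [[2, 5, 6, 8]], [[], [4, 5, 9]], [[4, 5, 6, 7, 8, 10], [], [6, 9, 11]], [[7], [], [8], []],
    [[7, 8], [6], [], [], [9]], [[8, 9], [], [9, 10], [], [10], []],
    [[], [8, 9, 10], [], [9, 10, 11], [], [], [11]], [[], [9, 11], [], [10], [], [11], [], []],
    [[], [10], [11], [], [], [], [], [], []], [[11], [], [], [], [], [], [], [], [], []],
    [[], [], [], [], [], [], [], [], [], [], []]]

/-- The commutator of two generators. -/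
def comT (j i : ℕ) : List ℕ := (comL.getD j []).getD i []

/-- The word of a product of generators. -/
def flat (A : List ℕ) : List ℕ := A.flatMap gw

/-- Multiplication of a normal form by a generator. -/
def push : ℕ → ℕ → List ℕ → Option (List ℕ)
  | 0, _, _ => none
  | _ + 1, i, [] => some [i]
  | n + 1, i, j :: L =>
    if j < i then some (i :: j :: L)
    else if 12 ≤ j then none
    else if i = j then (sqT i).foldlM (fun M k => push n k M) L
    else ((push n i L).bind (push n j)).bind fun M => (comT j i).foldlM (fun M k => push n k M) M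

/-- The product of generators. -/
noncomputable def aval (A : List ℕ) : GL Cfsg.Lie.chevF4.Idx F := val (flat A)

theorem aval_nil : aval [] = 1 := rfl

theorem aval_cons (i : ℕ) (A : List ℕ) : aval (i :: A) = val (gw i) * aval A := by
  rw [aval, flat, List.flatMap_cons, val_append]; rfl

theorem aval_append (A B : List ℕ) : aval (A ++ B) = aval A * aval B := by
  rw [aval, flat, List.flatMap_append, val_append]; rfl

theorem aval_single (i : ℕ) : aval [i] = val (gw i) := by
  rw [aval_cons, aval_nil, mul_one]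

theorem rel_sq : ∀ i < 12, nf (gw i ++ gw i) = nf (flat (sqT i)) := by decide +kernel

theorem rel_com : (List.range 12).all (fun j => (List.range j).all fun i =>
    nf (gw j ++ gw i) == nf (gw i ++ gw j ++ flat (comT j i))) = true := by decide +kernel

theorem sq_val {i : ℕ} (h : i < 12) : val (gw i) * val (gw i) = aval (sqT i) := by
  rw [← val_append, val_eq_of_nf (rel_sq i h)]; rfl

theorem com_val {i j : ℕ} (hj : j < 12) (hi : i < j) :
    val (gw j) * val (gw i) = val (gw i) * val (gw j) * aval (comT j i) := by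
  have h := rel_com
  simp only [List.all_eq_true, List.mem_range, beq_iff_eq] at h
  rw [← val_append, val_eq_of_nf (h j hj i hi), val_append, val_append]; rfl

theorem push_val : ∀ (n i : ℕ) (L M : List ℕ), push n i L = some M →
    aval M.reverse = aval L.reverse * val (gw i) := by
  intro n
  induction n with
  | zero => intro i L M h; simp [push] at h
  | succ n ih =>
    have hf : ∀ (ws L M : List ℕ), ws.foldlM (fun M k => push n k M) L = some M →
        aval M.reverse = aval L.reverse * aval ws := by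
      intro ws
      induction ws with
      | nil =>
        intro L M h
        simp only [List.foldlM_nil, pure, Option.some.injEq] at h
        rw [h, aval_nil, mul_one]
      | cons k ws hws =>
        intro L M h
        simp only [List.foldlM_cons, bind, Option.bind_eq_some_iff] at h
        obtain ⟨N, hN, hM⟩ := h
        rw [hws _ _ hM, ih _ _ _ hN, aval_cons, mul_assoc]
    intro i L M h
    cases L with
    | nil =>
      simp only [push, Option.some.injEq] at h
      subst h
      rw [List.reverse_singleton, List.reverse_nil, aval_single, aval_nil, one_mul]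
    | cons j L =>
      simp only [push] at h
      rw [List.reverse_cons, aval_append, aval_single]
      split_ifs at h with h1 h2 h3
      · simp only [Option.some.injEq] at h
        subst h
        rw [List.reverse_cons, List.reverse_cons, aval_append, aval_append, aval_single, aval_single]
      · subst h3
        rw [hf _ _ _ h, mul_assoc, sq_val (not_le.mp h2)]
      · simp only [Option.bind_eq_some_iff] at h
        obtain ⟨N', ⟨N, hN, hN'⟩, hM⟩ := h
        rw [hf _ _ _ hM, ih _ _ _ hN', ih _ _ _ hN, mul_assoc (aval L.reverse) (val (gw j)),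
          com_val (not_le.mp h2) (lt_of_le_of_ne (not_lt.mp h1) h3)]
        simp only [mul_assoc]

/-- The parity of a generator. -/
def par (i : ℕ) : ℕ := [0, 1, 1, 0, 1, 1, 0, 0, 0, 0, 0, 0].getD i 0

/-- The parity of a product. -/
def parity (A : List ℕ) : ℕ := (A.map par).sum % 2

/-- Squares of the odd products are non-trivial. -/
def oddOK (A : List ℕ) : Bool :=
  parity A == 0 ||
    match A.foldlM (fun M k => push 40 k M) A.reverse with
    | some M => !M.isEmpty && decide (M.reverse.Sublist (List.range 12))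
    | none => false

theorem odd_check : (List.range 12).sublists.all oddOK = true := by decide +kernel

theorem gw_facts : ∀ i < 12, 24 ≤ lead i ∧ (∀ r ∈ gw i, lead i ≤ r ∧ r < 48) ∧
    gw i = lead i :: (gw i).tail ∧ (∀ r ∈ (gw i).tail, lead i < r) ∧ (∀ j < 12, i < j → lead i < lead j) := by
  decide +kernel

theorem gw_fixed : ∀ i < 12, nf ((gw i).map morF4.ρ) = nf (gw i) := by decide +kernel

theorem val_gw_mem {i : ℕ} (hi : i < 12) : val (gw i) ∈ Cfsg.Lie.chevF4.posUnipotent F ⊓ G := by
  obtain ⟨h24, hr, -, -, -⟩ := gw_facts i hi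
  refine ⟨?_, ?_⟩
  · rw [CfsgLib.Chev.chevF4.posUnipotent_eq_US]
    refine val_mem_US fun r hmem => ⟨(hr r hmem).2, ?_⟩
    show 48 ≤ 2 * r
    have := (hr r hmem).1
    omega
  · show _ ∈ twistedF4 F (2 ^ 0)
    rw [eq_fix hK, Tw.mem_fix]
    have hlt : ∀ r ∈ gw i, r < Cfsg.Lie.chevF4.nroots := fun r hmem => (hr r hmem).2
    exact ⟨val_mem_group hlt, by rw [app_val hlt, val_eq_of_nf (gw_fixed i hi)]⟩

theorem aval_mem {A : List ℕ} (h : ∀ i ∈ A, i < 12) : aval A ∈ Cfsg.Lie.chevF4.posUnipotent F ⊓ G := by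
  induction A with
  | nil => rw [aval_nil]; exact one_mem _
  | cons i A ih =>
    rw [aval_cons]
    exact mul_mem (val_gw_mem (h i List.mem_cons_self)) (ih fun j hj => h j (List.mem_cons_of_mem _ hj))

/-- The roots with index at least `c`. -/
def Ge (c : ℕ) (r : Fin Cfsg.Lie.chevF4.nroots) : Prop := c ≤ r.val

theorem ge_pos {c : ℕ} (hc : 24 ≤ c) (r : Fin Cfsg.Lie.chevF4.nroots) (h : Ge c r) :
    CfsgLib.Chev.chevF4.toTables.Pos r := by
  show 48 ≤ 2 * r.val
  unfold Ge at h
  omega

theorem ge_closed {c : ℕ} (hc : 24 ≤ c) : CfsgLib.Chev.chevF4.Closed (Ge c) := by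
  intro r s hr hs hN
  have h1 := CfsgLib.Chev.chevF4.toSys.code_add hN
  have h2 := CfsgLib.Chev.chevF4.code_pos (ge_pos hc s hs)
  unfold Ge at hr ⊢
  by_contra hlt
  have h3 := CfsgLib.Chev.chevF4.code_strictMono
    (show CfsgLib.Chev.chevF4.S r s < r from by rw [Fin.lt_def]; omega)
  omega

theorem aval_mem_ge {c : ℕ} {A : List ℕ} (hA : ∀ i ∈ A, i < 12 ∧ c ≤ lead i) :
    aval A ∈ CfsgLib.Chev.chevF4.US F (Ge c) := by
  refine val_mem_US fun r hr => ?_
  obtain ⟨i, hi, hri⟩ := List.mem_flatMap.mp hr
  obtain ⟨hlt, hc⟩ := hA i hi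
  obtain ⟨-, h, -, -, -⟩ := gw_facts i hlt
  exact ⟨(h r hri).2, le_trans hc (h r hri).1⟩

theorem not_ge {i : ℕ} (hi : i < 12) : val (gw i) ∉ CfsgLib.Chev.chevF4.US F (Ge (lead i + 1)) := by
  obtain ⟨h24, hr, e, htail, -⟩ := gw_facts i hi
  intro h
  have hmem : lead i ∈ gw i := by rw [e]; exact List.mem_cons_self
  rw [e, val_cons _ (show lead i < Cfsg.Lie.chevF4.nroots from (hr _ hmem).2)] at h
  have ht : val (gw i).tail ∈ CfsgLib.Chev.chevF4.US F (Ge (lead i + 1)) :=
    val_mem_US fun r hr' => ⟨(hr r (List.mem_of_mem_tail hr')).2, htail r hr'⟩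
  have := CfsgLib.Chev.chevF4.mem_of_xg_mem (ge_pos (by omega)) (ge_closed (by omega))
    ((Subgroup.mul_mem_cancel_right _ ht).mp h) one_ne_zero
  unfold Ge at this
  simp at this

theorem aval_inj : ∀ {A B : List ℕ}, A.Pairwise (· < ·) → B.Pairwise (· < ·) → (∀ i ∈ A, i < 12) →
    (∀ i ∈ B, i < 12) → aval A = aval B → A = B := by
  have key : ∀ (a : ℕ) (A B : List ℕ), a < 12 → (∀ i ∈ A, i < 12 ∧ a < i) → (∀ i ∈ B, i < 12 ∧ a < i) →
      val (gw a) * aval A ≠ aval B := by
    intro a A B ha hA hB e
    have hA' := aval_mem_ge (c := lead a + 1) (A := A) fun i hi =>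
      ⟨(hA i hi).1, (gw_facts a ha).2.2.2.2 i (hA i hi).1 (hA i hi).2⟩
    have hB' := aval_mem_ge (c := lead a + 1) (A := B) fun i hi =>
      ⟨(hB i hi).1, (gw_facts a ha).2.2.2.2 i (hB i hi).1 (hB i hi).2⟩
    rw [← e] at hB'
    exact not_ge ha ((Subgroup.mul_mem_cancel_right _ hA').mp hB')
  intro A
  induction A with
  | nil =>
    intro B _ hB _ hb e
    cases B with
    | nil => rfl
    | cons b B =>
      rw [List.pairwise_cons] at hB
      rw [aval_cons] at e
      exact absurd e.symm (key b B [] (hb b List.mem_cons_self)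
        (fun i hi => ⟨hb i (List.mem_cons_of_mem _ hi), hB.1 i hi⟩) (by simp))
  | cons a A ih =>
    intro B hA hB ha hb e
    rw [List.pairwise_cons] at hA
    have hA' : ∀ i ∈ A, i < 12 ∧ a < i := fun i hi => ⟨ha i (List.mem_cons_of_mem _ hi), hA.1 i hi⟩
    rw [aval_cons] at e
    cases B with
    | nil => exact absurd e (key a A [] (ha a List.mem_cons_self) hA' (by simp))
    | cons b B =>
      rw [List.pairwise_cons] at hB
      have hB' : ∀ i ∈ B, i < 12 ∧ b < i := fun i hi => ⟨hb i (List.mem_cons_of_mem _ hi), hB.1 i hi⟩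
      rcases lt_trichotomy a b with h | h | h
      · exact absurd e (key a A (b :: B) (ha a List.mem_cons_self) hA' fun i hi => by
          rcases List.mem_cons.mp hi with rfl | hi
          · exact ⟨hb i List.mem_cons_self, h⟩
          · exact ⟨(hB' i hi).1, h.trans (hB' i hi).2⟩)
      · subst h
        rw [aval_cons] at e
        rw [ih hA.2 hB.2 (fun i hi => (hA' i hi).1) (fun i hi => (hB' i hi).1) (mul_left_cancel e)]
      · rw [aval_cons, ← aval_cons a A] at e
        exact absurd e.symm (key b B (a :: A) (hb b List.mem_cons_self) hB' fun i hi => by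
          rcases List.mem_cons.mp hi with rfl | hi
          · exact ⟨ha i List.mem_cons_self, h⟩
          · exact ⟨(hA' i hi).1, h.trans (hA' i hi).2⟩)

theorem sublist_facts {A : List ℕ} (h : A.Sublist (List.range 12)) :
    A.Pairwise (· < ·) ∧ ∀ i ∈ A, i < 12 :=
  ⟨List.Pairwise.sublist h List.pairwise_lt_range, fun i hi => List.mem_range.mp (h.subset hi)⟩

theorem mem_U {g : GL Cfsg.Lie.chevF4.Idx F} (hg : g ∈ Cfsg.Lie.chevF4.posUnipotent F ⊓ G) :
    ∃ A : List ℕ, A.Sublist (List.range 12) ∧ g = aval A := by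
  classical
  let T := {A : List ℕ // A ∈ (List.range 12).sublists.toFinset}
  have hT : ∀ A : T, (A.1).Sublist (List.range 12) := fun A => List.mem_sublists.mp (List.mem_toFinset.mp A.2)
  let f : T → ↥(Cfsg.Lie.chevF4.posUnipotent F ⊓ G) := fun A => ⟨aval A.1, aval_mem (sublist_facts (hT A)).2⟩
  have hinj : Function.Injective f := fun A B e => Subtype.ext <|
    aval_inj (sublist_facts (hT A)).1 (sublist_facts (hT B)).1 (sublist_facts (hT A)).2 (sublist_facts (hT B)).2
      (congrArg Subtype.val e)
  have hc : Nat.card T = Nat.card ↥(Cfsg.Lie.chevF4.posUnipotent F ⊓ G) := by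
    rw [card_U hK, Nat.card_eq_fintype_card, Fintype.card_coe,
      List.toFinset_card_of_nodup (List.nodup_range.sublists), List.length_sublists, List.length_range]
    rfl
  obtain ⟨A, hA⟩ := ((Nat.bijective_iff_injective_and_card f).mpr ⟨hinj, hc⟩).2 ⟨g, hg⟩
  exact ⟨A.1, hT A, (congrArg Subtype.val hA).symm⟩

theorem parity_of_sq {A : List ℕ} (hA : A.Sublist (List.range 12)) (h : aval A * aval A = 1) : parity A = 0 := by
  have := List.all_eq_true.mp odd_check A (List.mem_sublists.mpr hA)
  simp only [oddOK, Bool.or_eq_true, beq_iff_eq] at this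
  rcases this with h0 | h0
  · exact h0
  exfalso
  have hf : ∀ (ws L M : List ℕ), ws.foldlM (fun M k => push 40 k M) L = some M →
      aval M.reverse = aval L.reverse * aval ws := by
    intro ws
    induction ws with
    | nil =>
      intro L M h
      simp only [List.foldlM_nil, pure, Option.some.injEq] at h
      rw [h, aval_nil, mul_one]
    | cons k ws hws =>
      intro L M h
      simp only [List.foldlM_cons, bind, Option.bind_eq_some_iff] at h
      obtain ⟨N, hN, hM⟩ := h
      rw [hws _ _ hM, push_val _ _ _ _ hN, aval_cons, mul_assoc]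
  split at h0
  · next M hM =>
    simp only [Bool.and_eq_true, Bool.not_eq_true', decide_eq_true_eq] at h0
    have e := hf _ _ _ hM
    rw [List.reverse_reverse, h, ← aval_nil] at e
    have := aval_inj (sublist_facts h0.2).1 List.Pairwise.nil (sublist_facts h0.2).2 (by simp) e
    rw [List.reverse_eq_nil_iff.mp this] at h0
    simp at h0
  · exact absurd h0 (by simp)

/-- The map to the abelianization. -/
noncomputable def ab : G →* Abelianization G := Abelianization.of

/-- A product of generators in the group. -/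
noncomputable def gel (A : List ℕ) : G :=
  if h : ∀ i ∈ A, i < 12 then ⟨aval A, (aval_mem h).2⟩ else 1

theorem gel_val {A : List ℕ} (h : ∀ i ∈ A, i < 12) : (gel A : GL Cfsg.Lie.chevF4.Idx F) = aval A := by
  rw [gel, dif_pos h]

/-- The class of a generator. -/
noncomputable def cl (i : ℕ) : Abelianization G := ab (gel [i])

theorem ab_gel : ∀ {A : List ℕ}, (∀ i ∈ A, i < 12) → ab (gel A) = (A.map cl).prod
  | [], h => by
    rw [List.map_nil, List.prod_nil, ← map_one ab]
    exact congrArg ab (Subtype.ext (by rw [gel_val h]; rfl))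
  | a :: A, h => by
    have hA : ∀ i ∈ A, i < 12 := fun i hi => h i (List.mem_cons_of_mem _ hi)
    have ha : ∀ i ∈ [a], i < 12 := fun i hi => by
      rw [List.mem_singleton] at hi; exact hi ▸ h a List.mem_cons_self
    rw [List.map_cons, List.prod_cons, ← ab_gel hA, cl, ← map_mul]
    exact congrArg ab (Subtype.ext (by rw [Subgroup.coe_mul, gel_val h, gel_val ha, gel_val hA, aval_cons, aval_single]))

theorem comT_lt : ∀ j < 12, ∀ i < 12, ∀ k ∈ comT j i ++ sqT i, k < 12 := by decide +kernel

theorem cl_com {i j : ℕ} (hj : j < 12) (hi : i < j) : ((comT j i).map cl).prod = 1 := by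
  have hi' : i < 12 := hi.trans hj
  have hc : ∀ k ∈ comT j i, k < 12 := fun k hk => comT_lt j hj i hi' k (List.mem_append_left _ hk)
  have h1 : ∀ k ∈ [j, i], k < 12 := by simp [hj, hi']
  have h2 : ∀ k ∈ i :: j :: comT j i, k < 12 := by simpa [hj, hi'] using hc
  have e : gel [j, i] = gel (i :: j :: comT j i) :=
    Subtype.ext (by rw [gel_val h1, gel_val h2, aval_cons, aval_single, com_val hj hi, aval_cons, aval_cons, mul_assoc])
  have := congrArg ab e
  rw [ab_gel h1, ab_gel h2] at this
  simp only [List.map_cons, List.map_nil, List.prod_cons, List.prod_nil, mul_one, ← mul_assoc] at this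
  rw [mul_comm (cl j)] at this
  exact (mul_eq_left.mp this.symm)

theorem cl_sq {i : ℕ} (hi : i < 12) : cl i * cl i = ((sqT i).map cl).prod := by
  have hc : ∀ k ∈ sqT i, k < 12 := fun k hk => comT_lt 0 (by norm_num) i hi k (List.mem_append_right _ hk)
  have h1 : ∀ k ∈ [i, i], k < 12 := by simp [hi]
  have e : gel [i, i] = gel (sqT i) :=
    Subtype.ext (by rw [gel_val h1, gel_val hc, aval_cons, aval_single, sq_val hi])
  have := congrArg ab e
  rw [ab_gel h1, ab_gel hc] at this
  simpa using this

theorem cl_move (a : Fin S.m) (i : ℕ) (hi : i < 12) (B : List ℕ) (hB : ∀ k ∈ B, k < 12)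
    (h : nf ((gw i).map fun r => symF4.wEval a.val r) = nf (flat B)) : cl i = (B.map cl).prod := by
  obtain ⟨n, hn, -, hm⟩ := (gen hK).exists_n a
  have hconj : ∀ l : List ℕ, (∀ r ∈ l, r < Cfsg.Lie.chevF4.nroots) →
      n * val l * n⁻¹ = val (l.map fun r => symF4.wEval a.val r) := by
    intro l
    induction l with
    | nil => intro _; rw [List.map_nil, val_nil, mul_one, mul_inv_cancel]
    | cons r l ih =>
      intro hl
      have hr := hl r List.mem_cons_self
      have hw : symF4.wEval a.val r = (S.w a ⟨r, hr⟩).val := symOKF4.wEval_eq a.isLt ⟨r, hr⟩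
      obtain ⟨c, hc, hx, -⟩ := hm.1 ⟨r, hr⟩
      have hc1 : c = 1 := (Fin.exists_fin_two.mp ⟨c, rfl⟩).resolve_left hc
      rw [List.map_cons, val_cons r hr]
      simp only [hw]
      rw [val_cons _ (S.w a ⟨r, hr⟩).isLt, ← ih fun s hs => hl s (List.mem_cons_of_mem _ hs)]
      have := hx 1
      rw [hc1, mul_one] at this
      rw [Fin.eta, ← this]
      group
  have hlt : ∀ r ∈ gw i, r < Cfsg.Lie.chevF4.nroots := fun r hr => ((gw_facts i hi).2.1 r hr).2
  have h1 : ∀ k ∈ [i], k < 12 := by simp [hi]
  have e : (⟨n, hn⟩ : G) * gel [i] * (⟨n, hn⟩ : G)⁻¹ = gel B := by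
    refine Subtype.ext ?_
    rw [Subgroup.coe_mul, Subgroup.coe_mul, Subgroup.coe_inv, gel_val h1, gel_val hB, aval_single, hconj _ hlt,
      val_eq_of_nf h]
    rfl
  have := congrArg ab e
  rw [map_mul, map_mul, map_inv, mul_inv_cancel_comm, ab_gel hB] at this
  exact this

theorem cl_values : cl 1 * cl 1 = 1 ∧ ∀ i < 12, cl i = cl 1 ^ par i := by
  have c7 : cl 7 = 1 := by simpa [comT, comL] using cl_com (i := 0) (j := 4) (by norm_num) (by norm_num)
  have c8 : cl 8 = 1 := by simpa [comT, comL] using cl_com (i := 2) (j := 4) (by norm_num) (by norm_num)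
  have c6 : cl 6 = 1 := by simpa [comT, comL] using cl_com (i := 1) (j := 5) (by norm_num) (by norm_num)
  have c9 : cl 9 = 1 := by simpa [comT, comL] using cl_com (i := 4) (j := 5) (by norm_num) (by norm_num)
  have c10 : cl 10 = 1 := by simpa [comT, comL] using cl_com (i := 4) (j := 6) (by norm_num) (by norm_num)
  have c11 : cl 11 = 1 := by simpa [comT, comL] using cl_com (i := 6) (j := 7) (by norm_num) (by norm_num)
  have c0 : cl 0 = 1 := by
    have := cl_move (ox 1) 0 (by norm_num) [6] (by simp) (by decide +kernel)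
    simpa [c6] using this
  have c3 : cl 3 = 1 := by
    have := cl_move (ox 0) 3 (by norm_num) [7] (by simp) (by decide +kernel)
    simpa [c7] using this
  have c2 : cl 2 = cl 1 := by
    have := cl_move (ox 0) 2 (by norm_num) [1] (by simp) (by decide +kernel)
    simpa using this
  have c5 : cl 5 = cl 1 := by
    have := cl_move (ox 1) 5 (by norm_num) [2] (by simp) (by decide +kernel)
    simpa [c2] using this
  have c4 : cl 4 = cl 1 := by
    have := cl_move (ox 0) 4 (by norm_num) [5, 10] (by simp) (by decide +kernel)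
    simpa [c5, c10] using this
  refine ⟨?_, fun i hi => ?_⟩
  · have := cl_sq (i := 1) (by norm_num)
    simpa [sqT, c3] using this
  · interval_cases i <;> simp [par, c0, c2, c3, c4, c5, c6, c7, c8, c9, c10, c11]

theorem cl_prod : ∀ A : List ℕ, (∀ i ∈ A, i < 12) → (A.map cl).prod = cl 1 ^ (A.map par).sum
  | [], _ => by simp
  | a :: A, h => by
    rw [List.map_cons, List.prod_cons, cl_prod A (fun i hi => h i (List.mem_cons_of_mem _ hi)),
      cl_values.2 a (h a List.mem_cons_self), ← pow_add, List.map_cons, List.sum_cons]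

theorem involution_ab {g : G} (hU : (g : GL Cfsg.Lie.chevF4.Idx F) ∈ Cfsg.Lie.chevF4.posUnipotent F)
    (hg : g * g = 1) : ab g = 1 := by
  obtain ⟨A, hA, e⟩ := mem_U ⟨hU, g.2⟩
  have hlt := (sublist_facts hA).2
  have hs : aval A * aval A = 1 := by rw [← e, ← Subgroup.coe_mul, hg, Subgroup.coe_one]
  have hp := parity_of_sq hA hs
  have eg : g = gel A := Subtype.ext (by rw [gel_val hlt, ← e])
  obtain ⟨k, hk⟩ : 2 ∣ (A.map par).sum := Nat.dvd_of_mod_eq_zero hp
  rw [eg, ab_gel hlt, cl_prod A hlt, hk, pow_mul, sq, cl_values.1, one_pow]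

theorem involution_mem_commutator (g : G) (hg : orderOf g = 2) : g ∈ commutator G := by
  haveI := Fact.mk Nat.prime_two
  let P : Subgroup G := (Cfsg.Lie.chevF4.posUnipotent F ⊓ G).subgroupOf G
  have hP : Nat.card P = 2 ^ 12 := by
    rw [Nat.card_congr (Subgroup.subgroupOfEquivOfLe inf_le_right).toEquiv, card_U hK]
    rfl
  have hidx : ¬ 2 ∣ P.index := by
    have h := P.card_mul_index
    rw [hP, show Nat.card G = _ from card_G hK] at h
    intro ⟨c, hc⟩
    rw [hc] at h
    norm_num at h
    omega
  let Q : Sylow 2 G := (IsPGroup.of_card hP).toSylow hidx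
  have hz : IsPGroup 2 (Subgroup.zpowers g) := IsPGroup.of_card (n := 1) (by rw [Nat.card_zpowers, hg, pow_one])
  obtain ⟨R, hR⟩ := hz.exists_le_sylow
  obtain ⟨x, hx⟩ := MulAction.exists_smul_eq G R Q
  have hmem : x * g * x⁻¹ ∈ P := by
    have h1 : MulAut.conj x g ∈ ((x • R : Sylow 2 G) : Subgroup G) := by
      rw [Sylow.coe_subgroup_smul]
      exact Subgroup.smul_mem_pointwise_smul g (MulAut.conj x) _ (hR (Subgroup.mem_zpowers g))
    rw [hx] at h1
    exact h1
  have h2 : ab (x * g * x⁻¹) = 1 := involution_ab hmem.1 (by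
    have : g * g = 1 := by have h := pow_orderOf_eq_one g; rwa [hg, sq] at h
    calc x * g * x⁻¹ * (x * g * x⁻¹) = x * (g * g) * x⁻¹ := by group
      _ = 1 := by rw [this, mul_one, mul_inv_cancel])
  rw [map_mul, map_mul, map_inv, mul_inv_cancel_comm] at h2
  rw [← Abelianization.ker_of]
  exact h2

end CfsgLib.Chev.T2F4Two
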