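/-
Perfectness and simplicity of ²F₄.
-/
import Cfsg.Agent.Lib.Chev.Twist.TypeF4

namespace CfsgLib.Chev.T2F4

open Cfsg.Lie Matrix Chev

set_option linter.dupNamespace false
set_option linter.unusedSectionVars false
set_option maxRecDepth 100000

variable {K : Type*} [Field K] [Fintype K] {m : ℕ} (hK : Fintype.card K = 2 ^ (2 * m + 1))

include hK in
theorem stab_mem (x : Kˣ × Kˣ) : Tw.tor (Φ := CfsgLib.Chev.chevF4) (stab m x) ∈ twistedF4 K (2 ^ m) := by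
  rw [eq_fix hK]
  exact ⟨CfsgLib.Chev.chevF4.H_le_group (Tw.tor_mem_H _), by rw [Tw.app_tor, (stable_iff hK _).mpr rfl]⟩

include hK in
theorem exists_gen : ∃ s : Kˣ, orderOf s = 2 ^ (2 * m + 1) - 1 := by
  classical
  obtain ⟨s, hs⟩ := IsCyclic.exists_ofOrder_eq_natCard (α := Kˣ)
  exact ⟨s, by rw [hs, Nat.card_units, Nat.card_eq_fintype_card, hK]⟩

theorem chi_stab (x : Kˣ × Kˣ) (r : Fin Cfsg.Lie.chevF4.nroots) :
    CfsgLib.Chev.chevF4.toSys.chi (CfsgLib.Chev.chevF4.coHom K (stab m x)) r =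
      x.1 ^ (((2 ^ m : ℕ) : ℤ) * Cfsg.Lie.chevF4.cartan 0 r.val + Cfsg.Lie.chevF4.cartan 3 r.val) *
        x.2 ^ (((2 ^ m : ℕ) : ℤ) * Cfsg.Lie.chevF4.cartan 1 r.val + Cfsg.Lie.chevF4.cartan 2 r.val) := by
  rw [chi_coHom_tw]
  refine (Fin.prod_univ_four (fun k : Fin 4 => stab m x k ^ CfsgLib.Chev.chevF4.A k r)).trans ?_
  rw [show CfsgLib.Chev.chevF4.A (0 : Fin 4) r = Cfsg.Lie.chevF4.cartan 0 r.val from (cartan_val _ (ix 0) r).symm,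
    show CfsgLib.Chev.chevF4.A (1 : Fin 4) r = Cfsg.Lie.chevF4.cartan 1 r.val from (cartan_val _ (ix 1) r).symm,
    show CfsgLib.Chev.chevF4.A (2 : Fin 4) r = Cfsg.Lie.chevF4.cartan 2 r.val from (cartan_val _ (ix 2) r).symm,
    show CfsgLib.Chev.chevF4.A (3 : Fin 4) r = Cfsg.Lie.chevF4.cartan 3 r.val from (cartan_val _ (ix 3) r).symm]
  rw [show stab m x (0 : Fin 4) = x.1 ^ 2 ^ m from rfl, show stab m x (1 : Fin 4) = x.2 ^ 2 ^ m from rfl,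
    show stab m x (2 : Fin 4) = x.2 from rfl, show stab m x (3 : Fin 4) = x.1 from rfl]
  rw [← _root_.zpow_natCast x.1, ← _root_.zpow_natCast x.2, ← _root_.zpow_mul, ← _root_.zpow_mul,
    _root_.zpow_add, _root_.zpow_add]
  simp only [mul_comm, mul_left_comm, mul_assoc]

theorem cartan_rows : ∀ r ∈ [(rx 25 : Fin Cfsg.Lie.chevF4.nroots), rx 27, rx 28, rx 30],
    (Cfsg.Lie.chevF4.cartan 0 r.val, Cfsg.Lie.chevF4.cartan 3 r.val) ∈
      [((0 : ℤ), (-1 : ℤ)), (-1, 0), (-1, -1), (-2, -1)] := by decide +kernel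

include hK in
theorem root_comm0 (hm : 1 ≤ m) : CfsgLib.Chev.chevF4.US K (S.PJ (ox 0)) ⊓ (tw hK).fix ≤
    ⁅twistedF4 K (2 ^ m), twistedF4 K (2 ^ m)⁆ := by
  obtain ⟨t, ht⟩ := exists_gen hK
  have ht1 : t ≠ 1 := fun e => by
    rw [e, orderOf_one] at ht
    have : 2 ^ 3 ≤ 2 ^ (2 * m + 1) := Nat.pow_le_pow_right (by norm_num) (by omega)
    omega
  refine (gen hK).root_le_comm (ox 0) (c := CfsgLib.Chev.chevF4.coHom K (stab m (1, t)))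
    (stab_mem hK _) fun r hr => ?_
  rw [chi_stab, _root_.one_zpow, one_mul]
  obtain ⟨p0, -, -, p3⟩ := simple_idx
  rcases orb0.hPJ r hr with rfl | rfl
  · rw [p0, show Cfsg.Lie.chevF4.cartan 1 (rx 33).val = -1 by decide +kernel,
      show Cfsg.Lie.chevF4.cartan 2 (rx 33).val = 0 by decide +kernel, add_zero, mul_neg, mul_one,
      _root_.zpow_neg, _root_.zpow_natCast, ne_eq, inv_eq_one]
    intro e
    apply ht1
    rw [← (units_pow_q hK t).1, e, one_pow]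
  · rw [p3, show Cfsg.Lie.chevF4.cartan 1 (rx 24).val = 0 by decide +kernel,
      show Cfsg.Lie.chevF4.cartan 2 (rx 24).val = -1 by decide +kernel, mul_zero, zero_add,
      _root_.zpow_neg_one, ne_eq, inv_eq_one]
    exact ht1

include hK in
theorem root_comm1 (hm : 1 ≤ m) : CfsgLib.Chev.chevF4.US K (S.PJ (ox 1)) ⊓ (tw hK).fix ≤
    ⁅twistedF4 K (2 ^ m), twistedF4 K (2 ^ m)⁆ := by
  obtain ⟨s, hs⟩ := exists_gen hK
  refine (gen hK).root_le_comm (ox 1) (c := CfsgLib.Chev.chevF4.coHom K (stab m (s, 1)))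
    (stab_mem hK _) fun r hr => ?_
  rw [chi_stab, _root_.one_zpow, mul_one, ne_eq, ← orderOf_dvd_iff_zpow_eq_one, hs]
  have hmem := cartan_rows r ((mem_PJ_one r).mp hr)
  generalize Cfsg.Lie.chevF4.cartan 0 r.val = x at hmem ⊢
  generalize Cfsg.Lie.chevF4.cartan 3 r.val = y at hmem ⊢
  have hE : (2 : ℤ) ≤ ((2 ^ m : ℕ) : ℤ) := by
    exact_mod_cast le_trans (by norm_num) (Nat.pow_le_pow_right (by norm_num : 0 < 2) hm)
  have hN : ((2 ^ (2 * m + 1) - 1 : ℕ) : ℤ) = 2 * (((2 ^ m : ℕ) : ℤ) * ((2 ^ m : ℕ) : ℤ)) - 1 := by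
    rw [Nat.cast_sub (Nat.one_le_pow _ _ (by norm_num))]
    push_cast
    ring
  rw [hN]
  have h9 : 2 * ((2 ^ m : ℕ) : ℤ) ≤ ((2 ^ m : ℕ) : ℤ) * ((2 ^ m : ℕ) : ℤ) := by nlinarith
  intro hd
  have hbig : ∀ z : ℤ, z ≠ 0 → z.natAbs < (2 * (((2 ^ m : ℕ) : ℤ) * ((2 ^ m : ℕ) : ℤ)) - 1).natAbs →
      ¬ (2 * (((2 ^ m : ℕ) : ℤ) * ((2 ^ m : ℕ) : ℤ)) - 1 ∣ z) := fun z h0 h1 h2 =>
    absurd (Int.natAbs_le_of_dvd_ne_zero h2 h0) (by omega)
  refine hbig _ ?_ ?_ hd <;>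
  · simp only [List.mem_cons, Prod.mk.injEq, List.not_mem_nil, or_false] at hmem
    rcases hmem with ⟨rfl, rfl⟩ | ⟨rfl, rfl⟩ | ⟨rfl, rfl⟩ | ⟨rfl, rfl⟩ <;> omega

theorem root_comm (hm : 1 ≤ m) (a : Fin S.m) : CfsgLib.Chev.chevF4.US K (S.PJ a) ⊓ (tw hK).fix ≤
    ⁅twistedF4 K (2 ^ m), twistedF4 K (2 ^ m)⁆ := by
  match a with
  | ⟨0, _⟩ => exact root_comm0 hK hm
  | ⟨1, _⟩ => exact root_comm1 hK hm

include hK in
theorem perfect (hm : 1 ≤ m) : commutator ↥(twistedF4 K (2 ^ m)) = ⊤ :=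
  (gen hK).perfect twisted_eq (fun g hg => (gens_fix hK hg).2) (root_comm hK hm)

theorem conn : ∀ A : Set (Fin S.m), A.Nonempty → Aᶜ.Nonempty →
    ∃ a ∈ A, ∃ b ∈ Aᶜ, S.w a * S.w b ≠ S.w b * S.w a := by
  intro A h1 h2
  obtain ⟨x, hx⟩ := h1
  obtain ⟨y, hy⟩ := h2
  refine ⟨x, hx, y, hy, fun e => ?_⟩
  have hxy : x.val ≠ y.val := fun h => hy ((Fin.ext h : x = y) ▸ hx)
  have hd : ∀ a b : Fin 2, a.val ≠ b.val → ∃ r : Fin Cfsg.Lie.chevF4.nroots,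
      symF4.wEval a.val (symF4.wEval b.val r.val) ≠ symF4.wEval b.val (symF4.wEval a.val r.val) := by
    decide +kernel
  obtain ⟨r, hr⟩ := hd x y hxy
  refine hr ?_
  rw [symOKF4.wEval_eq (Φ := CfsgLib.Chev.chevF4) (a := y.val) y.isLt r, symOKF4.wEval_eq (Φ := CfsgLib.Chev.chevF4) (a := x.val) x.isLt,
    symOKF4.wEval_eq (Φ := CfsgLib.Chev.chevF4) (a := x.val) x.isLt r, symOKF4.wEval_eq (Φ := CfsgLib.Chev.chevF4) (a := y.val) y.isLt]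
  exact congrArg Fin.val (Equiv.ext_iff.mp e r)

include hK in
theorem simple (hm : 1 ≤ m) :
    IsSimpleGroup ↥(twistedF4 K (2 ^ m)) ∧ ¬ IsMulCommutative ↥(twistedF4 K (2 ^ m)) :=
  (gen hK).simple (wit hK) (by decide) conn (perfect hK hm)

end CfsgLib.Chev.T2F4
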