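/-
Perfectness and simplicity of ³D₄.
-/
import Cfsg.Agent.Lib.Chev.Twist.OrderD4

namespace CfsgLib.Chev.T3D4

open Cfsg.Lie Matrix Chev
open scoped commutatorElement

set_option linter.dupNamespace false
set_option linter.unusedSectionVars false
set_option maxRecDepth 100000

variable {K : Type*} [Field K] [Fintype K] {q : ℕ} (hq : IsPrimePow q) (hK : Fintype.card K = q ^ 3)

theorem comm_of_param (a : Fin S.m) (d : Fin Cfsg.Lie.chevD4.rank → Kˣ) (hd : (tw hq hK).dmap d = d)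
    (hc : ∀ r, S.PJ a r → CfsgLib.Chev.chevD4.toSys.chi (CfsgLib.Chev.chevD4.coHom K d) r ≠ 1) :
    CfsgLib.Chev.chevD4.US K (S.PJ a) ⊓ (tw hq hK).fix ≤ ⁅twistedD4 K q, twistedD4 K q⁆ := by
  refine (gen hq hK).root_le_comm a (c := CfsgLib.Chev.chevD4.coHom K d) ?_ hc
  rw [eq_fix hq hK]
  exact ⟨CfsgLib.Chev.chevD4.H_le_group (Tw.tor_mem_H d), by
    show (tw hq hK).app (Tw.tor (Φ := CfsgLib.Chev.chevD4) d) = Tw.tor (Φ := CfsgLib.Chev.chevD4) d
    rw [Tw.app_tor, hd]⟩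

theorem qq_units (u : Kˣ) (hK : Fintype.card K = q ^ 3) : ((u ^ q) ^ q) ^ q = u := Units.ext (by
  rw [Units.val_pow_eq_pow_val, Units.val_pow_eq_pow_val, Units.val_pow_eq_pow_val]; exact pow_q3 hK _)

/-- A torus parameter carried by the orbit of three roots. -/
def outer (q : ℕ) (u : Kˣ) : Fin Cfsg.Lie.chevD4.rank → Kˣ := vec4 u 1 (u ^ q) ((u ^ q) ^ q)

theorem outer_stable (u : Kˣ) : (tw hq hK).dmap (outer q u) = outer q u :=
  (stable_iff hq hK _).mpr ⟨one_pow _, rfl, rfl⟩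

theorem chi_outer (u : Kˣ) (j : Fin Cfsg.Lie.chevD4.rank) :
    CfsgLib.Chev.chevD4.toSys.chi (CfsgLib.Chev.chevD4.coHom K (outer q u)) (CfsgLib.Chev.chevD4.p j) =
      u ^ ([2, -1, 0, 0] : List ℤ).getD j.val 0 * (u ^ q) ^ ([0, -1, 2, 0] : List ℤ).getD j.val 0 *
        ((u ^ q) ^ q) ^ ([0, -1, 0, 2] : List ℤ).getD j.val 0 := by
  rw [chi_p]
  have hA : ∀ k j : Fin Cfsg.Lie.chevD4.rank, Cfsg.Lie.chevD4.cartan k.val (Cfsg.Lie.chevD4.simple j.val) =
      ([[2, -1, 0, 0], [-1, 2, -1, -1], [0, -1, 2, 0], [0, -1, 0, 2]].getD k.val []).getD j.val 0 := by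
    decide +kernel
  simp only [hA]
  refine (Fin.prod_univ_four (fun k : Fin 4 => outer q u k ^
    ([[2, -1, 0, 0], [-1, 2, -1, -1], [0, -1, 2, 0], [0, -1, 0, 2]].getD k.val []).getD j.val (0 : ℤ))).trans ?_
  simp [outer, vec4]

include hq hK in
theorem exists_order : ∃ u : Kˣ, orderOf u = q ^ 3 - 1 := by
  classical
  obtain ⟨u, hu⟩ := IsCyclic.exists_ofOrder_eq_natCard (α := Kˣ)
  exact ⟨u, by rw [hu, Nat.card_units, Nat.card_eq_fintype_card, hK]⟩

theorem root_comm_outer : CfsgLib.Chev.chevD4.US K (S.PJ (ox 1)) ⊓ (tw hq hK).fix ≤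
    ⁅twistedD4 K q, twistedD4 K q⁆ := by
  obtain ⟨u, hu⟩ := exists_order hq hK
  have h2 : u ^ 2 ≠ 1 := fun e => by
    have := Nat.le_of_dvd (by norm_num) (orderOf_dvd_of_pow_eq_one e)
    have h8 : 2 ^ 3 ≤ q ^ 3 := Nat.pow_le_pow_left hq.one_lt 3
    omega
  have hne : ∀ v : Kˣ, v ≠ 1 → v ^ q ≠ 1 := fun v hv e => hv (by
    rw [← qq_units v hK, e, one_pow, one_pow])
  refine comm_of_param hq hK _ (outer q u) (outer_stable hq hK u) ?_
  intro r hr
  rcases orb1.hPJ r hr with rfl | rfl | rfl <;> rw [chi_outer] <;>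
    simp only [ix, List.getD_cons_zero, List.getD_cons_succ, _root_.zpow_zero, mul_one, one_mul]
  · rw [zpow_two, ← sq]; exact h2
  · rw [zpow_two, ← sq, ← pow_mul, mul_comm, pow_mul]; exact hne _ h2
  · rw [zpow_two, ← sq]
    have e : ((u ^ q) ^ q) ^ 2 = ((u ^ 2) ^ q) ^ q := by
      rw [← pow_mul, ← pow_mul, ← pow_mul, ← pow_mul]; congr 1; ring
    rw [e]; exact hne _ (hne _ h2)

theorem root_comm_mid_large (hq2 : 2 < q) : CfsgLib.Chev.chevD4.US K (S.PJ (ox 0)) ⊓ (tw hq hK).fix ≤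
    ⁅twistedD4 K q, twistedD4 K q⁆ := by
  obtain ⟨u, hu⟩ := exists_order hq hK
  have hN : u * u ^ q * (u ^ q) ^ q ≠ 1 := fun e => by
    have e' : u ^ (1 + q + q * q) = 1 := by rw [pow_add, pow_add, pow_one, pow_mul]; exact e
    have := Nat.le_of_dvd (by omega) (orderOf_dvd_of_pow_eq_one e')
    have h1 : 1 ≤ q ^ 3 := Nat.one_le_pow _ _ hq.one_lt.le
    have h3 : 3 * (q * q) ≤ q ^ 3 := by
      calc 3 * (q * q) ≤ q * (q * q) := Nat.mul_le_mul_right _ hq2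
        _ = q ^ 3 := by ring
    have h4 : 3 * q ≤ q * q := Nat.mul_le_mul_right _ hq2
    omega
  refine comm_of_param hq hK _ (outer q u) (outer_stable hq hK u) ?_
  intro r hr
  rw [orb0.hPJ r hr, chi_outer]
  intro e
  refine hN (inv_eq_one.mp ?_)
  rw [mul_inv, mul_inv]
  simpa using e

include hq hK in
theorem x23_mem (h2q : q = 2) (h : (23 : ℕ) < Cfsg.Lie.chevD4.nroots) :
    CfsgLib.Chev.chevD4.toAlg.xg ⟨23, h⟩ (1 : K) ∈ ⁅twistedD4 K q, twistedD4 K q⁆ := by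
  have heq := eq_fix hq hK
  haveI := Fact.mk Nat.prime_two
  haveI : CharP K 2 := charP_of_card_eq_prime_pow (f := 3) (by rw [hK, h2q])
  have hc2 : (2 : K) = 0 := CharP.cast_eq_zero K 2
  have cm : ∀ {r s : ℕ} (hr : r < Cfsg.Lie.chevD4.nroots) (hs : s < Cfsg.Lie.chevD4.nroots), s ≠ Cfsg.Lie.chevD4.neg r →
      (Cfsg.Lie.chevD4.chainEntry r s).isEmpty = true → ∀ x y : K,
      Commute (CfsgLib.Chev.chevD4.toAlg.xg ⟨r, hr⟩ x) (CfsgLib.Chev.chevD4.toAlg.xg ⟨s, hs⟩ y) := fun {r s} hr hs hneg hN x y =>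
    CfsgLib.Chev.chevD4.xg_commute_of (fun e => hneg ((congrArg Fin.val e).trans (CfsgLib.Chev.chevD4.negIdx_eq _).symm))
      (CfsgLib.Chev.chevD4.N_eq_zero_of_check hN) x y
  have hfix : ∀ {r s t : ℕ} (hr : r < Cfsg.Lie.chevD4.nroots) (hs : s < Cfsg.Lie.chevD4.nroots)
      (ht : t < Cfsg.Lie.chevD4.nroots), morD4a.ρ r = s → morD4a.ρ s = t → morD4a.ρ t = r →
      (∀ x y : K, Commute (CfsgLib.Chev.chevD4.toAlg.xg ⟨r, hr⟩ x) (CfsgLib.Chev.chevD4.toAlg.xg ⟨s, hs⟩ y)) →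
      (∀ x y : K, Commute (CfsgLib.Chev.chevD4.toAlg.xg ⟨r, hr⟩ x) (CfsgLib.Chev.chevD4.toAlg.xg ⟨t, ht⟩ y)) →
      Tw.X3 CfsgLib.Chev.chevD4 ⟨r, hr⟩ ⟨s, hs⟩ ⟨t, ht⟩ (1 : K) 1 1 ∈ twistedD4 K q := by
    intro r s t hr hs ht h1 h2 h3 c1 c2
    have hg := fun (i : Fin Cfsg.Lie.chevD4.nroots) (c : K) => CfsgLib.Chev.chevD4.toAlg.xg_mem_group i c
    rw [heq]
    refine ⟨mul_mem (mul_mem (hg _ _) (hg _ _)) (hg _ _), ?_⟩
    rw [Tw.X3, Tw.app_mul _ (mul_mem (hg _ _) (hg _ _)) (hg _ _), Tw.app_mul _ (hg _ _) (hg _ _), Tw.app_xg,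
      Tw.app_xg, Tw.app_xg]
    have e : ∀ i : Fin Cfsg.Lie.chevD4.nroots, (((tw hq hK).ε i : ℤ) : K) * (1 : K) ^ (tw hq hK).k i = 1 := fun i => by
      rw [one_pow, mul_one]
      have he : (tw hq hK).ε i = morD4a.e i.val := rfl
      rcases (check_root checkMorD4a i.isLt).2.2.1 with h | h <;> simp [he, h, CharTwo.neg_eq]
    rw [e, e, e, show S.ρ ⟨r, hr⟩ = ⟨s, hs⟩ from Fin.ext h1, show S.ρ ⟨s, hs⟩ = ⟨t, ht⟩ from Fin.ext h2,
      show S.ρ ⟨t, ht⟩ = ⟨r, hr⟩ from Fin.ext h3, ((c1 1 1).symm.mul_left (c2 1 1).symm).eq, mul_assoc]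
  have l19 : (19 : ℕ) < Cfsg.Lie.chevD4.nroots := by decide
  have l16 : (16 : ℕ) < Cfsg.Lie.chevD4.nroots := by decide
  have l15 : (15 : ℕ) < Cfsg.Lie.chevD4.nroots := by decide
  have l17 : (17 : ℕ) < Cfsg.Lie.chevD4.nroots := by decide
  have l20 : (20 : ℕ) < Cfsg.Lie.chevD4.nroots := by decide
  have l21 : (21 : ℕ) < Cfsg.Lie.chevD4.nroots := by decide
  have hu := hfix l19 l16 l15 (by decide +kernel) (by decide +kernel) (by decide +kernel)
    (cm l19 l16 (by decide +kernel) (by decide +kernel)) (cm l19 l15 (by decide +kernel) (by decide +kernel))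
  have hv := hfix l17 l20 l21 (by decide +kernel) (by decide +kernel) (by decide +kernel)
    (cm l17 l20 (by decide +kernel) (by decide +kernel)) (cm l17 l21 (by decide +kernel) (by decide +kernel))
  set a := CfsgLib.Chev.chevD4.toAlg.xg ⟨19, l19⟩ (1 : K)
  set b := CfsgLib.Chev.chevD4.toAlg.xg ⟨16, l16⟩ (1 : K)
  set c := CfsgLib.Chev.chevD4.toAlg.xg ⟨15, l15⟩ (1 : K)
  set a' := CfsgLib.Chev.chevD4.toAlg.xg ⟨17, l17⟩ (1 : K)
  set b' := CfsgLib.Chev.chevD4.toAlg.xg ⟨20, l20⟩ (1 : K)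
  set c' := CfsgLib.Chev.chevD4.toAlg.xg ⟨21, l21⟩ (1 : K)
  set C := CfsgLib.Chev.chevD4.toAlg.xg ⟨23, h⟩ (1 : K) with hC
  have ra : a * a' = a' * a * C := by
    have := swap_rel_two CfsgLib.Chev.chevD4 hc2 l17 l19 h (by decide) (by decide +kernel) 1 (Or.inl rfl)
      (by decide +kernel) (1 : K) 1
    rwa [mul_one] at this
  have rb : b * b' = b' * b * C := by
    have := swap_rel_two CfsgLib.Chev.chevD4 hc2 l20 l16 h (by decide) (by decide +kernel) 1 (Or.inl rfl)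
      (by decide +kernel) (1 : K) 1
    rwa [mul_one] at this
  have rc : c * c' = c' * c * C := by
    have := swap_rel_two CfsgLib.Chev.chevD4 hc2 l21 l15 h (by decide) (by decide +kernel) 1 (Or.inl rfl)
      (by decide +kernel) (1 : K) 1
    rwa [mul_one] at this
  have hCb : Commute C (b' * b) := (cm h l20 (by decide +kernel) (by decide +kernel) _ _).mul_right
    (cm h l16 (by decide +kernel) (by decide +kernel) _ _)
  have hCc : Commute C (c' * c) := (cm h l21 (by decide +kernel) (by decide +kernel) _ _).mul_right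
    (cm h l15 (by decide +kernel) (by decide +kernel) _ _)
  have h3 : C * C * C = C := by
    rw [hC, ← CfsgLib.Chev.chevD4.toAlg.xg_add, ← CfsgLib.Chev.chevD4.toAlg.xg_add,
      show (1 : K) + 1 + 1 = 1 by linear_combination hc2]
  have key : (a * b * c) * (a' * b' * c') = (a' * b' * c') * (a * b * c) * C := by
    rw [← mul_three (a := a) (b := b) (c := c) (a' := a') (b' := b') (c' := c')
      (cm l17 l16 (by decide +kernel) (by decide +kernel) _ _) (cm l17 l15 (by decide +kernel) (by decide +kernel) _ _)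
      (cm l20 l15 (by decide +kernel) (by decide +kernel) _ _),
      ← mul_three (a := a') (b := b') (c := c') (a' := a) (b' := b) (c' := c)
      (cm l19 l20 (by decide +kernel) (by decide +kernel) _ _) (cm l19 l21 (by decide +kernel) (by decide +kernel) _ _)
      (cm l16 l21 (by decide +kernel) (by decide +kernel) _ _), ra, rb, rc]
    calc a' * a * C * (b' * b * C) * (c' * c * C) = a' * a * (C * (b' * b)) * (C * (c' * c)) * C := by
          simp only [mul_assoc]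
      _ = a' * a * (b' * b) * (C * (C * (c' * c))) * C := by rw [hCb.eq]; simp only [mul_assoc]
      _ = a' * a * (b' * b) * (c' * c) * (C * C * C) := by
          rw [hCc.eq, ← mul_assoc C (c' * c), hCc.eq]; simp only [mul_assoc]
      _ = _ := by rw [h3]
  have e : C = ⁅(a * b * c)⁻¹, (a' * b' * c')⁻¹⁆ := by
    rw [commutatorElement_def, inv_inv, inv_inv, mul_assoc ((a * b * c)⁻¹ * (a' * b' * c')⁻¹), key]; group
  rw [e]
  exact Subgroup.commutator_mem_commutator (inv_mem hu) (inv_mem hv)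

theorem root_comm_mid_two (h2q : q = 2) : CfsgLib.Chev.chevD4.US K (S.PJ (ox 0)) ⊓ (tw hq hK).fix ≤
    ⁅twistedD4 K q, twistedD4 K q⁆ := by
  have h23 : (23 : ℕ) < Cfsg.Lie.chevD4.nroots := by decide
  have hπ : S.w (ox 1) * S.w (ox 0) ∈ S.W1 := mul_mem (S.w_mem_W1 _) (S.w_mem_W1 _)
  have he : (S.w (ox 1) * S.w (ox 0)) ⟨23, h23⟩ = CfsgLib.Chev.chevD4.p (ix 1) := by
    refine Fin.ext ?_
    show (CfsgLib.Chev.chevD4.wPerm symD4 1 (CfsgLib.Chev.chevD4.wPerm symD4 0 ⟨23, h23⟩)).val = _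
    rw [← symOKD4.wEval_eq (by decide), ← symOKD4.wEval_eq (by decide), p_val]
    show symD4.wEval 1 (symD4.wEval 0 23) = Cfsg.Lie.chevD4.simple 1
    decide +kernel
  obtain ⟨n, hn1, hn2, hn3⟩ := (gen hq hK).exists_nW1 hπ
  have hx := x23_mem hq hK h2q h23
  have hle : ⁅twistedD4 K q, twistedD4 K q⁆ ≤ twistedD4 K q := Subgroup.commutator_le.mpr fun g hg k hk => by
    rw [commutatorElement_def]
    exact mul_mem (mul_mem (mul_mem hg hk) (inv_mem hg)) (inv_mem hk)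
  have hy : n * CfsgLib.Chev.chevD4.toAlg.xg ⟨23, h23⟩ (1 : K) * n⁻¹ ∈ ⁅twistedD4 K q, twistedD4 K q⁆ := by
    rw [show n * CfsgLib.Chev.chevD4.toAlg.xg ⟨23, h23⟩ (1 : K) * n⁻¹ = ⁅n, CfsgLib.Chev.chevD4.toAlg.xg ⟨23, h23⟩ (1 : K)⁆ * CfsgLib.Chev.chevD4.toAlg.xg ⟨23, h23⟩ (1 : K) by
      rw [commutatorElement_def]; group]
    exact mul_mem (Subgroup.commutator_mem_commutator hn1 (hle hx)) hx
  obtain ⟨c, hc0, hc, -⟩ := hn3.1 ⟨23, h23⟩
  rw [hc 1, he, mul_one] at hy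
  intro g hg
  obtain ⟨x, hx', rfl⟩ := orb0.fix_iff.mp hg
  have hfix : c ^ (tw hq hK).k (CfsgLib.Chev.chevD4.p (ix 1)) = c := by
    have := ((gen hq hK).le_fix (hle hy)).2
    rw [Tw.app_p, orb0.tau] at this
    exact CfsgLib.Chev.chevD4.toAlg.xg_injective _ this
  rw [k_p] at hx' hfix
  subst h2q
  have hone : ∀ z : K, z ^ 2 = z → z = 0 ∨ z = 1 := fun z hz => by
    have : z * (z - 1) = 0 := by linear_combination hz
    simpa [sub_eq_zero] using mul_eq_zero.mp this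
  rcases hone x hx' with rfl | rfl
  · rw [Alg.xg_zero]; exact one_mem _
  · rwa [(hone c hfix).resolve_left hc0] at hy

theorem root_comm (a : Fin S.m) :
    CfsgLib.Chev.chevD4.US K (S.PJ a) ⊓ (tw hq hK).fix ≤ ⁅twistedD4 K q, twistedD4 K q⁆ := by
  match a with
  | ⟨0, _⟩ =>
    rcases Nat.lt_or_ge 2 q with h | h
    · exact root_comm_mid_large hq hK h
    · exact root_comm_mid_two hq hK (le_antisymm h hq.one_lt)
  | ⟨1, _⟩ => exact root_comm_outer hq hK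

include hq hK in
theorem perfect : commutator ↥(twistedD4 K q) = ⊤ :=
  (gen hq hK).perfect twisted_eq (fun g hg => (gens_fix hq hK hg).2) (root_comm hq hK)

theorem conn : ∀ A : Set (Fin S.m), A.Nonempty → Aᶜ.Nonempty →
    ∃ a ∈ A, ∃ b ∈ Aᶜ, S.w a * S.w b ≠ S.w b * S.w a := by
  intro A h1 h2
  obtain ⟨x, hx⟩ := h1
  obtain ⟨y, hy⟩ := h2
  refine ⟨x, hx, y, hy, fun e => ?_⟩
  have hxy : x.val ≠ y.val := fun h => hy ((Fin.ext h : x = y) ▸ hx)
  have hd : ∀ a b : Fin 2, a.val ≠ b.val → ∃ r : Fin Cfsg.Lie.chevD4.nroots,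
      symD4.wEval a.val (symD4.wEval b.val r.val) ≠ symD4.wEval b.val (symD4.wEval a.val r.val) := by
    decide +kernel
  obtain ⟨r, hr⟩ := hd x y hxy
  refine hr ?_
  rw [symOKD4.wEval_eq (Φ := CfsgLib.Chev.chevD4) (a := y.val) y.isLt r, symOKD4.wEval_eq (Φ := CfsgLib.Chev.chevD4) (a := x.val) x.isLt,
    symOKD4.wEval_eq (Φ := CfsgLib.Chev.chevD4) (a := x.val) x.isLt r, symOKD4.wEval_eq (Φ := CfsgLib.Chev.chevD4) (a := y.val) y.isLt]
  exact congrArg Fin.val (Equiv.ext_iff.mp e r)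

include hq hK in
theorem simple : IsSimpleGroup ↥(twistedD4 K q) ∧ ¬ IsMulCommutative ↥(twistedD4 K q) :=
  (gen hq hK).simple (wit hq hK) (by decide) conn (perfect hq hK)

end CfsgLib.Chev.T3D4
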