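/-
Perfectness and simplicity of ²E₆.
-/
import Cfsg.Agent.Lib.Chev.Twist.TorusE6

namespace CfsgLib.Chev.T2E6

open Cfsg.Lie Matrix Chev
open scoped commutatorElement

set_option linter.dupNamespace false
set_option linter.unusedSectionVars false
set_option maxRecDepth 100000

variable {K : Type*} [Field K] [Fintype K] {q : ℕ} (hq : IsPrimePow q) (hK : Fintype.card K = q ^ 2)

theorem comm_of_param (a : Fin S.m) (d : Fin Cfsg.Lie.chevE6.rank → Kˣ) (hd : (tw hq hK).dmap d = d)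
    (hc : ∀ r, S.PJ a r → CfsgLib.Chev.chevE6.toSys.chi (CfsgLib.Chev.chevE6.coHom K d) r ≠ 1) :
    CfsgLib.Chev.chevE6.US K (S.PJ a) ⊓ (tw hq hK).fix ≤ ⁅twistedE6 K q, twistedE6 K q⁆ := by
  refine (gen hq hK).root_le_comm a (c := CfsgLib.Chev.chevE6.coHom K d) ?_ hc
  rw [eq_fix hq hK]
  exact ⟨CfsgLib.Chev.chevE6.H_le_group (Tw.tor_mem_H d), by
    show (tw hq hK).app (Tw.tor (Φ := CfsgLib.Chev.chevE6) d) = Tw.tor (Φ := CfsgLib.Chev.chevE6) d
    rw [Tw.app_tor, hd]⟩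

theorem chi_p (d : Fin Cfsg.Lie.chevE6.rank → Kˣ) (j : Fin Cfsg.Lie.chevE6.rank) :
    CfsgLib.Chev.chevE6.toSys.chi (CfsgLib.Chev.chevE6.coHom K d) (CfsgLib.Chev.chevE6.p j) = ∏ k, d k ^ Cfsg.Lie.chevE6.cartan k.val (Cfsg.Lie.chevE6.simple j.val) := by
  rw [CfsgLib.Chev.chevE6.toSys.chi_simple]
  show ∏ k, d k ^ CfsgLib.Chev.chevE6.A k (CfsgLib.Chev.chevE6.p j) = _
  simp only [A_val]

theorem chi_single (i j : Fin Cfsg.Lie.chevE6.rank) (u : Kˣ) :
    CfsgLib.Chev.chevE6.toSys.chi (CfsgLib.Chev.chevE6.coHom K (Pi.mulSingle i u)) (CfsgLib.Chev.chevE6.p j) = u ^ Cfsg.Lie.chevE6.cartan i.val (Cfsg.Lie.chevE6.simple j.val) := by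
  rw [chi_p, Finset.prod_eq_single i (fun k _ hk => by rw [Pi.mulSingle_eq_of_ne hk, _root_.one_zpow]) (by simp),
    Pi.mulSingle_eq_same]

theorem ix_ne {a b : ℕ} (ha : a < Cfsg.Lie.chevE6.rank) (hb : b < Cfsg.Lie.chevE6.rank) (h : a ≠ b) : ix a ha ≠ ix b hb :=
  fun e => h (congrArg Fin.val e)

include hq hK in
theorem exists_ne_one : ∃ u : Kˣ, u ≠ 1 := by
  classical
  have : 1 < Fintype.card Kˣ := by
    rw [Fintype.card_units, hK]
    have h4 : 2 ^ 2 ≤ q ^ 2 := Nat.pow_le_pow_left hq.one_lt 2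
    omega
  exact Fintype.exists_ne_of_one_lt_card this 1

theorem root_comm_two (a : Fin S.m) (i j k l : Fin Cfsg.Lie.chevE6.rank) (ho : Tw.Two (S := S) a i j)
    (hk : S.τ k = l) (hl : S.τ l = k) (hkl : k ≠ l) (h1 : Cfsg.Lie.chevE6.cartan k.val (Cfsg.Lie.chevE6.simple i.val) = -1)
    (h2 : Cfsg.Lie.chevE6.cartan l.val (Cfsg.Lie.chevE6.simple i.val) = 0) (h3 : Cfsg.Lie.chevE6.cartan k.val (Cfsg.Lie.chevE6.simple j.val) = 0)
    (h4 : Cfsg.Lie.chevE6.cartan l.val (Cfsg.Lie.chevE6.simple j.val) = -1) :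
    CfsgLib.Chev.chevE6.US K (S.PJ a) ⊓ (tw hq hK).fix ≤ ⁅twistedE6 K q, twistedE6 K q⁆ := by
  obtain ⟨u, hu⟩ := exists_ne_one hq hK
  have huq : u ^ q ≠ 1 := fun e => hu (by
    have : (u ^ q) ^ q = u := Units.ext (by
      rw [Units.val_pow_eq_pow_val, Units.val_pow_eq_pow_val]; exact pow_q_q hK _)
    rw [← this, e, one_pow])
  refine comm_of_param hq hK a (Pi.mulSingle k u * Pi.mulSingle l (u ^ q)) ?_ ?_
  · funext x
    rw [dmap_apply, Pi.mul_apply, Pi.mul_apply]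
    by_cases hxk : x = k
    · subst hxk
      rw [hk, Pi.mulSingle_eq_of_ne (Ne.symm hkl), Pi.mulSingle_eq_same, one_mul, Pi.mulSingle_eq_same,
        Pi.mulSingle_eq_of_ne hkl, mul_one]
      exact Units.ext (by rw [Units.val_pow_eq_pow_val, Units.val_pow_eq_pow_val]; exact pow_q_q hK _)
    by_cases hxl : x = l
    · subst hxl
      rw [hl, Pi.mulSingle_eq_of_ne hkl, Pi.mulSingle_eq_same, mul_one, Pi.mulSingle_eq_same,
        Pi.mulSingle_eq_of_ne hxk, one_mul]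
    · have e1 : S.τ x ≠ k := fun e => hxl (by rw [← hk, ← e, tau_tau])
      have e2 : S.τ x ≠ l := fun e => hxk (by rw [← hl, ← e, tau_tau])
      simp [Pi.mulSingle_eq_of_ne hxk, Pi.mulSingle_eq_of_ne hxl, Pi.mulSingle_eq_of_ne e1,
        Pi.mulSingle_eq_of_ne e2]
  · intro r hr
    rcases ho.hPJ r hr with rfl | rfl <;>
      rw [map_mul, CfsgLib.Chev.chevE6.toSys.chi_mul, chi_single, chi_single]
    · rw [h1, h2, _root_.zpow_zero, mul_one, _root_.zpow_neg_one, ne_eq, inv_eq_one]; exact hu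
    · rw [h3, h4, _root_.zpow_zero, one_mul, _root_.zpow_neg_one, ne_eq, inv_eq_one]; exact huq

theorem root_comm_one_large (hq2 : 2 < q) (a : Fin S.m) (i k : Fin Cfsg.Lie.chevE6.rank) (ho : Tw.One (S := S) a i)
    (hk : S.τ k = k) (h1 : Cfsg.Lie.chevE6.cartan k.val (Cfsg.Lie.chevE6.simple i.val) = -1) :
    CfsgLib.Chev.chevE6.US K (S.PJ a) ⊓ (tw hq hK).fix ≤ ⁅twistedE6 K q, twistedE6 K q⁆ := by
  classical
  obtain ⟨⟨u, hu⟩, hu1⟩ : ∃ u : {u : Kˣ // u ^ q = u}, u ≠ ⟨1, one_pow q⟩ := by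
    refine Fintype.exists_ne_of_one_lt_card ?_ _
    rw [← Nat.card_eq_fintype_card, card_units_pow_eq_self hq.one_lt hK]
    omega
  refine comm_of_param hq hK a (Pi.mulSingle k u) ?_ ?_
  · funext x
    rw [dmap_apply]
    by_cases hx : x = k
    · subst hx; rw [hk, Pi.mulSingle_eq_same, hu]
    · have : S.τ x ≠ k := fun e => hx (by rw [← hk, ← e, tau_tau])
      simp [Pi.mulSingle_eq_of_ne hx, Pi.mulSingle_eq_of_ne this]
  · intro r hr
    rw [ho.hPJ r hr, chi_single, h1, _root_.zpow_neg_one, ne_eq, inv_eq_one]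
    exact fun e => hu1 (Subtype.ext e)

theorem swap_rel (hc2 : (2 : K) = 0) {r s t : ℕ} (hr : r < Cfsg.Lie.chevE6.nroots) (hs : s < Cfsg.Lie.chevE6.nroots) (ht : t < Cfsg.Lie.chevE6.nroots)
    (hne : s ≠ r) (hneg : s ≠ Cfsg.Lie.chevE6.neg r) (c : ℤ) (hc : c = 1 ∨ c = -1)
    (h : Cfsg.Lie.chevE6.commTerms r s = [(t, c, 1, 1)]) (x y : K) :
    CfsgLib.Chev.chevE6.toAlg.xg ⟨s, hs⟩ y * CfsgLib.Chev.chevE6.toAlg.xg ⟨r, hr⟩ x =
      CfsgLib.Chev.chevE6.toAlg.xg ⟨r, hr⟩ x * CfsgLib.Chev.chevE6.toAlg.xg ⟨s, hs⟩ y * CfsgLib.Chev.chevE6.toAlg.xg ⟨t, ht⟩ (x * y) := by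
  have hn : ∀ z : K, -z = z := fun z => by
    rw [neg_eq_iff_add_eq_zero, ← two_mul, hc2, zero_mul]
  have hcK : (c : K) = 1 := by rcases hc with rfl | rfl <;> simp [hn]
  refine Units.ext ?_
  have := CfsgLib.Chev.chevE6.commutator_formula (r := ⟨r, hr⟩) (s := ⟨s, hs⟩) (R := K)
    (fun e => hne (congrArg Fin.val e)) (fun e => hneg ((congrArg Fin.val e).trans (CfsgLib.Chev.chevE6.negIdx_eq _).symm)) x y
  simp only [Units.val_mul, Alg.xg_val]
  rw [this, h]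
  simp [Sys.termProd, Sys.XN, ht, hcK, hn]

include hq hK in
theorem x44_mem (h2q : q = 2) (h : (44 : ℕ) < Cfsg.Lie.chevE6.nroots) :
    CfsgLib.Chev.chevE6.toAlg.xg ⟨44, h⟩ (1 : K) ∈ ⁅twistedE6 K q, twistedE6 K q⁆ := by
  classical
  subst h2q
  haveI := Fact.mk Nat.prime_two
  haveI : CharP K 2 := charP_of_card_eq_prime_pow (f := 2) hK
  have hc2 : (2 : K) = 0 := CharP.cast_eq_zero K 2
  have hn : ∀ z : K, -z = z := fun z => CharTwo.neg_eq z
  obtain ⟨b0, hb0⟩ := exists_ne_one hq hK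
  set b : K := (b0 : K) with hbd
  have hb : b ^ 2 + b = 1 := by
    have h3 : b0 ^ 3 = 1 := by
      have := pow_card_eq_one (x := b0)
      rwa [Fintype.card_units, hK] at this
    have h3' : b ^ 3 = 1 := by rw [hbd, ← Units.val_pow_eq_pow_val, h3, Units.val_one]
    have : (b - 1) * (b ^ 2 + b + 1) = 0 := by linear_combination h3'
    rcases mul_eq_zero.mp this with h1 | h1
    · exact absurd (Units.ext (sub_eq_zero.mp h1)) hb0
    · rw [← sub_eq_zero]; linear_combination h1 - hc2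
  have l42 : (42 : ℕ) < Cfsg.Lie.chevE6.nroots := by decide
  have l37 : (37 : ℕ) < Cfsg.Lie.chevE6.nroots := by decide
  have l43 : (43 : ℕ) < Cfsg.Lie.chevE6.nroots := by decide
  have l40 : (40 : ℕ) < Cfsg.Lie.chevE6.nroots := by decide
  set A := fun x : K => CfsgLib.Chev.chevE6.toAlg.xg ⟨42, l42⟩ x
  set A' := fun x : K => CfsgLib.Chev.chevE6.toAlg.xg ⟨37, l37⟩ x
  set B := fun x : K => CfsgLib.Chev.chevE6.toAlg.xg ⟨43, l43⟩ x
  set B' := fun x : K => CfsgLib.Chev.chevE6.toAlg.xg ⟨40, l40⟩ x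
  set C := fun x : K => CfsgLib.Chev.chevE6.toAlg.xg ⟨44, h⟩ x
  have r1 : ∀ x y, B' y * A x = A x * B' y * C (x * y) := fun x y =>
    swap_rel hc2 l42 l40 h (by decide) (by decide +kernel) (-1) (Or.inr rfl) (by decide +kernel) x y
  have r2 : ∀ x y, B y * A' x = A' x * B y * C (x * y) := fun x y =>
    swap_rel hc2 l37 l43 h (by decide) (by decide +kernel) 1 (Or.inl rfl) (by decide +kernel) x y
  have cm : ∀ {r s : ℕ} (hr : r < Cfsg.Lie.chevE6.nroots) (hs : s < Cfsg.Lie.chevE6.nroots), s ≠ Cfsg.Lie.chevE6.neg r →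
      (Cfsg.Lie.chevE6.chainEntry r s).isEmpty = true → ∀ x y : K,
      Commute (CfsgLib.Chev.chevE6.toAlg.xg ⟨r, hr⟩ x) (CfsgLib.Chev.chevE6.toAlg.xg ⟨s, hs⟩ y) := fun {r s} hr hs hneg hN x y =>
    CfsgLib.Chev.chevE6.xg_commute_of (fun e => hneg ((congrArg Fin.val e).trans (CfsgLib.Chev.chevE6.negIdx_eq _).symm))
      (CfsgLib.Chev.chevE6.N_eq_zero_of_check hN) x y
  set v := A b * A' (b ^ 2)
  set u := B 1 * B' 1
  have key : u * v = v * u * C 1 := by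
    have c1 : Commute (B' (1 : K)) (A' (b ^ 2)) := cm l40 l37 (by decide +kernel) (by decide +kernel) _ _
    have c2 : Commute (B (1 : K)) (A b) := cm l43 l42 (by decide +kernel) (by decide +kernel) _ _
    have c3 : Commute (C b) (A' (b ^ 2)) := cm h l37 (by decide +kernel) (by decide +kernel) _ _
    have c4 : Commute (B' (1 : K)) (C (b ^ 2)) := cm l40 h (by decide +kernel) (by decide +kernel) _ _
    calc u * v = B 1 * (B' 1 * A b) * A' (b ^ 2) := by simp only [u, v, mul_assoc]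
      _ = B 1 * A b * (B' 1 * (C b * A' (b ^ 2))) := by rw [r1, mul_one]; simp only [mul_assoc]
      _ = A b * (B 1 * A' (b ^ 2)) * B' 1 * C b := by
          rw [c2.eq, c3.eq, ← mul_assoc (B' 1), c1.eq]; simp only [mul_assoc]
      _ = v * B 1 * (C (b ^ 2) * B' 1) * C b := by rw [r2, mul_one]; simp only [v, mul_assoc]
      _ = v * u * (C (b ^ 2) * C b) := by rw [← c4.eq]; simp only [u, mul_assoc]
      _ = v * u * C 1 := by
          simp only [C]
          rw [← CfsgLib.Chev.chevE6.toAlg.xg_add, hb]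
  have hv : v ∈ twistedE6 K 2 := by
    have := (two_gen (q := 2) (ix 2) (ix 4) (Or.inr ⟨rfl, rfl⟩) b).1
    rw [← p_eq (n := 42) l42 (ix 2) (by decide +kernel), ← p_eq (n := 37) l37 (ix 4) (by decide +kernel)] at this
    exact this
  have hu : u ∈ twistedE6 K 2 := by
    rw [eq_fix hq hK]
    refine ⟨mul_mem (CfsgLib.Chev.chevE6.toAlg.xg_mem_group _ _) (CfsgLib.Chev.chevE6.toAlg.xg_mem_group _ _), ?_⟩
    simp only [u, B, B']
    rw [Tw.app_mul _ (CfsgLib.Chev.chevE6.toAlg.xg_mem_group _ _) (CfsgLib.Chev.chevE6.toAlg.xg_mem_group _ _), Tw.app_xg, Tw.app_xg]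
    have e : ∀ r : Fin Cfsg.Lie.chevE6.nroots, (((tw hq hK).ε r : ℤ) : K) * (1 : K) ^ (tw hq hK).k r = 1 := fun r => by
      rw [one_pow, mul_one]
      have he : (tw hq hK).ε r = morE6.e r.val := rfl
      rcases (check_root checkMorE6 r.isLt).2.2.1 with h | h <;> simp [he, h, hn]
    rw [e, e, show S.ρ ⟨43, l43⟩ = ⟨40, l40⟩ from Fin.ext rfl, show S.ρ ⟨40, l40⟩ = ⟨43, l43⟩ from Fin.ext rfl]
    exact (cm l40 l43 (by decide +kernel) (by decide +kernel) _ _).eq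
  have e : C 1 = ⁅u⁻¹, v⁻¹⁆ := by
    rw [commutatorElement_def, inv_inv, inv_inv, mul_assoc (u⁻¹ * v⁻¹), key]; group
  show C 1 ∈ _
  rw [e]
  exact Subgroup.commutator_mem_commutator (inv_mem hu) (inv_mem hv)

theorem root_comm_one_two (h2q : q = 2) (a : Fin S.m) (i : Fin Cfsg.Lie.chevE6.rank) (ho : Tw.One (S := S) a i)
    {π : Equiv.Perm (Fin Cfsg.Lie.chevE6.nroots)} (hπ : π ∈ S.W1) {h : (44 : ℕ) < Cfsg.Lie.chevE6.nroots} (he : π ⟨44, h⟩ = CfsgLib.Chev.chevE6.p i) :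
    CfsgLib.Chev.chevE6.US K (S.PJ a) ⊓ (tw hq hK).fix ≤ ⁅twistedE6 K q, twistedE6 K q⁆ := by
  obtain ⟨n, hn1, hn2, hn3⟩ := (gen hq hK).exists_nW1 hπ
  have hx := x44_mem hq hK h2q h
  have hle : ⁅twistedE6 K q, twistedE6 K q⁆ ≤ twistedE6 K q := Subgroup.commutator_le.mpr fun g hg k hk => by
    rw [commutatorElement_def]
    exact mul_mem (mul_mem (mul_mem hg hk) (inv_mem hg)) (inv_mem hk)
  have hy : n * CfsgLib.Chev.chevE6.toAlg.xg ⟨44, h⟩ (1 : K) * n⁻¹ ∈ ⁅twistedE6 K q, twistedE6 K q⁆ := by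
    rw [show n * CfsgLib.Chev.chevE6.toAlg.xg ⟨44, h⟩ (1 : K) * n⁻¹ = ⁅n, CfsgLib.Chev.chevE6.toAlg.xg ⟨44, h⟩ (1 : K)⁆ * CfsgLib.Chev.chevE6.toAlg.xg ⟨44, h⟩ (1 : K) by
      rw [commutatorElement_def]; group]
    exact mul_mem (Subgroup.commutator_mem_commutator hn1 (hle hx)) hx
  obtain ⟨c, hc0, hc, -⟩ := hn3.1 ⟨44, h⟩
  rw [hc 1, he, mul_one] at hy
  intro g hg
  obtain ⟨x, hx', rfl⟩ := ho.fix_iff.mp hg
  have hfix : c ^ (tw hq hK).k (CfsgLib.Chev.chevE6.p i) = c := by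
    have := ((gen hq hK).le_fix (hle hy)).2
    rw [Tw.app_p, ho.tau] at this
    exact CfsgLib.Chev.chevE6.toAlg.xg_injective _ this
  rw [k_p] at hx' hfix
  subst h2q
  have hone : ∀ z : K, z ^ 2 = z → z = 0 ∨ z = 1 := fun z hz => by
    have : z * (z - 1) = 0 := by linear_combination hz
    simpa [sub_eq_zero] using mul_eq_zero.mp this
  rcases hone x hx' with rfl | rfl
  · rw [Alg.xg_zero]; exact one_mem _
  · rwa [(hone c hfix).resolve_left hc0] at hy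

theorem root_comm (a : Fin S.m) : CfsgLib.Chev.chevE6.US K (S.PJ a) ⊓ (tw hq hK).fix ≤ ⁅twistedE6 K q, twistedE6 K q⁆ := by
  have h44 : (44 : ℕ) < Cfsg.Lie.chevE6.nroots := by decide
  match a with
  | ⟨0, _⟩ =>
    rcases Nat.lt_or_ge 2 q with h | h
    · exact root_comm_one_large hq hK h _ _ (ix 3) orb0 (Fin.ext rfl) (by decide +kernel)
    · refine root_comm_one_two hq hK (le_antisymm h hq.one_lt) _ _ orb0 (h := h44)
        (mul_mem (mul_mem (S.w_mem_W1 (ox 1)) (S.w_mem_W1 (ox 0))) (S.w_mem_W1 (ox 2))) ?_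
      refine Fin.ext ?_
      show (CfsgLib.Chev.chevE6.wPerm symE6 1 (CfsgLib.Chev.chevE6.wPerm symE6 0 (CfsgLib.Chev.chevE6.wPerm symE6 2 ⟨44, h44⟩))).val = _
      rw [← symOKE6.wEval_eq (by decide), ← symOKE6.wEval_eq (by decide), ← symOKE6.wEval_eq (by decide), p_val]
      show symE6.wEval 1 (symE6.wEval 0 (symE6.wEval 2 44)) = Cfsg.Lie.chevE6.simple 1
      decide +kernel
  | ⟨1, _⟩ =>
    rcases Nat.lt_or_ge 2 q with h | h
    · exact root_comm_one_large hq hK h _ _ (ix 1) orb1 (Fin.ext rfl) (by decide +kernel)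
    · refine root_comm_one_two hq hK (le_antisymm h hq.one_lt) _ _ orb1 (h := h44) (S.w_mem_W1 (ox 2)) ?_
      refine Fin.ext ?_
      show (CfsgLib.Chev.chevE6.wPerm symE6 2 ⟨44, h44⟩).val = _
      rw [← symOKE6.wEval_eq (by decide), p_val]
      show symE6.wEval 2 44 = Cfsg.Lie.chevE6.simple 3
      decide +kernel
  | ⟨2, _⟩ =>
    exact root_comm_two hq hK _ _ _ (ix 0) (ix 5) orb2 (Fin.ext rfl) (Fin.ext rfl)
      (ix_ne _ _ (by decide)) (by decide +kernel) (by decide +kernel) (by decide +kernel) (by decide +kernel)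
  | ⟨3, _⟩ =>
    exact root_comm_two hq hK _ _ _ (ix 2) (ix 4) orb3 (Fin.ext rfl) (Fin.ext rfl)
      (ix_ne _ _ (by decide)) (by decide +kernel) (by decide +kernel) (by decide +kernel) (by decide +kernel)

include hq hK in
theorem perfect : commutator ↥(twistedE6 K q) = ⊤ :=
  (gen hq hK).perfect twisted_eq (fun g hg => (gens_fix hq hK hg).2) (root_comm hq hK)

theorem conn : ∀ A : Set (Fin S.m), A.Nonempty → Aᶜ.Nonempty →
    ∃ a ∈ A, ∃ b ∈ Aᶜ, S.w a * S.w b ≠ S.w b * S.w a := by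
  classical
  intro A h1 h2
  by_contra hc
  push Not at hc
  have hne : ∀ a b : Fin S.m, a.val + 1 = b.val → S.w a * S.w b ≠ S.w b * S.w a := by
    intro a b hab e
    have hd : ∀ a b : Fin 4, a.val + 1 = b.val → ∃ r : Fin Cfsg.Lie.chevE6.nroots,
        symE6.wEval a.val (symE6.wEval b.val r.val) ≠ symE6.wEval b.val (symE6.wEval a.val r.val) := by
      decide +kernel
    obtain ⟨r, hr⟩ := hd a b hab
    refine hr ?_
    rw [symOKE6.wEval_eq (Φ := CfsgLib.Chev.chevE6) (a := b.val) b.isLt r, symOKE6.wEval_eq (Φ := CfsgLib.Chev.chevE6) (a := a.val) a.isLt,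
      symOKE6.wEval_eq (Φ := CfsgLib.Chev.chevE6) (a := a.val) a.isLt r, symOKE6.wEval_eq (Φ := CfsgLib.Chev.chevE6) (a := b.val) b.isLt]
    exact congrArg Fin.val (Equiv.ext_iff.mp e r)
  have step : ∀ a b : Fin S.m, a.val + 1 = b.val → (a ∈ A ↔ b ∈ A) := fun a b hab =>
    ⟨fun ha => by_contra fun hb => hne a b hab (hc a ha b hb),
      fun hb => by_contra fun ha => hne a b hab (hc b hb a ha).symm⟩
  have all : ∀ (n : ℕ) (hn : n < S.m), (⟨n, hn⟩ : Fin S.m) ∈ A ↔ (⟨0, by decide⟩ : Fin S.m) ∈ A := by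
    intro n
    induction n with
    | zero => intro hn; exact Iff.rfl
    | succ n ih =>
      intro hn
      exact (step ⟨n, by omega⟩ ⟨n + 1, hn⟩ rfl).symm.trans (ih (by omega))
  obtain ⟨x, hx⟩ := h1
  obtain ⟨y, hy⟩ := h2
  exact hy ((all y.val y.isLt).mpr ((all x.val x.isLt).mp hx))

include hq hK in
theorem simple : IsSimpleGroup ↥(twistedE6 K q) ∧ ¬ IsMulCommutative ↥(twistedE6 K q) :=
  (gen hq hK).simple (wit hq hK) (by decide) conn (perfect hq hK)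

end CfsgLib.Chev.T2E6
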