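/-
Three classes of subgroups F₄(2) of the twisted group of type E₆ over the field of four elements.
-/
import Cfsg.Agent.Lib.Chev.Twist.AutE6
import Cfsg.Agent.Lib.Chev.FoldE6
import Cfsg.Agent.Lib.Chev.FieldFixed

namespace CfsgLib.Chev.E6F4

open Cfsg.Lie Matrix Chev T2E6

set_option autoImplicit false
set_option linter.dupNamespace false
set_option linter.unusedSectionVars false
set_option maxRecDepth 100000
set_option maxHeartbeats 800000

/-- Change of coefficients. -/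
noncomputable def bc {F K : Type*} [Field F] [Field K] (f : F →+* K) :
    GL Cfsg.Lie.chevE6.Idx F →* GL Cfsg.Lie.chevE6.Idx K :=
  Units.map f.mapMatrix.toMonoidHom

theorem bc_xg {F K : Type*} [Field F] [Field K] (f : F →+* K) (r : Fin Cfsg.Lie.chevE6.nroots) (t : F) :
    bc f (CfsgLib.Chev.chevE6.toAlg.xg r t) = CfsgLib.Chev.chevE6.toAlg.xg r (f t) :=
  Units.ext (CfsgLib.Chev.chevE6.toSys.X_map f r t)

theorem bc_injective {F K : Type*} [Field F] [Field K] (f : F →+* K) : Function.Injective (bc f) :=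
  fun _ _ h => Units.ext (Matrix.map_injective f.injective (congrArg Units.val h))

theorem torus_conj_US {K : Type*} [Field K] [Fintype K] {P : Fin Cfsg.Lie.chevE6.nroots → Prop}
    (c : Fin Cfsg.Lie.chevE6.rank → Kˣ) {g : GL Cfsg.Lie.chevE6.Idx K} (hg : g ∈ CfsgLib.Chev.chevE6.US K P) :
    CfsgLib.Chev.chevE6.toAlg.torus c * g * (CfsgLib.Chev.chevE6.toAlg.torus c)⁻¹ ∈ CfsgLib.Chev.chevE6.US K P := by
  have := map_US (τ := RingHom.id K) hg c
  have e : Units.map (RingHom.id K).mapMatrix.toMonoidHom g = g := Units.ext (by ext i j; rfl)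
  rwa [e] at this

section

variable {K : Type*} [Field K] [Fintype K] [CharP K 2] (hK : Fintype.card K = 2 ^ 2)

/-- The subgroup over the prime field, inside the large linear group. -/
noncomputable def H0 (K : Type*) [Field K] [CharP K 2] : Subgroup (GL Cfsg.Lie.chevE6.Idx K) :=
  ((FoldE6.tw (ZMod 2)).fix).map (bc (ZMod.castHom (dvd_refl 2) K))

include hK in
theorem H0_le : H0 K ≤ twistedE6 K 2 := by
  have : Fact (Nat.Prime 2) := ⟨Nat.prime_two⟩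
  let f := ZMod.castHom (dvd_refl 2) K
  have hfix : ∀ c : ZMod 2, f c ^ 2 = f c := fun c => by rw [← map_pow, ZMod.pow_card]
  let G1 := (FoldE6.tw (ZMod 2)).fix ⊓ (twistedE6 K 2).comap (bc f)
  have h1 : ∀ (i : Fin Cfsg.Lie.chevE6.rank) (a : Fin T2E6.S.m), Tw.One (S := T2E6.S) a i →
      (i = ix 1 ∨ i = ix 3) → ∀ c : ZMod 2, CfsgLib.Chev.chevE6.toAlg.xg (CfsgLib.Chev.chevE6.p i) c ∈ G1 ∧ CfsgLib.Chev.chevE6.toAlg.xg (CfsgLib.Chev.chevE6.p i).rev c ∈ G1 := by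
    intro i a ho hi c
    have hc : c ^ (FoldE6.tw (ZMod 2)).k (CfsgLib.Chev.chevE6.p i) = c := by rw [FoldE6.k_p, pow_one]
    refine ⟨⟨(ho.app hc).1, ?_⟩, ⟨(ho.app hc).2, ?_⟩⟩
    · show bc f _ ∈ twistedE6 K 2
      rw [bc_xg]; exact (one_gen i hi (hfix c)).1
    · show bc f _ ∈ twistedE6 K 2
      rw [bc_xg]; exact (one_gen i hi (hfix c)).2
  have h2 : ∀ (i j : Fin Cfsg.Lie.chevE6.rank) (a : Fin T2E6.S.m), Tw.Two (S := T2E6.S) a i j →
      ((i = ix 0 ∧ j = ix 5) ∨ (i = ix 2 ∧ j = ix 4)) → ∀ x y : ZMod 2,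
      x ^ (FoldE6.tw (ZMod 2)).k (CfsgLib.Chev.chevE6.p i) = y →
      Tw.X2 CfsgLib.Chev.chevE6 (CfsgLib.Chev.chevE6.p i) (CfsgLib.Chev.chevE6.p j) x y ∈ G1 ∧ Tw.X2 CfsgLib.Chev.chevE6 (CfsgLib.Chev.chevE6.p i).rev (CfsgLib.Chev.chevE6.p j).rev x y ∈ G1 := by
    intro i j a ho hij x y hx
    rw [FoldE6.k_p, pow_one] at hx
    subst hx
    have hx' : ∀ l, x ^ (FoldE6.tw (ZMod 2)).k (CfsgLib.Chev.chevE6.p l) = x := fun l => by rw [FoldE6.k_p, pow_one]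
    have e := two_gen (K := K) (q := 2) i j hij (f x)
    rw [hfix] at e
    refine ⟨⟨(ho.app (hx' i) (hx' j)).1, ?_⟩, ⟨(ho.app (hx' i) (hx' j)).2, ?_⟩⟩
    · show bc f _ ∈ twistedE6 K 2
      rw [Tw.X2, map_mul, bc_xg, bc_xg]; exact e.1
    · show bc f _ ∈ twistedE6 K 2
      rw [Tw.X2, map_mul, bc_xg, bc_xg]; exact e.2
  have hgen : (FoldE6.tw (ZMod 2)).Gen G1 :=
    { le_fix := inf_le_left
      root_le := fun a => by
        match a with
        | ⟨0, _⟩ => exact (orb0.facts (T := FoldE6.tw (ZMod 2)) fun c _ => h1 _ _ orb0 (Or.inl rfl) c).1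
        | ⟨1, _⟩ => exact (orb1.facts (T := FoldE6.tw (ZMod 2)) fun c _ => h1 _ _ orb1 (Or.inr rfl) c).1
        | ⟨2, _⟩ => exact (orb2.facts (T := FoldE6.tw (ZMod 2))
            fun x y hx _ => h2 _ _ _ orb2 (Or.inr ⟨rfl, rfl⟩) x y hx).1
        | ⟨3, _⟩ => exact (orb3.facts (T := FoldE6.tw (ZMod 2))
            fun x y hx _ => h2 _ _ _ orb3 (Or.inl ⟨rfl, rfl⟩) x y hx).1
      exists_n := fun a => by
        match a with
        | ⟨0, _⟩ => exact (orb0.facts (T := FoldE6.tw (ZMod 2)) fun c _ => h1 _ _ orb0 (Or.inl rfl) c).2.1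
        | ⟨1, _⟩ => exact (orb1.facts (T := FoldE6.tw (ZMod 2)) fun c _ => h1 _ _ orb1 (Or.inr rfl) c).2.1
        | ⟨2, _⟩ => exact (orb2.facts (T := FoldE6.tw (ZMod 2))
            fun x y hx _ => h2 _ _ _ orb2 (Or.inr ⟨rfl, rfl⟩) x y hx).2.1
        | ⟨3, _⟩ => exact (orb3.facts (T := FoldE6.tw (ZMod 2))
            fun x y hx _ => h2 _ _ _ orb3 (Or.inl ⟨rfl, rfl⟩) x y hx).2.1
      torus_le := fun a => by
        match a with
        | ⟨0, _⟩ => exact (orb0.facts (T := FoldE6.tw (ZMod 2)) fun c _ => h1 _ _ orb0 (Or.inl rfl) c).2.2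
        | ⟨1, _⟩ => exact (orb1.facts (T := FoldE6.tw (ZMod 2)) fun c _ => h1 _ _ orb1 (Or.inr rfl) c).2.2
        | ⟨2, _⟩ => exact (orb2.facts (T := FoldE6.tw (ZMod 2))
            fun x y hx _ => h2 _ _ _ orb2 (Or.inr ⟨rfl, rfl⟩) x y hx).2.2
        | ⟨3, _⟩ => exact (orb3.facts (T := FoldE6.tw (ZMod 2))
            fun x y hx _ => h2 _ _ _ orb3 (Or.inl ⟨rfl, rfl⟩) x y hx).2.2
      lift := (FoldE6.fold_gen (K := ZMod 2)).lift }
  rintro _ ⟨g, hg, rfl⟩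
  rw [SetLike.mem_coe, ← hgen.eq_fix] at hg
  exact hg.2

theorem H0_one (i : Fin Cfsg.Lie.chevE6.rank) (hi : i = ix 1 ∨ i = ix 3) :
    CfsgLib.Chev.chevE6.toAlg.xg (CfsgLib.Chev.chevE6.p i) (1 : K) ∈ H0 K ∧ CfsgLib.Chev.chevE6.toAlg.xg (CfsgLib.Chev.chevE6.p i).rev (1 : K) ∈ H0 K := by
  have key : ∀ a, Tw.One (S := T2E6.S) a i →
      CfsgLib.Chev.chevE6.toAlg.xg (CfsgLib.Chev.chevE6.p i) (1 : K) ∈ H0 K ∧ CfsgLib.Chev.chevE6.toAlg.xg (CfsgLib.Chev.chevE6.p i).rev (1 : K) ∈ H0 K := fun a ho => by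
    have h := ho.app (T := FoldE6.tw (ZMod 2)) (c := (1 : ZMod 2)) (one_pow _)
    exact ⟨⟨_, h.1, by rw [bc_xg, map_one]⟩, ⟨_, h.2, by rw [bc_xg, map_one]⟩⟩
  rcases hi with rfl | rfl
  · exact key _ orb0
  · exact key _ orb1

theorem H0_two (i j : Fin Cfsg.Lie.chevE6.rank) (hij : (i = ix 0 ∧ j = ix 5) ∨ (i = ix 2 ∧ j = ix 4)) :
    Tw.X2 CfsgLib.Chev.chevE6 (CfsgLib.Chev.chevE6.p i) (CfsgLib.Chev.chevE6.p j) (1 : K) 1 ∈ H0 K ∧ Tw.X2 CfsgLib.Chev.chevE6 (CfsgLib.Chev.chevE6.p i).rev (CfsgLib.Chev.chevE6.p j).rev (1 : K) 1 ∈ H0 K := by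
  have key : ∀ a, Tw.Two (S := T2E6.S) a i j →
      Tw.X2 CfsgLib.Chev.chevE6 (CfsgLib.Chev.chevE6.p i) (CfsgLib.Chev.chevE6.p j) (1 : K) 1 ∈ H0 K ∧
        Tw.X2 CfsgLib.Chev.chevE6 (CfsgLib.Chev.chevE6.p i).rev (CfsgLib.Chev.chevE6.p j).rev (1 : K) 1 ∈ H0 K := fun a ho => by
    have h := ho.app (T := FoldE6.tw (ZMod 2)) (x := (1 : ZMod 2)) (y := 1) (one_pow _) (one_pow _)
    exact ⟨⟨_, h.1, by rw [Tw.X2, map_mul, bc_xg, bc_xg, map_one]; rfl⟩,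
      ⟨_, h.2, by rw [Tw.X2, map_mul, bc_xg, bc_xg, map_one]; rfl⟩⟩
  rcases hij with ⟨rfl, rfl⟩ | ⟨rfl, rfl⟩
  · exact key _ orb3
  · exact key _ orb2

/-- A representative in the small group of each element of the centralised Weyl group. -/
theorem H0_weyl {π : Equiv.Perm (Fin Cfsg.Lie.chevE6.nroots)} (hπ : π ∈ T2E6.S.W1) :
    ∃ n ∈ H0 K, n ∈ Cfsg.Lie.chevE6.monomialSubgroup K ∧ CfsgLib.Chev.chevE6.Mono n π := by
  have hneg : -(1 : K)⁻¹ = 1 := by simp [CharTwo.neg_eq]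
  have hs : ∀ a : Fin T2E6.S.m, ∃ n ∈ H0 K, n ∈ Cfsg.Lie.chevE6.monomialSubgroup K ∧ CfsgLib.Chev.chevE6.Mono n (T2E6.S.w a) := by
    intro a
    have one : ∀ i, Tw.One (S := T2E6.S) a i → (i = ix 1 ∨ i = ix 3) → _ := fun i ho hi => by
      obtain ⟨hp, hm⟩ := H0_one (K := K) i hi
      refine (⟨CfsgLib.Chev.chevE6.nw (CfsgLib.Chev.chevE6.p i) 1, ?_, CfsgLib.Chev.chevE6.nw_mem_N _ _, by rw [ho.hw]; exact Tw.mono_nw CfsgLib.Chev.chevE6 i 1⟩ :
        ∃ n ∈ H0 K, n ∈ Cfsg.Lie.chevE6.monomialSubgroup K ∧ CfsgLib.Chev.chevE6.Mono n (T2E6.S.w a))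
      simp only [Chev.nw, Units.val_one, hneg]
      exact mul_mem (mul_mem hp hm) hp
    have two : ∀ i j, Tw.Two (S := T2E6.S) a i j → ((i = ix 0 ∧ j = ix 5) ∨ (i = ix 2 ∧ j = ix 4)) → _ :=
      fun i j ho hij => by
      obtain ⟨hp, hm⟩ := H0_two (K := K) i j hij
      refine (⟨CfsgLib.Chev.chevE6.nw (CfsgLib.Chev.chevE6.p i) 1 * CfsgLib.Chev.chevE6.nw (CfsgLib.Chev.chevE6.p j) 1, ?_, mul_mem (CfsgLib.Chev.chevE6.nw_mem_N _ _) (CfsgLib.Chev.chevE6.nw_mem_N _ _),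
        by rw [ho.hw]; exact Mono.mul CfsgLib.Chev.chevE6 (Tw.mono_nw CfsgLib.Chev.chevE6 i 1) (Tw.mono_nw CfsgLib.Chev.chevE6 j 1)⟩ :
        ∃ n ∈ H0 K, n ∈ Cfsg.Lie.chevE6.monomialSubgroup K ∧ CfsgLib.Chev.chevE6.Mono n (T2E6.S.w a))
      rw [← CfsgLib.Chev.chevE6.nw_pair ho.orth]
      simp only [Units.val_one, hneg]
      exact mul_mem (mul_mem hp hm) hp
    rcases ox_cases a with rfl | rfl | rfl | rfl
    · exact one _ orb0 (Or.inl rfl)
    · exact one _ orb1 (Or.inr rfl)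
    · exact two _ _ orb2 (Or.inr ⟨rfl, rfl⟩)
    · exact two _ _ orb3 (Or.inl ⟨rfl, rfl⟩)
  refine T2E6.S.W1_induction (Q := fun π => ∃ n ∈ H0 K, n ∈ Cfsg.Lie.chevE6.monomialSubgroup K ∧ CfsgLib.Chev.chevE6.Mono n π)
    ⟨1, one_mem _, one_mem _, Mono.one CfsgLib.Chev.chevE6⟩ (fun π _ a _ ih => ?_) hπ
  obtain ⟨m, hm1, hm2, hm3⟩ := hs a
  obtain ⟨n, hn1, hn2, hn3⟩ := ih
  refine ⟨n * m, mul_mem hn1 hm1, mul_mem hn2 hm2, ?_⟩
  have := Mono.mul CfsgLib.Chev.chevE6 hn3 hm3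
  rwa [mul_assoc, T2E6.S.w_w, mul_one] at this

variable (hq : IsPrimePow 2)

include hK hq in
theorem exists_root (a : Fin T2E6.S.m) : ∃ x ∈ H0 K, x ∈ CfsgLib.Chev.chevE6.US K (T2E6.S.PJ a) ∧ x ≠ 1 := by
  rcases ox_cases a with rfl | rfl | rfl | rfl
  · exact ⟨_, (H0_one _ (Or.inl rfl)).1, CfsgLib.Chev.chevE6.xg_mem_US (T2E6.S.p_mem_PJ orb0.mem) _,
      fun e => one_ne_zero ((Alg.xg_eq_one_iff _).mp e)⟩
  · exact ⟨_, (H0_one _ (Or.inr rfl)).1, CfsgLib.Chev.chevE6.xg_mem_US (T2E6.S.p_mem_PJ orb1.mem) _,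
      fun e => one_ne_zero ((Alg.xg_eq_one_iff _).mp e)⟩
  · refine ⟨_, (H0_two _ _ (Or.inr ⟨rfl, rfl⟩)).1,
      mul_mem (CfsgLib.Chev.chevE6.xg_mem_US (T2E6.S.p_mem_PJ orb2.mem.1) _) (CfsgLib.Chev.chevE6.xg_mem_US (T2E6.S.p_mem_PJ orb2.mem.2) _),
      fun e => ?_⟩
    have h : (X2 (1 : K) : twistedE6 K 2) = X2 0 := by
      rw [(coord2 hq hK).zeroX]
      refine Subtype.ext ?_
      simp only [X2, one_pow]
      exact e
    exact one_ne_zero ((coord2 hq hK).injX h)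
  · refine ⟨_, (H0_two _ _ (Or.inl ⟨rfl, rfl⟩)).1,
      mul_mem (CfsgLib.Chev.chevE6.xg_mem_US (T2E6.S.p_mem_PJ orb3.mem.1) _) (CfsgLib.Chev.chevE6.xg_mem_US (T2E6.S.p_mem_PJ orb3.mem.2) _),
      fun e => ?_⟩
    have h : (X3 (1 : K) : twistedE6 K 2) = X3 0 := by
      rw [(coord3 hq hK).zeroX]
      refine Subtype.ext ?_
      simp only [X3, one_pow]
      exact e
    exact one_ne_zero ((coord3 hq hK).injX h)

/-- An automorphism of the form inner times diagonal that fixes the small group is inner. -/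
theorem mem_range_of_fix (g : twistedE6 K 2) (c : (tw hq hK).stableParam)
    (h : ∀ z : twistedE6 K 2, (z : GL Cfsg.Lie.chevE6.Idx K) ∈ H0 K → g * dAut hq hK c z * g⁻¹ = z) :
    c ∈ (coH hq hK).range := by
  set t := CfsgLib.Chev.chevE6.toAlg.torus c.1 with ht
  set G := (g : GL Cfsg.Lie.chevE6.Idx K) with hG
  have hc : ∀ z ∈ H0 K, G * (t * z * t⁻¹) * G⁻¹ = z := fun z hz =>
    congrArg Subtype.val (h ⟨z, H0_le hK hz⟩ hz)
  -- the Borel subgroup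
  have hB : G ∈ Cfsg.Lie.chevE6.borelSubgroup K := by
    obtain ⟨π, hπ, hb⟩ := (T2E6.gen hq hK).bruhat ((T2E6.gen hq hK).le_fix g.2)
    obtain ⟨m, hm1, hm2, hm3⟩ := (T2E6.gen hq hK).exists_nW1 hπ
    obtain ⟨b, ⟨hb1, -⟩, u, hu, e⟩ := hb m hm1 hm2 hm3
    by_cases h1 : π = 1
    · subst h1
      rw [hG, e]
      exact mul_mem (mul_mem hb1 (Subgroup.mem_sup_right ((CfsgLib.Chev.chevE6.mem_H_iff_mono_one hm2).mpr hm3)))
        (CfsgLib.Chev.chevE6.inv_le_B 1 hu.1)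
    exfalso
    obtain ⟨a, ha⟩ := T2E6.S.exists_descent hπ h1
    obtain ⟨x, hx0, hx, hx1⟩ := exists_root hK hq a
    have hxU : x ∈ Cfsg.Lie.chevE6.posUnipotent K := by
      rw [CfsgLib.Chev.chevE6.posUnipotent_eq_US]; exact CfsgLib.Chev.chevE6.US_mono (fun r hr => hr.1) hx
    have h2 : b⁻¹ * x * b⁻¹⁻¹ ∈ Cfsg.Lie.chevE6.posUnipotent K := CfsgLib.Chev.chevE6.B_conj_U (inv_mem hb1) hxU
    have hx' : t * x * t⁻¹ ∈ CfsgLib.Chev.chevE6.US K (CfsgLib.Chev.chevE6.Inv π) := CfsgLib.Chev.chevE6.US_mono ha (torus_conj_US c.1 hx)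
    have h3 : m * (u * (t * x * t⁻¹) * u⁻¹) * m⁻¹ ∈ Cfsg.Lie.chevE6.negUnipotent K := by
      rw [CfsgLib.Chev.chevE6.negUnipotent_eq_US]
      exact CfsgLib.Chev.chevE6.map_US_le hm3 (T := fun r => ¬ CfsgLib.Chev.chevE6.toTables.Pos r) (fun r hr => hr.2) _
        (mul_mem (mul_mem hu.1 hx') (inv_mem hu.1))
    have e1 : b⁻¹ * x * b⁻¹⁻¹ = m * (u * (t * x * t⁻¹) * u⁻¹) * m⁻¹ := by
      conv_lhs => rw [← hc x hx0, hG, e]
      group
    have h4 := Tw.eq_one_of_B_V' (Φ := CfsgLib.Chev.chevE6) (U_le_B h2) (e1 ▸ h3)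
    exact hx1 (mul_eq_left.mp (mul_inv_eq_one.mp h4))
  -- the longest element
  obtain ⟨π, hπ, hi⟩ := T2E6.S.exists_longest
  obtain ⟨m, hm0, hm2, hm3⟩ := H0_weyl (K := K) hπ
  have hflip : ∀ r, CfsgLib.Chev.chevE6.toTables.Pos r ↔ ¬ CfsgLib.Chev.chevE6.toTables.Pos (π r) :=
    CfsgLib.Chev.chevE6.pos_flip (CfsgLib.Chev.chevE6.W_le_WL (T2E6.S.mem_W1.mp hπ).1) fun r hr => ((hi r).mpr hr).2
  have hUV : ∀ x, x ∈ Cfsg.Lie.chevE6.posUnipotent K ↔ m * x * m⁻¹ ∈ Cfsg.Lie.chevE6.negUnipotent K := fun x => by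
    rw [CfsgLib.Chev.chevE6.posUnipotent_eq_US, CfsgLib.Chev.chevE6.negUnipotent_eq_US]
    exact CfsgLib.Chev.chevE6.conj_US_iff hm2 hm3 hflip x
  have hH : G ∈ Cfsg.Lie.chevE6.diagonalSubgroup K := by
    refine (T2E6.gen hq hK).mem_H_of_normalizes1 (T2E6.wit hq hK) (g := g) (fun x hx => ?_) (fun x hx => ?_)
    · exact CfsgLib.Chev.chevE6.B_conj_U hB hx
    · simp only [Subgroup.coe_mul, Subgroup.coe_inv, ← hG]
      set x1 := t⁻¹ * (x : GL Cfsg.Lie.chevE6.Idx K) * t with hx1'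
      have hx1 : x1 ∈ Cfsg.Lie.chevE6.negUnipotent K := by
        rw [CfsgLib.Chev.chevE6.negUnipotent_eq_US] at hx ⊢
        have := torus_conj_US (c.1)⁻¹ hx
        rwa [map_inv, inv_inv, ← ht] at this
      have hu : m⁻¹ * x1 * m ∈ Cfsg.Lie.chevE6.posUnipotent K := by
        rw [hUV]
        rwa [show m * (m⁻¹ * x1 * m) * m⁻¹ = x1 by group]
      have h1 : G * (t * (m⁻¹ * x1 * m) * t⁻¹) * G⁻¹ ∈ Cfsg.Lie.chevE6.posUnipotent K := by
        refine CfsgLib.Chev.chevE6.B_conj_U hB ?_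
        rw [CfsgLib.Chev.chevE6.posUnipotent_eq_US] at hu ⊢
        exact torus_conj_US c.1 hu
      have h2 := (hUV _).mp h1
      have hm' := hc m hm0
      convert h2 using 1
      rw [show (x : GL Cfsg.Lie.chevE6.Idx K) = t * x1 * t⁻¹ by rw [hx1']; group]
      conv_rhs => arg 1; arg 1; rw [← hm']
      conv_rhs => arg 2; rw [← hm']
      group
  rw [CfsgLib.Chev.chevE6.diagonalSubgroup_eq] at hH
  obtain ⟨d0, hd0⟩ := hH
  obtain ⟨d, hd, hde⟩ := (T2E6.gen hq hK).lift d0 (by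
    have := ((T2E6.gen hq hK).le_fix g.2).2
    rw [← hG, ← hd0] at this
    exact ((tw hq hK).app_tor d0).symm.trans this)
  let d' : (tw hq hK).stableParam := ⟨d, hd⟩
  have hconj : MulAut.conj g = dAut hq hK (coH hq hK d') := by
    rw [← conj_tor]
    congr 1
    exact Subtype.ext (hd0.symm.trans hde.symm)
  set e := coH hq hK d' * c with he
  have hfix : ∀ z : twistedE6 K 2, (z : GL Cfsg.Lie.chevE6.Idx K) ∈ H0 K → dAut hq hK e z = z := fun z hz => by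
    rw [he, map_mul, MulAut.mul_apply, ← hconj, MulAut.conj_apply]
    exact h z hz
  have f0 : e.1 (ix 0) = 1 := Units.ext (by
    have := hfix (X3 (1 : K)) (by simp only [X3, one_pow]; exact (H0_two _ _ (Or.inl ⟨rfl, rfl⟩)).1)
    rw [(dAut_two hq hK e _).2.1, mul_one] at this
    exact (coord3 hq hK).injX this)
  have f2 : e.1 (ix 2) = 1 := Units.ext (by
    have := hfix (X2 (1 : K)) (by simp only [X2, one_pow]; exact (H0_two _ _ (Or.inr ⟨rfl, rfl⟩)).1)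
    rw [(dAut_two hq hK e _).1.1, mul_one] at this
    exact (coord2 hq hK).injX this)
  obtain ⟨e1, e3, e4, e5⟩ := (stableParam_iff hq hK).mp e.2
  have f1 : e.1 (ix 1) = 1 := Units.ext (by
    let a : (R0 hq hK)ˣ := Units.mk0 ⟨_, mem_R0 hq hK (unit_R0 e1)⟩
      (fun h => (e.1 (ix 1)).ne_zero (congrArg Subtype.val h))
    have := hfix (X0 hq hK 1) (H0_one _ (Or.inl rfl)).1
    rw [((dAut_one hq hK e _).1 a rfl).1, mul_one] at this
    exact congrArg Subtype.val ((coord0 hq hK).injX this))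
  have f3 : e.1 (ix 3) = 1 := Units.ext (by
    let a : (R0 hq hK)ˣ := Units.mk0 ⟨_, mem_R0 hq hK (unit_R0 e3)⟩
      (fun h => (e.1 (ix 3)).ne_zero (congrArg Subtype.val h))
    have := hfix (X1 hq hK 1) (H0_one _ (Or.inr rfl)).1
    rw [((dAut_one hq hK e _).2 a rfl).1, mul_one] at this
    exact congrArg Subtype.val ((coord1 hq hK).injX this))
  have hall : e = 1 := Subtype.ext (funext (forall_ix.mpr ⟨f0, f1, f2, f3,
    by rw [e4, f2, one_pow]; rfl, by rw [e5, f0, one_pow]; rfl⟩))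
  exact ⟨d'⁻¹, by rw [map_inv]; exact inv_eq_of_mul_eq_one_right (he ▸ hall)⟩

include hK in
/-- The subgroups. -/
theorem three_classes :
    ∃ H : Fin 3 → Subgroup (twistedE6 K 2),
      (∀ i, Nonempty ((H i) ≃* Cfsg.Lie.chevF4.group (ZMod 2))) ∧
      (∀ i j, i ≠ j → ∀ g : (twistedE6 K 2), (H i).map (MulAut.conj g).toMonoidHom ≠ H j) := by
  have : Fact (Nat.Prime 2) := ⟨Nat.prime_two⟩
  have hq : IsPrimePow 2 := Nat.prime_two.isPrimePow
  let f := ZMod.castHom (dvd_refl 2) K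
  let P : Subgroup (twistedE6 K 2) := (H0 K).subgroupOf (twistedE6 K 2)
  obtain ⟨e0⟩ := fold_iso CfsgLib.Chev.chevF4 CfsgLib.Chev.chevE6 foldF4
    (CfsgLib.Chev.chevF4.adj_of_check adjF4) FoldE6.morOK_two shapeF4 addF4 commF4fold
    (FoldE6.fold_gen (K := ZMod 2)) FoldE6.wit
  have hP : Nonempty (P ≃* Cfsg.Lie.chevF4.group (ZMod 2)) :=
    ⟨(Subgroup.subgroupOfEquivOfLe (H0_le hK)).trans
      ((Subgroup.equivMapOfInjective _ _ (bc_injective f)).symm.trans e0)⟩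
  have hidx : Nat.card (↥(tw hq hK).stableParam ⧸ (coH hq hK).range) = 3 := by
    rw [← Subgroup.index_eq_card, index_range]
    rfl
  have : Finite (↥(tw hq hK).stableParam ⧸ (coH hq hK).range) := Nat.finite_of_card_ne_zero (by omega)
  let q3 := (Finite.equivFinOfCardEq hidx).symm
  let c : Fin 3 → ↥(tw hq hK).stableParam := fun i => (q3 i).out
  refine ⟨fun i => P.map (dAut hq hK (c i)).toMonoidHom, fun i => ?_, ?_⟩
  · obtain ⟨e⟩ := hP
    exact ⟨((dAut hq hK (c i)).subgroupMap P).symm.trans e⟩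
  intro i j hij g hg
  refine hij (q3.injective ?_)
  rw [← QuotientGroup.out_eq' (q3 i), ← QuotientGroup.out_eq' (q3 j), eq_comm, QuotientGroup.eq]
  show (c j)⁻¹ * c i ∈ _
  set d := (c j)⁻¹ * c i with hd
  -- the Frobenius automorphism
  have hpow : ∀ x : K, (x ^ 2) ^ 2 = x := pow_q_q hK
  let τ : RingAut K :=
    { toFun := fun x => x ^ 2
      invFun := fun x => x ^ 2
      left_inv := hpow
      right_inv := hpow
      map_mul' := fun x y => mul_pow x y 2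
      map_add' := fun x y => add_pow_char x y 2 }
  set φ := fAut hq hK τ with hφ
  have hPfix : ∀ z ∈ P, φ z = z := by
    rintro z ⟨y, -, hy⟩
    refine Subtype.ext ?_
    show Units.map _ (z : GL Cfsg.Lie.chevE6.Idx K) = _
    refine Units.ext ?_
    ext a b
    have hz : ∀ a b, (z : GL Cfsg.Lie.chevE6.Idx K).val a b = f (y.val a b) := fun a b => by
      have hy' : bc f y = (z : GL Cfsg.Lie.chevE6.Idx K) := hy
      rw [← hy']; rfl
    show ((z : GL Cfsg.Lie.chevE6.Idx K).val a b) ^ 2 = _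
    rw [hz, ← map_pow, ZMod.pow_card]
  have hφd : ∀ x, φ (dAut hq hK d x) = dAut hq hK (d * d) (φ x) := fun x => by
    refine Subtype.ext ?_
    show Units.map _ _ = _
    rw [dAut_val, dAut_val, map_mul, map_mul, map_inv]
    have e : Units.map ((τ : K ≃+* K).toRingHom).mapMatrix.toMonoidHom (CfsgLib.Chev.chevE6.toAlg.torus d.1) =
        CfsgLib.Chev.chevE6.toAlg.torus (d * d).1 := by
      refine Units.ext ?_
      show (CfsgLib.Chev.chevE6.toSys.torusMat d.1).map _ = CfsgLib.Chev.chevE6.toSys.torusMat _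
      rw [CfsgLib.Chev.chevE6.toSys.map_torusMat]
      congr 1
      funext k
      refine Units.ext ?_
      show ((d.1 k : Kˣ) : K) ^ 2 = ((d.1 k * d.1 k : Kˣ) : K)
      rw [Units.val_mul, sq]
    rw [e]
    rfl
  have happ : ∀ a b x, dAut hq hK a (dAut hq hK b x) = dAut hq hK (a * b) x := fun a b x =>
    (DFunLike.congr_fun (map_mul (dAut hq hK) a b) x).symm
  set g0 := (dAut hq hK (c j))⁻¹ g with hg0
  have hθ : ∀ z ∈ P, g0 * dAut hq hK d z * g0⁻¹ ∈ P := by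
    intro z hz
    obtain ⟨w, hw, he⟩ := hg.le ⟨_, ⟨z, hz, rfl⟩, rfl⟩
    have : g0 * dAut hq hK d z * g0⁻¹ = w := by
      apply (dAut hq hK (c j)).injective
      rw [map_mul, map_mul, map_inv, hg0, MulAut.apply_inv_self, hd, happ, mul_inv_cancel_left]
      exact he.symm
    rwa [this]
  refine mem_range_of_fix hK hq ((dAut hq hK d)⁻¹ (g0⁻¹ * φ g0)) d fun z hz => ?_
  have hz' : z ∈ P := hz
  have e1 := hPfix _ (hθ z hz')
  rw [map_mul, map_mul, map_inv, hφd, hPfix z hz'] at e1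
  apply (dAut hq hK d).injective
  rw [map_mul, map_mul, map_inv, MulAut.apply_inv_self, happ]
  calc g0⁻¹ * φ g0 * dAut hq hK (d * d) z * (g0⁻¹ * φ g0)⁻¹
      = g0⁻¹ * (φ g0 * dAut hq hK (d * d) z * (φ g0)⁻¹) * g0 := by group
    _ = dAut hq hK d z := by rw [e1]; group

end

end CfsgLib.Chev.E6F4
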