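import Cfsg.Agent.Lib.Chev.Twist.ReeUnip
import Cfsg.Agent.Lib.Chev.Aut.FieldCyclic
import Cfsg.Prelude.Def_KGroupFacts

/-!
# Automorphisms of the small Ree groups
-/

set_option autoImplicit false
set_option linter.dupNamespace false
set_option linter.unusedSectionVars false
set_option maxRecDepth 100000

namespace CfsgLib.Chev.T2G2

open Cfsg.Lie Matrix Chev

variable {K : Type*} [Field K] [Fintype K] {m : ℕ} (hK : Fintype.card K = 3 ^ (2 * m + 1))

/-- The small Ree group. -/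
abbrev RG (K : Type*) [Field K] (m : ℕ) : Type _ := ↥(twistedG2 K (3 ^ m))

/-- A unipotent element of the group. -/
noncomputable def wg (a e f : K) : RG K m := ⟨W m a e f, (W_mem hK a e f).2⟩

/-- A torus element of the group. -/
noncomputable def tg (s : Kˣ) : RG K m := ⟨th m s, (th_mem_H hK s).2⟩

/-- The Sylow 3-subgroup of the positive roots. -/
abbrev Us (K : Type*) [Field K] (m : ℕ) : Subgroup (RG K m) :=
  (Cfsg.Lie.chevG2.posUnipotent K ⊓ twistedG2 K (3 ^ m)).subgroupOf (twistedG2 K (3 ^ m))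

theorem mem_Us {x : RG K m} : x ∈ Us K m ↔ (x : GL Cfsg.Lie.chevG2.Idx K) ∈ Cfsg.Lie.chevG2.posUnipotent K := by
  rw [Subgroup.mem_subgroupOf, Subgroup.mem_inf]
  exact and_iff_left x.2

theorem wg_mem (a e f : K) : wg hK a e f ∈ Us K m := mem_Us.mpr (W_mem hK a e f).1

include hK in
theorem mem_Us_iff {x : RG K m} : x ∈ Us K m ↔ ∃ a e f, x = wg hK a e f := by
  refine ⟨fun h => ?_, fun ⟨a, e, f, h⟩ => h ▸ wg_mem hK a e f⟩
  obtain ⟨a, e, f, h'⟩ := W_surj hK (Subgroup.mem_inf.mpr ⟨mem_Us.mp h, x.2⟩)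
  exact ⟨a, e, f, Subtype.ext h'⟩

theorem wg_inj {a e f a' e' f' : K} (h : wg hK a e f = wg hK a' e' f') : a = a' ∧ e = e' ∧ f = f' :=
  W_inj hK (congrArg Subtype.val h)

theorem wg_mul (a e f a' e' f' : K) : wg hK a e f * wg hK a' e' f' =
    wg hK (a + a') (e + e' + a' * (a ^ 3 ^ m) ^ 3) (f + f' - a' * e + a' ^ 2 * (a ^ 3 ^ m) ^ 3) :=
  Subtype.ext (W_mul hK a e f a' e' f')

theorem wg_zero : wg hK (0 : K) 0 0 = 1 := Subtype.ext W_zero

theorem wg_split (a e f : K) : wg hK a e f = wg hK a 0 0 * wg hK 0 e f := Subtype.ext (W_split hK a e f)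

theorem wg_cube (a e f : K) : wg hK a e f ^ 3 = wg hK 0 0 (-(a ^ 2 * (a ^ 3 ^ m) ^ 3)) :=
  Subtype.ext (by rw [SubmonoidClass.coe_pow]; exact W_cube hK a e f)

theorem tg_wg (s : Kˣ) (a e f : K) : tg hK s * wg hK a e f * (tg hK s)⁻¹ =
    wg hK (((s ^ kk m (rx 6) : Kˣ) : K) * a) (((s ^ kk m (rx 10) : Kˣ) : K) * e)
      (((s ^ kk m (rx 11) : Kˣ) : K) * f) :=
  Subtype.ext (th_W hK s a e f)

include hK in
theorem kk6_inv (s : Kˣ) : (s ^ (3 * 3 ^ m + 2)) ^ kk m (rx 6) = s ∧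
    (s ^ kk m (rx 6)) ^ (3 * 3 ^ m + 2) = s := by
  obtain ⟨k6, -⟩ := kk_val (m := m)
  have hN := pow_units hK s
  have key : s ^ (((3 * 3 ^ m + 2 : ℕ) : ℤ) * kk m (rx 6)) = s := by
    rw [k6]
    push_cast
    rw [show (3 * (3 : ℤ) ^ m + 2) * (-3 * 3 ^ m + 2) =
      1 + (3 * ((3 : ℤ) ^ m * 3 ^ m) - 1) * (-3) by ring, _root_.zpow_add, _root_.zpow_one, _root_.zpow_mul]
    push_cast at hN
    rw [hN, _root_.one_zpow, mul_one]
  constructor
  · rw [← _root_.zpow_natCast, ← _root_.zpow_mul, key]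
  · rw [← _root_.zpow_natCast, ← _root_.zpow_mul, mul_comm, key]

theorem three_pow_odd : Odd ((3 ^ m : ℕ) : ℤ) := by
  exact_mod_cast (Odd.pow (n := m) (by decide : Odd (3 : ℕ)))

theorem tg_neg (a e f : K) : tg hK (-1) * wg hK a e f * (tg hK (-1))⁻¹ = wg hK (-a) e (-f) := by
  obtain ⟨k6, -, -, -, k10, k11⟩ := kk_val (m := m)
  have ho := three_pow_odd (m := m)
  rw [tg_wg, k6, k10, k11, Odd.neg_one_zpow (((by decide : Odd (-3 : ℤ)).mul ho).add_even even_two),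
    Even.neg_one_zpow (((by decide : Odd (3 : ℤ)).mul ho).sub_odd odd_one), _root_.zpow_one, Units.val_neg,
    Units.val_one, one_mul, neg_one_mul, neg_one_mul]

include hK in
theorem eq_zero_of_neg {x : K} (h : -x = x) : x = 0 := by linear_combination h + x * hc3 hK

theorem tg_mem_Bsub (s : Kˣ) : tg hK s ∈ Bsub K m :=
  mem_Bsub.mpr (Subgroup.mem_sup_right (th_mem_H hK s).1)

theorem wg_mem_Bsub (a e f : K) : wg hK a e f ∈ Bsub K m :=
  mem_Bsub.mpr (Subgroup.mem_sup_left (W_mem hK a e f).1)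

include hK in
theorem mem_Bsub_iff_norm (x : RG K m) : x ∈ Bsub K m ↔ ∀ u, u ∈ Us K m ↔ x * u * x⁻¹ ∈ Us K m := by
  constructor
  · intro hx u
    rw [mem_Us, mem_Us]
    simp only [Subgroup.coe_mul, Subgroup.coe_inv]
    refine ⟨fun hu => B_normalizer_U (mem_Bsub.mp hx) hu, fun hu => ?_⟩
    have := B_normalizer_U (inv_mem (mem_Bsub.mp hx)) hu
    simpa [mul_assoc] using this
  · intro h
    have h1 := (h (wg hK 0 0 1)).mp (wg_mem hK _ _ _)
    refine mem_Bsub.mpr (mem_B_of_conj hK x.2 (W_mem hK 0 0 1).1 (fun e => ?_) (mem_Us.mp h1))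
    rw [← W_zero (K := K) (m := m)] at e
    exact one_ne_zero (W_inj hK e).2.2

include hK in
theorem n0_conj_H {y : GL Cfsg.Lie.chevG2.Idx K} (hy : y ∈ Cfsg.Lie.chevG2.diagonalSubgroup K) :
    (w0 K)⁻¹ * y * w0 K ∈ Cfsg.Lie.chevG2.diagonalSubgroup K ∧
      w0 K * y * (w0 K)⁻¹ ∈ Cfsg.Lie.chevG2.diagonalSubgroup K := by
  refine ⟨?_, (Subgroup.mem_normalizer_iff.mp (CfsgLib.Chev.chevG2.N_le_normalizer_H (wN_N (K := K))) y).mp hy⟩
  have := (Subgroup.mem_normalizer_iff.mp (CfsgLib.Chev.chevG2.N_le_normalizer_H (inv_mem (wN_N (K := K)))) y).mp hy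
  rwa [inv_inv] at this

theorem conj_n0_tg (s : Kˣ) : ∃ s', (n0 hK)⁻¹ * tg hK s * n0 hK = tg hK s' := by
  obtain ⟨s', h⟩ := (mem_H_iff hK).mp (Subgroup.mem_inf.mpr ⟨(n0_conj_H hK (th_mem_H hK s).1).1,
    mul_mem (mul_mem (inv_mem (wN_mem hK)) (th_mem_H hK s).2) (wN_mem hK)⟩)
  exact ⟨s', Subtype.ext h⟩

theorem conj_n0_tg' (s : Kˣ) : ∃ s', n0 hK * tg hK s * (n0 hK)⁻¹ = tg hK s' := by
  obtain ⟨s', h⟩ := (mem_H_iff hK).mp (Subgroup.mem_inf.mpr ⟨(n0_conj_H hK (th_mem_H hK s).1).2,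
    mul_mem (mul_mem (wN_mem hK) (th_mem_H hK s).2) (inv_mem (wN_mem hK))⟩)
  exact ⟨s', Subtype.ext h⟩

include hK in
theorem torus_of_two (g : RG K m) (h1 : g ∈ Bsub K m) (h2 : (n0 hK)⁻¹ * g * n0 hK ∈ Bsub K m) :
    ∃ s, g = tg hK s := by
  obtain ⟨u, hu, y, hy, e⟩ := (tw hK).B_mem (mem_Bsub.mp h1) (le_fix hK g.2)
  have h2' := mem_Bsub.mp h2
  simp only [Subgroup.coe_mul, Subgroup.coe_inv, n0] at h2'
  rw [e, show (w0 K)⁻¹ * (u * y) * w0 K = (w0 K)⁻¹ * u * w0 K * ((w0 K)⁻¹ * y * w0 K) by group] at h2'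
  have h4 := mul_mem h2' (inv_mem (Subgroup.mem_sup_right (n0_conj_H hK hy.1).1 :
    _ ∈ Cfsg.Lie.chevG2.borelSubgroup K))
  rw [mul_inv_cancel_right] at h4
  have h5 := eq_one_of_B_V h4 (w0_inv_conj_neg hu.1)
  have hu1 : u = 1 := by
    calc u = w0 K * ((w0 K)⁻¹ * u * w0 K) * (w0 K)⁻¹ := by group
      _ = 1 := by rw [h5, mul_one, mul_inv_cancel]
  rw [hu1, one_mul] at e
  obtain ⟨s, hs⟩ := (mem_H_iff hK).mp (Subgroup.mem_inf.mpr ⟨hy.1, by rw [eq_fix hK]; exact hy.2⟩)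
  exact ⟨s, Subtype.ext (e.trans hs)⟩

section Aut

variable {φ : MulAut (RG K m)}

/-- The automorphism fixes the Sylow subgroup and moves the Weyl element within its coset. -/
structure Std (φ : MulAut (RG K m)) : Prop where
  hU : ∀ u, φ u ∈ Us K m ↔ u ∈ Us K m
  hn : ∃ β ∈ Bsub K m, φ (n0 hK) = n0 hK * β

theorem Std.hB (h : Std hK φ) (x : RG K m) : φ x ∈ Bsub K m ↔ x ∈ Bsub K m := by
  rw [mem_Bsub_iff_norm hK, mem_Bsub_iff_norm hK]
  constructor
  · intro hx u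
    rw [← h.hU u, hx (φ u), ← map_inv, ← map_mul, ← map_mul, h.hU]
  · intro hx u
    obtain ⟨v, rfl⟩ := φ.surjective u
    rw [h.hU, hx v, ← h.hU, map_mul, map_mul, map_inv]

theorem Std.torus (h : Std hK φ) (s : Kˣ) : ∃ s', φ (tg hK s) = tg hK s' := by
  obtain ⟨β, hβ, hn⟩ := h.hn
  refine torus_of_two hK _ ((h.hB hK _).mpr (tg_mem_Bsub hK s)) ?_
  obtain ⟨s', hs'⟩ := conj_n0_tg hK s
  have e : (n0 hK)⁻¹ * φ (tg hK s) * n0 hK = β * φ ((n0 hK)⁻¹ * tg hK s * n0 hK) * β⁻¹ := by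
    rw [map_mul, map_mul, map_inv, hn]; group
  rw [e, hs']
  exact mul_mem (mul_mem hβ ((h.hB hK _).mpr (tg_mem_Bsub hK s'))) (inv_mem hβ)

theorem Std.first (h : Std hK φ) : ∃ f : K → K, (∀ a e f', ∃ y z, φ (wg hK a e f') = wg hK (f a) y z) ∧
    (∀ a b, f (a + b) = f a + f b) ∧ (∀ a, f a = 0 → a = 0) := by
  have hex : ∀ a : K, ∃ x y z, φ (wg hK a 0 0) = wg hK x y z := fun a =>
    (mem_Us_iff hK).mp ((h.hU _).mpr (wg_mem hK _ _ _))
  choose f g g' hf using hex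
  have hcube : ∀ a e f' : K, (wg hK a e f') ^ 3 = 1 ↔ a = 0 := by
    intro a e f'
    rw [wg_cube, ← wg_zero hK]
    constructor
    · intro he
      have := (wg_inj hK he).2.2
      simpa using this
    · rintro rfl; simp
  have hzero : ∀ e f' : K, ∃ y z, φ (wg hK 0 e f') = wg hK 0 y z := by
    intro e f'
    obtain ⟨x, y, z, hx⟩ := (mem_Us_iff hK).mp ((h.hU _).mpr (wg_mem hK 0 e f'))
    have : wg hK x y z ^ 3 = 1 := by rw [← hx, ← map_pow, (hcube _ _ _).mpr rfl, map_one]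
    obtain rfl := (hcube _ _ _).mp this
    exact ⟨y, z, hx⟩
  have hall : ∀ a e f', ∃ y z, φ (wg hK a e f') = wg hK (f a) y z := by
    intro a e f'
    obtain ⟨y, z, hy⟩ := hzero e f'
    rw [wg_split, map_mul, hf, hy, wg_mul]
    exact ⟨g a + y + 0 * ((f a) ^ 3 ^ m) ^ 3, _, by rw [add_zero]⟩
  refine ⟨f, hall, fun a b => ?_, fun a ha => ?_⟩
  · have e := congrArg φ (wg_mul hK a 0 0 b 0 0)
    obtain ⟨y, z, hy⟩ := hall (a + b) (0 + 0 + b * (a ^ 3 ^ m) ^ 3) (0 + 0 - b * 0 + b ^ 2 * (a ^ 3 ^ m) ^ 3)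
    rw [map_mul, hf, hf, hy, wg_mul] at e
    exact (wg_inj hK e).1.symm
  · obtain ⟨y, z, hy⟩ := hall a 0 0
    rw [ha] at hy
    have : φ (wg hK a 0 0 ^ 3) = 1 := by rw [map_pow, hy, (hcube _ _ _).mpr rfl]
    rw [EmbeddingLike.map_eq_one_iff] at this
    exact (hcube _ _ _).mp this

include hK in
theorem eq_one_of_std (hm : 1 ≤ m) (h : Std hK φ) (hid : ∀ a, ∃ y z, φ (wg hK a 0 0) = wg hK a y z) :
    φ = 1 := by
  obtain ⟨f, hf, -, -⟩ := h.first
  have hfid : ∀ a, f a = a := fun a => by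
    obtain ⟨y, z, hy⟩ := hid a
    obtain ⟨y', z', hy'⟩ := hf a 0 0
    exact (wg_inj hK (hy'.symm.trans hy)).1
  -- the torus is fixed
  have ht : ∀ s, φ (tg hK s) = tg hK s := by
    intro s
    obtain ⟨s', hs'⟩ := h.torus hK s
    obtain ⟨y, z, hy⟩ := hf 1 0 0
    obtain ⟨y', z', hy'⟩ := hf (((s ^ kk m (rx 6) : Kˣ) : K)) 0 0
    have e := congrArg φ (tg_wg hK s 1 0 0)
    simp only [mul_one, mul_zero] at e
    rw [map_mul, map_mul, map_inv, hs', hy, hy', tg_wg, hfid, hfid, mul_one] at e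
    have e' : s' ^ kk m (rx 6) = s ^ kk m (rx 6) := Units.ext (wg_inj hK e).1
    rw [hs', show s' = s by rw [← (kk6_inv hK s').2, e', (kk6_inv hK s).2]]
  -- the middle layer
  have hz : ∀ x y z x' y' z', φ (wg hK x y z) = wg hK x' y' z' →
      φ (wg hK (-x) y (-z)) = wg hK (-x') y' (-z') := fun x y z x' y' z' e => by
    rw [← tg_neg, map_mul, map_mul, map_inv, ht, e, tg_neg]
  have hlast : ∀ z, ∃ z', φ (wg hK 0 0 z) = wg hK 0 0 z' := by
    intro z
    obtain ⟨y, z', hy⟩ := hf 0 0 z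
    rw [hfid] at hy
    have e2 := hz _ _ _ _ _ _ hy
    rw [neg_zero] at e2
    have e : φ (wg hK 0 0 (-z) * wg hK 0 0 z) = wg hK 0 y (-z') * wg hK 0 y z' := by rw [map_mul, e2, hy]
    rw [wg_mul, wg_mul] at e
    simp only [add_zero, zero_mul, neg_add_cancel, mul_zero, sub_zero, ne_eq, OfNat.ofNat_ne_zero,
      not_false_eq_true, zero_pow, wg_zero, map_one] at e
    rw [← wg_zero hK] at e
    have h0 : y + y = 0 := (wg_inj hK e).2.1.symm
    obtain rfl : y = 0 := eq_zero_of_neg hK (by linear_combination -h0)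
    exact ⟨z', hy⟩
  choose hfun hh using hlast
  have hh1 : ∀ z, hfun z = z := by
    have hc : ∀ a : K, hfun (-(a ^ 2 * (a ^ 3 ^ m) ^ 3)) = -(a ^ 2 * (a ^ 3 ^ m) ^ 3) := fun a => by
      obtain ⟨y, z, hy⟩ := hf a 0 0
      have e := congrArg φ (wg_cube hK a 0 0)
      rw [map_pow, hy, wg_cube, hh, hfid] at e
      exact (wg_inj hK e).2.2.symm
    have hs : ∀ (s : Kˣ) z, hfun ((s : K) * z) = (s : K) * hfun z := fun s z => by
      have e := congrArg φ (tg_wg hK s 0 0 z)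
      obtain ⟨-, -, -, -, -, k11⟩ := kk_val (m := m)
      simp only [mul_zero, k11, _root_.zpow_one] at e
      rw [map_mul, map_mul, map_inv, ht, hh, hh, tg_wg] at e
      simp only [k11, _root_.zpow_one] at e
      exact (wg_inj hK e).2.2.symm
    intro z
    by_cases hz0 : z = 0
    · subst hz0
      have := hh 0
      rw [wg_zero, map_one, ← wg_zero hK] at this
      exact (wg_inj hK this).2.2.symm
    · have e := hs (Units.mk0 (-z) (neg_ne_zero.mpr hz0)) (-1)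
      have h1 := hc 1
      simp only [one_pow, mul_one] at h1
      rw [h1, Units.val_mk0, neg_mul_neg, mul_one] at e
      exact e
  have hmid : ∀ e, φ (wg hK 0 e 0) = wg hK 0 e 0 := by
    intro e
    obtain ⟨y, z, hy⟩ := hf 0 e 0
    rw [hfid] at hy
    have e2 := hz _ _ _ _ _ _ hy
    simp only [neg_zero] at e2
    obtain rfl : z = 0 := eq_zero_of_neg hK (wg_inj hK (e2.symm.trans hy)).2.2
    obtain ⟨δ, η, hd⟩ := hf 1 0 0
    rw [hfid] at hd
    have key : wg hK 0 e 0 * wg hK 1 0 0 = wg hK 1 0 0 * wg hK 0 e 0 * wg hK 0 0 (-e) := by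
      rw [wg_mul, wg_mul, wg_mul]
      congr 1 <;> simp
    have e3 := congrArg φ key
    rw [map_mul, map_mul, map_mul, hy, hd, hh, hh1, wg_mul, wg_mul, wg_mul] at e3
    obtain ⟨-, -, e4⟩ := wg_inj hK e3
    simp only [zero_mul, add_zero, zero_add, mul_zero, sub_zero, ne_eq, OfNat.ofNat_ne_zero,
      not_false_eq_true, zero_pow, one_mul] at e4
    obtain rfl : y = e := by linear_combination -e4
    exact hy
  have hrest : ∀ e z, φ (wg hK 0 e z) = wg hK 0 e z := by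
    intro e z
    have k : wg hK 0 e z = wg hK 0 e 0 * wg hK 0 0 z := by rw [wg_mul]; simp
    rw [k, map_mul, hmid, hh, hh1]
  -- the first layer
  have hfst : ∀ a, φ (wg hK a 0 0) = wg hK a 0 0 := by
    have hd : ∀ a, ∃ η, φ (wg hK a 0 0) = wg hK a 0 η := by
      intro a
      obtain ⟨δ, η, hd⟩ := hf a 0 0
      rw [hfid] at hd
      have e2 := hz _ _ _ _ _ _ hd
      rw [neg_zero] at e2
      have k := congrArg φ (wg_mul hK a 0 0 (-a) 0 0)
      rw [map_mul, hd, e2, add_neg_cancel, hrest, wg_mul, add_neg_cancel] at k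
      have h0 : δ + δ = 0 := by
        have := (wg_inj hK k).2.1
        linear_combination this
      obtain rfl : δ = 0 := eq_zero_of_neg hK (by linear_combination -h0)
      exact ⟨η, hd⟩
    choose η hη using hd
    have hadd : ∀ a b, η (a + b) = η a + η b := by
      intro a b
      have k := congrArg φ (wg_mul hK a 0 0 b 0 0)
      rw [map_mul, hη, hη, wg_split hK (a + b), map_mul, hη, hrest, wg_mul, wg_mul] at k
      have := (wg_inj hK k).2.2
      linear_combination -this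
    have heq : ∀ x : Kˣ, η (x : K) = ((x : K) ^ (3 * 3 ^ m + 2)) * η 1 := by
      intro x
      obtain ⟨-, -, -, -, -, k11⟩ := kk_val (m := m)
      have e := congrArg φ (tg_wg hK (x ^ (3 * 3 ^ m + 2)) 1 0 0)
      simp only [(kk6_inv hK x).1, k11, _root_.zpow_one, mul_one, mul_zero] at e
      rw [map_mul, map_mul, map_inv, ht, hη, hη, tg_wg] at e
      simp only [(kk6_inv hK x).1, k11, _root_.zpow_one, mul_one, mul_zero, Units.val_pow_eq_pow_val] at e
      exact (wg_inj hK e).2.2.symm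
    have h10 : η 1 = 0 := by
      by_contra hc
      obtain ⟨σ, hσ⟩ := exists_e hK
      haveI := Fact.mk Nat.prime_three
      haveI := charP_three hK
      have hfix : ∀ x : K, x ^ 3 ^ (m + 1) = x := by
        intro x
        have hp : ∀ y : K, y ^ (3 * 3 ^ m + 2) = y ^ 3 ^ (m + 1) * y ^ 2 := fun y => by
          rw [pow_succ 3 m, mul_comm (3 ^ m) 3, pow_add]
        have hall : ∀ y : K, η y = y ^ 3 ^ (m + 1) * y ^ 2 * η 1 := fun y => by
          by_cases hy : y = 0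
          · subst hy
            have := hadd 0 0
            rw [add_zero, left_eq_add] at this
            rw [this]; simp
          · rw [← hp]; exact heq (Units.mk0 y hy)
        have e1 := hadd (1 + x) (1 - x)
        rw [show (1 + x) + (1 - x) = (1 : K) + 1 by ring, hadd, hall (1 + x), hall (1 - x),
          add_pow_char_pow, sub_pow_char_pow, one_pow] at e1
        have e2 : x * (x - x ^ 3 ^ (m + 1)) * 2 * η 1 = 0 := by
          linear_combination -e1 - 2 * x * x ^ 3 ^ (m + 1) * η 1 * hc3 hK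
        have h2 : (2 : K) ≠ 0 := fun h2 => one_ne_zero (α := K) (by linear_combination hc3 hK - h2)
        rcases mul_eq_zero.mp e2 with e3 | e3
        · rcases mul_eq_zero.mp e3 with e4 | e4
          · rcases mul_eq_zero.mp e4 with e5 | e5
            · rw [e5]; simp
            · exact (sub_eq_zero.mp e5).symm
          · exact absurd e4 h2
        · exact absurd e3 hc
      obtain ⟨g, hg⟩ := IsCyclic.exists_ofOrder_eq_natCard (α := Kˣ)
      have hg1 : g ^ (3 ^ (m + 1) - 1) = 1 := by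
        refine mul_right_cancel (b := g) ?_
        rw [← pow_succ, Nat.sub_add_cancel (Nat.one_le_pow _ _ (by norm_num)), one_mul]
        exact Units.ext (by rw [Units.val_pow_eq_pow_val]; exact hfix g)
      have hle := Nat.le_of_dvd (by have := Nat.pow_le_pow_right (show 3 > 0 by norm_num) (show 1 ≤ m + 1 by omega); omega)
        (orderOf_dvd_of_pow_eq_one hg1)
      rw [hg, Nat.card_units, Nat.card_eq_fintype_card, hK] at hle
      have hlt : 3 ^ (m + 1) < 3 ^ (2 * m + 1) := Nat.pow_lt_pow_right (by norm_num) (by omega)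
      have := Nat.one_le_pow (m + 1) 3 (by norm_num)
      omega
    intro a
    by_cases ha : a = 0
    · subst ha; rw [wg_zero, map_one]
    · rw [hη, show η a = 0 by
        have := heq (Units.mk0 a ha)
        rw [h10, mul_zero, Units.val_mk0] at this
        exact this]
  have hu : ∀ u ∈ Us K m, φ u = u := by
    intro u hu
    obtain ⟨a, e, f', rfl⟩ := (mem_Us_iff hK).mp hu
    rw [wg_split, map_mul, hfst, hrest]
  -- the Weyl element
  have hn : φ (n0 hK) = n0 hK := by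
    obtain ⟨β, hβ, hn⟩ := h.hn
    obtain ⟨s, hs⟩ : ∃ s : Kˣ, s ^ (2 : ℤ) ≠ 1 := by
      obtain ⟨g, hg⟩ := IsCyclic.exists_ofOrder_eq_natCard (α := Kˣ)
      refine ⟨g, fun e => ?_⟩
      have hg2 : g ^ 2 = 1 := by rw [← _root_.zpow_natCast]; exact e
      have hle := Nat.le_of_dvd (by norm_num) (orderOf_dvd_of_pow_eq_one hg2)
      rw [hg, Nat.card_units, Nat.card_eq_fintype_card, hK] at hle
      have := Nat.pow_le_pow_right (show 3 > 0 by norm_num) (show 3 ≤ 2 * m + 1 by omega)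
      omega
    have hcomm : β * tg hK s = tg hK s * β := by
      obtain ⟨s', hs'⟩ := conj_n0_tg' hK s
      have e := congrArg φ hs'
      rw [map_mul, map_mul, map_inv, hn, ht, ht, ← hs'] at e
      have e' : β * tg hK s * β⁻¹ = tg hK s := by
        calc _ = (n0 hK)⁻¹ * (n0 hK * β * tg hK s * (n0 hK * β)⁻¹) * n0 hK := by group
          _ = _ := by rw [e]; group
      exact mul_inv_eq_iff_eq_mul.mp e'
    obtain ⟨u, hu', y, hy, e⟩ := (tw hK).B_mem (mem_Bsub.mp hβ) (le_fix hK β.2)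
    obtain ⟨b, hb⟩ := (mem_H_iff hK).mp (Subgroup.mem_inf.mpr ⟨hy.1, by rw [eq_fix hK]; exact hy.2⟩)
    have hu1 : u = 1 := by
      by_contra hne
      refine hs (sq_one_of_commute hK hu'.1 hne ?_)
      have e1 : (β : GL Cfsg.Lie.chevG2.Idx K) * th m s = th m s * β := congrArg Subtype.val hcomm
      rw [e, hb, mul_assoc, ← th_mul, mul_comm b, th_mul, ← mul_assoc, ← mul_assoc] at e1
      exact (mul_right_cancel e1).symm
    have hβb : β = tg hK b := Subtype.ext (by rw [e, hu1, one_mul, hb]; rfl)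
    obtain ⟨b', hb'⟩ := conj_n0_tg' hK b
    -- compare the Bruhat form of a conjugate of a unipotent element
    set u0 := wg hK 0 0 (1 : K) with hu0
    have hu0ne : (u0 : GL Cfsg.Lie.chevG2.Idx K) ≠ 1 := fun e => by
      rw [← W_zero (K := K) (m := m)] at e
      exact one_ne_zero (W_inj hK e).2.2
    set x := n0 hK * u0 * (n0 hK)⁻¹ with hx
    have hxB : (x : GL Cfsg.Lie.chevG2.Idx K) ∉ Cfsg.Lie.chevG2.borelSubgroup K := fun hB => by
      have := eq_one_of_B_V hB (w0_conj_neg (W_mem hK 0 0 1).1)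
      exact hu0ne (mul_eq_left.mp (mul_inv_eq_one.mp this))
    obtain ⟨bb, hbb, u2, hu2, hdec⟩ := bruhat_one hK x.2 hxB
    obtain ⟨u1, hu1', y1, hy1, e1⟩ := (tw hK).B_mem hbb.1 (le_fix hK hbb.2)
    obtain ⟨c, hc⟩ := (mem_H_iff hK).mp (Subgroup.mem_inf.mpr ⟨hy1.1, by rw [eq_fix hK]; exact hy1.2⟩)
    let U1 : RG K m := ⟨u1, by rw [eq_fix hK]; exact hu1'.2⟩
    let U2 : RG K m := ⟨u2, hu2.2⟩
    have hU1 : U1 ∈ Us K m := mem_Us.mpr hu1'.1
    have hU2 : U2 ∈ Us K m := mem_Us.mpr hu2.1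
    have hdec' : x = U1 * tg hK c * n0 hK * U2 := Subtype.ext (by
      rw [hdec, e1, hc]; rfl)
    have himg : φ x = U1 * tg hK c * (n0 hK * tg hK b) * U2 := by
      rw [hdec', map_mul, map_mul, map_mul, hu _ hU1, hu _ hU2, ht, hn, hβb]
    have himg2 : φ x = tg hK b' * x * (tg hK b')⁻¹ := by
      rw [hx, hu0, map_mul, map_mul, map_inv, hn, hu _ (wg_mem hK _ _ _), hβb, ← hb']; group
    have key : tg hK b' * (U1 * tg hK c * n0 hK * U2) * (tg hK b')⁻¹ = U1 * tg hK c * (n0 hK * tg hK b) * U2 := by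
      rw [← hdec', ← himg2, himg]
    have hbn : tg hK b' * n0 hK = n0 hK * tg hK b := by rw [← hb']; group
    have hcb : tg hK b' * tg hK c = tg hK c * tg hK b' :=
      Subtype.ext (show th m b' * th m c = th m c * th m b' by rw [← th_mul, mul_comm, th_mul])
    set V1 := tg hK b' * U1 * (tg hK b')⁻¹ with hV1
    set V2 := tg hK b' * U2 * (tg hK b')⁻¹ with hV2
    have hV1m : V1 ∈ Us K m := ((mem_Bsub_iff_norm hK _).mp (tg_mem_Bsub hK b') U1).mp hU1
    have hV2m : V2 ∈ Us K m := ((mem_Bsub_iff_norm hK _).mp (tg_mem_Bsub hK b') U2).mp hU2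
    set N0 := tg hK c * (n0 hK * tg hK b) with hN0
    have key2 : N0⁻¹ * (U1⁻¹ * V1) * N0 = U2 * V2⁻¹ * tg hK b' := by
      have h' : U1⁻¹ * V1 * N0 * (tg hK b')⁻¹ * V2 = N0 * U2 := by
        rw [hV1, hV2, hN0, ← hbn]
        calc U1⁻¹ * (tg hK b' * U1 * (tg hK b')⁻¹) * (tg hK c * (tg hK b' * n0 hK)) * (tg hK b')⁻¹ *
              (tg hK b' * U2 * (tg hK b')⁻¹)
            = U1⁻¹ * (tg hK b' * U1 * ((tg hK b')⁻¹ * (tg hK c * tg hK b')) * n0 hK * U2 * (tg hK b')⁻¹) := by group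
          _ = U1⁻¹ * (tg hK b' * (U1 * tg hK c * n0 hK * U2) * (tg hK b')⁻¹) := by rw [← hcb]; group
          _ = _ := by rw [key, hbn]; group
      calc _ = N0⁻¹ * (U1⁻¹ * V1 * N0 * (tg hK b')⁻¹ * V2) * V2⁻¹ * tg hK b' := by group
        _ = _ := by rw [h']; group
    have hX : U1⁻¹ * V1 ∈ Us K m := mul_mem (inv_mem hU1) hV1m
    have hX' : (tg hK c)⁻¹ * (U1⁻¹ * V1) * tg hK c ∈ Us K m := by
      have := ((mem_Bsub_iff_norm hK _).mp (inv_mem (tg_mem_Bsub hK c)) _).mp hX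
      rwa [inv_inv] at this
    have hin : (n0 hK)⁻¹ * ((tg hK c)⁻¹ * (U1⁻¹ * V1) * tg hK c) * n0 hK ∈ Bsub K m := by
      have e5 : (n0 hK)⁻¹ * ((tg hK c)⁻¹ * (U1⁻¹ * V1) * tg hK c) * n0 hK =
          tg hK b * (N0⁻¹ * (U1⁻¹ * V1) * N0) * (tg hK b)⁻¹ := by
        rw [hN0]; group
      rw [e5, key2]
      have hUB : ∀ z ∈ Us K m, z ∈ Bsub K m := fun z hz =>
        mem_Bsub.mpr (Subgroup.mem_sup_left (mem_Us.mp hz))
      exact mul_mem (mul_mem (tg_mem_Bsub hK b) (mul_mem (mul_mem (hUB _ hU2) (inv_mem (hUB _ hV2m)))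
        (tg_mem_Bsub hK b'))) (inv_mem (tg_mem_Bsub hK b))
    have h1 := eq_one_of_B_V (mem_Bsub.mp hin) (w0_inv_conj_neg (mem_Us.mp hX'))
    have h1' : U1⁻¹ * V1 = 1 := by
      have h2 : (n0 hK)⁻¹ * ((tg hK c)⁻¹ * (U1⁻¹ * V1) * tg hK c) * n0 hK = 1 := Subtype.ext h1
      calc U1⁻¹ * V1 = tg hK c * (n0 hK * ((n0 hK)⁻¹ * ((tg hK c)⁻¹ * (U1⁻¹ * V1) * tg hK c) * n0 hK) *
            (n0 hK)⁻¹) * (tg hK c)⁻¹ := by group
        _ = _ := by rw [h2]; group
    rw [h1', mul_one, inv_mul_cancel] at key2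
    have hb1 : (tg hK b' : GL Cfsg.Lie.chevG2.Idx K) = 1 := by
      refine CfsgLib.Chev.chevG2.eq_one_of_mem_U_of_mem_N ?_ (H_le_N (th_mem_H hK b').1)
      have : tg hK b' = V2 * U2⁻¹ := by
        calc tg hK b' = V2 * U2⁻¹ * (U2 * V2⁻¹ * tg hK b') := by group
          _ = _ := by rw [← key2, mul_one]
      rw [this]
      exact mem_Us.mp (mul_mem hV2m (inv_mem hU2))
    rw [show tg hK b' = 1 from Subtype.ext hb1, one_mul] at hbn
    rw [hn, hβb, ← hbn]
  -- generation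
  have hV : ∀ x : RG K m, (x : GL Cfsg.Lie.chevG2.Idx K) ∈ Cfsg.Lie.chevG2.negUnipotent K → φ x = x := by
    intro x hx
    have hy : (n0 hK)⁻¹ * x * n0 hK ∈ Us K m := mem_Us.mpr (w0_inv_conj_pos hx)
    calc φ x = φ (n0 hK * ((n0 hK)⁻¹ * x * n0 hK) * (n0 hK)⁻¹) := by congr 1; group
      _ = x := by rw [map_mul, map_mul, map_inv, hn, hu _ hy]; group
  refine MulEquiv.ext fun g => ?_
  have hle : twistedG2 K (3 ^ m) ≤ (φ.toMonoidHom.eqLocus (MonoidHom.id _)).map (twistedG2 K (3 ^ m)).subtype := by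
    conv_lhs => rw [twisted_eq]
    rw [Subgroup.closure_le]
    intro z hz
    obtain ⟨t, u, v, rfl | rfl⟩ := gens_cases hz
    · exact ⟨⟨_, U6_mem t u v⟩, hu _ (mem_Us.mpr ((mem_U_iff hK).mpr ⟨t, u, v, rfl⟩).1), rfl⟩
    · exact ⟨⟨_, V6_mem t u v⟩, hV _ (V6_mem_neg t u v), rfl⟩
  obtain ⟨k, hk, e⟩ := hle g.2
  rw [show g = k from Subtype.ext e.symm]
  exact hk

end Aut

end CfsgLib.Chev.T2G2
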