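import Cfsg.Agent.Lib.Chev.Twist.ReeAut

/-!
# The outer automorphism group of a small Ree group
-/

set_option autoImplicit false
set_option linter.dupNamespace false
set_option linter.unusedSectionVars false
set_option maxRecDepth 100000

namespace CfsgLib.Chev.T2G2

open Cfsg.Lie Matrix Chev

variable {K : Type*} [Field K] [Fintype K] {m : ℕ} (hK : Fintype.card K = 3 ^ (2 * m + 1))

theorem map_U6 (τ : K →+* K) (a u v : K) :
    Units.map τ.mapMatrix.toMonoidHom (U6 m a u v) = U6 m (τ a) (τ u) (τ v) := by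
  simp only [U6, X, map_mul, Chev.map_xg, map_add, map_pow]

theorem map_mem (τ : K →+* K) {g : GL Cfsg.Lie.chevG2.Idx K} (hg : g ∈ twistedG2 K (3 ^ m)) :
    Units.map τ.mapMatrix.toMonoidHom g ∈ twistedG2 K (3 ^ m) := by
  have hle : twistedG2 K (3 ^ m) ≤ (twistedG2 K (3 ^ m)).comap (Units.map τ.mapMatrix.toMonoidHom) := by
    conv_lhs => rw [twisted_eq]
    rw [Subgroup.closure_le]
    intro z hz
    obtain ⟨t, u, v, rfl | rfl⟩ := gens_cases hz
    · show Units.map τ.mapMatrix.toMonoidHom (U6 m t u v) ∈ twistedG2 K (3 ^ m)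
      rw [map_U6]; exact U6_mem _ _ _
    · show Units.map τ.mapMatrix.toMonoidHom (V6 m t u v) ∈ twistedG2 K (3 ^ m)
      rw [map_V6]; exact V6_mem _ _ _
  exact hle hg

/-- A field automorphism of the group. -/
noncomputable def fAut (K : Type*) [Field K] [Fintype K] (m : ℕ) : RingAut K →* MulAut (RG K m) where
  toFun τ :=
    { toFun := fun g => ⟨_, map_mem (τ : K ≃+* K).toRingHom g.2⟩
      invFun := fun g => ⟨_, map_mem (τ : K ≃+* K).symm.toRingHom g.2⟩
      left_inv := fun g => Subtype.ext (Units.ext (by ext i j; simp))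
      right_inv := fun g => Subtype.ext (Units.ext (by ext i j; simp))
      map_mul' := fun a b => Subtype.ext (map_mul _ _ _) }
  map_one' := MulEquiv.ext fun g => Subtype.ext (Units.ext (by ext i j; rfl))
  map_mul' a b := MulEquiv.ext fun g => Subtype.ext (Units.ext (by ext i j; rfl))

theorem fAut_wg (τ : RingAut K) (a e f : K) : fAut K m τ (wg hK a e f) = wg hK (τ a) (τ e) (τ f) :=
  Subtype.ext (map_W (τ : K ≃+* K).toRingHom a e f)

theorem fAut_n0 (τ : RingAut K) : fAut K m τ (n0 hK) = n0 hK :=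
  Subtype.ext (map_w0 (τ : K ≃+* K).toRingHom)

theorem Std.mul {φ ψ : MulAut (RG K m)} (h1 : Std hK φ) (h2 : Std hK ψ) : Std hK (φ * ψ) := by
  refine ⟨fun u => by rw [MulAut.mul_apply, h1.hU, h2.hU], ?_⟩
  obtain ⟨β, hβ, e1⟩ := h1.hn
  obtain ⟨β', hβ', e2⟩ := h2.hn
  exact ⟨β * φ β', mul_mem hβ ((h1.hB hK _).mpr hβ'), by rw [MulAut.mul_apply, e2, map_mul, e1, mul_assoc]⟩

theorem Std.inv {φ : MulAut (RG K m)} (h1 : Std hK φ) : Std hK φ⁻¹ := by
  have hU : ∀ u, φ⁻¹ u ∈ Us K m ↔ u ∈ Us K m := fun u => by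
    rw [← h1.hU, MulAut.apply_inv_self]
  refine ⟨hU, ?_⟩
  obtain ⟨β, hβ, e1⟩ := h1.hn
  refine ⟨(φ⁻¹ β)⁻¹, inv_mem ?_, ?_⟩
  · rw [← h1.hB hK, MulAut.apply_inv_self]; exact hβ
  · apply φ.injective
    rw [MulAut.apply_inv_self, map_mul, map_inv, MulAut.apply_inv_self, e1, mul_inv_cancel_right]

theorem std_fAut (τ : RingAut K) : Std hK (fAut K m τ) := by
  have h : ∀ (σ : RingAut K) u, u ∈ Us K m → fAut K m σ u ∈ Us K m := fun σ u hu => by
    obtain ⟨a, e, f, rfl⟩ := (mem_Us_iff hK).mp hu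
    rw [fAut_wg]; exact wg_mem hK _ _ _
  refine ⟨fun u => ⟨fun hu => ?_, h τ u⟩, ⟨1, one_mem _, by rw [fAut_n0, mul_one]⟩⟩
  have := h τ⁻¹ _ hu
  rwa [← MulAut.mul_apply, ← map_mul, inv_mul_cancel, map_one, MulAut.one_apply] at this

theorem std_conj_tg (s : Kˣ) : Std hK (MulAut.conj (tg hK s)) := by
  refine ⟨fun u => ((mem_Bsub_iff_norm hK _).mp (tg_mem_Bsub hK s) u).symm, ?_⟩
  obtain ⟨s', hs'⟩ := conj_n0_tg hK s
  refine ⟨(n0 hK)⁻¹ * tg hK s * n0 hK * (tg hK s)⁻¹, mul_mem ?_ (inv_mem (tg_mem_Bsub hK s)), ?_⟩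
  · rw [hs']; exact tg_mem_Bsub hK s'
  · rw [MulAut.conj_apply]; group

include hK in
theorem exists_std (φ : MulAut (RG K m)) : ∃ g, Std hK ((MulAut.conj g)⁻¹ * φ) := by
  classical
  haveI := Fact.mk Nat.prime_three
  haveI : Finite (RG K m) := Subgroup.instFiniteSubtypeMem _
  have hcard : Nat.card (Us K m) = 3 ^ (Nat.card (RG K m)).factorization 3 := by
    rw [Nat.card_congr (Subgroup.subgroupOfEquivOfLe (inf_le_right)).toEquiv, card_U hK, ← pow_mul, card_G hK,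
      mul_assoc, ← pow_mul]
    have h3 : ¬ 3 ∣ (3 ^ (2 * m + 1) - 1) * (3 ^ ((2 * m + 1) * 3) + 1) := by
      have ha : 3 ∣ 3 ^ (2 * m + 1) := dvd_pow_self _ (by omega)
      have hb : 3 ∣ 3 ^ ((2 * m + 1) * 3) := dvd_pow_self _ (by omega)
      have hc := Nat.one_le_pow (2 * m + 1) 3 (by norm_num)
      rw [Nat.prime_three.dvd_mul]
      omega
    have hb0 : (3 ^ (2 * m + 1) - 1) * (3 ^ ((2 * m + 1) * 3) + 1) ≠ 0 := fun e => h3 (e ▸ dvd_zero 3)
    rw [Nat.factorization_mul (by positivity) hb0, Finsupp.coe_add, Pi.add_apply,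
      Nat.prime_three.factorization_pow, Finsupp.single_eq_same,
      Nat.factorization_eq_zero_of_not_dvd h3, add_zero]
  let P : Sylow 3 (RG K m) := Sylow.ofCard (Us K m) hcard
  let Q : Sylow 3 (RG K m) := Sylow.ofCard ((Us K m).map φ.toMonoidHom)
    (by rw [Subgroup.card_map_of_injective φ.injective, hcard])
  obtain ⟨k, hk⟩ := MulAction.exists_smul_eq (RG K m) P Q
  have hk' : ∀ u, φ u ∈ (Us K m).map (MulAut.conj k).toMonoidHom ↔ u ∈ Us K m := by
    intro u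
    have e : (Us K m).map (MulAut.conj k).toMonoidHom = (Us K m).map φ.toMonoidHom := by
      have := congrArg (fun S : Sylow 3 (RG K m) => (S : Subgroup (RG K m))) hk
      simp only [Sylow.coe_subgroup_smul] at this
      exact this
    rw [e]
    exact ⟨fun ⟨v, hv, hvu⟩ => φ.injective hvu ▸ hv, fun h => ⟨u, h, rfl⟩⟩
  set φ1 := (MulAut.conj k)⁻¹ * φ with hφ1
  have hU1 : ∀ u, φ1 u ∈ Us K m ↔ u ∈ Us K m := by
    intro u
    rw [← hk' u, Subgroup.mem_map_equiv, hφ1, MulAut.mul_apply]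
    rfl
  -- the image of the Weyl element
  have hn : (φ1 (n0 hK) : GL Cfsg.Lie.chevG2.Idx K) ∉ Cfsg.Lie.chevG2.borelSubgroup K := by
    intro hB
    refine not_mem_B_w0 hK ((mem_Bsub (g := n0 hK)).mp ?_)
    rw [mem_Bsub_iff_norm hK]
    intro u
    have := (mem_Bsub_iff_norm hK _).mp (mem_Bsub.mpr hB) (φ1 u)
    rwa [hU1, ← map_inv, ← map_mul, ← map_mul, hU1] at this
  obtain ⟨b, hb, u, hu, e⟩ := bruhat_one hK (φ1 (n0 hK)).2 hn
  let b' : RG K m := ⟨b, hb.2⟩
  let u' : RG K m := ⟨u, hu.2⟩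
  have hbB : b' ∈ Bsub K m := mem_Bsub.mpr hb.1
  refine ⟨k * b', ?_⟩
  have hc : ((MulAut.conj (k * b'))⁻¹ * φ : MulAut (RG K m)) = (MulAut.conj b')⁻¹ * φ1 := by
    rw [hφ1, map_mul, _root_.mul_inv_rev, mul_assoc]
  rw [hc]
  refine ⟨fun v => ?_, ⟨u' * b', mul_mem (mem_Bsub.mpr (Subgroup.mem_sup_left hu.1)) hbB, ?_⟩⟩
  · rw [MulAut.mul_apply, ← map_inv, MulAut.conj_apply, inv_inv, ← hU1 v]
    have := (mem_Bsub_iff_norm hK _).mp (inv_mem hbB) (φ1 v)
    rw [inv_inv] at this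
    exact this.symm
  · rw [MulAut.mul_apply, ← map_inv, MulAut.conj_apply, inv_inv,
      show φ1 (n0 hK) = b' * n0 hK * u' from Subtype.ext e]
    group

include hK in
theorem aut_eq (hm : 1 ≤ m) (φ : MulAut (RG K m)) :
    ∃ (g : RG K m) (τ : RingAut K), φ = MulAut.conj g * fAut K m τ := by
  obtain ⟨k, hk⟩ := exists_std hK φ
  set φ2 := (MulAut.conj k)⁻¹ * φ with hφ2
  obtain ⟨f, hf, hadd, hker⟩ := hk.first
  have hf1 : f 1 ≠ 0 := fun h => one_ne_zero (hker 1 h)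
  set c : Kˣ := Units.mk0 (f 1) hf1 with hc
  have hsemi : ∀ (x : Kˣ) a, f ((x : K) * a) = f (x : K) / f 1 * f a := by
    intro x a
    obtain ⟨s', hs'⟩ := hk.torus hK (x ^ (3 * 3 ^ m + 2))
    have key : ∀ a, f ((x : K) * a) = ((s' ^ kk m (rx 6) : Kˣ) : K) * f a := by
      intro a
      obtain ⟨y, z, hy⟩ := hf a 0 0
      obtain ⟨y', z', hy'⟩ := hf ((x : K) * a) 0 0
      have e := congrArg φ2 (tg_wg hK (x ^ (3 * 3 ^ m + 2)) a 0 0)
      simp only [(kk6_inv hK x).1, mul_zero] at e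
      rw [map_mul, map_mul, map_inv, hs', hy, hy', tg_wg] at e
      exact (wg_inj hK e).1.symm
    have h1 := key 1
    rw [mul_one] at h1
    rw [key a, h1, mul_div_assoc, div_self hf1, mul_one]
  let τ0 : K →+* K :=
    { toFun := fun a => f a / f 1
      map_one' := div_self hf1
      map_zero' := by
        have := hadd 0 0
        rw [add_zero, left_eq_add] at this
        rw [this, zero_div]
      map_add' := fun a b => by rw [hadd, add_div]
      map_mul' := fun a b => by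
        by_cases ha : a = 0
        · subst ha
          have := hadd 0 0
          rw [add_zero, left_eq_add] at this
          simp [this]
        · have := hsemi (Units.mk0 a ha) b
          rw [Units.val_mk0] at this
          rw [this, mul_div_assoc] }
  let τ : RingAut K := RingEquiv.ofBijective τ0 (Finite.injective_iff_bijective.mp τ0.injective)
  set ψ := MulAut.conj (tg hK (c ^ (3 * 3 ^ m + 2))) * fAut K m τ with hψ
  have hψs : Std hK ψ := (std_conj_tg hK _).mul hK (std_fAut hK τ)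
  have h3 : ψ⁻¹ * φ2 = 1 := by
    refine eq_one_of_std hK hm ((hψs.inv hK).mul hK hk) fun a => ?_
    obtain ⟨y, z, hy⟩ := hf a 0 0
    obtain ⟨x, y', z', hx⟩ := (mem_Us_iff hK).mp (((hψs.inv hK).mul hK hk).hU _ |>.mpr (wg_mem hK a 0 0))
    refine ⟨y', z', ?_⟩
    have e : φ2 (wg hK a 0 0) = ψ (wg hK x y' z') := by rw [← hx]; exact (ψ.apply_symm_apply _).symm
    rw [hy, hψ, MulAut.mul_apply, MulAut.conj_apply, fAut_wg, tg_wg] at e
    have e1 := (wg_inj hK e).1
    rw [(kk6_inv hK c).1, show τ x = f x / f 1 from rfl, hc, Units.val_mk0, mul_div_cancel₀ _ hf1] at e1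
    have : f (x - a) = 0 := by
      have h := hadd (x - a) a
      rw [sub_add_cancel, ← e1, right_eq_add] at h
      exact h
    rw [hx, sub_eq_zero.mp (hker _ this)]
  refine ⟨k * tg hK (c ^ (3 * 3 ^ m + 2)), τ, ?_⟩
  rw [inv_mul_eq_one, hψ, hφ2, eq_inv_mul_iff_mul_eq] at h3
  rw [← h3, map_mul, mul_assoc]

include hK in
theorem eq_one_of_inner (τ : RingAut K) (g : RG K m) (h : fAut K m τ = MulAut.conj g) : τ = 1 := by
  have hg : g ∈ Bsub K m := by
    rw [mem_Bsub_iff_norm hK]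
    intro u
    rw [← MulAut.conj_apply, ← h, (std_fAut hK τ).hU]
  obtain ⟨u, hu, y, hy, e⟩ := (tw hK).B_mem (mem_Bsub.mp hg) (le_fix hK g.2)
  obtain ⟨s, hs⟩ := (mem_H_iff hK).mp (Subgroup.mem_inf.mpr ⟨hy.1, by rw [eq_fix hK]; exact hy.2⟩)
  let u' : RG K m := ⟨u, by rw [eq_fix hK]; exact hu.2⟩
  obtain ⟨a0, e0, f0, hu'⟩ := (mem_Us_iff hK).mp ((mem_Us (x := u')).mpr hu.1)
  have hge : g = u' * tg hK s := Subtype.ext (by rw [e, hs]; rfl)
  have key : ∀ a : K, τ a = ((s ^ kk m (rx 6) : Kˣ) : K) * a := by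
    intro a
    have e1 := DFunLike.congr_fun h (wg hK a 0 0)
    rw [fAut_wg, MulAut.conj_apply, hge, show u' * tg hK s * wg hK a 0 0 * (u' * tg hK s)⁻¹ =
      u' * (tg hK s * wg hK a 0 0 * (tg hK s)⁻¹) * u'⁻¹ by group, tg_wg, hu'] at e1
    obtain ⟨a1, e2, f2, hinv⟩ := (mem_Us_iff hK).mp (inv_mem (wg_mem hK a0 e0 f0))
    have h0 := mul_inv_cancel (wg hK a0 e0 f0)
    rw [hinv, wg_mul, ← wg_zero hK] at h0
    rw [hinv, wg_mul, wg_mul] at e1
    linear_combination (wg_inj hK e1).1 + (wg_inj hK h0).1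
  have h1 : (1 : K) = ((s ^ kk m (rx 6) : Kˣ) : K) := by simpa using key 1
  refine RingEquiv.ext fun a => ?_
  rw [key a, ← h1, one_mul]
  rfl

include hK in
theorem card_out (hm : 1 ≤ m) : Nat.card (Cfsg.Out (RG K m)) = 2 * m + 1 := by
  haveI := Fact.mk Nat.prime_three
  haveI := charP_three hK
  let F : RingAut K →* Cfsg.Out (RG K m) := (QuotientGroup.mk' _).comp (fAut K m)
  have hF : Function.Bijective F := by
    constructor
    · rw [← MonoidHom.ker_eq_bot_iff, Subgroup.eq_bot_iff_forall]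
      intro τ hτ
      obtain ⟨g, hg⟩ := (QuotientGroup.eq_one_iff _).mp hτ
      exact eq_one_of_inner hK τ g hg.symm
    · intro x
      obtain ⟨φ, rfl⟩ := QuotientGroup.mk_surjective x
      obtain ⟨g, τ, rfl⟩ := aut_eq hK hm φ
      refine ⟨τ, ?_⟩
      show (QuotientGroup.mk (fAut K m τ) : Cfsg.Out (RG K m)) = QuotientGroup.mk (MulAut.conj g * fAut K m τ)
      rw [QuotientGroup.mk_mul, (QuotientGroup.eq_one_iff _).mpr (show MulAut.conj g ∈ Cfsg.Inn _ from ⟨g, rfl⟩), one_mul]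
  rw [← Nat.card_congr (Equiv.ofBijective F hF)]
  exact (ringAut_cyclic_card (F := K) 3 (by rw [Nat.card_eq_fintype_card, hK])).2

end CfsgLib.Chev.T2G2
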