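import Cfsg.Agent.Lib.Chev.Twist.ReeG2
import Cfsg.Agent.Lib.Chev.Twist.Field

/-!
# Coordinates on the Sylow 3-subgroup of a small Ree group
-/

set_option autoImplicit false
set_option linter.dupNamespace false
set_option linter.unusedSectionVars false
set_option maxRecDepth 100000

namespace CfsgLib.Chev.T2G2

open Cfsg.Lie Matrix Chev

variable {K : Type*} [Field K] [Fintype K] {m : ℕ} (hK : Fintype.card K = 3 ^ (2 * m + 1))

/-- A unipotent element by its coordinates on the roots `a`, `3a+b`, `3a+2b`. -/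
noncomputable def W (m : ℕ) (a e f : K) : GL Cfsg.Lie.chevG2.Idx K :=
  U6 m a (e - a * (a ^ 3 ^ m) ^ 3) (f - a ^ 2 * (a ^ 3 ^ m) ^ 3)

include hK in
theorem W_mem (a e f : K) : W m a e f ∈ Cfsg.Lie.chevG2.posUnipotent K ⊓ twistedG2 K (3 ^ m) :=
  (mem_U_iff hK).mpr ⟨_, _, _, rfl⟩

include hK in
theorem W_surj {g : GL Cfsg.Lie.chevG2.Idx K} (hg : g ∈ Cfsg.Lie.chevG2.posUnipotent K ⊓ twistedG2 K (3 ^ m)) :
    ∃ a e f, g = W m a e f := by
  obtain ⟨t, u, v, rfl⟩ := (mem_U_iff hK).mp hg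
  exact ⟨t, u + t * (t ^ 3 ^ m) ^ 3, v + t ^ 2 * (t ^ 3 ^ m) ^ 3, by simp [W]⟩

include hK in
theorem W_eq (a e f : K) : ∃ c d, W m a e f = P a (a ^ 3 ^ m) c d e f := by
  rw [W, U6_eq hK, sub_add_cancel, sub_add_cancel]
  exact ⟨_, _, rfl⟩

include hK in
theorem W_inj {a e f a' e' f' : K} (h : W m a e f = W m a' e' f') : a = a' ∧ e = e' ∧ f = f' := by
  obtain ⟨c, d, h1⟩ := W_eq hK a e f
  obtain ⟨c', d', h2⟩ := W_eq hK a' e' f'
  obtain ⟨ha, -, -, -, he, hf⟩ := P_injective (h1.symm.trans (h.trans h2))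
  exact ⟨ha, he, hf⟩

include hK in
theorem W_of_P {g : GL Cfsg.Lie.chevG2.Idx K} (hg : g ∈ Cfsg.Lie.chevG2.posUnipotent K ⊓ twistedG2 K (3 ^ m))
    {a b c d e f : K} (h : g = P a b c d e f) : g = W m a e f := by
  obtain ⟨x, y, z, rfl⟩ := W_surj hK hg
  obtain ⟨c', d', h'⟩ := W_eq hK x y z
  obtain ⟨ha, -, -, -, he, hf⟩ := P_injective (h'.symm.trans h)
  rw [ha, he, hf]

include hK in
theorem W_mul (a e f a' e' f' : K) : W m a e f * W m a' e' f' =
    W m (a + a') (e + e' + a' * (a ^ 3 ^ m) ^ 3) (f + f' - a' * e + a' ^ 2 * (a ^ 3 ^ m) ^ 3) := by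
  obtain ⟨c, d, h1⟩ := W_eq hK a e f
  obtain ⟨c', d', h2⟩ := W_eq hK a' e' f'
  have h := (congrArg₂ (· * ·) h1 h2).trans (P_mul (hc3 hK) a (a ^ 3 ^ m) c d e f a' (a' ^ 3 ^ m) c' d' e' f')
  rw [W_of_P hK (mul_mem (W_mem hK a e f) (W_mem hK a' e' f')) h]
  congr 1 <;> ring

theorem W_zero : W m (0 : K) 0 0 = 1 := by
  simp [W, U6, X, Alg.xg_zero]

include hK in
theorem W_split (a e f : K) : W m a e f = W m a 0 0 * W m 0 e f := by
  rw [W_mul hK]
  simp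

include hK in
theorem W_cube (a e f : K) : W m a e f ^ 3 = W m 0 0 (-(a ^ 2 * (a ^ 3 ^ m) ^ 3)) := by
  rw [pow_succ, pow_two, W_mul hK, W_mul hK, pow_three_add hK]
  congr 1
  · linear_combination a * hc3 hK
  · linear_combination (e + a * (a ^ 3 ^ m) ^ 3 * 3) * hc3 hK
  · linear_combination (f - a * e + a ^ 2 * (a ^ 3 ^ m) ^ 3 * 3) * hc3 hK

include hK in
theorem th_W (s : Kˣ) (a e f : K) : th m s * W m a e f * (th m s)⁻¹ =
    W m (((s ^ kk m (rx 6) : Kˣ) : K) * a) (((s ^ kk m (rx 10) : Kˣ) : K) * e)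
      (((s ^ kk m (rx 11) : Kˣ) : K) * f) := by
  obtain ⟨c, d, h1⟩ := W_eq hK a e f
  have hmem : th m s * W m a e f * (th m s)⁻¹ ∈ Cfsg.Lie.chevG2.posUnipotent K ⊓ twistedG2 K (3 ^ m) :=
    Subgroup.mem_inf.mpr ⟨B_normalizer_U (Subgroup.mem_sup_right (th_mem_H hK s).1) (W_mem hK a e f).1,
      mul_mem (mul_mem (th_mem_H hK s).2 (W_mem hK a e f).2) (inv_mem (th_mem_H hK s).2)⟩
  have h := (congrArg (fun x => th m s * x * (th m s)⁻¹) h1).trans (conj_P s a (a ^ 3 ^ m) c d e f)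
  exact W_of_P hK hmem h

theorem map_W (τ : K →+* K) (a e f : K) :
    Units.map τ.mapMatrix.toMonoidHom (W m a e f) = W m (τ a) (τ e) (τ f) := by
  simp only [W, U6, X, map_mul, Chev.map_xg, map_add, map_pow, map_sub]

theorem map_V6 (τ : K →+* K) (a u v : K) :
    Units.map τ.mapMatrix.toMonoidHom (V6 m a u v) = V6 m (τ a) (τ u) (τ v) := by
  simp only [V6, X, map_mul, Chev.map_xg, map_add, map_pow, map_neg]

theorem map_w0 (τ : K →+* K) : Units.map τ.mapMatrix.toMonoidHom (w0 K) = w0 K := by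
  simp only [w0, wordG, map_list_prod, List.map_map]
  congr 1
  exact List.map_congr_left fun x _ => by
    exact (Chev.map_xg τ x.1 _).trans (by rw [map_intCast])

theorem V6_mem_neg (t u v : K) : V6 m t u v ∈ Cfsg.Lie.chevG2.negUnipotent K := by
  rw [CfsgLib.Chev.chevG2.negUnipotent_eq_US]
  refine CfsgLib.Chev.chevG2.US_mono (F := K) (fun r hr hp => ?_) (V6_mem_US o t u v)
  have h : CfsgLib.Chev.chevG2.toTables.Pos r.rev := hr.1
  rw [CfsgLib.Chev.chevG2.pos_rev_iff] at h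
  exact h hp

theorem w0_inv_conj_pos {x : GL Cfsg.Lie.chevG2.Idx K} (hx : x ∈ Cfsg.Lie.chevG2.negUnipotent K) :
    (w0 K)⁻¹ * x * w0 K ∈ Cfsg.Lie.chevG2.posUnipotent K := by
  rw [CfsgLib.Chev.chevG2.negUnipotent_eq_US] at hx
  rw [CfsgLib.Chev.chevG2.posUnipotent_eq_US]
  have hm := Tw.mono_inv (wN_N (K := K)) (wN_mono o)
  rw [S.w_inv] at hm
  have h := CfsgLib.Chev.chevG2.map_US_le hm (T := CfsgLib.Chev.chevG2.toTables.Pos) (fun r hr => ?_) x hx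
  · rwa [inv_inv] at h
  · have hr' : S.PJ o r.rev := by rw [PJ_eq]; exact (CfsgLib.Chev.chevG2.pos_rev_iff r).mpr hr
    have h2 := S.w_neg o r.rev hr'.1 hr'.2
    rw [CfsgLib.Chev.chevG2.W_rev (S.w_mem_W o), CfsgLib.Chev.chevG2.pos_rev_iff, not_not] at h2
    exact h2

end CfsgLib.Chev.T2G2
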